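import Cfsg.Agent.Lib.Perm.Transitive

/-!
# Jordan-type theorems on small supports
-/

namespace Cfsg.Agent.Perm

open MulAction Equiv Pointwise

variable {α : Type*} [Fintype α] [DecidableEq α]

omit [Fintype α] [DecidableEq α] in
theorem apply_inv' (σ : Equiv.Perm α) (x : α) : σ (σ⁻¹ x) = x := σ.apply_symm_apply x

omit [Fintype α] [DecidableEq α] in
theorem inv_apply' (σ : Equiv.Perm α) (x : α) : σ⁻¹ (σ x) = x := σ.symm_apply_apply x

/-- A primitive group with a non-trivial element moving at most 3 points contains the alternating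
group. -/
theorem alternatingGroup_le_of_support_le_three (G : Subgroup (Equiv.Perm α))
    (hG : IsPreprimitive G α) {g : Equiv.Perm α} (hg : g ∈ G) (hg1 : g ≠ 1)
    (hs : g.support.card ≤ 3) : alternatingGroup α ≤ G := by
  have h2 := Equiv.Perm.two_le_card_support_of_ne_one hg1
  rcases (show g.support.card = 2 ∨ g.support.card = 3 by omega) with h | h
  · have := Equiv.Perm.subgroup_eq_top_of_isPreprimitive_of_isSwap_mem hG g
      (Equiv.Perm.card_support_eq_two.1 h) hg
    rw [this]; exact le_top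
  · exact Equiv.Perm.alternatingGroup_le_of_isPreprimitive_of_isThreeCycle_mem hG
      (card_support_eq_three_iff.1 h) hg

/-- In a permutation, any `j` moved points can be chosen so that at most one of them has its image
outside the chosen set. -/
theorem exists_chain (g : Equiv.Perm α) {j : ℕ} (hj : j ≤ g.support.card) :
    ∃ F : Finset α, F ⊆ g.support ∧ F.card = j ∧ (F.filter fun a => g a ∉ F).card ≤ 1 := by
  induction j with
  | zero => exact ⟨∅, by simp, by simp, by simp⟩
  | succ j ih =>
    obtain ⟨F, hFs, hFc, hexit⟩ := ih (by omega)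
    by_cases h : ∃ a ∈ F, g a ∉ F
    · obtain ⟨a, ha, hga⟩ := h
      refine ⟨insert (g a) F, ?_, by rw [Finset.card_insert_of_notMem hga, hFc], ?_⟩
      · exact Finset.insert_subset (Equiv.Perm.apply_mem_support.2 (hFs ha)) hFs
      · refine le_trans (Finset.card_le_card (t := {g a}) ?_) (by simp)
        intro b hb
        simp only [Finset.mem_filter, Finset.mem_insert, not_or] at hb
        rw [Finset.mem_singleton]
        rcases hb.1 with h | h
        · exact h
        · exfalso
          have : b = a := Finset.card_le_one.1 hexit b (Finset.mem_filter.2 ⟨h, hb.2.2⟩) a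
            (Finset.mem_filter.2 ⟨ha, hga⟩)
          exact hb.2.1 (by rw [this])
    · obtain ⟨c, hc⟩ : (g.support \ F).Nonempty := by
        rw [← Finset.card_pos, Finset.card_sdiff_of_subset hFs]; omega
      rw [Finset.mem_sdiff] at hc
      refine ⟨insert c F, Finset.insert_subset hc.1 hFs,
        by rw [Finset.card_insert_of_notMem hc.2, hFc], ?_⟩
      refine le_trans (Finset.card_le_card (t := {c}) ?_) (by simp)
      intro b hb
      simp only [Finset.mem_filter, Finset.mem_insert, not_or] at hb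
      rw [Finset.mem_singleton]
      rcases hb.1 with h' | h'
      · exact h'
      · exact absurd ⟨b, h', hb.2.2⟩ h

/-- Prescribing an element of a `k`-transitive group on a finite set and one more point. -/
theorem exists_fixing_and_moving {G : Subgroup (Equiv.Perm α)} {k : ℕ}
    (hG : IsMultiplyPretransitive G α k) (hkn : k ≤ Fintype.card α) {F : Finset α}
    (hF : F.card + 1 ≤ k) {b b' : α} (hb : b ∉ F) (hb' : b' ∉ F) :
    ∃ x ∈ G, (∀ a ∈ F, x a = a) ∧ x b = b' := by
  have : IsMultiplyPretransitive G α (F.card + 1) := by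
    haveI := hG
    refine isMultiplyPretransitive_of_le (n := k) hF ?_
    rwa [Nat.card_eq_fintype_card]
  let e := F.equivFin.symm
  have inj : ∀ c, c ∉ F → Function.Injective (Fin.snoc (fun i => (e i : α)) c : Fin (F.card + 1) → α) := by
    intro c hc
    rw [Fin.snoc_injective_iff]
    refine ⟨Subtype.coe_injective.comp e.injective, ?_⟩
    rintro ⟨i, hi⟩
    exact hc (hi ▸ (e i).2)
  obtain ⟨⟨x, hx⟩, hxi⟩ := exists_smul_eq_of_injective this (inj b hb) (inj b' hb')
  refine ⟨x, hx, fun a ha => ?_, ?_⟩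
  · have := hxi (Fin.castSucc (F.equivFin ⟨a, ha⟩))
    simpa [e] using this
  · have := hxi (Fin.last _)
    simpa using this

/-- The descent step: a `k`-transitive group with an element moving `m` points,
`4 ≤ m < min(2k - 2, n)`, has a non-trivial element moving fewer points. -/
theorem exists_smaller_support {G : Subgroup (Equiv.Perm α)} {k : ℕ}
    (hG : IsMultiplyPretransitive G α k) (hkn : k ≤ Fintype.card α) {g : Equiv.Perm α}
    (hg : g ∈ G) (h4 : 4 ≤ g.support.card) (hlt : g.support.card < 2 * k - 2)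
    (hout : g.support.card < Fintype.card α) :
    ∃ c ∈ G, c ≠ 1 ∧ c.support.card < g.support.card := by
  set m := g.support.card with hm
  obtain ⟨F, hFs, hFc, hexit⟩ := exists_chain g (j := m / 2 + 1) (by omega)
  let A := F.filter fun a => g a ∈ F
  let X := F.filter fun a => g a ∉ F
  have hAX : A.card + X.card = F.card := Finset.card_filter_add_card_filter_not _
  obtain ⟨o, ho⟩ : ∃ o, o ∉ g.support := by
    by_contra h
    simp only [not_exists, not_not] at h
    have : g.support = Finset.univ := Finset.eq_univ_iff_forall.2 h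
    rw [hm, this, Finset.card_univ] at hout
    omega
  -- the conjugate and the element `c`
  suffices H : ∀ x ∈ G, (∀ a ∈ F, x a = a) → x * g * x⁻¹ ≠ g →
      (∀ W : Finset α, W ⊆ g.support → (∀ a ∈ W, x⁻¹ a ∈ g.support) → F ⊆ W →
        2 * m - W.card - A.card < m → ∃ c ∈ G, c ≠ 1 ∧ c.support.card < m) by
    by_cases hclosed : ∀ a ∈ F, g a ∈ F
    · obtain ⟨b, hb⟩ : (g.support \ F).Nonempty := by
        rw [← Finset.card_pos, Finset.card_sdiff_of_subset hFs]; omega
      rw [Finset.mem_sdiff] at hb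
      obtain ⟨x, hx, hxF, hxb⟩ := exists_fixing_and_moving hG hkn (F := F) (b := b) (b' := o)
        (by omega) hb.2 (fun h => ho (hFs h))
      refine H x hx hxF ?_ F hFs (fun a ha => ?_) subset_rfl ?_
      · intro he
        have : o ∈ g.support := by
          rw [← he, Equiv.Perm.support_conj, Finset.mem_map]
          exact ⟨b, hb.1, hxb⟩
        exact ho this
      · rw [show x⁻¹ a = a from x.injective (by rw [hxF a ha]; exact apply_inv' x a)]
        exact hFs ha
      · have : A = F := Finset.filter_true_of_mem hclosed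
        rw [this]; omega
    · simp only [not_forall] at hclosed
      obtain ⟨a₀, ha₀, hga₀⟩ := hclosed
      have hX : X.card ≤ 1 := hexit
      by_cases hroom : 2 ≤ (g.support \ F).card
      · obtain ⟨b', hb', hb'ne⟩ : ∃ b' ∈ g.support \ F, b' ≠ g a₀ :=
          Finset.exists_mem_ne hroom (g a₀)
        rw [Finset.mem_sdiff] at hb'
        obtain ⟨x, hx, hxF, hxb⟩ := exists_fixing_and_moving hG hkn (F := F) (b := g a₀) (b' := b')
          (by omega) hga₀ hb'.2
        refine H x hx hxF ?_ (insert b' F) (Finset.insert_subset hb'.1 hFs) ?_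
          (Finset.subset_insert _ _) ?_
        · intro he
          have h1 : (x * g * x⁻¹) (x a₀) = x (g a₀) := by simp
          rw [he, hxF a₀ ha₀, hxb] at h1
          exact hb'ne h1.symm
        · intro a ha
          rcases Finset.mem_insert.1 ha with rfl | ha
          · rw [← hxb, inv_apply']
            exact Equiv.Perm.apply_mem_support.2 (hFs ha₀)
          · rw [show x⁻¹ a = a from x.injective (by rw [hxF a ha]; exact apply_inv' x a)]
            exact hFs ha
        · rw [Finset.card_insert_of_notMem hb'.2]; omega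
      · rw [Finset.card_sdiff_of_subset hFs] at hroom
        obtain ⟨x, hx, hxF, hxb⟩ := exists_fixing_and_moving hG hkn (F := F) (b := g a₀) (b' := o)
          (by omega) hga₀ (fun h => ho (hFs h))
        refine H x hx hxF ?_ F hFs (fun a ha => ?_) subset_rfl ?_
        · intro he
          have h1 : (x * g * x⁻¹) (x a₀) = x (g a₀) := by simp
          rw [he, hxF a₀ ha₀, hxb] at h1
          exact ho (h1 ▸ Equiv.Perm.apply_mem_support.2 (hFs ha₀))
        · rw [show x⁻¹ a = a from x.injective (by rw [hxF a ha]; exact apply_inv' x a)]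
          exact hFs ha
        · omega
  intro x hx hxF hne W hWs hW hFW hcard
  refine ⟨g⁻¹ * (x * g * x⁻¹), G.mul_mem (G.inv_mem hg) (G.mul_mem (G.mul_mem hx hg) (G.inv_mem hx)),
    fun h => hne (inv_mul_eq_one.1 h).symm, lt_of_le_of_lt ?_ hcard⟩
  set h := x * g * x⁻¹
  have hsub : (g⁻¹ * h).support ⊆ (g.support ∪ h.support) \ A := by
    intro y hy
    rw [Equiv.Perm.mem_support] at hy
    rw [Finset.mem_sdiff, Finset.mem_union, Equiv.Perm.mem_support, Equiv.Perm.mem_support]
    constructor
    · by_contra hc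
      rw [not_or, not_not, not_not] at hc
      apply hy
      rw [Equiv.Perm.mul_apply, hc.2, Equiv.Perm.inv_eq_iff_eq, hc.1]
    · intro hA
      simp only [A, Finset.mem_filter] at hA
      apply hy
      have hxy : x⁻¹ y = y := x.injective (by rw [hxF y hA.1]; exact apply_inv' x y)
      have : h y = g y := by
        rw [Equiv.Perm.mul_apply, Equiv.Perm.mul_apply, hxy, hxF _ hA.2]
      rw [Equiv.Perm.mul_apply, this, inv_apply']
  have hAsub : A ⊆ g.support ∪ h.support :=
    (Finset.filter_subset _ _).trans (hFs.trans Finset.subset_union_left)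
  have hWh : W ⊆ g.support ∩ h.support := by
    intro a ha
    rw [Finset.mem_inter]
    refine ⟨hWs ha, ?_⟩
    rw [Equiv.Perm.support_conj, Finset.mem_map]
    exact ⟨x⁻¹ a, hW a ha, apply_inv' x a⟩
  have h1 := Finset.card_le_card hsub
  rw [Finset.card_sdiff_of_subset hAsub] at h1
  have h2 := Finset.card_union_add_card_inter g.support h.support
  have h3 := Finset.card_le_card hWh
  have h4 : h.support.card = m := by rw [Equiv.Perm.support_conj, Finset.card_map]
  omega

/-- A `k`-transitive group with a non-trivial element moving fewer than `2k - 2` points contains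
a non-trivial element moving at most 3 points, hence the alternating group. -/
theorem alternatingGroup_le_of_small_support (G : Subgroup (Equiv.Perm α)) {k : ℕ} (hk : 3 ≤ k)
    (hkn : k ≤ Fintype.card α) (hG : IsMultiplyPretransitive G α k) {g : Equiv.Perm α}
    (hg : g ∈ G) (hg1 : g ≠ 1) (hsupp : g.support.card < 2 * k - 2) :
    (∃ h : Equiv.Perm α, h ∈ G ∧ h ≠ 1 ∧ h.support.card ≤ 3) ∧ alternatingGroup α ≤ G := by
  have key : ∀ m, ∀ g ∈ G, g ≠ 1 → g.support.card = m → m < 2 * k - 2 →
      ∃ h : Equiv.Perm α, h ∈ G ∧ h ≠ 1 ∧ h.support.card ≤ 3 := by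
    intro m
    induction m using Nat.strong_induction_on with
    | _ m ih =>
      intro g hg hg1 hm hlt
      by_cases h3 : m ≤ 3
      · exact ⟨g, hg, hg1, hm.le.trans h3⟩
      by_cases hout : g.support.card < Fintype.card α
      · obtain ⟨c, hc, hc1, hcm⟩ := exists_smaller_support hG hkn hg (by omega) (by omega) hout
        exact ih _ (hm ▸ hcm) c hc hc1 rfl (by omega)
      -- `g` moves every point: use an element fixing `k - 1` points instead
      have hn : g.support.card ≤ Fintype.card α := g.support.card_le_univ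
      by_cases hk' : k + 1 ≤ Fintype.card α
      · obtain ⟨F, -, hF⟩ := Finset.exists_subset_card_eq (s := (Finset.univ : Finset α))
          (n := k - 1) (by rw [Finset.card_univ]; omega)
        obtain ⟨b, hb, b', hb', hbb⟩ := Finset.one_lt_card.1
          (show 1 < Fᶜ.card by rw [Finset.card_compl]; omega)
        rw [Finset.mem_compl] at hb hb'
        obtain ⟨x, hx, hxF, hxb⟩ := exists_fixing_and_moving hG hkn (F := F) (b := b) (b' := b')
          (by omega) hb hb'
        have hx1 : x ≠ 1 := fun e => hbb (by rw [← hxb, e]; rfl)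
        have hxs : x.support ⊆ Fᶜ := fun a ha => Finset.mem_compl.2 fun haF =>
          Equiv.Perm.mem_support.1 ha (hxF a haF)
        have hc := Finset.card_le_card hxs
        rw [Finset.card_compl] at hc
        exact ih _ (by omega) x hx hx1 rfl (by omega)
      · have htop : G = ⊤ := by
          refine Equiv.Perm.eq_top_of_isMultiplyPretransitive ?_
          haveI := hG
          exact isMultiplyPretransitive_of_le (n := k)
            (by rw [Nat.card_eq_fintype_card]; omega) (by rwa [Nat.card_eq_fintype_card])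
        obtain ⟨a, b, hab⟩ := Fintype.exists_pair_of_one_lt_card (show 1 < Fintype.card α by omega)
        refine ⟨Equiv.swap a b, htop ▸ Subgroup.mem_top _, fun e => hab ?_, ?_⟩
        · simpa [Equiv.swap_apply_left] using (congrArg (fun σ : Equiv.Perm α => σ a) e).symm
        · rw [Equiv.Perm.card_support_swap hab]; omega
  obtain ⟨h, hh, hh1, hh3⟩ := key _ g hg hg1 rfl hsupp
  refine ⟨⟨h, hh, hh1, hh3⟩, alternatingGroup_le_of_support_le_three G ?_ hh hh1 hh3⟩
  refine isPreprimitive_of_is_two_pretransitive ?_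
  haveI := hG
  exact isMultiplyPretransitive_of_le (n := k) (by omega) (by rwa [Nat.card_eq_fintype_card])

/-- If a primitive group's pointwise stabiliser of `m` points is 2-transitive on the rest, the
group is `(m+2)`-transitive. -/
theorem isMultiplyPretransitive_of_fixing_two_transitive (G : Subgroup (Equiv.Perm α))
    (hG : IsPreprimitive G α) (s : Set α) {m : ℕ} (hsm : s.ncard = m)
    (hm : m + 2 ≤ Fintype.card α)
    (h2 : IsMultiplyPretransitive (fixingSubgroup G s) (SubMulAction.ofFixingSubgroup G s) 2) :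
    IsMultiplyPretransitive G α (m + 2) := by
  have hfin : s.Finite := Set.toFinite s
  have hpre : IsMultiplyPretransitive G α m := by
    rcases Nat.eq_zero_or_pos m with rfl | hpos
    · exact is_zero_pretransitive'
    · obtain ⟨n, rfl⟩ : ∃ n, m = n + 1 := ⟨m - 1, by omega⟩
      have := hG.isMultiplyPreprimitive hsm (by rw [Nat.card_eq_fintype_card]; omega)
        (isPreprimitive_of_is_two_pretransitive h2)
      haveI : IsMultiplyPretransitive G α (n + 2) := this.isMultiplyPretransitive
      exact isMultiplyPretransitive_of_le (n := n + 2) (by omega)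
        (by rw [Nat.card_eq_fintype_card]; omega)
  have e : Fin m ≃ s := (Finite.equivFinOfCardEq (by rw [Nat.card_coe_set_eq, hsm])).symm
  refine isMultiplyPretransitive_of_forall fun x y hx hy => ?_
  -- move the first `m` points onto `s`
  have hex : ∀ z : Fin (m + 2) → α, Function.Injective z →
      ∃ g : G, ∀ i : Fin m, g • z (Fin.castAdd 2 i) = e i := fun z hz =>
    exists_smul_eq_of_injective hpre (hz.comp (Fin.castAdd_injective m 2))
      (Subtype.coe_injective.comp e.injective)
  have hnot : ∀ (z : Fin (m + 2) → α) (g : G), Function.Injective z →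
      (∀ i : Fin m, g • z (Fin.castAdd 2 i) = e i) → ∀ j : Fin 2, g • z (Fin.natAdd m j) ∉ s := by
    intro z g hz hg j hj
    obtain ⟨i, hi⟩ := e.surjective ⟨_, hj⟩
    have h1 : g • z (Fin.natAdd m j) = g • z (Fin.castAdd 2 i) := by rw [hg i, hi]
    have h2 := congrArg Fin.val (hz (smul_left_cancel g h1))
    simp only [Fin.val_natAdd, Fin.val_castAdd] at h2
    omega
  obtain ⟨g, hg⟩ := hex x hx
  obtain ⟨k, hk⟩ := hex y hy
  obtain ⟨u, hu⟩ := exists_smul_eq_of_injective h2
    (x := fun j => (⟨g • x (Fin.natAdd m j), hnot x g hx hg j⟩ : SubMulAction.ofFixingSubgroup G s))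
    (y := fun j => (⟨k • y (Fin.natAdd m j), hnot y k hy hk j⟩ : SubMulAction.ofFixingSubgroup G s))
    (fun i j h => Fin.natAdd_injective 2 m (hx (smul_left_cancel g (congrArg Subtype.val h :))))
    (fun i j h => Fin.natAdd_injective 2 m (hy (smul_left_cancel k (congrArg Subtype.val h :))))
  refine ⟨k⁻¹ * (u : G) * g, fun i => ?_⟩
  rw [mul_smul, mul_smul, inv_smul_eq_iff]
  refine Fin.addCases (fun i => ?_) (fun j => ?_) i
  · rw [hg i, hk i]
    exact (mem_fixingSubgroup_iff G).1 u.2 _ (e i).2
  · exact congrArg Subtype.val (hu j)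

/-- Jordan: a primitive group of degree `n ≥ p + 3` containing a cycle of prime length `p`
contains the alternating group. -/
theorem alternatingGroup_le_of_prime_cycle (G : Subgroup (Equiv.Perm α))
    (hG : IsPreprimitive G α) {p : ℕ} (hp : p.Prime) (hpn : p + 3 ≤ Fintype.card α)
    {g : Equiv.Perm α} (hgc : g.IsCycle) (hgp : g.support.card = p) (hg : g ∈ G) :
    alternatingGroup α ≤ G := by
  have : Fact p.Prime := ⟨hp⟩
  set s : Set α := ((g.supportᶜ : Finset α) : Set α) with hs
  set k := Fintype.card α - p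
  have hsk : s.ncard = k := by
    rw [hs, Set.ncard_coe_finset, Finset.card_compl, hgp]
  have hgF : (⟨g, hg⟩ : G) ∈ fixingSubgroup G s := by
    rw [mem_fixingSubgroup_iff]
    intro y hy
    simp only [hs, Finset.coe_compl, Set.mem_compl_iff, Finset.mem_coe] at hy
    exact Equiv.Perm.notMem_support.1 hy
  have hmem : ∀ y : α, y ∈ s ↔ g y = y := fun y => by
    simp [hs, Equiv.Perm.mem_support]
  -- the pointwise stabiliser of the fixed points is primitive on the support
  have hcardS : Nat.card (SubMulAction.ofFixingSubgroup G s) = p := by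
    have h : Nat.card (SubMulAction.ofFixingSubgroup G s) = Nat.card ↥(sᶜ) := rfl
    rw [h, Nat.card_coe_set_eq, hs, ← Finset.coe_compl, compl_compl, Set.ncard_coe_finset, hgp]
  have hprimS : IsPreprimitive (fixingSubgroup G s) (SubMulAction.ofFixingSubgroup G s) := by
    haveI : IsPretransitive (fixingSubgroup G s) (SubMulAction.ofFixingSubgroup G s) := by
      refine ⟨fun u v => ?_⟩
      have hu : g u ≠ u := fun h => u.2 ((hmem u).2 h)
      have hv : g v ≠ v := fun h => v.2 ((hmem v).2 h)
      obtain ⟨i, hi⟩ := hgc.exists_zpow_eq hu hv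
      exact ⟨⟨⟨g, hg⟩ ^ i, Subgroup.zpow_mem _ hgF i⟩, Subtype.ext hi⟩
    exact IsPreprimitive.of_prime_card (hcardS ▸ hp)
  have hkt : IsMultiplyPretransitive G α k := by
    obtain ⟨j, hj⟩ : ∃ j, k = j + 1 := ⟨k - 1, by have := hp.two_le; omega⟩
    have := hG.isMultiplyPreprimitive (s := s) (n := j) (hsk.trans hj)
      (by rw [Nat.card_eq_fintype_card]; have := hp.two_le; omega) hprimS
    haveI : IsMultiplyPretransitive G α (j + 2) := this.isMultiplyPretransitive
    exact isMultiplyPretransitive_of_le (n := j + 2) (by omega)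
      (by rw [Nat.card_eq_fintype_card]; have := hp.two_le; omega)
  -- every permutation of the fixed points is induced by the normaliser of `⟨g⟩`
  have hP : Nat.card (Subgroup.zpowers (⟨⟨g, hg⟩, hgF⟩ : fixingSubgroup G s)) = p := by
    rw [Nat.card_zpowers, Subgroup.orderOf_mk, Subgroup.orderOf_mk, hgc.orderOf, hgp]
  have hFdvd : Nat.card (fixingSubgroup G s) ∣ p.factorial := by
    rw [← hcardS]
    have hinj : Function.Injective
        (MulAction.toPermHom (fixingSubgroup G s) (SubMulAction.ofFixingSubgroup G s)) := by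
      rw [injective_iff_map_eq_one]
      intro u hu
      refine Subtype.ext (Subtype.ext (Equiv.ext fun y => ?_))
      by_cases hy : y ∈ s
      · exact (mem_fixingSubgroup_iff G).1 u.2 y hy
      · exact congrArg Subtype.val (congrArg (fun σ : Equiv.Perm _ => σ ⟨y, hy⟩) hu :)
    have := Subgroup.card_dvd_of_injective _ hinj
    rwa [Nat.card_perm] at this
  have hnp : ¬ p ^ 2 ∣ Nat.card (fixingSubgroup G s) := fun h => by
    have h' := h.trans hFdvd
    rw [pow_two, ← Nat.mul_factorial_pred hp.ne_zero] at h'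
    have := (Nat.mul_dvd_mul_iff_left hp.pos).1 h'
    rw [hp.dvd_factorial] at this
    have := hp.pos; omega
  let P : Sylow p (fixingSubgroup G s) := Sylow.ofCard
    (Subgroup.zpowers (⟨⟨g, hg⟩, hgF⟩ : fixingSubgroup G s)) (by
      rw [hP]
      have h1 : 1 ≤ (Nat.card (fixingSubgroup G s)).factorization p :=
        hp.factorization_pos_of_dvd Nat.card_pos.ne'
          (hP ▸ Subgroup.card_subgroup_dvd_card _)
      have h2 : ¬ 2 ≤ (Nat.card (fixingSubgroup G s)).factorization p := fun h =>
        hnp ((hp.pow_dvd_iff_le_factorization Nat.card_pos.ne').2 h)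
      rw [show (Nat.card (fixingSubgroup G s)).factorization p = 1 by omega, pow_one])
  have key : ∀ σ : Equiv.Perm α, (∀ y, g y = y ↔ g (σ y) = σ y) →
      ∃ h ∈ G, (∀ y, g y = y → h y = σ y) ∧ ∃ i : ℕ, h * g * h⁻¹ = g ^ i := by
    intro σ hσ
    have e : Fin k ≃ s := (Finite.equivFinOfCardEq (by rw [Nat.card_coe_set_eq, hsk])).symm
    obtain ⟨⟨h, hh⟩, hhe⟩ := exists_smul_eq_of_injective hkt
      (x := fun i => (e i : α)) (y := fun i => σ (e i))
      (Subtype.coe_injective.comp e.injective)
      (σ.injective.comp (Subtype.coe_injective.comp e.injective))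
    have hhs : ∀ y, g y = y → h y = σ y := fun y hy => by
      have := hhe (e.symm ⟨y, (hmem y).2 hy⟩)
      simpa using this
    have hhs' : ∀ y, g y = y → g (h⁻¹ y) = h⁻¹ y := fun y hy => by
      obtain ⟨z, rfl⟩ := σ.surjective y
      have hz := (hσ z).2 hy
      rw [← hhs z hz, inv_apply', hz]
    have hconj : (⟨h, hh⟩ * ⟨g, hg⟩ * ⟨h, hh⟩⁻¹ : G) ∈ fixingSubgroup G s := by
      rw [mem_fixingSubgroup_iff]
      intro y hy
      change h (g (h⁻¹ y)) = y
      rw [hhs' y ((hmem y).1 hy), apply_inv']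
    have hg1 : (⟨⟨h, hh⟩ * ⟨g, hg⟩ * ⟨h, hh⟩⁻¹, hconj⟩ : fixingSubgroup G s) ^ p = 1 := by
      refine Subtype.ext (Subtype.ext ?_)
      push_cast
      rw [conj_pow, ← hgp, ← hgc.orderOf, pow_orderOf_eq_one]
      group
    have hpg : IsPGroup p
        (Subgroup.zpowers (⟨⟨h, hh⟩ * ⟨g, hg⟩ * ⟨h, hh⟩⁻¹, hconj⟩ : fixingSubgroup G s)) := by
      rintro ⟨z, hz⟩
      obtain ⟨i, rfl⟩ := Subgroup.mem_zpowers_iff.1 hz
      refine ⟨1, Subtype.ext ?_⟩
      push_cast
      rw [pow_one, ← zpow_natCast, ← zpow_mul, mul_comm, zpow_mul, zpow_natCast, hg1, one_zpow]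
    obtain ⟨Q, hQ⟩ := hpg.exists_le_sylow
    obtain ⟨f, hf⟩ := MulAction.exists_smul_eq (fixingSubgroup G s) Q P
    have hmemQ := hQ (Subgroup.mem_zpowers _)
    have hmemP : f * ⟨⟨h, hh⟩ * ⟨g, hg⟩ * ⟨h, hh⟩⁻¹, hconj⟩ * f⁻¹ ∈
        Subgroup.zpowers (⟨⟨g, hg⟩, hgF⟩ : fixingSubgroup G s) := by
      have h1 : MulAut.conj f • _ ∈ MulAut.conj f • (Q : Subgroup (fixingSubgroup G s)) :=
        Subgroup.smul_mem_pointwise_smul _ _ _ hmemQ
      have h2 : ((f • Q : Sylow p (fixingSubgroup G s)) : Subgroup (fixingSubgroup G s)) =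
          MulAut.conj f • (Q : Subgroup (fixingSubgroup G s)) := rfl
      rw [← h2, hf] at h1
      exact h1
    obtain ⟨i, hi⟩ := (mem_powers_iff_mem_zpowers (x := (⟨⟨g, hg⟩, hgF⟩ : fixingSubgroup G s))).2 hmemP
    refine ⟨((f : G) : Equiv.Perm α) * h, G.mul_mem (f : G).2 hh, fun y hy => ?_, i, ?_⟩
    · rw [Equiv.Perm.mul_apply, hhs y hy]
      exact (mem_fixingSubgroup_iff G).1 f.2 _ ((hmem _).2 ((hσ y).1 hy))
    · have hi' := congrArg (fun u : fixingSubgroup G s => ((u : G) : Equiv.Perm α)) hi
      push_cast at hi'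
      rw [hi']
      group
  obtain ⟨a, b, c, ha, hb, hc, hab, hac, hbc⟩ := Finset.two_lt_card_iff.1
    (show 2 < g.supportᶜ.card by rw [Finset.card_compl, hgp]; omega)
  rw [Finset.mem_compl, Equiv.Perm.notMem_support] at ha hb hc
  have hswap : ∀ u v : α, g u = u → g v = v → ∀ y, g y = y ↔ g (Equiv.swap u v y) = Equiv.swap u v y := by
    intro u v hu hv y
    rcases eq_or_ne y u with rfl | h1
    · simp [hu, hv]
    rcases eq_or_ne y v with rfl | h2
    · simp [hu, hv]
    rw [Equiv.swap_apply_of_ne_of_ne h1 h2]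
  obtain ⟨h₁, hh₁, hh₁s, i₁, hi₁⟩ := key (Equiv.swap a b) (hswap a b ha hb)
  obtain ⟨h₂, hh₂, hh₂s, i₂, hi₂⟩ := key (Equiv.swap b c) (hswap b c hb hc)
  let d := h₁ * h₂ * h₁⁻¹ * h₂⁻¹
  have hdg : d * g = g * d := by
    have hii : ∀ (h : Equiv.Perm α) (i j : ℕ), h * g * h⁻¹ = g ^ i → h * g ^ j * h⁻¹ = g ^ (i * j) :=
      fun h i j e => by rw [← conj_pow, e, pow_mul]
    have hA : (h₁ * h₂) * g * (h₁ * h₂)⁻¹ = (h₂ * h₁) * g * (h₂ * h₁)⁻¹ := by
      calc (h₁ * h₂) * g * (h₁ * h₂)⁻¹ = h₁ * (h₂ * g * h₂⁻¹) * h₁⁻¹ := by group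
        _ = g ^ (i₁ * i₂) := by rw [hi₂, hii h₁ i₁ i₂ hi₁]
        _ = h₂ * (h₁ * g * h₁⁻¹) * h₂⁻¹ := by rw [hi₁, hii h₂ i₂ i₁ hi₂, mul_comm]
        _ = (h₂ * h₁) * g * (h₂ * h₁)⁻¹ := by group
    -- conjugate back
    have hB : (h₂ * h₁)⁻¹ * (h₁ * h₂) * g = g * ((h₂ * h₁)⁻¹ * (h₁ * h₂)) := by
      calc (h₂ * h₁)⁻¹ * (h₁ * h₂) * g
          = (h₂ * h₁)⁻¹ * ((h₁ * h₂) * g * (h₁ * h₂)⁻¹) * (h₁ * h₂) := by group
        _ = g * ((h₂ * h₁)⁻¹ * (h₁ * h₂)) := by rw [hA]; group
    obtain ⟨v, hv⟩ : ∃ v : ℕ, (h₂ * h₁) * g * (h₂ * h₁)⁻¹ = g ^ v :=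
      ⟨i₂ * i₁, by rw [← hii h₂ i₂ i₁ hi₂, ← hi₁]; group⟩
    obtain ⟨j, hj⟩ : ∃ j : ℕ, g = (g ^ v) ^ j := by
      have hv1 : g ^ v ≠ 1 := fun e => hgc.ne_one (by
        rw [← hv, mul_inv_eq_one, mul_eq_left] at e
        exact e)
      have hord : orderOf g = p := by rw [hgc.orderOf, hgp]
      have hzz : Subgroup.zpowers (g ^ v) = Subgroup.zpowers g := by
        refine Subgroup.eq_of_le_of_card_ge (Subgroup.zpowers_le.2 (pow_mem (Subgroup.mem_zpowers g) v)) ?_
        rw [Nat.card_zpowers, Nat.card_zpowers, orderOf_eq_prime (p := p)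
          (by rw [← hord, ← pow_mul, mul_comm, pow_mul, pow_orderOf_eq_one, one_pow]) hv1, hord]
      obtain ⟨j, hj⟩ := mem_powers_iff_mem_zpowers.2 (hzz.ge (Subgroup.mem_zpowers g))
      exact ⟨j, hj.symm⟩
    have hd : d = (h₂ * h₁) * ((h₂ * h₁)⁻¹ * (h₁ * h₂)) * (h₂ * h₁)⁻¹ := by simp only [d]; group
    have hdv : Commute d (g ^ v) := by
      have hB' : Commute ((h₂ * h₁)⁻¹ * (h₁ * h₂)) g := hB
      have := hB'.map (MulAut.conj (h₂ * h₁)).toMonoidHom
      simp only [MulEquiv.coe_toMonoidHom, MulAut.conj_apply] at this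
      rwa [← hd, hv] at this
    have := hdv.pow_right j
    rw [← hj] at this
    exact this.eq
  have hinv : ∀ (u v : α) (h : Equiv.Perm α), g u = u → g v = v →
      (∀ y, g y = y → h y = Equiv.swap u v y) → ∀ y, g y = y → h⁻¹ y = Equiv.swap u v y := by
    intro u v h hu hv hs y hy
    rw [Equiv.Perm.inv_eq_iff_eq]
    have := (hswap u v hu hv y).1 hy
    rw [hs _ this, Equiv.swap_apply_self]
  have hi1 := hinv a b h₁ ha hb hh₁s
  have hi2 := hinv b c h₂ hb hc hh₂s
  have hds : ∀ y, g y = y →
      d y = (Equiv.swap a b * Equiv.swap b c * Equiv.swap a b * Equiv.swap b c) y := by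
    intro y hy
    have e1 := hswap b c hb hc y
    have f1 := e1.1 hy
    have f2 := (hswap a b ha hb _).1 f1
    have f3 := (hswap b c hb hc _).1 f2
    simp only [d, Equiv.Perm.mul_apply]
    rw [hi2 y hy, hi1 _ f1, hh₂s _ f2, hh₁s _ f3]
  obtain ⟨x, hx⟩ := Finset.card_pos.1 (show 0 < g.support.card by rw [hgp]; exact hp.pos)
  rw [Equiv.Perm.mem_support] at hx
  have hdx : g (d x) ≠ d x := fun e => hx (d.injective (by
    have h2 : d (g x) = g (d x) := congrArg (fun σ : Equiv.Perm α => σ x) hdg
    rw [h2, e]))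
  obtain ⟨i, hi⟩ := hgc.exists_zpow_eq hx hdx
  let e := (g ^ i)⁻¹ * d
  have heg : Commute e g := ((Commute.zpow_self g i).inv_left).mul_left hdg
  have hes : ∀ y, g y = y → e y = (Equiv.swap a b * Equiv.swap b c * Equiv.swap a b * Equiv.swap b c) y := by
    intro y hy
    change (g ^ i)⁻¹ (d y) = _
    rw [hds y hy, Equiv.Perm.inv_eq_iff_eq, Equiv.Perm.zpow_apply_eq_self_of_apply_eq_self]
    have f1 := (hswap b c hb hc y).1 hy
    have f2 := (hswap a b ha hb _).1 f1
    have f3 := (hswap b c hb hc _).1 f2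
    exact (hswap a b ha hb _).1 f3
  have het : ∀ y, g y ≠ y → e y = y := by
    intro y hy
    obtain ⟨j, rfl⟩ := hgc.exists_zpow_eq hx hy
    have hc' : (e * g ^ j) x = (g ^ j * e) x := by rw [(heg.zpow_right j).eq]
    rw [Equiv.Perm.mul_apply, Equiv.Perm.mul_apply] at hc'
    refine hc'.trans (congrArg (g ^ j : Equiv.Perm α) ?_)
    change (g ^ i)⁻¹ (d x) = x
    rw [Equiv.Perm.inv_eq_iff_eq, hi]
  have he : e = Equiv.swap a b * Equiv.swap b c * Equiv.swap a b * Equiv.swap b c := by
    ext y
    by_cases hy : g y = y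
    · exact hes y hy
    · rw [het y hy]
      have hne : ∀ u, g u = u → y ≠ u := fun u hu h => hy (h ▸ hu)
      simp [Equiv.swap_apply_of_ne_of_ne, hne a ha, hne b hb, hne c hc]
  have heG : e ∈ G := G.mul_mem (G.inv_mem (G.zpow_mem hg i))
    (G.mul_mem (G.mul_mem (G.mul_mem hh₁ hh₂) (G.inv_mem hh₁)) (G.inv_mem hh₂))
  refine alternatingGroup_le_of_support_le_three G hG heG ?_ ?_
  · intro h1
    have := congrArg (fun σ : Equiv.Perm α => σ a) (he.symm.trans h1)
    simp [Equiv.swap_apply_of_ne_of_ne, hab, hac, hab.symm, hbc, hbc.symm, hac.symm] at this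
  · refine le_trans (Finset.card_le_card (t := {a, b, c}) ?_) Finset.card_le_three
    intro y hy
    rw [Equiv.Perm.mem_support, he] at hy
    by_contra hn
    simp only [Finset.mem_insert, Finset.mem_singleton, not_or] at hn
    apply hy
    simp [Equiv.swap_apply_of_ne_of_ne, hn.1, hn.2.1, hn.2.2]

end Cfsg.Agent.Perm
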