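import Cfsg.Agent.Lib.Perm.Basic

/-!
# Primitive groups with a suborbit of length at most 2
-/

namespace Cfsg.Agent.Perm

open MulAction

variable {G α : Type*} [Group G] [MulAction G α]

/-- If two points of a primitive faithful action have the same stabiliser, the action is regular
of prime degree. -/
theorem regular_prime_of_stabilizer_eq [FaithfulSMul G α] [IsPreprimitive G α] {a b : α}
    (hab : a ≠ b) (heq : stabilizer G a = stabilizer G b) :
    (∀ x : α, stabilizer G x = ⊥) ∧ IsCyclic G ∧ (Nat.card G).Prime ∧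
      Nat.card α = Nat.card G := by
  have : Nontrivial α := ⟨a, b, hab⟩
  have hr : ∀ x : α, stabilizer G x = stabilizer G a := fun x =>
    (equivalence_trivial (G := G) (r := fun x y : α => stabilizer G x = stabilizer G y)
      ⟨fun _ => rfl, fun h => h.symm, fun h k => h.trans k⟩
      (fun g x y hxy => by
        rw [stabilizer_smul_eq_stabilizer_map_conj, stabilizer_smul_eq_stabilizer_map_conj, hxy])
      heq hab x).symm
  have hbot : ∀ x : α, stabilizer G x = ⊥ := by
    intro x
    rw [hr x, Subgroup.eq_bot_iff_forall]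
    intro g hg
    refine eq_one_of_forall_smul_eq fun y : α => ?_
    rw [← mem_stabilizer_iff, hr y]; exact hg
  have hco := IsPreprimitive.isCoatom_stabilizer_of_isPreprimitive (G := G) a
  rw [hbot a] at hco
  have hbij : Function.Bijective fun g : G => g • a := by
    refine ⟨fun g k hgk => ?_, fun y => exists_smul_eq G a y⟩
    have : k⁻¹ * g ∈ stabilizer G a := by
      rw [mem_stabilizer_iff, mul_smul, inv_smul_eq_iff]; exact hgk
    rw [hbot a, Subgroup.mem_bot, inv_mul_eq_one] at this
    exact this.symm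
  have : Nontrivial G := (Equiv.ofBijective _ hbij).nontrivial
  obtain ⟨g, hg⟩ := exists_ne (1 : G)
  have hz : Subgroup.zpowers g = ⊤ := hco.2 _ (bot_lt_iff_ne_bot.2 (Subgroup.zpowers_ne_bot.2 hg))
  have hcyc : IsCyclic G :=
    ⟨⟨g, fun x => Subgroup.mem_zpowers_iff.1 (hz ▸ Subgroup.mem_top x)⟩⟩
  refine ⟨hbot, hcyc, ?_, (Nat.card_congr (Equiv.ofBijective _ hbij)).symm⟩
  letI : CommGroup G :=
    { (inferInstance : Group G) with
      mul_comm := fun x y => by
        obtain ⟨i, rfl⟩ := Subgroup.mem_zpowers_iff.1 (hz ▸ Subgroup.mem_top x)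
        obtain ⟨j, rfl⟩ := Subgroup.mem_zpowers_iff.1 (hz ▸ Subgroup.mem_top y)
        exact zpow_mul_comm g i j }
  have : IsSimpleGroup G :=
    ⟨fun H _ => or_iff_not_imp_left.2 fun hH => hco.2 H (bot_lt_iff_ne_bot.2 hH)⟩
  exact IsSimpleGroup.prime_card

/-- If a point stabiliser fixes a second point, the primitive group is regular of prime degree. -/
theorem regular_prime_of_fixes_second [FaithfulSMul G α] [IsPreprimitive G α] {a b : α}
    (hab : a ≠ b) (hfix : ∀ g : G, g • a = a → g • b = b) :
    (∀ x : α, stabilizer G x = ⊥) ∧ IsCyclic G ∧ (Nat.card G).Prime ∧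
      Nat.card α = Nat.card G := by
  refine regular_prime_of_stabilizer_eq hab ?_
  have : Nontrivial α := ⟨a, b, hab⟩
  rcases (IsPreprimitive.isCoatom_stabilizer_of_isPreprimitive (G := G) a).le_iff.1
    (show stabilizer G a ≤ stabilizer G b from fun g hg => hfix g hg) with h | h
  · exact absurd h (IsPreprimitive.isCoatom_stabilizer_of_isPreprimitive (G := G) b).1
  · exact h.symm

/-- Two involutions generate a dihedral group. -/
theorem nonempty_mulEquiv_dihedral [Finite G] {t z : G} {m : ℕ} (hm : m ≠ 0) (ht : t * t = 1)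
    (hz : orderOf z = m) (htz : t * z * t⁻¹ = z⁻¹) (htz' : t ∉ Subgroup.zpowers z)
    (hcard : Nat.card G = 2 * m) : Nonempty (G ≃* DihedralGroup m) := by
  haveI : NeZero m := ⟨hm⟩
  let w : ZMod m → G := fun i => z ^ i.val
  have hw : ∀ k : ℕ, w k = z ^ k := fun k => by
    change z ^ (k : ZMod m).val = z ^ k
    rw [ZMod.val_natCast]
    conv_rhs => rw [← pow_mod_orderOf, hz]
  have hadd : ∀ i j, w (i + j) = w i * w j := fun i j => by
    change z ^ (i + j).val = z ^ i.val * z ^ j.val
    rw [ZMod.val_add, ← pow_add]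
    conv_rhs => rw [← pow_mod_orderOf, hz]
  have h0 : w 0 = 1 := by simp [w]
  have hsub : ∀ i j, w (j - i) = (w i)⁻¹ * w j := fun i j => by
    rw [eq_inv_mul_iff_mul_eq, ← hadd, add_sub_cancel]
  have htinv : t⁻¹ = t := inv_eq_of_mul_eq_one_right ht
  have hcomm : ∀ i, w i * t = t * (w i)⁻¹ := fun i => by
    have h1 : t * w i * t⁻¹ = (w i)⁻¹ := by
      change t * z ^ i.val * t⁻¹ = (z ^ i.val)⁻¹
      rw [← conj_pow, htz, inv_pow]
    rw [← h1, ← mul_assoc, ← mul_assoc, ht, one_mul, htinv]
  let φ : DihedralGroup m →* G :=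
    MonoidHom.mk' (fun
      | DihedralGroup.r i => w i
      | DihedralGroup.sr i => t * w i) (fun x y => by
      cases x with
      | r i =>
        cases y with
        | r j => simp only [DihedralGroup.r_mul_r]; exact hadd i j
        | sr j =>
          simp only [DihedralGroup.r_mul_sr]
          rw [← mul_assoc, hcomm, mul_assoc, hsub]
      | sr i =>
        cases y with
        | r j => simp only [DihedralGroup.sr_mul_r]; rw [mul_assoc, hadd]
        | sr j =>
          simp only [DihedralGroup.sr_mul_sr]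
          rw [mul_assoc, ← mul_assoc (w i), hcomm, mul_assoc t, ← mul_assoc t, ht, one_mul, hsub])
  have hinj : Function.Injective φ := by
    rw [injective_iff_map_eq_one]
    intro x hx
    cases x with
    | r i =>
      have h : z ^ i.val = 1 := hx
      have hd : m ∣ i.val := by
        have := orderOf_dvd_of_pow_eq_one h
        rwa [hz] at this
      have h' := Nat.eq_zero_of_dvd_of_lt hd (ZMod.val_lt i)
      rw [show i = 0 from (ZMod.val_eq_zero i).1 h']
      exact DihedralGroup.r_zero
    | sr i =>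
      exfalso
      have h : t * z ^ i.val = 1 := hx
      apply htz'
      rw [eq_inv_of_mul_eq_one_left h]
      exact inv_mem (pow_mem (Subgroup.mem_zpowers z) _)
  exact ⟨(MulEquiv.ofBijective φ ((Nat.bijective_iff_injective_and_card _).2
    ⟨hinj, by rw [DihedralGroup.nat_card, hcard]⟩)).symm⟩

/-- A primitive group with a suborbit of length 2 is dihedral of order `2p`. -/
theorem dihedral_of_suborbit_two [FaithfulSMul G α] [Finite G] [IsPreprimitive G α] {a b : α}
    (h2 : Nat.card (orbit (stabilizer G a) b) = 2) :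
    Nat.card (stabilizer G a) = 2 ∧
      ∃ p : ℕ, p.Prime ∧ Nonempty (G ≃* DihedralGroup p) := by
  have hab : a ≠ b := by
    rintro rfl
    have h1 : orbit (stabilizer G a) a = {a} := by
      ext x
      simp only [mem_orbit_iff, Set.mem_singleton_iff]
      exact ⟨fun ⟨g, hg⟩ => hg ▸ g.2, fun h => ⟨1, by simp [h]⟩⟩
    rw [h1, Nat.card_coe_set_eq, Set.ncard_singleton] at h2
    omega
  have : Nontrivial α := ⟨a, b, hab⟩
  set A := stabilizer G a
  set B := stabilizer G b
  have hcardAB : Nat.card A = Nat.card B := by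
    obtain ⟨g, rfl⟩ := exists_smul_eq G a b
    rw [show B = A.map (MulAut.conj g).toMonoidHom from stabilizer_smul_eq_stabilizer_map_conj g a,
      Subgroup.card_map_of_injective (MulAut.conj g).injective]
  set C := A ⊓ B
  have hCA : C ≤ A := inf_le_left
  have hCB : C ≤ B := inf_le_right
  have hidxA : (C.subgroupOf A).index = 2 := by
    have : C.subgroupOf A = stabilizer A b := by
      ext ⟨g, hg⟩
      simp [C, B, A, Subgroup.mem_subgroupOf, mem_stabilizer_iff] at hg ⊢

    rw [this, index_stabilizer, ← Nat.card_coe_set_eq, h2]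
  have hcardC : Nat.card A = 2 * Nat.card C := by
    rw [← (C.subgroupOf A).index_mul_card, hidxA,
      Nat.card_congr (Subgroup.subgroupOfEquivOfLe hCA).toEquiv]
  have hidxB : (C.subgroupOf B).index = 2 := by
    have h := (C.subgroupOf B).index_mul_card
    rw [Nat.card_congr (Subgroup.subgroupOfEquivOfLe hCB).toEquiv, ← hcardAB, hcardC] at h
    exact Nat.eq_of_mul_eq_mul_right Nat.card_pos h
  have hne : A ≠ B := by
    intro h
    have hC : C = A := by simp [C, ← h]
    have := hcardC
    rw [hC] at this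
    have := Nat.card_pos (α := A)
    omega
  have hnA : A ≤ Subgroup.normalizer (C : Set G) :=
    (Subgroup.normal_subgroupOf_iff_le_normalizer hCA).1 (Subgroup.normal_of_index_eq_two hidxA)
  have hnB : B ≤ Subgroup.normalizer (C : Set G) :=
    (Subgroup.normal_subgroupOf_iff_le_normalizer hCB).1 (Subgroup.normal_of_index_eq_two hidxB)
  have hco := IsPreprimitive.isCoatom_stabilizer_of_isPreprimitive (G := G) a
  have htop : A ⊔ B = ⊤ := by
    rcases hco.le_iff.1 (le_sup_left : A ≤ A ⊔ B) with h | h
    · exact h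
    · exfalso
      exact hne (Subgroup.eq_of_le_of_card_ge ((le_sup_right : B ≤ A ⊔ B).trans h.le) hcardAB.le).symm
  have hCn : C.Normal := Subgroup.normalizer_eq_top_iff.1 (top_le_iff.1 (htop ▸ sup_le hnA hnB))
  have hC : C = ⊥ := eq_bot_of_forall_smul_eq fun g hg x =>
    smul_eq_of_normal_fixes (fun n hn => (hCA hn : n • a = a)) hg x
  have hA2 : Nat.card A = 2 := by rw [hcardC, hC, Subgroup.card_bot]
  refine ⟨hA2, ?_⟩
  haveI : Fact (Nat.Prime 2) := ⟨Nat.prime_two⟩
  obtain ⟨⟨t, htA⟩, ht⟩ := exists_prime_orderOf_dvd_card' (G := A) 2 (by rw [hA2])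
  obtain ⟨⟨s, hsB⟩, hs⟩ := exists_prime_orderOf_dvd_card' (G := B) 2 (by rw [← hcardAB, hA2])
  rw [Subgroup.orderOf_mk] at ht hs
  have hAt : A = Subgroup.zpowers t :=
    (Subgroup.eq_of_le_of_card_ge (Subgroup.zpowers_le.2 htA)
      (by rw [hA2, Nat.card_zpowers, ht])).symm
  have hBs : B = Subgroup.zpowers s :=
    (Subgroup.eq_of_le_of_card_ge (Subgroup.zpowers_le.2 hsB)
      (by rw [← hcardAB, hA2, Nat.card_zpowers, hs])).symm
  have htt : t * t = 1 := by rw [← pow_two, ← ht, pow_orderOf_eq_one]
  have hss : s * s = 1 := by rw [← pow_two, ← hs, pow_orderOf_eq_one]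
  have htinv : t⁻¹ = t := inv_eq_of_mul_eq_one_right htt
  set z := t * s
  have htz : t * z * t⁻¹ = z⁻¹ := by
    rw [mul_inv_rev, inv_eq_of_mul_eq_one_right hss, htinv, ← mul_assoc, htt, one_mul]
  have hclos : ∀ W : Subgroup G, t ∈ W → z ∈ W → W = ⊤ := fun W h1 h2 => top_le_iff.1 <| by
    rw [← htop, hAt, hBs]
    refine sup_le (Subgroup.zpowers_le.2 h1) (Subgroup.zpowers_le.2 ?_)
    simpa [z] using W.mul_mem (W.inv_mem h1) h2
  -- subgroups of `⟨z⟩` are normalised by `t`
  have hnorm : ∀ k : ℕ, t ∈ Subgroup.normalizer ((Subgroup.zpowers (z ^ k) : Subgroup G) : Set G) := by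
    intro k
    have h1 : t * z ^ k * t⁻¹ = (z ^ k)⁻¹ := by rw [← conj_pow, htz, inv_pow]
    rw [Subgroup.mem_normalizer_iff]
    intro x
    constructor <;> intro hx <;> obtain ⟨i, hi⟩ := Subgroup.mem_zpowers_iff.1 hx
    · exact ⟨-i, by rw [← hi, ← conj_zpow, h1, inv_zpow']⟩
    · refine ⟨-i, ?_⟩
      have : x = t⁻¹ * (z ^ k) ^ i * t := by rw [hi]; group
      rw [this, htinv]
      conv_rhs => arg 2; rw [← htinv]
      rw [← conj_zpow, h1, inv_zpow']
  have hn : Subgroup.zpowers t ⊔ Subgroup.zpowers z = ⊤ :=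
    hclos _ (Subgroup.mem_sup_left (Subgroup.mem_zpowers t))
      (Subgroup.mem_sup_right (Subgroup.mem_zpowers z))
  have htnz : ∀ k : ℕ, t ∈ Subgroup.zpowers (z ^ k) → False := by
    intro k hk
    obtain ⟨i, hi⟩ := Subgroup.mem_zpowers_iff.1 hk
    have hzc : t * z * t⁻¹ = z := by
      rw [← hi]; group
    rw [htz] at hzc
    have hz2 : z * z = 1 := by nth_rewrite 1 [← hzc]; exact inv_mul_cancel z
    have hcomm : t * s = s * t := by
      have := hzc
      rwa [mul_inv_rev, inv_eq_of_mul_eq_one_right hss, htinv, eq_comm] at this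
    -- then `A` is normal
    have hAn : A.Normal := by
      rw [← Subgroup.normalizer_eq_top_iff, ← top_le_iff, ← htop]
      refine sup_le Subgroup.le_normalizer ?_
      rw [hBs, Subgroup.zpowers_le, Subgroup.mem_normalizer_iff]
      intro x
      rw [hAt]
      have hcx : ∀ y ∈ Subgroup.zpowers t, s * y * s⁻¹ = y := by
        intro y hy
        obtain ⟨j, rfl⟩ := Subgroup.mem_zpowers_iff.1 hy
        have hst : Commute s t := hcomm.symm
        rw [(hst.zpow_right j).eq, mul_inv_cancel_right]
      constructor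
      · intro hx; rwa [hcx x hx]
      · intro hx
        have h2 := hcx _ hx
        have h3 : s * x * s⁻¹ = x := mul_left_cancel (mul_right_cancel h2)
        rwa [h3] at hx
    have : t = 1 := eq_one_of_forall_smul_eq fun x : α =>
      smul_eq_of_normal_fixes (fun n hn => (hn : n • a = a)) htA x
    rw [this, orderOf_one] at ht
    omega
  have hz1 : z ≠ 1 := by
    intro h
    apply hne
    rw [hAt, hBs, show s = t from (by rw [← htinv]; exact eq_inv_of_mul_eq_one_right h)]
  have hmcard : Nat.card G = 2 * orderOf z := by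
    have hd : Subgroup.zpowers t ⊓ Subgroup.zpowers z = ⊥ := by
      rw [Subgroup.eq_bot_iff_forall]
      rintro x ⟨h1, h2⟩
      obtain ⟨i, rfl⟩ := Subgroup.mem_zpowers_iff.1 h1
      rcases Int.even_or_odd i with ⟨j, rfl⟩ | ⟨j, rfl⟩
      · rw [zpow_add, ← (Commute.refl t).mul_zpow, htt, one_zpow]
      · exfalso
        apply htnz 1
        rw [pow_one]
        have h2' : t ^ (2 * j + 1) ∈ Subgroup.zpowers z := h2
        rwa [zpow_add, zpow_mul, zpow_two, htt, one_zpow, one_mul, zpow_one] at h2'
    have hz : (Subgroup.zpowers z).Normal := by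
      rw [← Subgroup.normalizer_eq_top_iff]
      refine hclos _ ?_ (Subgroup.le_normalizer (Subgroup.mem_zpowers z))
      simpa using hnorm 1
    haveI := hz
    have hcompl : Subgroup.IsComplement' (Subgroup.zpowers t) (Subgroup.zpowers z) :=
      Subgroup.isComplement'_of_disjoint_and_mul_eq_univ (disjoint_iff.2 hd)
        (by rw [← Subgroup.mul_normal, hn]; rfl)
    rw [← hcompl.card_mul_card, Nat.card_zpowers, Nat.card_zpowers, ht]
  have hp : (orderOf z).Prime := by
    refine Nat.prime_def.2 ⟨?_, fun d hd => ?_⟩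
    · have := orderOf_pos z
      have : orderOf z ≠ 1 := fun h => hz1 (orderOf_eq_one_iff.1 h)
      omega
    · obtain ⟨k, hk⟩ := hd
      by_contra hcon
      rw [not_or] at hcon
      -- `⟨t, z ^ d⟩` is a proper subgroup containing `A`
      set W := Subgroup.zpowers t ⊔ Subgroup.zpowers (z ^ d)
      rcases hco.le_iff.1 (show A ≤ W by rw [hAt]; exact le_sup_left) with h | h
      · have hle : Subgroup.zpowers t ≤ Subgroup.normalizer ((Subgroup.zpowers (z ^ d) : Subgroup G) : Set G) :=
          Subgroup.zpowers_le.2 (hnorm d)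
        have hWc : Nat.card W ≤ 2 * k := by
          have hset := Subgroup.coe_mul_of_left_le_normalizer_right _ _ hle
          have : Nat.card W ≤ Nat.card (Subgroup.zpowers t) * Nat.card (Subgroup.zpowers (z ^ d)) := by
            rw [← Nat.card_prod]
            refine Nat.card_le_card_of_surjective
              (fun q => (⟨(q.1 : G) * q.2, Subgroup.mul_mem_sup q.1.2 q.2.2⟩ : W)) ?_
            rintro ⟨x, hx⟩
            have hx' : x ∈ (W : Set G) := hx
            rw [hset] at hx'
            obtain ⟨u, hu, v, hv, rfl⟩ := Set.mem_mul.1 hx'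
            exact ⟨(⟨u, hu⟩, ⟨v, hv⟩), rfl⟩
          rw [Nat.card_zpowers, Nat.card_zpowers, ht] at this
          have hd0 : d ≠ 0 := fun e => by
            have := orderOf_pos z
            rw [hk, e, zero_mul] at this; omega
          rwa [orderOf_pow' z hd0, Nat.gcd_eq_right (Dvd.intro k hk.symm), hk,
            Nat.mul_div_cancel_left k (Nat.pos_of_ne_zero hd0)] at this
        rw [h, Subgroup.card_top, hmcard, hk] at hWc
        have hk0 : 0 < k := by
          have := orderOf_pos z
          rw [hk] at this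
          exact Nat.pos_of_mul_pos_left this
        have : d * k ≤ 1 * k := by omega
        have := Nat.le_of_mul_le_mul_right this hk0
        have hd0 : d ≠ 0 := fun e => by
          have := orderOf_pos z
          rw [hk, e, zero_mul] at this; omega
        exact hcon.1 (by omega)
      · have hmem : z ^ d ∈ A := h.le (Subgroup.mem_sup_right (Subgroup.mem_zpowers _))
        rw [hAt] at hmem
        obtain ⟨i, hi⟩ := Subgroup.mem_zpowers_iff.1 hmem
        rcases Int.even_or_odd i with ⟨j, rfl⟩ | ⟨j, rfl⟩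
        · rw [zpow_add, ← (Commute.refl t).mul_zpow, htt, one_zpow] at hi
          have := orderOf_dvd_of_pow_eq_one hi.symm
          exact hcon.2 (Nat.dvd_antisymm (Dvd.intro k hk.symm) this)
        · rw [zpow_add, zpow_mul, zpow_two, htt, one_zpow, one_mul, zpow_one] at hi
          exact htnz d (hi ▸ Subgroup.mem_zpowers (z ^ d))
  exact ⟨orderOf z, hp, nonempty_mulEquiv_dihedral (orderOf_pos z).ne' htt rfl htz
    (fun h => htnz 1 (by rwa [pow_one])) hmcard⟩

end Cfsg.Agent.Perm
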