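import Mathlib

/-!
Permutations of prime order: existence with a given support and their invariant sets
(`exists_invariant_card`, `card_modEq_filter_fixed`, `exists_orderOf_eq_support_card`).
-/

set_option autoImplicit false

namespace Cfsg.Agent.Perm.PrimeOrderPerm

open Equiv

variable {α : Type*} [Fintype α] [DecidableEq α] {r : ℕ}

open Fin.NatCast in
theorem exists_orderOf_eq_support_card (n c r : ℕ) (hr : r.Prime) (hc : 0 < c) (hcn : c * r ≤ n) :
    ∃ σ : Perm (Fin n), orderOf σ = r ∧ σ.support.card = c * r := by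
  classical
  haveI := Fact.mk hr
  haveI : NeZero r := ⟨hr.ne_zero⟩
  let e : ((Fin c × Fin r) ⊕ Fin (n - c * r)) ≃ Fin n :=
    (Equiv.sumCongr finProdFinEquiv (Equiv.refl _)).trans (finSumFinEquiv.trans (finCongr (by omega)))
  let τ : Perm ((Fin c × Fin r) ⊕ Fin (n - c * r)) :=
    Equiv.sumCongr (Equiv.prodCongr (Equiv.refl _) (Equiv.addRight (1 : Fin r))) (Equiv.refl _)
  have hpow : ∀ (k : ℕ) (x : Fin c × Fin r),
      (τ ^ k) (Sum.inl x) = Sum.inl (x.1, x.2 + (k : Fin r)) := by
    intro k
    induction k with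
    | zero => intro x; simp
    | succ k ih =>
      intro x
      rw [pow_succ', Perm.mul_apply, ih]
      simp [τ, add_assoc]
  have hfix : ∀ (k : ℕ) (x : Fin (n - c * r)), (τ ^ k) (Sum.inr x) = Sum.inr x := fun k x => by
    rw [Perm.pow_apply_eq_self_of_apply_eq_self]
    simp [τ]
  have hne : (1 : Fin r) ≠ 0 := by
    rw [Ne, Fin.ext_iff, Fin.val_zero, Fin.val_one']
    rw [Nat.one_mod_eq_one.mpr hr.one_lt.ne']
    exact one_ne_zero
  have hcast : (r : Fin r) = 0 := by
    rw [Fin.ext_iff, Fin.val_natCast, Fin.val_zero, Nat.mod_self]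
  refine ⟨e.permCongr τ, ?_, ?_⟩
  · have h : orderOf τ = r := by
      refine orderOf_eq_prime ?_ fun h1 => hne ?_
      · ext1 (x | x)
        · rw [hpow, hcast]; simp
        · rw [hfix]; rfl
      · have := hpow 1 (⟨0, hc⟩, 0)
        simpa [h1] using this.symm
    exact (MulEquiv.orderOf_eq e.permCongrHom τ).trans h
  · have h : (e.permCongr τ).support = (Finset.univ.image fun x : Fin c × Fin r => e (Sum.inl x)) := by
      ext y
      obtain ⟨(x | x), rfl⟩ := e.surjective y
      · simp [τ, Perm.mem_support, Equiv.permCongr_apply, Prod.ext_iff, hne]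
      · simp [τ, Perm.mem_support, Equiv.permCongr_apply]
    rw [h, Finset.card_image_of_injective _ (fun a b hab => Sum.inl_injective (e.injective hab))]
    simp

variable [hr : Fact r.Prime] {σ : Perm α}

omit [Fintype α] [DecidableEq α] in
/-- A non-fixed point has a free orbit. -/
theorem pow_injOn (hσ : σ ^ r = 1) {x : α} (hx : σ x ≠ x) :
    Set.InjOn (fun k : ℕ => (σ ^ k) x) (Set.Iio r) := by
  have hmp : Function.minimalPeriod σ x = r := by
    refine Function.minimalPeriod_eq_prime ?_ hx
    rw [Function.IsPeriodicPt, ← Perm.coe_pow, hσ]; rfl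
  intro a ha b hb h
  simp only [Perm.coe_pow] at h
  exact Function.iterate_injOn_Iio_minimalPeriod (f := σ) (x := x) (by rw [hmp]; exact ha)
    (by rw [hmp]; exact hb) h

omit [Fintype α] in
/-- The cardinality of an invariant set is congruent to the number of its fixed points. -/
theorem card_modEq_filter_fixed (hσ : σ ^ r = 1) {s : Finset α} (hs : s.image σ = s) :
    (s.filter fun x => σ x = x).card ≡ s.card [MOD r] := by
  have hmem : ∀ x, σ x ∈ s ↔ x ∈ s := fun x => by
    conv_lhs => rw [← hs]
    simp
  let τ : Perm s := σ.subtypePerm (fun x => hmem x)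
  have hτ : τ ^ r ^ 1 = 1 := by
    rw [pow_one, Perm.subtypePerm_pow]
    ext x; simp [hσ]
  have h := Perm.card_compl_support_modEq (p := r) (n := 1) hτ
  rw [Fintype.card_coe] at h
  have h2 : τ.supportᶜ.card = (s.filter fun x => σ x = x).card := by
    refine Finset.card_bij (fun x _ => (x : α)) (fun x hx => ?_) (fun _ _ _ _ h => Subtype.ext h) (fun x hx => ?_)
    · simp only [Finset.mem_compl, Perm.mem_support, not_not] at hx
      exact Finset.mem_filter.mpr ⟨x.2, congrArg Subtype.val hx⟩
    · rw [Finset.mem_filter] at hx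
      exact ⟨⟨x, hx.1⟩, by simp [τ, hx.2], rfl⟩
  rwa [h2] at h

/-- The number of moved points is a multiple of the order. -/
theorem dvd_card_support (hσ : σ ^ r = 1) : r ∣ σ.support.card := by
  have hinv : σ.support.image σ = σ.support := by
    ext x
    simp only [Finset.mem_image, Perm.mem_support]
    refine ⟨fun ⟨y, hy, hyx⟩ => hyx ▸ fun h => hy (σ.injective h), fun hx => ⟨σ.symm x, fun h => hx ?_, σ.apply_symm_apply x⟩⟩
    rw [σ.apply_symm_apply] at h
    exact (congrArg σ h).trans (σ.apply_symm_apply x)
  have h := card_modEq_filter_fixed hσ (s := σ.support) hinv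
  rw [Finset.filter_false_of_mem (fun x hx => Perm.mem_support.mp hx), Finset.card_empty] at h
  exact Nat.modEq_zero_iff_dvd.mp h.symm

/-- Any multiple of the order up to the support size is the size of an invariant set of moved points. -/
theorem exists_moved_invariant (hσ : σ ^ r = 1) :
    ∀ i : ℕ, i * r ≤ σ.support.card → ∃ s : Finset α, s ⊆ σ.support ∧ s.image σ = s ∧ s.card = i * r := by
  intro i
  induction i with
  | zero => intro _; exact ⟨∅, Finset.empty_subset _, by simp, by simp⟩
  | succ i ih =>
    intro hi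
    have hpos := hr.out.pos
    obtain ⟨s, hs, hinv, hcard⟩ := ih (by rw [Nat.succ_mul] at hi; omega)
    obtain ⟨x, hx, hxs⟩ : ∃ x ∈ σ.support, x ∉ s := Finset.exists_mem_notMem_of_card_lt_card
      (by rw [hcard]; rw [Nat.succ_mul] at hi; omega)
    have hxx := Perm.mem_support.mp hx
    set o := (Finset.range r).image fun k => (σ ^ k) x with ho
    have hmem : ∀ y, σ y ∈ s ↔ y ∈ s := fun y => by
      conv_lhs => rw [← hinv]
      simp
    have hiter : ∀ k, (σ ^ k) x ∉ s := by
      intro k
      induction k with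
      | zero => simpa using hxs
      | succ k ih => rw [pow_succ', Perm.mul_apply, hmem]; exact ih
    have hsupp : ∀ k, (σ ^ k) x ∈ σ.support := fun k => Perm.pow_apply_mem_support.mpr hx
    have hoinv : o.image σ = o := by
      refine Finset.eq_of_subset_of_card_le (fun y hy => ?_) (by rw [Finset.card_image_of_injective _ σ.injective])
      simp only [ho, Finset.mem_image, Finset.mem_range] at hy ⊢
      obtain ⟨_, ⟨k, hk, rfl⟩, rfl⟩ := hy
      refine ⟨(k + 1) % r, Nat.mod_lt _ hpos, ?_⟩
      rw [← pow_eq_pow_mod (k + 1) hσ, pow_succ', Perm.mul_apply]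
    refine ⟨s ∪ o, Finset.union_subset hs (fun y hy => ?_), by rw [Finset.image_union, hinv, hoinv], ?_⟩
    · simp only [ho, Finset.mem_image] at hy
      obtain ⟨k, -, rfl⟩ := hy
      exact hsupp k
    · rw [Finset.card_union_of_disjoint, hcard, ho, Finset.card_image_of_injOn, Finset.card_range, Nat.succ_mul]
      · intro a ha b hb h
        exact pow_injOn hσ hxx (by simpa using ha) (by simpa using hb) h
      · rw [Finset.disjoint_left]
        intro y hys hyo
        simp only [ho, Finset.mem_image] at hyo
        obtain ⟨k, -, rfl⟩ := hyo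
        exact hiter k hys

/-- Invariant sets made of `i` free orbits and `j` fixed points. -/
theorem exists_invariant_card (hσ : σ ^ r = 1) (i j : ℕ) (hi : i * r ≤ σ.support.card)
    (hj : j + σ.support.card ≤ Fintype.card α) :
    ∃ s : Finset α, s.image σ = s ∧ s.card = i * r + j := by
  obtain ⟨s, hs, hinv, hcard⟩ := exists_moved_invariant hσ i hi
  obtain ⟨t, ht, htcard⟩ := Finset.exists_subset_card_eq (s := σ.supportᶜ) (n := j)
    (by rw [Finset.card_compl]; omega)
  refine ⟨s ∪ t, ?_, ?_⟩
  · rw [Finset.image_union, hinv]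
    congr 1
    refine Finset.ext fun x => ⟨fun hx => ?_, fun hx => ?_⟩
    · obtain ⟨y, hy, rfl⟩ := Finset.mem_image.mp hx
      rwa [Perm.notMem_support.mp (Finset.mem_compl.mp (ht hy))]
    · exact Finset.mem_image.mpr ⟨x, hx, Perm.notMem_support.mp (Finset.mem_compl.mp (ht hx))⟩
  · rw [Finset.card_union_of_disjoint, hcard, htcard]
    exact Finset.disjoint_left.mpr fun x hxs hxt => Finset.mem_compl.mp (ht hxt) (hs hxs)

end Cfsg.Agent.Perm.PrimeOrderPerm
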