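import Mathlib

/-!
# The field of an irreducible set of commuting automorphisms of an abelian group

For a finite abelian group `K` with a set `S` of pairwise commuting automorphisms leaving no
proper non-trivial subgroup invariant, `K` is the additive group of a finite field in which every
element of `S` is a multiplication.
-/

set_option autoImplicit false

namespace Cfsg.Agent.Perm

universe u

/-- A copy of `Fin n` without algebraic instances, to carry a transported field structure. -/
def FieldCarrier (n : ℕ) : Type := Fin n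

instance fieldCarrierFintype (n : ℕ) : Fintype (FieldCarrier n) := inferInstanceAs (Fintype (Fin n))

open Function in
/-- `K` becomes a field (living in `Type`) in which the automorphisms in `S` are multiplications
and `e₀` is `1`. -/
theorem exists_field_of_irreducible {K : Type u} [CommGroup K] [Finite K] (S : Set (K ≃* K))
    (hcomm : ∀ σ ∈ S, ∀ τ ∈ S, ∀ x, σ (τ x) = τ (σ x))
    (hirr : ∀ L : Subgroup K, (∀ σ ∈ S, ∀ x ∈ L, σ x ∈ L) → L = ⊥ ∨ L = ⊤)
    {e₀ : K} (he₀ : e₀ ≠ 1) :
    ∃ (F : Type) (_ : Field F) (_ : Fintype F) (θ : F ≃ K), θ 0 = 1 ∧ θ 1 = e₀ ∧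
      (∀ x y, θ (x + y) = θ x * θ y) ∧
      ∀ σ ∈ S, ∃ a : F, a ≠ 0 ∧ ∀ x, σ (θ x) = θ (a * x) := by
  classical
  let toEnd : (K ≃* K) → AddMonoid.End (Additive K) := fun σ => σ.toMonoidHom.toAdditive
  let R := Subring.closure (toEnd '' S)
  have hc : ∀ a ∈ toEnd '' S, ∀ b ∈ toEnd '' S, a * b = b * a := by
    rintro _ ⟨σ, hσ, rfl⟩ _ ⟨τ, hτ, rfl⟩
    exact AddMonoidHom.ext fun x => congrArg Additive.ofMul (hcomm σ hσ τ hτ (Additive.toMul x))
  let instR : CommRing R := Subring.closureCommRingOfComm hc
  have hS : ∀ σ ∈ S, toEnd σ ∈ R := fun σ hσ => Subring.subset_closure ⟨σ, hσ, rfl⟩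
  -- an additive subgroup invariant under `S` is trivial
  have hirr' : ∀ L : AddSubgroup (Additive K), (∀ σ ∈ S, ∀ x ∈ L, toEnd σ x ∈ L) → L = ⊥ ∨ L = ⊤ := by
    intro L hL
    rcases hirr (AddSubgroup.toSubgroup' L) (fun σ hσ x hx => hL σ hσ (Additive.ofMul x) hx) with h | h
    · exact Or.inl ((eq_bot_iff).2 fun x hx => by
        have : Additive.toMul x ∈ AddSubgroup.toSubgroup' L := hx
        rw [h, Subgroup.mem_bot] at this
        exact AddSubgroup.mem_bot.2 (congrArg Additive.ofMul this))
    · exact Or.inr ((eq_top_iff).2 fun x _ => by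
        have : Additive.toMul x ∈ AddSubgroup.toSubgroup' L := h ▸ Subgroup.mem_top _
        exact this)
  -- kernels and ranges of elements of `R`
  have hcommS : ∀ r : R, ∀ σ ∈ S, ∀ x, toEnd σ ((r : AddMonoid.End (Additive K)) x) =
      (r : AddMonoid.End (Additive K)) (toEnd σ x) := fun r σ hσ x =>
    DFunLike.congr_fun (congrArg Subtype.val (mul_comm (⟨_, hS σ hσ⟩ : R) r)) x
  have hzero : ∀ r : R, ∀ x, x ≠ 0 → (r : AddMonoid.End (Additive K)) x = 0 → r = 0 := by
    intro r x hx hr
    let L := AddMonoidHom.ker (r : AddMonoid.End (Additive K))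
    rcases hirr' L (fun σ hσ y (hy : (r : AddMonoid.End (Additive K)) y = 0) => by
        show (r : AddMonoid.End (Additive K)) (toEnd σ y) = 0
        rw [← hcommS r σ hσ y, hy, map_zero]) with h | h
    · exact absurd (AddSubgroup.mem_bot.1 (h ▸ (show x ∈ L from hr))) hx
    · exact Subtype.ext (AddMonoidHom.ext fun y => (h ▸ AddSubgroup.mem_top y : y ∈ L))
  let e : Additive K := Additive.ofMul e₀
  have he : e ≠ 0 := he₀
  let ev : R →+ Additive K :=
    { toFun := fun r => (r : AddMonoid.End (Additive K)) e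
      map_zero' := rfl
      map_add' := fun _ _ => rfl }
  have hinj : Injective ev := (injective_iff_map_eq_zero ev).2 fun r hr => hzero r e he hr
  have hsurj : Surjective ev := by
    rw [← AddMonoidHom.range_eq_top]
    refine (hirr' ev.range fun σ hσ x hx => ?_).resolve_left fun h => ?_
    · obtain ⟨r, rfl⟩ := hx
      exact ⟨⟨_, hS σ hσ⟩ * r, rfl⟩
    · exact he (AddSubgroup.mem_bot.1 (h ▸ (⟨1, rfl⟩ : e ∈ ev.range)))
  have : Finite R := Finite.of_injective _ hinj
  have : Nontrivial R := ⟨⟨0, 1, fun h => he (congrArg ev h).symm⟩⟩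
  have : NoZeroDivisors R := ⟨fun {a b} h => by
    by_contra hcon
    rw [not_or] at hcon
    refine hcon.1 (hzero a (ev b) (fun hb => hcon.2 (hinj (hb.trans (map_zero ev).symm))) ?_)
    exact congrArg ev h⟩
  have : IsDomain R := NoZeroDivisors.to_isDomain R
  have : Fintype R := Fintype.ofFinite R
  let instF : Field R := Fintype.fieldOfDomain R
  let eR : FieldCarrier (Fintype.card R) ≃ R := (Fintype.equivFin R).symm
  let FF : Field (FieldCarrier (Fintype.card R)) := eR.field
  let θ : FieldCarrier (Fintype.card R) ≃ K :=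
    eR.trans ((Equiv.ofBijective ev ⟨hinj, hsurj⟩).trans Additive.toMul)
  let rE : FieldCarrier (Fintype.card R) ≃+* R :=
    { eR with map_mul' := fun x y => eR.apply_symm_apply _, map_add' := fun x y => eR.apply_symm_apply _ }
  refine ⟨FieldCarrier (Fintype.card R), FF, inferInstance, θ, ?_, ?_, ?_, ?_⟩
  · show Additive.toMul (ev (rE 0)) = 1
    exact (congrArg (fun r => Additive.toMul (ev r)) (map_zero rE)).trans (by simp)
  · show Additive.toMul (ev (rE 1)) = e₀
    exact congrArg (fun r => Additive.toMul (ev r)) (map_one rE)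
  · intro x y
    show Additive.toMul (ev (rE (x + y))) = _
    exact (congrArg (fun r => Additive.toMul (ev r)) (map_add rE x y)).trans
      (congrArg Additive.toMul (map_add ev (rE x) (rE y)))
  · intro σ hσ
    let r : R := ⟨_, hS σ hσ⟩
    refine ⟨rE.symm r, fun h0 => ?_, fun x => ?_⟩
    · have hr : r = 0 := by
        rw [← rE.apply_symm_apply r]
        exact (congrArg rE h0).trans (map_zero rE)
      have h1 : toEnd σ e = 0 := congrArg ev hr
      exact he₀ (σ.injective ((show σ e₀ = 1 from h1).trans σ.map_one.symm))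
    · show σ (Additive.toMul (ev (rE x))) = Additive.toMul (ev (rE (rE.symm r * x)))
      have hm : rE (rE.symm r * x) = r * rE x :=
        (map_mul rE (rE.symm r) x).trans (by rw [rE.apply_symm_apply])
      rw [hm]
      rfl

end Cfsg.Agent.Perm
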