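import Mathlib
import Cfsg.Agent.Lib.GL.Basic

/-!
# Recognition of `PGL_2` and `PSL_2` from their action on the projective line

A faithful action is given together with a parametrisation `pt : Option F → α` of the points.
If translations, dilations (resp. none) and the inversion are induced by elements of `G` and `G`
has the right order, then `G ≅ PGL_2 F` (resp. `PSL_2 F`).
-/

set_option autoImplicit false

namespace Cfsg.Agent.Perm.Mobius

open Matrix
open scoped MatrixGroups

variable {G α F : Type*} [Group G] [MulAction G α] [Field F]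

/-- The point of a non-zero vector. -/
noncomputable def mob (pt : Option F → α) (v : Fin 2 → F) : α :=
  haveI := Classical.propDecidable (v 1 = 0)
  if v 1 = 0 then pt none else pt (some (v 0 / v 1))

theorem mob_inf (pt : Option F → α) {v : Fin 2 → F} (h : v 1 = 0) : mob pt v = pt none := by
  simp [mob, h]

theorem mob_fin (pt : Option F → α) {v : Fin 2 → F} (h : v 1 ≠ 0) :
    mob pt v = pt (some (v 0 / v 1)) := by
  simp [mob, h]

theorem mob_smul (pt : Option F → α) {c : F} (hc : c ≠ 0) (v : Fin 2 → F) :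
    mob pt (c • v) = mob pt v := by
  by_cases h : v 1 = 0
  · rw [mob_inf pt h, mob_inf pt (by simp [h])]
  · rw [mob_fin pt h, mob_fin pt (by simp [h, hc])]
    simp [mul_div_mul_left _ _ hc]

theorem mob_surjective {pt : Option F → α} (hpt : Function.Surjective pt) (x : α) :
    ∃ v : Fin 2 → F, v ≠ 0 ∧ mob pt v = x := by
  obtain ⟨o, rfl⟩ := hpt x
  cases o with
  | none => exact ⟨![1, 0], fun h => one_ne_zero (congrFun h 0), mob_inf pt rfl⟩
  | some y => exact ⟨![y, 1], fun h => one_ne_zero (congrFun h 1), (mob_fin pt one_ne_zero).trans (by simp)⟩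

/-- The group element `σ` acts as the matrix `A`. -/
def Realises (pt : Option F → α) (A : Matrix (Fin 2) (Fin 2) F) (σ : G) : Prop :=
  ∀ v : Fin 2 → F, v ≠ 0 → σ • mob pt v = mob pt (A *ᵥ v)

theorem Realises.unique [FaithfulSMul G α] {pt : Option F → α} (hpt : Function.Surjective pt)
    {A : Matrix (Fin 2) (Fin 2) F} {σ τ : G} (h : Realises pt A σ) (h' : Realises pt A τ) : σ = τ := by
  refine FaithfulSMul.eq_of_smul_eq_smul (α := α) fun x => ?_
  obtain ⟨v, hv, rfl⟩ := mob_surjective hpt x
  rw [h v hv, h' v hv]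

theorem Realises.one (pt : Option F → α) : Realises pt (1 : Matrix (Fin 2) (Fin 2) F) (1 : G) :=
  fun v _ => by rw [one_smul, one_mulVec]

theorem Realises.mul {pt : Option F → α} {A B : Matrix (Fin 2) (Fin 2) F} (hB0 : B.det ≠ 0)
    {σ τ : G} (h : Realises pt A σ) (h' : Realises pt B τ) : Realises pt (A * B) (σ * τ) := by
  intro v hv
  rw [mul_smul, h' v hv, h _ ?_, mulVec_mulVec]
  intro h0
  exact hv (eq_zero_of_mulVec_eq_zero hB0 h0)

theorem scalar_of_realises_one {pt : Option F → α} (hpt : Function.Bijective pt)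
    {A : Matrix (Fin 2) (Fin 2) F} (hA : A.det ≠ 0) (h : Realises (G := G) pt A 1) :
    ∃ c : F, A = scalar (Fin 2) c := by
  have h10 : A 1 0 = 0 := by
    by_contra hne
    have := h ![1, 0] (fun e => one_ne_zero (congrFun e 0))
    rw [one_smul, mob_inf pt rfl, mob_fin pt (by simpa [mulVec, vecHead, vecTail, dotProduct] using hne)] at this
    exact Option.some_ne_none _ (hpt.1 this).symm
  have h01 : A 0 1 = 0 := by
    have h11 : A 1 1 ≠ 0 := fun e => hA (by rw [det_fin_two, h10, e]; ring)
    have := h ![0, 1] (fun e => one_ne_zero (congrFun e 1))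
    rw [one_smul, mob_fin pt one_ne_zero, mob_fin pt (by simpa [mulVec, dotProduct] using h11)] at this
    have := Option.some_injective _ (hpt.1 this)
    simp [mulVec, dotProduct] at this
    exact (div_eq_zero_iff.1 this.symm).resolve_right h11
  have h11 : A 1 1 ≠ 0 := fun e => hA (by rw [det_fin_two, h10, e]; ring)
  have h00 : A 0 0 = A 1 1 := by
    have := h ![1, 1] (fun e => one_ne_zero (congrFun e 1))
    rw [one_smul, mob_fin pt one_ne_zero, mob_fin pt (by simpa [mulVec, dotProduct, h10] using h11)] at this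
    have := Option.some_injective _ (hpt.1 this)
    simp [mulVec, dotProduct, h10, h01] at this
    rw [eq_div_iff h11, one_mul] at this
    exact this.symm
  refine ⟨A 1 1, ?_⟩
  ext i j
  fin_cases i <;> fin_cases j <;> simp [h10, h01, h00]

theorem realises_scalar (pt : Option F → α) {c : F} (hc : c ≠ 0) :
    Realises pt (scalar (Fin 2) c) (1 : G) := by
  intro v _
  rw [one_smul, show scalar (Fin 2) c *ᵥ v = c • v by ext i; simp [mulVec_diagonal], mob_smul pt hc]

/-- A group of matrices all of which are realised maps to `G`, with scalar kernel. -/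
theorem nonempty_mulEquiv_of_realises [FaithfulSMul G α] [Finite G] {M : Type*} [Group M] [Finite M]
    (ψ : M →* GL (Fin 2) F) {pt : Option F → α} (hpt : Function.Bijective pt)
    (hreal : ∀ m, ∃ σ : G, Realises pt (ψ m : Matrix (Fin 2) (Fin 2) F) σ) (Z : Subgroup M) [Z.Normal]
    (hZ : ∀ m, m ∈ Z ↔ ∃ c : F, (ψ m : Matrix (Fin 2) (Fin 2) F) = scalar (Fin 2) c)
    (hcard : Nat.card (M ⧸ Z) = Nat.card G) : Nonempty (G ≃* M ⧸ Z) := by
  choose f hf using hreal
  have hdet : ∀ m, (ψ m : Matrix (Fin 2) (Fin 2) F).det ≠ 0 := fun m =>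
    ((isUnit_iff_isUnit_det _).1 (ψ m).isUnit).ne_zero
  let φ : M →* G :=
    { toFun := f
      map_one' := by
        refine (hf 1).unique hpt.2 ?_
        rw [map_one, Units.val_one]
        exact Realises.one pt
      map_mul' := fun a b => by
        refine (hf (a * b)).unique hpt.2 ?_
        rw [map_mul, Units.val_mul]
        exact (hf a).mul (hdet b) (hf b) }
  have hker : φ.ker = Z := by
    ext m
    rw [MonoidHom.mem_ker, hZ]
    constructor
    · intro h
      exact scalar_of_realises_one hpt (hdet m) (by rw [← h]; exact hf m)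
    · rintro ⟨c, hc⟩
      refine (hf m).unique hpt.2 ?_
      rw [hc]
      refine realises_scalar pt ?_
      intro h0
      have := hdet m
      rw [hc, h0] at this
      simp at this
  have hsurj : Function.Surjective φ := by
    rw [← MonoidHom.range_eq_top, ← Subgroup.card_eq_iff_eq_top, ← hcard,
      Nat.card_congr (QuotientGroup.quotientKerEquivRange φ).toEquiv.symm, hker]
  exact ⟨((QuotientGroup.quotientKerEquivOfSurjective φ hsurj).symm).trans
    (QuotientGroup.quotientMulEquivOfEq hker)⟩

/-- If translations, dilations and `x ↦ 1/x` are induced and `|G| = q (q^2 - 1)`, then `G ≅ PGL_2 F`. -/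
theorem nonempty_mulEquiv_PGL [FaithfulSMul G α] [Finite G] [Fintype F] {pt : Option F → α}
    (hpt : Function.Bijective pt)
    (hT : ∀ c : F, ∃ σ : G, Realises pt !![1, c; 0, 1] σ)
    (hD : ∀ a : F, a ≠ 0 → ∃ σ : G, Realises pt !![a, 0; 0, 1] σ)
    (hW : ∃ σ : G, Realises pt !![(0 : F), 1; 1, 0] σ)
    (hcard : Nat.card G = Fintype.card F * (Fintype.card F ^ 2 - 1)) :
    Nonempty (G ≃* Matrix.ProjGenLinGroup (Fin 2) F) := by
  classical
  obtain ⟨w, hw⟩ := hW
  have hwdet : (!![(0 : F), 1; 1, 0]).det ≠ 0 := by simp [det_fin_two]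
  have key : ∀ A : Matrix (Fin 2) (Fin 2) F, A.det ≠ 0 → ∃ σ : G, Realises pt A σ := by
    intro A hA
    refine diagonal_transvection_induction_of_det_ne_zero (fun A => ∃ σ : G, Realises pt A σ) A hA ?_ ?_ ?_
    · intro D hD'
      have hD' : D 0 ≠ 0 ∧ D 1 ≠ 0 := by simpa [det_diagonal, Fin.prod_univ_two] using hD'
      obtain ⟨σ, hσ⟩ := hD (D 0) hD'.1
      obtain ⟨τ, hτ⟩ := hD (D 1) hD'.2
      refine ⟨σ * (w * τ * w), ?_⟩
      have hd : diagonal D = !![D 0, 0; 0, 1] * (!![(0 : F), 1; 1, 0] * !![D 1, 0; 0, 1] * !![(0 : F), 1; 1, 0]) := by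
        ext i j; fin_cases i <;> fin_cases j <;> simp [Matrix.mul_apply, Fin.sum_univ_two]
      rw [hd]
      exact hσ.mul (by simp [det_fin_two, hD'.2]) ((hw.mul (by simp [det_fin_two, hD'.2]) hτ).mul hwdet hw)
    · rintro ⟨i, j, hij, c⟩
      obtain ⟨σ, hσ⟩ := hT c
      fin_cases i <;> fin_cases j
      · exact absurd rfl hij
      · refine ⟨σ, ?_⟩
        convert hσ using 1
        ext a b; fin_cases a <;> fin_cases b <;> simp [TransvectionStruct.toMatrix, Matrix.transvection]
      · refine ⟨w * σ * w, ?_⟩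
        convert (hw.mul (by simp [det_fin_two]) hσ).mul hwdet hw using 1
        ext a b
        fin_cases a <;> fin_cases b <;>
          simp [TransvectionStruct.toMatrix, Matrix.transvection, Matrix.mul_apply, Fin.sum_univ_two]
      · exact absurd rfl hij
    · rintro A B _ hB ⟨σ, hσ⟩ ⟨τ, hτ⟩
      exact ⟨σ * τ, hσ.mul hB hτ⟩
  refine nonempty_mulEquiv_of_realises (MonoidHom.id (GL (Fin 2) F)) hpt
    (fun m => key _ ((isUnit_iff_isUnit_det _).1 m.isUnit).ne_zero) (Subgroup.center _) ?_ ?_
  · intro m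
    rw [GeneralLinearGroup.center_eq_range_scalar, MonoidHom.mem_range]
    constructor
    · rintro ⟨u, rfl⟩; exact ⟨u, rfl⟩
    · rintro ⟨c, hc⟩
      have hc0 : c ≠ 0 := by
        intro h0
        have := ((isUnit_iff_isUnit_det _).1 m.isUnit).ne_zero
        rw [show (m : Matrix (Fin 2) (Fin 2) F) = scalar (Fin 2) c from hc, h0] at this
        simp at this
      exact ⟨Units.mk0 c hc0, Units.ext hc.symm⟩
  · rw [hcard, ← Cfsg.Agent.GL.card_SL2]
    exact Cfsg.Agent.GL.card_PGL (F := F) (ι := Fin 2)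

/-- If translations and `x ↦ -1/x` are induced and `2|G| = q (q^2 - 1)`, `q` odd, then `G ≅ PSL_2 F`. -/
theorem nonempty_mulEquiv_PSL [FaithfulSMul G α] [Finite G] [Fintype F] {pt : Option F → α}
    (hpt : Function.Bijective pt) (h2 : (2 : F) ≠ 0)
    (hT : ∀ c : F, ∃ σ : G, Realises pt !![1, c; 0, 1] σ)
    (hW : ∃ σ : G, Realises pt !![(0 : F), -1; 1, 0] σ)
    (hcard : 2 * Nat.card G = Fintype.card F * (Fintype.card F ^ 2 - 1)) :
    Nonempty (G ≃* Matrix.ProjectiveSpecialLinearGroup (Fin 2) F) := by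
  classical
  obtain ⟨w, hw⟩ := hW
  have hwdet : (!![(0 : F), -1; 1, 0]).det ≠ 0 := by simp [det_fin_two]
  have key : ∀ A : SL(2, F), ∃ σ : G, Realises pt (A : Matrix (Fin 2) (Fin 2) F) σ := by
    intro A
    refine Cfsg.Agent.GL.SL_induction (fun A => ∃ σ : G, Realises pt (A : Matrix (Fin 2) (Fin 2) F) σ)
      ⟨1, by simpa using Realises.one (G := G) pt⟩ ?_ ?_ A
    · intro i j hij c
      fin_cases i <;> fin_cases j
      · exact absurd rfl hij
      · obtain ⟨σ, hσ⟩ := hT c
        refine ⟨σ, ?_⟩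
        convert hσ using 1
        ext a b; fin_cases a <;> fin_cases b <;> simp [SpecialLinearGroup.transvection, Matrix.transvection]
      · obtain ⟨σ, hσ⟩ := hT (-c)
        refine ⟨w * σ * w, ?_⟩
        have hr := (hw.mul (by simp [det_fin_two]) hσ).mul hwdet hw
        intro v hv
        rw [hr v hv, ← mob_smul pt (show (-1 : F) ≠ 0 by norm_num)]
        congr 1
        ext a
        fin_cases a <;>
          simp [SpecialLinearGroup.transvection, Matrix.transvection, Fin.sum_univ_two,
            mulVec, dotProduct] <;> ring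
      · exact absurd rfl hij
    · rintro A B ⟨σ, hσ⟩ ⟨τ, hτ⟩
      exact ⟨σ * τ, hσ.mul (by rw [B.det_coe]; exact one_ne_zero) hτ⟩
  refine nonempty_mulEquiv_of_realises (SpecialLinearGroup.toGL) hpt key (Subgroup.center _) ?_ ?_
  · intro m
    rw [Matrix.SpecialLinearGroup.mem_center_iff]
    constructor
    · rintro ⟨r, -, hr⟩; exact ⟨r, hr.symm⟩
    · rintro ⟨c, hc⟩
      refine ⟨c, ?_, hc.symm⟩
      have := m.det_coe
      rw [show (m : Matrix (Fin 2) (Fin 2) F) = scalar (Fin 2) c from hc] at this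
      simpa using this
  · have h1 := Cfsg.Agent.GL.card_center_SL_mul_card_PSL (F := F) (ι := Fin 2)
    rw [Cfsg.Agent.GL.card_center_SL, Fintype.card_fin, Cfsg.Agent.GL.card_SL2, ← hcard] at h1
    have hgcd : Nat.gcd 2 (Fintype.card F - 1) = 2 := by
      refine Nat.gcd_eq_left ?_
      have : ringChar F ≠ 2 := fun e => h2 (by
        have := ringChar.Nat.cast_ringChar (R := F); rw [e] at this; exact_mod_cast this)
      have := FiniteField.odd_card_of_char_ne_two this
      omega
    rw [hgcd] at h1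
    exact Nat.eq_of_mul_eq_mul_left two_pos h1

end Cfsg.Agent.Perm.Mobius
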