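import Mathlib
import Cfsg.Agent.Lib.Perm.Mobius
import Cfsg.Agent.Lib.Perm.EndField

/-!
# Field coordinates on the points of a transitive extension

A point stabiliser with a regular abelian subgroup `K` on the remaining points, normalised by a
commutative irreducible two-point stabiliser, gives field coordinates in which `K` acts by
translations and the two-point stabiliser by multiplications.
-/

set_option autoImplicit false

namespace Cfsg.Agent.Perm.Coords

open MulAction Matrix Mobius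

universe u v

variable {G : Type u} {α : Type v} [Group G] [MulAction G α] {F : Type*} [Field F]

/-- A map `x ↦ a x + c` fixing `∞` is realised by `(a c; 0 1)`. -/
theorem realises_affine {pt : Option F → α} {σ : G} {a c : F}
    (hinf : σ • pt none = pt none) (h : ∀ x, σ • pt (some x) = pt (some (a * x + c))) :
    Realises pt !![a, c; 0, 1] σ := by
  intro v hv
  by_cases h1 : v 1 = 0
  · rw [mob_inf pt h1, hinf, mob_inf pt (by simp [mulVec, dotProduct, Fin.sum_univ_two, h1])]
  · rw [mob_fin pt h1, h, mob_fin pt (by simp [mulVec, dotProduct, Fin.sum_univ_two, h1])]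
    congr 2
    simp [mulVec, dotProduct, Fin.sum_univ_two]
    field_simp

/-- A map `x ↦ k / x` is realised by `(0 k; 1 0)`. -/
theorem realises_inversion {pt : Option F → α} {σ : G} {k : F}
    (hinf : σ • pt none = pt (some 0)) (h0 : σ • pt (some 0) = pt none)
    (h : ∀ x, x ≠ 0 → σ • pt (some x) = pt (some (k / x))) :
    Realises pt !![(0 : F), k; 1, 0] σ := by
  intro v hv
  by_cases h1 : v 1 = 0
  · have h0' : v 0 ≠ 0 := fun e => hv (by ext i; fin_cases i <;> assumption)
    rw [mob_inf pt h1, hinf, mob_fin pt (by simpa [mulVec, dotProduct, Fin.sum_univ_two] using h0')]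
    simp [mulVec, dotProduct, Fin.sum_univ_two, h1]
  · rw [mob_fin pt h1]
    by_cases h0' : v 0 = 0
    · rw [h0', zero_div, h0, mob_inf pt (by simp [mulVec, dotProduct, Fin.sum_univ_two, h0'])]
    · rw [h _ (div_ne_zero h0' h1), mob_fin pt (by simpa [mulVec, dotProduct, Fin.sum_univ_two] using h0')]
      congr 2
      simp [mulVec, dotProduct, Fin.sum_univ_two]
      field_simp

/-- Field coordinates with origin `o`, unit `e` and point at infinity `ω`. -/
theorem exists_coords [Finite G] {ω o e : α} (hoω : o ≠ ω) (heo : e ≠ o) (heω : e ≠ ω)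
    (K : Subgroup G) (hKω : ∀ k ∈ K, k • ω = ω)
    (hreg : ∀ x, x ≠ ω → ∃! k : K, (k : G) • o = x) (hKc : IsMulCommutative K)
    (hnorm : ∀ h : G, h • ω = ω → h • o = o → ∀ k ∈ K, h * k * h⁻¹ ∈ K)
    (hHc : ∀ h h' : G, h • ω = ω → h • o = o → h' • ω = ω → h' • o = o → h * h' = h' * h)
    (hirr : ∀ L : Subgroup G, L ≤ K →
      (∀ h : G, h • ω = ω → h • o = o → ∀ l ∈ L, h * l * h⁻¹ ∈ L) → L = ⊥ ∨ L = K) :
    ∃ (F : Type) (_ : Field F) (_ : Fintype F) (pt : Option F ≃ α),
      pt none = ω ∧ pt (some 0) = o ∧ pt (some 1) = e ∧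
      (∀ c : F, ∃ σ : G, σ • ω = ω ∧ ∀ x, σ • pt (some x) = pt (some (1 * x + c))) ∧
      ∀ h : G, h • ω = ω → h • o = o →
        ∃ a : F, a ≠ 0 ∧ ∀ x, h • pt (some x) = pt (some (a * x)) := by
  classical
  let instK : CommGroup K := { (inferInstance : Group K) with mul_comm := hKc.1.1 }
  let H := stabilizer G ω ⊓ stabilizer G o
  let act : H → K ≃* K := fun h =>
    { toFun := fun k => ⟨(h : G) * k * (h : G)⁻¹, hnorm h h.2.1 h.2.2 k k.2⟩
      invFun := fun k => ⟨(h : G)⁻¹ * k * (h : G), by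
        simpa using hnorm ((h⁻¹ : H) : G) (h⁻¹).2.1 (h⁻¹).2.2 k k.2⟩
      left_inv := fun u => Subtype.ext (by simp only; group)
      right_inv := fun u => Subtype.ext (by simp only; group)
      map_mul' := fun u w => Subtype.ext (by simp only [Subgroup.coe_mul]; group) }
  have hφ : ∀ (h : H) (k : K), ((act h k : K) : G) • o = (h : G) • (k : G) • o := by
    intro h k
    show ((h : G) * k * (h : G)⁻¹) • o = _
    rw [mul_smul, inv_smul_eq_iff.2 (show (h : G) • o = o from h.2.2).symm, mul_smul]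
  obtain ⟨e₀, he₀, -⟩ := hreg e heω
  have he₀1 : e₀ ≠ 1 := fun h1 => heo (by rw [← he₀, h1, Subgroup.coe_one, one_smul])
  obtain ⟨F, _, _, θ, hθ0, hθ1, hθadd, hθS⟩ := exists_field_of_irreducible (Set.range act) (by
      rintro _ ⟨h, rfl⟩ _ ⟨h', rfl⟩ x
      refine Subtype.ext ?_
      show (h : G) * ((h' : G) * x * (h' : G)⁻¹) * (h : G)⁻¹ = (h' : G) * ((h : G) * x * (h : G)⁻¹) * (h' : G)⁻¹
      calc (h : G) * ((h' : G) * x * (h' : G)⁻¹) * (h : G)⁻¹
          = ((h : G) * h') * x * ((h : G) * h')⁻¹ := by group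
        _ = ((h' : G) * h) * x * ((h' : G) * h)⁻¹ := by rw [hHc h h' h.2.1 h.2.2 h'.2.1 h'.2.2]
        _ = _ := by group)
    (by
      intro L hL
      rcases hirr (L.map K.subtype) (Subgroup.map_subtype_le L) (fun h hω ho l hl => by
        obtain ⟨k, hk, rfl⟩ := Subgroup.mem_map.1 hl
        exact Subgroup.mem_map.2 ⟨act ⟨h, hω, ho⟩ k, hL _ ⟨_, rfl⟩ k hk, rfl⟩) with h | h
      · exact Or.inl ((Subgroup.map_eq_bot_iff_of_injective L K.subtype_injective).1 h)
      · refine Or.inr (eq_top_iff.2 fun k _ => ?_)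
        obtain ⟨k', hk', hk''⟩ := Subgroup.mem_map.1 (h.symm ▸ k.2 : (k : G) ∈ L.map K.subtype)
        rwa [← Subtype.ext hk''])
    he₀1
  let pt : Option F → α := fun x => x.elim ω fun y => (θ y : G) • o
  have hptne : ∀ y, pt (some y) ≠ ω := fun y h =>
    hoω (smul_left_cancel _ (h.trans (hKω _ (θ y).2).symm))
  have hbij : Function.Bijective pt := by
    constructor
    · rintro (_ | x) (_ | y) h
      · rfl
      · exact absurd h.symm (hptne y)
      · exact absurd h (hptne x)
      · obtain ⟨k, -, hk⟩ := hreg (pt (some y)) (hptne y)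
        exact congrArg some (θ.injective ((hk (θ x) h).trans (hk (θ y) rfl).symm))
    · intro x
      rcases eq_or_ne x ω with rfl | hx
      · exact ⟨none, rfl⟩
      · obtain ⟨k, hk, -⟩ := hreg x hx
        exact ⟨some (θ.symm k), by show ((θ (θ.symm k) : K) : G) • o = x; rw [Equiv.apply_symm_apply, hk]⟩
  refine ⟨F, inferInstance, inferInstance, Equiv.ofBijective pt hbij, rfl, ?_, ?_, ?_, ?_⟩
  · show ((θ 0 : K) : G) • o = o
    rw [hθ0, Subgroup.coe_one, one_smul]
  · show ((θ 1 : K) : G) • o = e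
    rw [hθ1, he₀]
  · intro c
    refine ⟨θ c, hKω _ (θ c).2, fun x => ?_⟩
    show ((θ c : K) : G) • ((θ x : K) : G) • o = ((θ (1 * x + c) : K) : G) • o
    rw [one_mul, add_comm, hθadd, Subgroup.coe_mul, mul_smul]
  · intro h hω ho
    obtain ⟨a, ha, hax⟩ := hθS _ ⟨(⟨h, hω, ho⟩ : H), rfl⟩
    refine ⟨a, ha, fun x => ?_⟩
    show h • ((θ x : K) : G) • o = ((θ (a * x) : K) : G) • o
    rw [← hax, hφ]

end Cfsg.Agent.Perm.Coords
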