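import Cfsg.Agent.Lib.Perm.Basic

/-!
# Multiply transitive actions: elementwise criteria and orders
-/

namespace Cfsg.Agent.Perm

open MulAction

variable {G α : Type*} [Group G] [MulAction G α]

/-- Use of `k`-transitivity on injective families. -/
theorem exists_smul_eq_of_injective {k : ℕ} (h : IsMultiplyPretransitive G α k)
    {x y : Fin k → α} (hx : Function.Injective x) (hy : Function.Injective y) :
    ∃ g : G, ∀ i, g • x i = y i := by
  obtain ⟨g, hg⟩ := h.exists_smul_eq ⟨x, hx⟩ ⟨y, hy⟩
  exact ⟨g, fun i => congrArg (fun e : Fin k ↪ α => e i) hg⟩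

/-- Use of 2-transitivity. -/
theorem exists_smul_eq_two (h : IsMultiplyPretransitive G α 2) {a b c d : α} (hab : a ≠ b)
    (hcd : c ≠ d) : ∃ g : G, g • a = c ∧ g • b = d :=
  is_two_pretransitive_iff.1 h hab hcd

/-- Use of 3-transitivity. -/
theorem exists_smul_eq_three (h : IsMultiplyPretransitive G α 3) {a b c a' b' c' : α}
    (hab : a ≠ b) (hac : a ≠ c) (hbc : b ≠ c) (hab' : a' ≠ b') (hac' : a' ≠ c') (hbc' : b' ≠ c') :
    ∃ g : G, g • a = a' ∧ g • b = b' ∧ g • c = c' := by
  have inj : ∀ {x y z : α}, x ≠ y → x ≠ z → y ≠ z → Function.Injective ![x, y, z] := by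
    intro x y z hxy hxz hyz i j
    fin_cases i <;> fin_cases j <;> simp [hxy, hxz, hyz, hxy.symm, hxz.symm, hyz.symm]
  obtain ⟨g, hg⟩ := exists_smul_eq_of_injective h (inj hab hac hbc) (inj hab' hac' hbc')
  exact ⟨g, hg 0, hg 1, hg 2⟩

/-- Use of 4-transitivity. -/
theorem exists_smul_eq_four (h : IsMultiplyPretransitive G α 4) {a b c d a' b' c' d' : α}
    (hab : a ≠ b) (hac : a ≠ c) (had : a ≠ d) (hbc : b ≠ c) (hbd : b ≠ d) (hcd : c ≠ d)
    (hab' : a' ≠ b') (hac' : a' ≠ c') (had' : a' ≠ d') (hbc' : b' ≠ c') (hbd' : b' ≠ d')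
    (hcd' : c' ≠ d') :
    ∃ g : G, g • a = a' ∧ g • b = b' ∧ g • c = c' ∧ g • d = d' := by
  have inj : ∀ {x y z w : α}, x ≠ y → x ≠ z → x ≠ w → y ≠ z → y ≠ w → z ≠ w →
      Function.Injective ![x, y, z, w] := by
    intro x y z w h₁ h₂ h₃ h₄ h₅ h₆ i j
    fin_cases i <;> fin_cases j <;>
      simp [h₁, h₂, h₃, h₄, h₅, h₆, h₁.symm, h₂.symm, h₃.symm, h₄.symm, h₅.symm, h₆.symm]
  obtain ⟨g, hg⟩ := exists_smul_eq_of_injective h (inj hab hac had hbc hbd hcd)
    (inj hab' hac' had' hbc' hbd' hcd')
  exact ⟨g, hg 0, hg 1, hg 2, hg 3⟩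

/-- A criterion for `k`-transitivity on injective families. -/
theorem isMultiplyPretransitive_of_forall {k : ℕ}
    (h : ∀ x y : Fin k → α, Function.Injective x → Function.Injective y →
      ∃ g : G, ∀ i, g • x i = y i) : IsMultiplyPretransitive G α k := by
  refine ⟨fun x y => ?_⟩
  obtain ⟨g, hg⟩ := h x y x.injective y.injective
  exact ⟨g, Function.Embedding.ext fun i => hg i⟩

/-- Elementwise 2-transitivity from a point stabiliser. -/
theorem isTwoPretransitive_of_stabilizer [IsPretransitive G α] (a : α)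
    (h : ∀ b c : α, b ≠ a → c ≠ a → ∃ g : G, g • a = a ∧ g • b = c) :
    IsMultiplyPretransitive G α 2 := by
  refine is_two_pretransitive_iff.2 fun {x y z w} hxy hzw => ?_
  obtain ⟨g, hg⟩ := exists_smul_eq G x a
  obtain ⟨k, hk⟩ := exists_smul_eq G z a
  obtain ⟨u, hua, hu⟩ := h (g • y) (k • w) (fun e => hxy (smul_left_cancel g (hg.trans e.symm)))
    (fun e => hzw (smul_left_cancel k (hk.trans e.symm)))
  refine ⟨k⁻¹ * u * g, ?_, ?_⟩
  · rw [mul_smul, mul_smul, hg, hua, inv_smul_eq_iff, hk]
  · rw [mul_smul, mul_smul, hu, inv_smul_smul]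

/-- A point stabiliser of a 2-transitive action is transitive on the other points. -/
theorem exists_stabilizer_smul_eq (h : IsMultiplyPretransitive G α 2) {a b c : α} (hb : b ≠ a)
    (hc : c ≠ a) : ∃ g ∈ stabilizer G a, g • b = c :=
  let ⟨g, hga, hgb⟩ := exists_smul_eq_two h hb.symm hc.symm
  ⟨g, hga, hgb⟩

/-- The number of `k`-embeddings. -/
theorem card_embedding [Finite α] (k : ℕ) :
    Nat.card (Fin k ↪ α) = (Nat.card α).descFactorial k := by
  have := Fintype.ofFinite α
  rw [Nat.card_eq_fintype_card, Fintype.card_embedding_eq, Fintype.card_fin,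
    ← Nat.card_eq_fintype_card]

/-- The order of a `k`-transitive group. -/
theorem card_eq_descFactorial_mul [Finite α] {k : ℕ} [IsMultiplyPretransitive G α k]
    (x : Fin k ↪ α) :
    (Nat.card α).descFactorial k * Nat.card (stabilizer G x) = Nat.card G := by
  rw [← card_embedding, card_mul_card_stabilizer]

/-- The order of a `k`-transitive group is divisible by `n(n-1)...(n-k+1)`. -/
theorem descFactorial_dvd_card [Finite α] {k : ℕ} (h : IsMultiplyPretransitive G α k)
    (hk : k ≤ Nat.card α) : (Nat.card α).descFactorial k ∣ Nat.card G := by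
  have : Nonempty (Fin k ↪ α) := by
    have := Fintype.ofFinite α
    exact Function.Embedding.nonempty_of_card_le (by simpa [Nat.card_eq_fintype_card] using hk)
  exact Dvd.intro _ (card_eq_descFactorial_mul (G := G) this.some)

/-- The order of a sharply `k`-transitive group. -/
theorem card_eq_of_sharply [Finite α] {k : ℕ} [IsMultiplyPretransitive G α k]
    {x : Fin k ↪ α} (hx : stabilizer G x = ⊥) :
    Nat.card G = (Nat.card α).descFactorial k := by
  rw [← card_eq_descFactorial_mul (G := G) x, hx, Subgroup.card_bot, mul_one]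

/-- An element fixing `k` distinct points of a sharply `k`-transitive action is trivial. -/
theorem eq_one_of_fixes {k : ℕ} (hsharp : ∀ x : Fin k ↪ α, stabilizer G x = ⊥) {g : G}
    {x : Fin k → α} (hx : Function.Injective x) (hg : ∀ i, g • x i = x i) : g = 1 :=
  (Subgroup.eq_bot_iff_forall _).1 (hsharp ⟨x, hx⟩) g (Function.Embedding.ext hg)

/-- An element fixing two distinct points of a sharply 2-transitive action is trivial. -/
theorem eq_one_of_fixes_two (hsharp : ∀ x : Fin 2 ↪ α, stabilizer G x = ⊥) {g : G} {a b : α}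
    (hab : a ≠ b) (ha : g • a = a) (hb : g • b = b) : g = 1 := by
  refine eq_one_of_fixes hsharp (x := ![a, b]) ?_ ?_
  · intro i j; fin_cases i <;> fin_cases j <;> simp [hab, hab.symm]
  · intro i; fin_cases i <;> assumption

/-- An element fixing three distinct points of a sharply 3-transitive action is trivial. -/
theorem eq_one_of_fixes_three (hsharp : ∀ x : Fin 3 ↪ α, stabilizer G x = ⊥) {g : G}
    {a b c : α} (hab : a ≠ b) (hac : a ≠ c) (hbc : b ≠ c) (ha : g • a = a) (hb : g • b = b)
    (hc : g • c = c) : g = 1 := by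
  refine eq_one_of_fixes hsharp (x := ![a, b, c]) ?_ ?_
  · intro i j
    fin_cases i <;> fin_cases j <;> simp [hab, hab.symm, hac, hac.symm, hbc, hbc.symm]
  · intro i; fin_cases i <;> assumption

end Cfsg.Agent.Perm
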