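import Mathlib
import Cfsg.Prelude.Def_LieExceptional

/-!
# Elementary counting in Zassenhaus groups

No use of Frobenius' kernel theorem: a two-point stabiliser contains at most one involution.
-/

set_option autoImplicit false

namespace Cfsg.Agent.Perm.Zass

open MulAction Finset

variable {G Ω : Type*} [Group G] [MulAction G Ω]

theorem two_trans (hZ : Cfsg.IsZassenhausGroup G Ω) {a b c d : Ω} (hab : a ≠ b) (hcd : c ≠ d) :
    ∃ g : G, g • a = c ∧ g • b = d :=
  (is_two_pretransitive_iff).1 hZ.2.1 hab hcd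

theorem eq_one_of_three (hZ : Cfsg.IsZassenhausGroup G Ω) {g : G} {a b c : Ω} (hab : a ≠ b)
    (hbc : b ≠ c) (hac : a ≠ c) (ha : g • a = a) (hb : g • b = b) (hc : g • c = c) : g = 1 :=
  hZ.2.2.1 g a b c hab hbc hac ha hb hc

theorem exists_third (hZ : Cfsg.IsZassenhausGroup G Ω) (a b : Ω) : ∃ c : Ω, c ≠ a ∧ c ≠ b := by
  obtain ⟨g, hg, x, y, hxy, hgx, hgy⟩ := hZ.2.2.2.1
  have := hZ.1
  obtain ⟨z, hz⟩ : ∃ z : Ω, g • z ≠ z := by
    by_contra h
    push Not at h
    exact hg (FaithfulSMul.eq_of_smul_eq_smul (α := Ω) fun z => by rw [h z, one_smul])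
  have hzx : z ≠ x := fun e => hz (e ▸ hgx)
  have hzy : z ≠ y := fun e => hz (e ▸ hgy)
  by_contra h
  push Not at h
  rcases eq_or_ne x a with hx | hx
  · have hy : y = b := h y (fun e => hxy (hx.trans e.symm))
    have hza : z = b := h z (fun e => hzx (e.trans hx.symm))
    exact hzy (hza.trans hy.symm)
  · have hx' : x = b := h x hx
    rcases eq_or_ne y a with hy | hy
    · exact hzx ((h z (fun e => hzy (e.trans hy.symm))).trans hx'.symm)
    · exact hxy (hx'.trans (h y hy).symm)

theorem three_le [Fintype Ω] (hZ : Cfsg.IsZassenhausGroup G Ω) : 3 ≤ Fintype.card Ω := by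
  classical
  obtain ⟨g, -, x, y, hxy, -, -⟩ := hZ.2.2.2.1
  obtain ⟨c, hca, hcb⟩ := exists_third hZ x y
  calc 3 = ({x, y, c} : Finset Ω).card := by simp [hxy, hca.symm, hcb.symm]
    _ ≤ Fintype.card Ω := card_le_univ _

/-- A non-identity element has at most two fixed points. -/
theorem card_fixed_le [Fintype Ω] [DecidableEq Ω] (hZ : Cfsg.IsZassenhausGroup G Ω) {g : G}
    (hg : g ≠ 1) : (univ.filter fun x : Ω => g • x = x).card ≤ 2 := by
  by_contra h
  obtain ⟨a, b, c, ha, hb, hc, hab, hac, hbc⟩ := (Finset.two_lt_card_iff).1 (not_le.1 h)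
  simp only [mem_filter, mem_univ, true_and] at ha hb hc
  exact hg (eq_one_of_three hZ hab hbc hac ha hb hc)

theorem smul_smul_of_sq {g : G} (hg : g * g = 1) (x : Ω) : g • g • x = x := by
  rw [← mul_smul, hg, one_smul]

theorem sq_eq_one_of_order {g : G} (hg : orderOf g = 2) : g * g = 1 := by
  rw [← pow_two, ← hg, pow_orderOf_eq_one]

/-- The number of fixed points of an involution has the parity of the degree. -/
theorem card_fixed_parity [Fintype Ω] [DecidableEq Ω] {g : G} (hg : g * g = 1) :
    Even (univ.filter fun x : Ω => g • x = x).card ↔ Even (Fintype.card Ω) := by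
  have h1 : Even (univ.filter fun x : Ω => ¬ g • x = x).card := by
    have h : ∏ x ∈ (univ.filter fun x : Ω => ¬ g • x = x), (-1 : ℤ) = 1 := by
      refine prod_involution (fun x _ => g • x) ?_ ?_ ?_ ?_
      · intros; norm_num
      · intro x hx _
        exact (mem_filter.1 hx).2
      · intro x hx
        rw [mem_filter] at hx ⊢
        refine ⟨mem_univ _, fun e => hx.2 ?_⟩
        rw [smul_smul_of_sq hg x] at e
        exact e.symm
      · intro x _
        exact smul_smul_of_sq hg x
    rw [prod_const] at h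
    exact (neg_one_pow_eq_one_iff_even (by norm_num)).1 h
  have h2 := card_filter_add_card_filter_not (s := (univ : Finset Ω)) (p := fun x => g • x = x)
  rw [card_univ] at h2
  rw [← h2, Nat.even_add]
  simp [h1]

variable [Finite G] [Fintype Ω]

/-- In a point stabiliser, exactly `|Ω| - 2` non-identity elements fix no further point;
we only need the upper bound. -/
theorem card_derangement_le [Fintype G] [DecidableEq G] [DecidableEq Ω]
    (hZ : Cfsg.IsZassenhausGroup G Ω) (a : Ω) :
    (univ.filter fun g : G => g • a = a ∧ g ≠ 1 ∧ ∀ c, g • c = c → c = a).card ≤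
      Fintype.card Ω - 2 := by
  let S : Finset G := univ.filter fun g => g • a = a
  let H : Ω → Finset G := fun c => S.filter fun g => g • c = c
  let X : Finset Ω := univ.erase a
  obtain ⟨b, hba, -⟩ := exists_third hZ a a
  have hH : ∀ c ∈ X, (H c).card = (H b).card ∧ (S.filter fun g => g • b = c).card = (H b).card := by
    intro c hc
    obtain ⟨t, hta, htb⟩ := two_trans hZ hba.symm (mem_erase.1 hc).1.symm
    have hta' : t⁻¹ • a = a := by rw [inv_smul_eq_iff, hta]
    have htc : t⁻¹ • c = b := by rw [inv_smul_eq_iff, htb]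
    constructor
    · refine card_bij' (fun g _ => t⁻¹ * g * t) (fun g _ => t * g * t⁻¹) ?_ ?_ ?_ ?_ <;>
        intro g hg <;> simp only [H, S, mem_filter, mem_univ, true_and, mul_smul, hta, htb, hta', htc] at hg ⊢
      · simp [hg.1, hg.2, hta', htc]
      · simp [hg.1, hg.2, hta, htb]
      · group
      · group
    · refine card_bij' (fun g _ => t⁻¹ * g) (fun g _ => t * g) ?_ ?_ ?_ ?_ <;>
        intro g hg <;> simp only [H, S, mem_filter, mem_univ, true_and, mul_smul, hta, htb, hta', htc] at hg ⊢
      · simp [hg.1, hg.2, hta', htc]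
      · simp [hg.1, hg.2, hta, htb]
      · group
      · group
  have hS : S.card = X.card * (H b).card := by
    rw [card_eq_sum_card_fiberwise (f := fun g : G => g • b) (t := X)]
    · rw [sum_congr rfl fun c hc => (hH c hc).2]; simp
    · intro g hg
      simp only [S, coe_filter, mem_univ, true_and, Set.mem_ofPred_eq] at hg
      simp only [X, coe_erase, coe_univ, Set.mem_diff, Set.mem_univ, true_and, Set.mem_singleton_iff]
      intro e
      exact hba (smul_left_cancel g (e.trans hg.symm))
  have hsum : ∑ g ∈ S, (X.filter fun c => g • c = c).card = S.card := by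
    rw [hS]
    simp only [card_filter]
    rw [sum_comm]
    simp only [← card_filter]
    rw [sum_congr rfl (g := fun _ => (H b).card) (fun c hc => (hH c hc).1)]
    simp
  have h1 : (1 : G) ∈ S := by simp [S]
  have hX1 : (X.filter fun c => (1 : G) • c = c) = X := by simp
  have hle : ∀ g ∈ S.erase 1, (X.filter fun c => g • c = c).card +
      (if ∀ c, g • c = c → c = a then 1 else 0) ≤ 1 := by
    intro g hg
    simp only [S, mem_erase, mem_filter, mem_univ, true_and] at hg
    split_ifs with h
    · rw [card_eq_zero.2]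
      ext c
      simp only [X, mem_filter, mem_erase, mem_univ, and_true, notMem_empty, iff_false, not_and]
      exact fun hca hc => hca (h c hc)
    · rw [add_zero, card_le_one]
      intro c hc d hd
      simp only [X, mem_filter, mem_erase, mem_univ, and_true] at hc hd
      by_contra hcd
      exact hg.1 (eq_one_of_three hZ hcd hd.1 hc.1 hc.2 hd.2 hg.2)
  have h2 := sum_le_sum hle
  rw [sum_add_distrib, ← card_filter] at h2
  simp only [sum_const, smul_eq_mul, mul_one] at h2
  rw [← insert_erase h1, sum_insert (notMem_erase _ _), hX1] at hsum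
  simp only [insert_erase h1] at hsum
  rw [card_erase_of_mem h1] at h2
  have hXc : X.card = Fintype.card Ω - 1 := by simp [X]
  have hS1 : 1 ≤ S.card := card_pos.2 ⟨1, h1⟩
  have hK : (univ.filter fun g : G => g • a = a ∧ g ≠ 1 ∧ ∀ c, g • c = c → c = a)
      ⊆ (S.erase 1).filter fun g => ∀ c, g • c = c → c = a := by
    intro g hg
    simp only [S, mem_filter, mem_erase, mem_univ, true_and] at hg ⊢
    exact ⟨⟨hg.2.1, hg.1⟩, hg.2.2⟩
  have := card_le_card hK
  omega

/-- Two involutions fixing the same two points are equal. -/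
theorem involution_unique (hZ : Cfsg.IsZassenhausGroup G Ω) {a b : Ω} (hab : a ≠ b) {z z' : G}
    (hz : orderOf z = 2) (hza : z • a = a) (hzb : z • b = b)
    (hz' : orderOf z' = 2) (hza' : z' • a = a) (hzb' : z' • b = b) : z = z' := by
  classical
  have := Fintype.ofFinite G
  by_contra hne
  obtain ⟨c, hca, hcb⟩ := exists_third hZ a b
  have hconj : ∀ x : Ω, x ≠ a → ∃ t : G, t • a = a ∧ t • b = x :=
    fun x hx => two_trans hZ hab hx.symm
  choose! t hta htb using hconj
  let w : G := t c * z * (t c)⁻¹
  have hw : orderOf w = 2 := by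
    rw [show w = MulAut.conj (t c) z from rfl, MulEquiv.orderOf_eq, hz]
  have conjfix : ∀ (u : G) (x : Ω), x ≠ a → u • a = a → u • b = b →
      (t x * u * (t x)⁻¹) • a = a ∧ (t x * u * (t x)⁻¹) • x = x := by
    intro u x hx hua hub
    constructor
    · rw [mul_smul, mul_smul, inv_smul_eq_iff.2 (hta x hx).symm, hua, hta x hx]
    · rw [mul_smul, mul_smul, inv_smul_eq_iff.2 (htb x hx).symm, hub, htb x hx]
  obtain ⟨hwa, hwc⟩ := conjfix z c hca hza hzb
  let X : Finset Ω := (univ.erase a).erase c
  let f : Bool × Ω → G := fun p => t p.2 * (if p.1 then z else z') * (t p.2)⁻¹ * w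
  have hprop : ∀ p ∈ (univ : Finset Bool) ×ˢ X,
      orderOf (t p.2 * (if p.1 then z else z') * (t p.2)⁻¹) = 2 ∧
      (t p.2 * (if p.1 then z else z') * (t p.2)⁻¹) • a = a ∧
      (t p.2 * (if p.1 then z else z') * (t p.2)⁻¹) • p.2 = p.2 := by
    rintro ⟨i, x⟩ hp
    simp only [X, mem_product, mem_erase, mem_univ, and_true, true_and] at hp
    refine ⟨?_, ?_⟩
    · rw [show t x * (if i then z else z') * (t x)⁻¹ = MulAut.conj (t x) (if i then z else z') from rfl,
        MulEquiv.orderOf_eq]
      split_ifs <;> assumption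
    · cases i
      · exact conjfix z' x hp.2 hza' hzb'
      · exact conjfix z x hp.2 hza hzb
  have hmaps : ∀ p ∈ (univ : Finset Bool) ×ˢ X,
      f p ∈ univ.filter fun g : G => g • a = a ∧ g ≠ 1 ∧ ∀ e, g • e = e → e = a := by
    intro p hp
    obtain ⟨ho, hua, hux⟩ := hprop p hp
    generalize hu : t p.2 * (if p.1 then z else z') * (t p.2)⁻¹ = u at ho hua hux
    have hfp : f p = u * w := by rw [← hu]
    simp only [X, mem_product, mem_erase, mem_univ, and_true, true_and] at hp
    rw [hfp, mem_filter]
    refine ⟨mem_univ _, by rw [mul_smul, hwa, hua], ?_, ?_⟩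
    · intro h
      have huw : u = w := by
        rw [← mul_one u, ← sq_eq_one_of_order hw, ← mul_assoc, h, one_mul]
      rw [huw] at hux
      have h1 : w = 1 := eq_one_of_three hZ hp.2.symm hp.1 hca.symm hwa hux hwc
      rw [h1, orderOf_one] at hw
      omega
    · intro e he
      by_contra hea
      rw [mul_smul] at he
      have hue : u • e = w • e := by
        conv_lhs => rw [← he]
        exact smul_smul_of_sq (sq_eq_one_of_order ho) _
      rcases eq_or_ne (w • e) e with h | h
      · have h' : u • e = e := hue.trans h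
        have h1 : ∀ {x : Ω} {v : G}, orderOf v = 2 → x ≠ a → v • a = a → v • x = x → v • e = e → e = x := by
          intro x v hv hx hva hvx hve
          by_contra hex
          have := eq_one_of_three hZ hx.symm (Ne.symm hex) (Ne.symm hea) hva hvx hve
          rw [this, orderOf_one] at hv
          omega
        exact hp.1 ((h1 ho hp.2 hua hux h').symm.trans (h1 hw hca hwa hwc h))
      · have hfix1 : (u * w) • (w • e) = w • e := by
          rw [mul_smul, smul_smul_of_sq (sq_eq_one_of_order hw), hue]
        have hfix2 : (u * w) • e = e := by rw [mul_smul, he]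
        have := eq_one_of_three hZ (Ne.symm hea) h.symm
          (fun e' => hea (smul_left_cancel w (e'.symm.trans hwa.symm)))
          (show (u * w) • a = a by rw [mul_smul, hwa, hua]) hfix2 hfix1
        have huw : u = w := by
          rw [← mul_one u, ← sq_eq_one_of_order hw, ← mul_assoc, this, one_mul]
        rw [huw] at hux
        have h1 : w = 1 := eq_one_of_three hZ hp.2.symm hp.1 hca.symm hwa hux hwc
        rw [h1, orderOf_one] at hw
        omega
  have hinj : Set.InjOn f (((univ : Finset Bool) ×ˢ X : Finset (Bool × Ω)) : Set (Bool × Ω)) := by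
    intro p hp q hq hpq
    have e : t p.2 * (if p.1 then z else z') * (t p.2)⁻¹ = t q.2 * (if q.1 then z else z') * (t q.2)⁻¹ :=
      mul_right_cancel hpq
    obtain ⟨ho, hua, hux⟩ := hprop p hp
    obtain ⟨-, -, hvx⟩ := hprop q hq
    rw [← e] at hvx
    obtain ⟨i, x⟩ := p
    obtain ⟨j, y⟩ := q
    simp only [X, coe_product, Set.mem_prod, mem_coe, mem_erase, mem_univ, and_true, true_and] at hp hq
    have hxy : x = y := by
      by_contra hxy
      have := eq_one_of_three hZ hp.2.symm hxy hq.2.symm hua hux hvx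
      simp only at ho this
      rw [this, orderOf_one] at ho
      omega
    subst hxy
    simp only [mul_left_inj, mul_right_inj] at e
    cases i <;> cases j <;> simp_all
  have h := card_le_card_of_injOn f hmaps hinj
  have h2 := card_derangement_le hZ a
  simp only [card_product, card_univ, Fintype.card_bool] at h
  have hX : X.card = Fintype.card Ω - 2 := by
    simp only [X]
    rw [card_erase_of_mem (by simp [hca]), card_erase_of_mem (mem_univ _), card_univ]
    omega
  have := three_le hZ
  omega

omit [Fintype Ω] in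
/-- Every pair of points is swapped by an involution. -/
theorem exists_swap (hZ : Cfsg.IsZassenhausGroup G Ω) {a b : Ω} (hab : a ≠ b) :
    ∃ s : G, orderOf s = 2 ∧ s • a = b ∧ s • b = a := by
  obtain ⟨g, hga, hgb⟩ := two_trans hZ hab hab.symm
  have hev : 2 ∣ Nat.card G := by
    refine dvd_trans ?_ (orderOf_dvd_natCard g)
    rw [← even_iff_two_dvd]
    by_contra h
    obtain ⟨k, hk⟩ := Nat.not_even_iff_odd.1 h
    have hsq : ∀ k : ℕ, (g ^ (2 * k)) • a = a := by
      intro k
      induction k with
      | zero => simp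
      | succ k ih => rw [Nat.mul_succ, pow_add, mul_smul, pow_two, mul_smul, hga, hgb, ih]
    have h1 : g • a = a := by
      nth_rewrite 1 [← hsq k]
      rw [← mul_smul, ← pow_succ', ← hk, pow_orderOf_eq_one, one_smul]
    exact hab (h1.symm.trans hga)
  have := Fact.mk Nat.prime_two
  obtain ⟨s, hs⟩ := exists_prime_orderOf_dvd_card' 2 hev
  have := hZ.1
  obtain ⟨x, hx⟩ : ∃ x : Ω, s • x ≠ x := by
    by_contra h
    push Not at h
    have : s = 1 := FaithfulSMul.eq_of_smul_eq_smul (α := Ω) fun z => by rw [h z, one_smul]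
    rw [this, orderOf_one] at hs
    omega
  obtain ⟨k, hka, hkb⟩ := two_trans hZ (a := x) (b := s • x) (Ne.symm hx) hab
  refine ⟨k * s * k⁻¹, ?_, ?_, ?_⟩
  · rw [show k * s * k⁻¹ = MulAut.conj k s from rfl, MulEquiv.orderOf_eq, hs]
  · rw [mul_smul, mul_smul, inv_smul_eq_iff.2 hka.symm, hkb]
  · rw [mul_smul, mul_smul, inv_smul_eq_iff.2 hkb.symm, smul_smul_of_sq (sq_eq_one_of_order hs), hka]

omit [Fintype Ω] in
theorem exists_involution_of_even {a b : Ω}
    (heven : Even (Nat.card ↥(stabilizer G a ⊓ stabilizer G b))) :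
    ∃ z : G, orderOf z = 2 ∧ z • a = a ∧ z • b = b := by
  have := Fact.mk Nat.prime_two
  obtain ⟨z, hz⟩ := exists_prime_orderOf_dvd_card' 2 (even_iff_two_dvd.1 heven)
  exact ⟨z, by rw [Subgroup.orderOf_coe, hz], z.2.1, z.2.2⟩

open Classical in
/-- The involutions with two fixed points correspond two-to-one to ordered pairs of points. -/
theorem two_mul_card_fixing_involutions [Fintype G] [DecidableEq Ω] (hZ : Cfsg.IsZassenhausGroup G Ω)
    {a b : Ω} (hab : a ≠ b) (heven : Even (Nat.card ↥(stabilizer G a ⊓ stabilizer G b))) :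
    (univ.offDiag : Finset (Ω × Ω)).card =
      2 * (univ.filter fun g : G => orderOf g = 2 ∧ ∃ x y : Ω, x ≠ y ∧ g • x = x ∧ g • y = y).card := by
  obtain ⟨z, hz, hza, hzb⟩ := exists_involution_of_even heven
  let I : Finset G := univ.filter fun g => orderOf g = 2 ∧ ∃ x y : Ω, x ≠ y ∧ g • x = x ∧ g • y = y
  let P : Finset (Ω × Ω) := univ.offDiag
  have hconj : ∀ p ∈ P, ∃ k : G, k • a = p.1 ∧ k • b = p.2 := fun p hp =>
    two_trans hZ hab (mem_offDiag.1 hp).2.2
  show P.card = 2 * I.card
  rw [mul_comm]
  have hex : ∀ p ∈ P, ∃ u : G, orderOf u = 2 ∧ u • p.1 = p.1 ∧ u • p.2 = p.2 := by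
    intro p hp
    obtain ⟨k, h1, h2⟩ := hconj p hp
    refine ⟨k * z * k⁻¹, ?_, ?_, ?_⟩
    · rw [show k * z * k⁻¹ = MulAut.conj k z from rfl, MulEquiv.orderOf_eq, hz]
    · rw [mul_smul, mul_smul, inv_smul_eq_iff.2 h1.symm, hza, h1]
    · rw [mul_smul, mul_smul, inv_smul_eq_iff.2 h2.symm, hzb, h2]
  choose! u hu hu1 hu2 using hex
  rw [card_eq_sum_card_fiberwise (f := u) (t := I)]
  · rw [sum_congr rfl (g := fun _ => 2)]
    · simp
    · intro g hg
      simp only [I, mem_filter, mem_univ, true_and] at hg
      obtain ⟨hg2, x, y, hxy, hgx, hgy⟩ := hg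
      have hmem : ∀ {x y : Ω}, x ≠ y → (x, y) ∈ P := fun h => by simp [P, h]
      have hfix : ∀ e, g • e = e → e = x ∨ e = y := by
        intro e he
        by_contra hne
        rw [not_or] at hne
        have := eq_one_of_three hZ hxy (Ne.symm hne.2) (Ne.symm hne.1) hgx hgy he
        rw [this, orderOf_one] at hg2
        omega
      have huxy : ∀ {x' y' : Ω}, x' ≠ y' → g • x' = x' → g • y' = y' → u (x', y') = g :=
        fun h h1 h2 => involution_unique hZ h (hu _ (hmem h)) (hu1 _ (hmem h)) (hu2 _ (hmem h)) hg2 h1 h2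
      rw [show (P.filter fun p => u p = g) = {(x, y), (y, x)} from ?_]
      · rw [card_pair (fun e => hxy (congrArg Prod.fst e))]
      ext p
      simp only [mem_filter, mem_insert, mem_singleton]
      constructor
      · rintro ⟨hp, hpg⟩
        have h1 := hu1 p hp
        have h2 := hu2 p hp
        rw [hpg] at h1 h2
        have hne : p.1 ≠ p.2 := (mem_offDiag.1 hp).2.2
        obtain ⟨p1, p2⟩ := p
        simp only at hne h1 h2
        rcases hfix _ h1 with rfl | rfl <;> rcases hfix _ h2 with rfl | rfl <;> simp_all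
      · rintro (rfl | rfl)
        · exact ⟨hmem hxy, huxy hxy hgx hgy⟩
        · exact ⟨hmem hxy.symm, huxy hxy.symm hgy hgx⟩
  · intro p hp
    simp only [I, coe_filter, mem_univ, true_and, Set.mem_ofPred_eq]
    exact ⟨hu p hp, p.1, p.2, (mem_offDiag.1 hp).2.2, hu1 p hp, hu2 p hp⟩

open Classical in
/-- The involutions with two fixed points swapping a given pair number `(|Ω| - 2) / 2`. -/
theorem two_mul_card_swapping [Fintype G] [DecidableEq Ω] (hZ : Cfsg.IsZassenhausGroup G Ω)
    {a b : Ω} (hab : a ≠ b) (heven : Even (Nat.card ↥(stabilizer G a ⊓ stabilizer G b))) :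
    2 * (univ.filter fun g : G =>
      (orderOf g = 2 ∧ ∃ x y : Ω, x ≠ y ∧ g • x = x ∧ g • y = y) ∧ g • a = b).card =
      Fintype.card Ω - 2 := by
  let I : Finset G := univ.filter fun g => orderOf g = 2 ∧ ∃ x y : Ω, x ≠ y ∧ g • x = x ∧ g • y = y
  let P : Finset (Ω × Ω) := univ.offDiag
  let N := (univ.filter fun g : G =>
      (orderOf g = 2 ∧ ∃ x y : Ω, x ≠ y ∧ g • x = x ∧ g • y = y) ∧ g • a = b).card
  show 2 * N = _
  have hsum : P.card * N = I.card * (Fintype.card Ω - 2) := by
    have h1 : ∑ g ∈ I, (P.filter fun p => g • p.1 = p.2).card = I.card * (Fintype.card Ω - 2) := by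
      rw [sum_congr rfl (g := fun _ => Fintype.card Ω - 2)]
      · simp
      · intro g hg
        simp only [I, mem_filter, mem_univ, true_and] at hg
        obtain ⟨hg2, x, y, hxy, hgx, hgy⟩ := hg
        have hg1 : g ≠ 1 := fun e => by rw [e, orderOf_one] at hg2; omega
        have h2 : 2 ≤ (univ.filter fun x : Ω => g • x = x).card :=
          Finset.one_lt_card.2 ⟨x, by simp [hgx], y, by simp [hgy], hxy⟩
        have h3 := card_fixed_le hZ hg1
        have h4 := card_filter_add_card_filter_not (s := (univ : Finset Ω)) (p := fun x => g • x = x)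
        rw [card_univ] at h4
        rw [show (P.filter fun p => g • p.1 = p.2).card = (univ.filter fun x : Ω => ¬ g • x = x).card from
          card_bij' (fun p _ => p.1) (fun x _ => (x, g • x))
            (fun p hp => by
              simp only [P, mem_filter, mem_offDiag, mem_univ, true_and] at hp ⊢
              rw [hp.2]; exact Ne.symm hp.1)
            (fun x hx => by
              simp only [P, mem_filter, mem_offDiag, mem_univ, true_and] at hx ⊢
              exact ⟨Ne.symm hx, trivial⟩)
            (fun p hp => by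
              simp only [P, mem_filter] at hp
              exact Prod.ext rfl hp.2)
            (fun x _ => rfl)]
        omega
    rw [← h1]
    simp only [card_filter]
    rw [sum_comm]
    simp only [← card_filter]
    rw [sum_congr rfl (g := fun _ => N)]
    · simp
    · intro p hp
      obtain ⟨k, hk1, hk2⟩ := two_trans hZ hab (mem_offDiag.1 hp).2.2
      refine card_bij' (fun g _ => k⁻¹ * g * k) (fun g _ => k * g * k⁻¹) ?_ ?_ ?_ ?_
      · intro g hg
        simp only [I, mem_filter, mem_univ, true_and] at hg ⊢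
        obtain ⟨⟨h2, x, y, hxy, hx, hy⟩, hgp⟩ := hg
        refine ⟨⟨?_, k⁻¹ • x, k⁻¹ • y, fun e => hxy (smul_left_cancel _ e), ?_, ?_⟩, ?_⟩
        · rw [show k⁻¹ * g * k = MulAut.conj k⁻¹ g by simp, MulEquiv.orderOf_eq, h2]
        · simp [mul_smul, hx]
        · simp [mul_smul, hy]
        · rw [mul_smul, mul_smul, hk1, hgp, inv_smul_eq_iff, hk2]
      · intro g hg
        simp only [I, mem_filter, mem_univ, true_and] at hg ⊢
        obtain ⟨⟨h2, x, y, hxy, hx, hy⟩, hga⟩ := hg
        refine ⟨⟨?_, k • x, k • y, fun e => hxy (smul_left_cancel _ e), ?_, ?_⟩, ?_⟩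
        · rw [show k * g * k⁻¹ = MulAut.conj k g from rfl, MulEquiv.orderOf_eq, h2]
        · simp [mul_smul, hx]
        · simp [mul_smul, hy]
        · rw [mul_smul, mul_smul, inv_smul_eq_iff.2 hk1.symm, hga, hk2]
      · intro g _; group
      · intro g _; group
  rw [show P.card = 2 * I.card from two_mul_card_fixing_involutions hZ hab heven,
    mul_comm 2 I.card, mul_assoc] at hsum
  obtain ⟨z, hz, hza, hzb⟩ := exists_involution_of_even heven
  have : 0 < I.card := card_pos.2 ⟨z, by
    simp only [I, mem_filter, mem_univ, true_and]; exact ⟨hz, a, b, hab, hza, hzb⟩⟩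
  exact Nat.eq_of_mul_eq_mul_left this hsum

/-- If the two-point stabilisers have even order `d` then `|Ω| - 2 ≤ 2 d`. -/
theorem degree_le_of_even (hZ : Cfsg.IsZassenhausGroup G Ω) {a b : Ω} (hab : a ≠ b)
    (heven : Even (Nat.card ↥(stabilizer G a ⊓ stabilizer G b))) :
    Fintype.card Ω - 2 ≤ 2 * Nat.card ↥(stabilizer G a ⊓ stabilizer G b) := by
  classical
  have := Fintype.ofFinite G
  obtain ⟨z, hz, hza, hzb⟩ := exists_involution_of_even heven
  let I : Finset G := univ.filter fun g => orderOf g = 2 ∧ ∃ x y : Ω, x ≠ y ∧ g • x = x ∧ g • y = y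
  let P : Finset (Ω × Ω) := univ.offDiag
  have hPc : P.card = Fintype.card Ω * Fintype.card Ω - Fintype.card Ω := by
    simp [P, offDiag_card]
  have hconj : ∀ p ∈ P, ∃ k : G, k • a = p.1 ∧ k • b = p.2 := fun p hp =>
    two_trans hZ hab (mem_offDiag.1 hp).2.2
  have hI : P.card = 2 * I.card := by
    convert two_mul_card_fixing_involutions hZ hab heven
  have hlow : (I.sigma fun g => univ.filter fun x : Ω => g • x ≠ x).card
      = I.card * (Fintype.card Ω - 2) := by
    rw [card_sigma, sum_congr rfl (g := fun _ => Fintype.card Ω - 2)]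
    · simp
    · intro g hg
      simp only [I, mem_filter, mem_univ, true_and] at hg
      obtain ⟨hg2, x, y, hxy, hgx, hgy⟩ := hg
      have hg1 : g ≠ 1 := fun e => by rw [e, orderOf_one] at hg2; omega
      have h2 : 2 ≤ (univ.filter fun x : Ω => g • x = x).card :=
        Finset.one_lt_card.2 ⟨x, by simp [hgx], y, by simp [hgy], hxy⟩
      have h3 := card_fixed_le hZ hg1
      have h4 := card_filter_add_card_filter_not (s := (univ : Finset Ω)) (p := fun x => g • x = x)
      rw [card_univ] at h4
      simp only [ne_eq]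
      omega
  let F : Finset (G × (Ω × Ω)) := ((univ : Finset G) ×ˢ P).filter fun q => q.1 • q.2.1 = q.2.2 ∧ q.1 ∈ I
  have hup : (I.sigma fun g => univ.filter fun x : Ω => g • x ≠ x).card
      ≤ P.card * Nat.card ↥(stabilizer G a ⊓ stabilizer G b) := by
    have hle : (I.sigma fun g => univ.filter fun x : Ω => g • x ≠ x).card ≤ F.card := by
      refine card_le_card_of_injOn (fun q => (q.1, (q.2, q.1 • q.2))) ?_ ?_
      · rintro ⟨g, x⟩ hq
        simp only [coe_sigma, Set.mem_sigma_iff, mem_coe, mem_filter, mem_univ, true_and] at hq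
        simp [F, P, hq.1, Ne.symm hq.2]
      · rintro ⟨g, x⟩ - ⟨g', x'⟩ - h
        simp only [Prod.mk.injEq] at h
        obtain ⟨rfl, rfl, -⟩ := h
        rfl
    refine hle.trans ?_
    rw [card_eq_sum_card_fiberwise (f := Prod.snd) (t := P) (fun q hq => (mem_product.1 (mem_filter.1 hq).1).2),
      ← smul_eq_mul]
    refine (sum_le_card_nsmul _ _ _ fun p hp => ?_)
    obtain ⟨k, hk1, hk2⟩ := hconj p hp
    have hnat : Nat.card ↥(stabilizer G a ⊓ stabilizer G b) = (univ.filter fun g : G => g • a = a ∧ g • b = b).card := by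
      rw [← Fintype.card_subtype, ← Nat.card_eq_fintype_card]
      rfl
    rw [hnat]
    obtain ⟨v, -, hv1, hv2⟩ := exists_swap hZ hab
    refine card_le_card_of_injOn (fun q => v * (k⁻¹ * q.1 * k)) ?_ ?_
    · rintro ⟨g, p'⟩ hq
      simp only [F, coe_filter, mem_filter, mem_product, mem_univ, true_and, Set.mem_ofPred_eq, I] at hq
      obtain ⟨⟨-, hg1, hg2, -⟩, rfl⟩ := hq
      have hgb : g • p'.2 = p'.1 := by
        rw [← hg1, smul_smul_of_sq (sq_eq_one_of_order hg2)]
      simp only [coe_filter, mem_univ, true_and, Set.mem_ofPred_eq, mul_smul]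
      rw [hk1, hg1, inv_smul_eq_iff.2 hk2.symm, hv2, hk2, hgb, inv_smul_eq_iff.2 hk1.symm, hv1]
      exact ⟨rfl, rfl⟩
    · rintro ⟨g, p'⟩ hq ⟨g', p''⟩ hq' h
      simp only [F, coe_filter, mem_filter, mem_product, Set.mem_ofPred_eq] at hq hq'
      obtain ⟨-, rfl⟩ := hq
      obtain ⟨-, rfl⟩ := hq'
      simpa using h
  rw [hlow, hI] at hup
  have h3 := three_le hZ
  have hIpos : 0 < I.card := by
    refine card_pos.2 ⟨z, ?_⟩
    simp only [I, mem_filter, mem_univ, true_and]
    exact ⟨hz, a, b, hab, hza, hzb⟩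
  rw [mul_comm 2 I.card, mul_assoc] at hup
  exact Nat.le_of_mul_le_mul_left hup hIpos

/-- An element fixing a point and swapping two others is not the product of distinct involutions
with a second fixed point: products of two such involutions fix no further point. -/
theorem involution_mul_derangement (hZ : Cfsg.IsZassenhausGroup G Ω) {a b c : Ω} (hb : b ≠ a)
    (hc : c ≠ a) {u w : G} (hu : orderOf u = 2) (hua : u • a = a) (hub : u • b = b)
    (hw : orderOf w = 2) (hwa : w • a = a) (hwc : w • c = c) :
    u * w = 1 ∨ ((u * w) • a = a ∧ ∀ e, (u * w) • e = e → e = a) := by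
  by_cases huw : u = w
  · exact Or.inl (by rw [huw]; exact sq_eq_one_of_order hw)
  refine Or.inr ⟨by rw [mul_smul, hwa, hua], fun e he => ?_⟩
  by_contra hea
  rw [mul_smul] at he
  have hue : u • e = w • e := by
    conv_lhs => rw [← he]
    exact smul_smul_of_sq (sq_eq_one_of_order hu) _
  have hfix : ∀ {v : G} {x : Ω}, orderOf v = 2 → x ≠ a → v • a = a → v • x = x → v • e = e → e = x := by
    intro v x hv hx hva hvx hve
    by_contra hex
    have := eq_one_of_three hZ hx.symm (Ne.symm hex) (Ne.symm hea) hva hvx hve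
    rw [this, orderOf_one] at hv
    omega
  rcases eq_or_ne (w • e) e with h | h
  · have h' : u • e = e := hue.trans h
    have e1 := (hfix hu hb hua hub h').symm.trans (hfix hw hc hwa hwc h)
    subst e1
    exact huw (involution_unique hZ hb.symm hu hua hub hw hwa hwc)
  · have hfix1 : (u * w) • (w • e) = w • e := by
      rw [mul_smul, smul_smul_of_sq (sq_eq_one_of_order hw), hue]
    have := eq_one_of_three hZ (Ne.symm hea) h.symm
      (fun e' => hea (smul_left_cancel w (e'.symm.trans hwa.symm)))
      (show (u * w) • a = a by rw [mul_smul, hwa, hua]) (show (u * w) • e = e by rw [mul_smul, he]) hfix1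
    refine huw ?_
    rw [← mul_one u, ← sq_eq_one_of_order hw, ← mul_assoc, this, one_mul]

/-- With two-point stabilisers of even order, a point stabiliser has an abelian subgroup regular on
the remaining points, inverted by each involution of the stabiliser with a second fixed point. -/
theorem exists_kernel_of_even (hZ : Cfsg.IsZassenhausGroup G Ω) {a b : Ω} (hab : a ≠ b)
    (heven : Even (Nat.card ↥(stabilizer G a ⊓ stabilizer G b))) :
    ∃ K : Subgroup G, (∀ k ∈ K, k • a = a) ∧ (∀ x, x ≠ a → ∃! k : K, (k : G) • b = x) ∧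
      IsMulCommutative K ∧ ∀ h : G, h • a = a → ∀ k ∈ K, h * k * h⁻¹ ∈ K := by
  classical
  have := Fintype.ofFinite G
  obtain ⟨z, hz, hza, hzb⟩ := exists_involution_of_even heven
  let D : Finset G := insert 1
    (univ.filter fun g : G => g • a = a ∧ g ≠ 1 ∧ ∀ c, g • c = c → c = a)
  have hDc : D.card ≤ Fintype.card Ω - 1 := by
    have := card_insert_le (1 : G) (univ.filter fun g : G => g • a = a ∧ g ≠ 1 ∧ ∀ c, g • c = c → c = a)
    have := card_derangement_le hZ a
    have := three_le hZ
    show D.card ≤ _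
    simp only [D]
    omega
  have hD : ∀ g, g = 1 ∨ (g • a = a ∧ ∀ c, g • c = c → c = a) → g ∈ D := by
    rintro g (h | h)
    · simp [D, h]
    · by_cases h1 : g = 1
      · simp [D, h1]
      · exact mem_insert_of_mem (mem_filter.2 ⟨mem_univ _, h.1, h1, h.2⟩)
  have hconj : ∀ c : Ω, c ≠ a → ∃ t : G, orderOf t = 2 ∧ t • a = a ∧ t • c = c := by
    intro c hc
    obtain ⟨k, hka, hkb⟩ := two_trans hZ hab hc.symm
    refine ⟨k * z * k⁻¹, ?_, ?_, ?_⟩
    · rw [show k * z * k⁻¹ = MulAut.conj k z from rfl, MulEquiv.orderOf_eq, hz]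
    · rw [mul_smul, mul_smul, inv_smul_eq_iff.2 hka.symm, hza, hka]
    · rw [mul_smul, mul_smul, inv_smul_eq_iff.2 hkb.symm, hzb, hkb]
  choose! t ht hta htc using hconj
  let X : Finset Ω := univ.erase a
  have hX : X.card = Fintype.card Ω - 1 := by simp [X]
  have ht_inj : ∀ x ∈ X, ∀ y ∈ X, t x = t y → x = y := by
    intro x hx y hy h
    by_contra hxy
    have hx' := (mem_erase.1 hx).1
    have hy' := (mem_erase.1 hy).1
    have := eq_one_of_three hZ (Ne.symm hx') hxy (Ne.symm hy') (hta x hx') (htc x hx') (by rw [h]; exact htc y hy')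
    have h2 := ht x hx'
    rw [this, orderOf_one] at h2
    omega
  have hl : D = X.image fun c => z * t c := by
    refine (eq_of_subset_of_card_le (fun g hg => ?_) ?_).symm
    · obtain ⟨c, hc, rfl⟩ := mem_image.1 hg
      exact hD _ (involution_mul_derangement hZ hab.symm (mem_erase.1 hc).1 hz hza hzb (ht c (mem_erase.1 hc).1)
        (hta c (mem_erase.1 hc).1) (htc c (mem_erase.1 hc).1))
    · rw [card_image_of_injOn (fun x hx y hy h => ht_inj x hx y hy (mul_left_cancel h)), hX]
      exact hDc
  have hr : D = X.image fun c => t c * z := by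
    refine (eq_of_subset_of_card_le (fun g hg => ?_) ?_).symm
    · obtain ⟨c, hc, rfl⟩ := mem_image.1 hg
      exact hD _ (involution_mul_derangement hZ (mem_erase.1 hc).1 hab.symm (ht c (mem_erase.1 hc).1)
        (hta c (mem_erase.1 hc).1) (htc c (mem_erase.1 hc).1) hz hza hzb)
    · rw [card_image_of_injOn (fun x hx y hy h => ht_inj x hx y hy (mul_right_cancel h)), hX]
      exact hDc
  have hDa : ∀ g ∈ D, g • a = a := by
    intro g hg
    rcases mem_insert.1 hg with rfl | hg
    · exact one_smul G a
    · exact (mem_filter.1 hg).2.1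
  have hDfix : ∀ g ∈ D, g • b = b → g = 1 := by
    intro g hg hgb
    rcases mem_insert.1 hg with h | hg
    · exact h
    · exact absurd ((mem_filter.1 hg).2.2.2 b hgb) hab.symm
  have hzinv : ∀ g ∈ D, z * g * z = g⁻¹ := by
    intro g hg
    rw [hl] at hg
    obtain ⟨c, hc, rfl⟩ := mem_image.1 hg
    rw [eq_inv_iff_mul_eq_one]
    calc z * (z * t c) * z * (z * t c) = (z * z) * t c * (z * z) * t c := by group
      _ = 1 := by rw [sq_eq_one_of_order hz, one_mul, mul_one, sq_eq_one_of_order (ht c (mem_erase.1 hc).1)]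
  let K : Subgroup G :=
    { carrier := {g | g ∈ D}
      one_mem' := mem_insert_self _ _
      mul_mem' := by
        intro g g' hg hg'
        rw [Set.mem_ofPred_eq] at hg hg' ⊢
        rw [hr] at hg
        rw [hl] at hg'
        obtain ⟨c, hc, rfl⟩ := mem_image.1 hg
        obtain ⟨d, hd, rfl⟩ := mem_image.1 hg'
        rw [show t c * z * (z * t d) = t c * t d by
          calc t c * z * (z * t d) = t c * (z * z) * t d := by group
            _ = _ := by rw [sq_eq_one_of_order hz, mul_one]]
        exact hD _ (involution_mul_derangement hZ (mem_erase.1 hc).1 (mem_erase.1 hd).1 (ht c (mem_erase.1 hc).1)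
          (hta c (mem_erase.1 hc).1) (htc c (mem_erase.1 hc).1) (ht d (mem_erase.1 hd).1)
          (hta d (mem_erase.1 hd).1) (htc d (mem_erase.1 hd).1))
      inv_mem' := by
        intro g hg
        rw [Set.mem_ofPred_eq] at hg ⊢
        refine hD _ ?_
        rcases mem_insert.1 hg with rfl | hg
        · exact Or.inl inv_one
        · obtain ⟨-, h1, -, h2⟩ := mem_filter.1 hg
          exact Or.inr ⟨inv_smul_eq_iff.2 h1.symm, fun c hc => h2 c (inv_smul_eq_iff.1 hc).symm⟩ }
  have hne : ∀ k ∈ K, k • b ≠ a := fun k hk h => hab.symm (smul_left_cancel k (h.trans (hDa k hk).symm))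
  have hDcard : D.card = X.card := by
    rw [hl, card_image_of_injOn (fun x hx y hy h => ht_inj x hx y hy (mul_left_cancel h))]
  have hinj : ∀ g ∈ D, ∀ g' ∈ D, g • b = g' • b → g = g' := by
    intro g hg g' hg' h
    have : g'⁻¹ * g = 1 := hDfix _ (K.mul_mem (K.inv_mem hg') hg) (by rw [mul_smul, h, inv_smul_smul])
    exact (inv_mul_eq_one.1 this).symm
  have himg : D.image (fun g => g • b) = X := by
    refine eq_of_subset_of_card_le (fun x hx => ?_) ?_
    · obtain ⟨g, hg, rfl⟩ := mem_image.1 hx
      exact mem_erase.2 ⟨hne g hg, mem_univ _⟩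
    · rw [card_image_of_injOn (fun g hg g' hg' h => hinj g hg g' hg' h), hDcard]
  refine ⟨K, hDa, fun x hx => ?_, ⟨⟨fun g g' => Subtype.ext ?_⟩⟩, ?_⟩
  · have hxX : x ∈ D.image (fun g => g • b) := himg ▸ mem_erase.2 ⟨hx, mem_univ _⟩
    obtain ⟨g, hg, rfl⟩ := mem_image.1 hxX
    exact ⟨⟨g, hg⟩, rfl, fun k hk => Subtype.ext (hinj k k.2 g hg hk)⟩
  · show (g : G) * g' = g' * g
    have h := hzinv _ (K.mul_mem g.2 g'.2)
    rw [show z * ((g : G) * g') * z = (z * g * z) * (z * g' * z) by
      calc z * ((g : G) * g') * z = z * g * 1 * g' * z := by group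
        _ = z * g * (z * z) * g' * z := by rw [sq_eq_one_of_order hz]
        _ = _ := by group, hzinv _ g.2, hzinv _ g'.2, ← mul_inv_rev] at h
    exact (inv_injective h).symm
  · intro h hh k hk
    show h * k * h⁻¹ ∈ D
    refine hD _ ?_
    rcases mem_insert.1 hk with rfl | hk
    · exact Or.inl (by group)
    · obtain ⟨-, h1, -, h2⟩ := mem_filter.1 hk
      refine Or.inr ⟨by rw [mul_smul, mul_smul, inv_smul_eq_iff.2 hh.symm, h1, hh], fun c hc => ?_⟩
      rw [mul_smul, mul_smul, smul_eq_iff_eq_inv_smul] at hc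
      rw [← smul_inv_smul h c, h2 _ hc, hh]

end Cfsg.Agent.Perm.Zass
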