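import Cfsg.Agent.Lib.Perm.RegularNormal

/-!
# Finite sharply 2-transitive groups

The fixed-point-free elements together with the identity form an abelian, regular, normal
subgroup; the degree is a prime power (Frobenius' theorem is not needed).
-/

namespace Cfsg.Agent.Perm

open MulAction

variable {G α : Type*} [Group G] [MulAction G α]

/-- The identity or fixed-point-free. -/
def IsKernelElt (α : Type*) {G : Type*} [Group G] [MulAction G α] (g : G) : Prop :=
  g = 1 ∨ ∀ a : α, g • a ≠ a

/-- In a finite sharply 2-transitive group there are exactly `n` elements that are trivial or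
fixed-point-free. -/
theorem card_kernelElt [Finite α] [Nontrivial α] [IsMultiplyPretransitive G α 2]
    (hsharp : ∀ x : Fin 2 ↪ α, stabilizer G x = ⊥) :
    Finite G ∧ Nat.card {g : G // IsKernelElt α g} = Nat.card α := by
  have ht : IsPretransitive G α := isPretransitive_of_is_two_pretransitive
  obtain ⟨a, b, hab⟩ := exists_pair_ne α
  let x₀ : Fin 2 ↪ α := ⟨![a, b], by
    intro i j; fin_cases i <;> fin_cases j <;> simp [hab, hab.symm]⟩
  have hG := card_eq_of_sharply (hsharp x₀)
  have hn : 2 ≤ Nat.card α := Finite.one_lt_card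
  have hd : (Nat.card α).descFactorial 2 = Nat.card α * (Nat.card α - 1) := by
    simp [Nat.descFactorial_succ, mul_comm]
  have hG' : Nat.card G = Nat.card α * (Nat.card α - 1) := hG.trans hd
  have hfin : Finite G := Nat.finite_of_card_ne_zero (by
    rw [hG']; exact Nat.mul_ne_zero (by omega) (by omega))
  refine ⟨hfin, ?_⟩
  let f : {g : G // ¬ IsKernelElt α g} → Σ c : α, {g : stabilizer G c // g ≠ 1} := fun g =>
    have h := not_or.1 g.2
    have hc : ∃ c, (g : G) • c = c := by
      simpa only [not_forall, ne_eq, not_not] using h.2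
    ⟨hc.choose, ⟨⟨g, hc.choose_spec⟩, fun e => h.1 (congrArg Subtype.val e)⟩⟩
  have hfb : Function.Bijective f := by
    constructor
    · intro g g' h
      exact Subtype.ext (congrArg (fun s : Σ c : α, {g : stabilizer G c // g ≠ 1} => (s.2.1 : G)) h)
    · rintro ⟨c, ⟨g, hg⟩, hg1⟩
      have hg1' : g ≠ 1 := fun e => hg1 (Subtype.ext e)
      have hk : ¬ IsKernelElt α g := by
        rintro (e | e)
        · exact hg1' e
        · exact e c hg
      refine ⟨⟨g, hk⟩, ?_⟩
      have key : ∀ s : Σ c : α, {g : stabilizer G c // g ≠ 1}, (s.2.1 : G) = g →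
          s = ⟨c, ⟨⟨g, hg⟩, hg1⟩⟩ := by
        rintro ⟨d, ⟨g', hg'⟩, hg1''⟩ (rfl : g' = g)
        obtain rfl : d = c := by
          by_contra hdc
          exact hg1' (eq_one_of_fixes_two hsharp hdc hg' hg)
        rfl
      exact key _ rfl
  have := Fintype.ofFinite α
  have hst : ∀ c : α, Nat.card {g : stabilizer G c // g ≠ 1} = Nat.card α - 2 := by
    intro c
    have h1 := card_mul_card_stabilizer (G := G) c
    rw [hG'] at h1
    have h2 := Nat.eq_of_mul_eq_mul_left (by omega) h1
    have := Fintype.ofFinite (stabilizer G c)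
    classical
    rw [Nat.card_eq_fintype_card, Fintype.card_subtype_compl, Fintype.card_subtype_eq,
      ← Nat.card_eq_fintype_card, h2]
    omega
  have hnc : Nat.card {g : G // ¬ IsKernelElt α g} = Nat.card α * (Nat.card α - 2) := by
    rw [Nat.card_congr (Equiv.ofBijective f hfb), Nat.card_sigma, Finset.sum_congr rfl
      fun c _ => hst c, Finset.sum_const, Finset.card_univ, smul_eq_mul,
      ← Nat.card_eq_fintype_card]
  have := Fintype.ofFinite G
  classical
  have h3 := Fintype.card_subtype_compl (fun g : G => IsKernelElt α g)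
  rw [← Nat.card_eq_fintype_card, ← Nat.card_eq_fintype_card, ← Nat.card_eq_fintype_card,
    hG', hnc] at h3
  have hle : Nat.card {g : G // IsKernelElt α g} ≤ Nat.card α * (Nat.card α - 1) :=
    hG' ▸ Finite.card_subtype_le _
  obtain ⟨m, hm⟩ : ∃ m, Nat.card α = m + 2 := ⟨Nat.card α - 2, by omega⟩
  have e1 : m + 2 - 1 = m + 1 := by omega
  rw [hm] at h3 hle ⊢
  rw [Nat.add_sub_cancel, e1] at h3
  rw [e1] at hle
  have : (m + 2) * (m + 1) = (m + 2) * m + (m + 2) := by ring
  omega

/-- A finite sharply 2-transitive group has a regular, elementary abelian normal subgroup, made of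
the identity and the fixed-point-free elements, and prime power degree. -/
theorem exists_kernel_of_sharply_two [Finite α] [Nontrivial α] [FaithfulSMul G α]
    [IsMultiplyPretransitive G α 2] (hsharp : ∀ x : Fin 2 ↪ α, stabilizer G x = ⊥) :
    ∃ K : Subgroup G, K.Normal ∧ IsPretransitive K α ∧ (∀ a : α, stabilizer K a = ⊥) ∧
      (∀ g : G, g ∈ K ↔ IsKernelElt α g) ∧ IsMulCommutative K ∧
      ∃ p j : ℕ, p.Prime ∧ 1 ≤ j ∧ Nat.card α = p ^ j ∧ Nat.card K = p ^ j ∧
        ∀ x ∈ K, x ^ p = 1 := by
  obtain ⟨hfin, hcard⟩ := card_kernelElt (G := G) hsharp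
  have hn : 1 < Nat.card α := Finite.one_lt_card
  have ht : IsPretransitive G α := isPretransitive_of_is_two_pretransitive
  obtain ⟨p, hp, hpn⟩ := Nat.exists_prime_and_dvd hn.ne'
  have : Fact p.Prime := ⟨hp⟩
  obtain ⟨a, -⟩ := exists_pair_ne α
  obtain ⟨x, hx⟩ := exists_prime_orderOf_dvd_card' (G := G) p
    (hpn.trans (Dvd.intro _ (card_mul_card_stabilizer (G := G) a)))
  have hx1 : x ≠ 1 := fun e => hp.ne_one (by rw [← hx, e, orderOf_one])
  have hxfree : ∀ c : α, x • c ≠ c := by
    intro c hc
    let X := Subgroup.zpowers x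
    have hX : IsPGroup p X := IsPGroup.of_card (n := 1) (by rw [Nat.card_zpowers, hx, pow_one])
    obtain ⟨d, hd, hdc⟩ := hX.exists_fixed_point_of_prime_dvd_card_of_fixed_point α hpn
      (a := c) (fun ⟨g, hg⟩ => by
        obtain ⟨i, rfl⟩ := Subgroup.mem_zpowers_iff.1 hg
        exact (stabilizer G c).zpow_mem hc i)
    exact hx1 (eq_one_of_fixes_two hsharp hdc hc (hd ⟨x, Subgroup.mem_zpowers x⟩))
  have hxk : ∀ g : G, IsKernelElt α (g * x * g⁻¹) := by
    intro g
    refine Or.inr fun c hc => hxfree (g⁻¹ • c) ?_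
    rwa [mul_smul, mul_smul, smul_eq_iff_eq_inv_smul] at hc
  let C := Subgroup.centralizer ({x} : Set G)
  have hCmem : ∀ g, g ∈ C ↔ x * g = g * x := fun g => by
    simp [C, Subgroup.mem_centralizer_iff]
  have hsemi : ∀ c : α, stabilizer C c = ⊥ := fun c => stabilizer_subgroup_eq_bot_iff.2
    fun g hg hgc => eq_one_of_fixes_two hsharp (hxfree c).symm hgc (by
      rw [← mul_smul, ← (hCmem g).1 hg, mul_smul, hgc])
  have hCcard : Nat.card C ≤ Nat.card α :=
    Nat.card_le_card_of_injective (fun n : C => (n : G) • a) fun m n hmn =>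
      Subtype.ext (eq_of_smul_eq (hsemi a) m.2 n.2 hmn)
  have := Fintype.ofFinite G
  classical
  let S : Finset G := Finset.univ.filter fun g => IsKernelElt α g ∧ g ≠ 1
  have hS : S.card + 1 = Nat.card α := by
    rw [← hcard, Nat.card_eq_fintype_card, Fintype.card_subtype,
      ← Finset.card_insert_of_notMem (a := (1 : G)) (s := S) (by simp [S])]
    congr 1
    ext g
    constructor
    · intro h
      rcases Finset.mem_insert.1 h with rfl | h
      · exact Finset.mem_filter.2 ⟨Finset.mem_univ _, Or.inl rfl⟩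
      · exact Finset.mem_filter.2 ⟨Finset.mem_univ _, (Finset.mem_filter.1 h).2.1⟩
    · intro h
      by_cases hg : g = 1
      · exact Finset.mem_insert.2 (Or.inl hg)
      · exact Finset.mem_insert.2
          (Or.inr (Finset.mem_filter.2 ⟨Finset.mem_univ _, (Finset.mem_filter.1 h).2, hg⟩))
  let cl : Finset G := Finset.univ.image fun g => g * x * g⁻¹
  have hcl : cl ⊆ S := by
    intro y hy
    obtain ⟨g, -, rfl⟩ := Finset.mem_image.1 hy
    exact Finset.mem_filter.2 ⟨Finset.mem_univ _, hxk g, by simpa using hx1⟩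
  have hclcard : Nat.card G ≤ cl.card * Nat.card C := by
    rw [Nat.card_eq_fintype_card, ← Finset.card_univ]
    refine le_trans (Finset.card_le_mul_card_image (Finset.univ : Finset G) (Nat.card C)
      fun y hy => ?_) (le_of_eq (mul_comm _ _))
    obtain ⟨g, -, rfl⟩ := Finset.mem_image.1 hy
    rw [← Nat.card_eq_finsetCard]
    refine Nat.card_le_card_of_injective
      (fun h => (⟨g⁻¹ * h.1, (hCmem _).2 ?_⟩ : C))
      (fun u v huv => Subtype.ext (mul_left_cancel (congrArg Subtype.val huv)))
    have := (Finset.mem_filter.1 h.2).2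
    calc x * (g⁻¹ * h.1) = g⁻¹ * (g * x * g⁻¹) * h.1 := by group
      _ = g⁻¹ * (h.1 * x * h.1⁻¹) * h.1 := by rw [this]
      _ = g⁻¹ * h.1 * x := by group
  have hGc := card_eq_of_sharply (G := G) (α := α) (k := 2)
    (hsharp ⟨![a, x • a], by intro i j; fin_cases i <;> fin_cases j <;> simp [hxfree a, (hxfree a).symm]⟩)
  have hd : (Nat.card α).descFactorial 2 = Nat.card α * (Nat.card α - 1) := by
    simp [Nat.descFactorial_succ, mul_comm]
  have hGc' : Nat.card G = Nat.card α * (Nat.card α - 1) := hGc.trans hd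
  have hle1 : cl.card ≤ Nat.card α - 1 := by
    have := Finset.card_le_card hcl; omega
  have hC : Nat.card C = Nat.card α := by
    refine le_antisymm hCcard (Nat.le_of_mul_le_mul_left ?_ (show 0 < Nat.card α - 1 by omega))
    calc (Nat.card α - 1) * Nat.card α = Nat.card G := by rw [hGc', mul_comm]
      _ ≤ cl.card * Nat.card C := hclcard
      _ ≤ (Nat.card α - 1) * Nat.card C := Nat.mul_le_mul_right _ hle1
  have hclS : cl = S := by
    refine Finset.eq_of_subset_of_card_le hcl ?_
    have h1 : (Nat.card α - 1) * Nat.card α ≤ cl.card * Nat.card α := by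
      calc (Nat.card α - 1) * Nat.card α = Nat.card G := by rw [hGc', mul_comm]
        _ ≤ cl.card * Nat.card C := hclcard
        _ = cl.card * Nat.card α := by rw [hC]
    have := Nat.le_of_mul_le_mul_right h1 (by omega)
    omega
  have hCK : ∀ g, g ∈ C ↔ IsKernelElt α g := by
    have hsub : ∀ g : C, IsKernelElt α (g : G) := fun g => or_iff_not_imp_left.2 fun hg c hc =>
      hg (stabilizer_subgroup_eq_bot_iff.1 (hsemi c) g g.2 hc)
    have hbij : Function.Bijective
        (fun g : C => (⟨g, hsub g⟩ : {g : G // IsKernelElt α g})) :=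
      (Nat.bijective_iff_injective_and_card _).2
        ⟨fun u v huv => Subtype.ext (congrArg Subtype.val huv :), by rw [hC, hcard]⟩
    refine fun g => ⟨fun hg => hsub ⟨g, hg⟩, fun hg => ?_⟩
    obtain ⟨h, hh⟩ := hbij.2 ⟨g, hg⟩
    have e : (h : G) = g := congrArg Subtype.val hh
    exact e ▸ h.2
  have hnorm : C.Normal := ⟨fun n hn g => (hCK _).2 <| by
    rcases (hCK n).1 hn with rfl | h
    · left; simp
    · refine Or.inr fun c hc => h (g⁻¹ • c) ?_
      rwa [mul_smul, mul_smul, smul_eq_iff_eq_inv_smul] at hc⟩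
  have htC := isPretransitive_of_semiregular_card hsemi hC
  obtain ⟨q, m, hq, hm, hα, hCm, hcom, hexp⟩ :=
    regular_normal_elementary_abelian ‹IsMultiplyPretransitive G α 2› hsemi
  exact ⟨C, hnorm, htC, hsemi, hCK, hcom, q, m, hq, hm, hα, hCm, hexp⟩

end Cfsg.Agent.Perm
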