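import Mathlib
import Cfsg.Agent.Lib.PGroup.UniqueInvolutionAut
import Cfsg.Agent.Lib.Transfer.Frobenius

/-!
# Index two in the two-point stabiliser of a sharply 3-transitive group of even degree

Abstract form: `H` is a finite group acting regularly by automorphisms on the non-identity elements
of an abelian group `K`, `σ` is an automorphism of `H` with square one and exactly two fixed
points `1, z`, where `z` is the only involution, and there is at most one subgroup of order three.
Then `H` has a `σ`-invariant homomorphism onto a group of order two.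

Proof: otherwise `σ` acts non-trivially on no quotient, so odd normal `σ`-invariant subgroups
are central, which leaves `|H : Z(H)|` dividing `12`; regularity then gives a contradiction.
-/

set_option autoImplicit false
set_option linter.style.haveILetI false
set_option linter.unusedSectionVars false

namespace Cfsg.Agent.Perm.SharplyEven

open Finset

local notation "C₂" => Multiplicative (ZMod 2)

variable {H : Type*} [Group H] [Finite H]

theorem c2_eq_inv (a : C₂) : a⁻¹ = a := by revert a; decide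

/-- An index two subgroup gives a non-trivial homomorphism to the group of order two. -/
theorem exists_hom_of_index_two {L : Subgroup H} (hL : L.index = 2) :
    ∃ f : H →* C₂, f ≠ 1 := by
  haveI := Subgroup.normal_of_index_eq_two hL
  haveI : Fact (Nat.Prime 2) := ⟨Nat.prime_two⟩
  have hq : Nat.card (H ⧸ L) = 2 := by rw [← Subgroup.index_eq_card]; exact hL
  let e : (H ⧸ L) ≃* C₂ := mulEquivOfPrimeCardEq (p := 2) hq (by simp)
  refine ⟨e.toMonoidHom.comp (QuotientGroup.mk' L), fun h => ?_⟩
  have hne : L ≠ ⊤ := fun h' => by rw [h', Subgroup.index_top] at hL; omega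
  refine hne (eq_top_iff.2 fun x _ => ?_)
  have h1 := DFunLike.congr_fun h x
  rw [MonoidHom.comp_apply, MonoidHom.one_apply, MulEquiv.coe_toMonoidHom,
    EmbeddingLike.map_eq_one_iff] at h1
  exact (QuotientGroup.eq_one_iff x).1 h1

/-- A non-trivial homomorphism to the group of order two can be chosen `σ`-invariant. -/
theorem exists_invariant_hom (σ : H ≃* H) (hσ2 : ∀ x, σ (σ x) = x) {f : H →* C₂} (hf : f ≠ 1) :
    ∃ χ : H →* C₂, χ ≠ 1 ∧ ∀ x, χ (σ x) = χ x := by
  by_cases h : ∀ x, f (σ x) = f x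
  · exact ⟨f, hf, h⟩
  refine ⟨f * f.comp σ.toMonoidHom, fun h1 => h fun x => ?_, fun x => ?_⟩
  · have := DFunLike.congr_fun h1 x
    rw [MonoidHom.mul_apply, MonoidHom.one_apply, MonoidHom.comp_apply, mul_eq_one_iff_eq_inv',
      c2_eq_inv] at this
    exact this
  · simp only [MonoidHom.mul_apply, MonoidHom.comp_apply, MulEquiv.coe_toMonoidHom, hσ2]
    rw [mul_comm]

variable (hno : ∀ f : H →* C₂, f = 1)
include hno

theorem not_two_nilpotent (h2 : 2 ∣ Nat.card H) : ¬ Cfsg.HasNormalPComplement 2 H := by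
  intro h
  haveI : Fact (Nat.Prime 2) := ⟨Nat.prime_two⟩
  haveI := Transfer.pResidual_normal (G := H) 2
  have hne : ¬ 2 ∣ Nat.card (Cfsg.pResidual 2 H) := Transfer.hasNormalPComplement_iff.1 h
  have hQ := Transfer.isPGroup_quotient_pResidual (G := H) 2
  obtain ⟨k, hk⟩ := hQ.exists_card_eq
  rcases k with _ | k
  · rw [pow_zero, ← Subgroup.index_eq_card, Subgroup.index_eq_one] at hk
    rw [hk, Subgroup.card_top] at hne
    exact hne h2
  obtain ⟨L, hL⟩ := Sylow.exists_subgroup_card_pow_prime 2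
    (G := H ⧸ Cfsg.pResidual 2 H) (n := k) (hk ▸ pow_dvd_pow 2 k.le_succ)
  have h3 := L.card_mul_index
  rw [hL, hk, pow_succ] at h3
  have hi : L.index = 2 := Nat.eq_of_mul_eq_mul_left (by positivity) h3
  have hi' : (L.comap (QuotientGroup.mk' (Cfsg.pResidual 2 H))).index = 2 := by
    rw [Subgroup.index_comap_of_surjective _ (QuotientGroup.mk'_surjective _), hi]
  obtain ⟨f, hf⟩ := exists_hom_of_index_two hi'
  exact hf (hno f)

variable (σ : H ≃* H) (hσ2 : ∀ x, σ (σ x) = x) {z : H} (hfix : ∀ x, σ x = x → x = 1 ∨ x = z)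
include hfix

/-- `σ` is trivial on no quotient. -/
theorem top_of_twist_mem (L : Subgroup H) (hL : ∀ x, x⁻¹ * σ x ∈ L) : L = ⊤ := by
  classical
  have := Fintype.ofFinite H
  have hle : Fintype.card H ≤ 2 * Nat.card L := by
    have h1 := card_le_mul_card_image (f := fun x : H => x⁻¹ * σ x) (univ : Finset H) 2 (fun b hb => by
      obtain ⟨x, -, rfl⟩ := mem_image.1 hb
      refine le_trans (card_le_card (t := {x, z * x}) fun y hy => ?_) card_le_two
      simp only [mem_filter, mem_univ, true_and] at hy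
      simp only [mem_insert, mem_singleton]
      have hy' : σ y = y * (x⁻¹ * σ x) := by rw [← hy]; group
      have : σ (y * x⁻¹) = y * x⁻¹ := by rw [map_mul, map_inv, hy']; group
      rcases hfix _ this with e | e
      · exact Or.inl (mul_inv_eq_one.1 e)
      · exact Or.inr (by rw [← e]; group))
    rw [card_univ] at h1
    refine h1.trans (Nat.mul_le_mul_left 2 ?_)
    rw [Nat.card_eq_fintype_card, Fintype.card_subtype]
    exact card_le_card fun b hb => by
      obtain ⟨x, -, rfl⟩ := mem_image.1 hb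
      exact mem_filter.2 ⟨mem_univ _, hL x⟩
  have h3 := L.card_mul_index
  rw [Nat.card_eq_fintype_card (α := H)] at h3
  rw [← Subgroup.index_eq_one]
  by_contra hne
  have h0 : L.index ≠ 0 := Subgroup.index_ne_zero_of_finite
  have h2 : L.index = 2 := by
    rcases Nat.lt_or_ge 2 L.index with h4 | h4
    · have : Nat.card L * 3 ≤ Nat.card L * L.index := Nat.mul_le_mul_left _ h4
      have : 0 < Nat.card L := Nat.card_pos
      omega
    · omega
  obtain ⟨f, hf⟩ := exists_hom_of_index_two h2
  exact hf (hno f)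

include hσ2

/-- A normal `σ`-invariant subgroup of odd order is central (and inverted by `σ`). -/
theorem odd_normal_central (hz : orderOf z = 2) (O : Subgroup H) [O.Normal]
    (hOσ : ∀ x ∈ O, σ x ∈ O) (hodd : ¬ 2 ∣ Nat.card O) : O ≤ Subgroup.center H := by
  have hinv : ∀ x ∈ O, σ x = x⁻¹ := by
    let f : O → O := fun x => ⟨(x : H)⁻¹ * σ x, O.mul_mem (O.inv_mem x.2) (hOσ x x.2)⟩
    have hinj : Function.Injective f := by
      intro x y h
      have h' : (x : H)⁻¹ * σ x = (y : H)⁻¹ * σ y := congrArg Subtype.val h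
      have hx : σ ((y : H) * (x : H)⁻¹) = (y : H) * (x : H)⁻¹ := by
        rw [map_mul, map_inv, show σ (y : H) = y * ((x : H)⁻¹ * σ x) by rw [h']; group]
        group
      rcases hfix _ hx with e | e
      · exact (Subtype.ext (mul_inv_eq_one.1 e)).symm
      · exfalso
        have hzO : z ∈ O := e ▸ O.mul_mem y.2 (O.inv_mem x.2)
        exact hodd (hz ▸ Subgroup.orderOf_dvd_natCard O hzO)
    intro x hx
    obtain ⟨y, hy⟩ := (Finite.injective_iff_surjective.1 hinj) ⟨x, hx⟩
    have hy' : (y : H)⁻¹ * σ y = x := congrArg Subtype.val hy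
    rw [← hy', map_mul, map_inv, hσ2]
    group
  have hC : Subgroup.centralizer (O : Set H) = ⊤ := by
    refine top_of_twist_mem hno σ hfix _ fun x => ?_
    rw [Subgroup.mem_centralizer_iff]
    intro o ho
    have h1 : x * o * x⁻¹ ∈ O := ‹O.Normal›.conj_mem o ho x
    have h2 : σ (x * o * x⁻¹) = (x * o * x⁻¹)⁻¹ := hinv _ h1
    rw [map_mul, map_mul, map_inv, hinv o ho] at h2
    have h3 : σ x * o * (σ x)⁻¹ = x * o * x⁻¹ := by
      apply inv_injective
      calc (σ x * o * (σ x)⁻¹)⁻¹ = σ x * o⁻¹ * (σ x)⁻¹ := by group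
        _ = _ := h2
    calc o * (x⁻¹ * σ x) = x⁻¹ * (x * o * x⁻¹) * σ x := by group
      _ = x⁻¹ * (σ x * o * (σ x)⁻¹) * σ x := by rw [h3]
      _ = x⁻¹ * σ x * o := by group
  intro o ho
  rw [Subgroup.mem_center_iff]
  intro g
  exact ((Subgroup.mem_centralizer_iff.1 (hC ▸ Subgroup.mem_top g)) o ho).symm

omit hno hσ2 hfix in
/-- Conjugation of a 2-subgroup by an element of odd order, with a single involution around. -/
theorem conj_odd (huniq : ∀ x : H, orderOf x = 2 → x = z) {R : Subgroup H} (hR : IsPGroup 2 R)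
    {g : H} (hg : g ∈ Subgroup.normalizer (R : Set H)) (hodd : Odd (orderOf g)) :
    g ^ 3 ∈ Subgroup.centralizer (R : Set H) ∧
      (Nat.card R ≠ 8 → g ∈ Subgroup.centralizer (R : Set H)) := by
  let c := R.normalizerMonoidHom
  have hu : ∀ x y : R, orderOf x = 2 → orderOf y = 2 → x = y := fun x y hx hy =>
    Subtype.ext ((huniq x (by rw [Subgroup.orderOf_coe]; exact hx)).trans
      (huniq y (by rw [Subgroup.orderOf_coe]; exact hy)).symm)
  have hm : (c ⟨g, hg⟩) ^ orderOf g = 1 := by
    rw [← map_pow, show (⟨g, hg⟩ : Subgroup.normalizer (R : Set H)) ^ orderOf g = 1 from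
      Subtype.ext (pow_orderOf_eq_one g), map_one]
  obtain ⟨h3, h8⟩ := PGroup.mulAut_odd_of_unique_involution hR hu _ hodd hm
  have key : ∀ (n : Subgroup.normalizer (R : Set H)), c n = 1 →
      (n : H) ∈ Subgroup.centralizer (R : Set H) := by
    intro n hn
    have : n ∈ c.ker := hn
    rw [Subgroup.normalizerMonoidHom_ker] at this
    exact this
  refine ⟨?_, fun h => key _ (h8 h)⟩
  have := key (⟨g, hg⟩ ^ 3) (by rw [map_pow]; exact h3)
  simpa using this

omit hno hσ2 hfix in
theorem mem_center_of_commute_generators {T : Set H} (hT : Subgroup.closure T = ⊤) {x : H}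
    (h : ∀ t ∈ T, t * x = x * t) : x ∈ Subgroup.center H := by
  rw [Subgroup.mem_center_iff]
  intro g
  have hle : Subgroup.closure T ≤ Subgroup.centralizer {x} := by
    rw [Subgroup.closure_le]
    intro t ht
    exact Subgroup.mem_centralizer_singleton_iff.2 (h t ht)
  exact Subgroup.mem_centralizer_singleton_iff.1 (hle (hT ▸ Subgroup.mem_top g))

set_option maxHeartbeats 1600000 in
/-- Without a quotient of order two: `|H : Z(H)|` divides twelve, `6 ∣ |Z(H)|`, and `H` is not
commutative. -/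
theorem center_large (hz : orderOf z = 2) (huniq : ∀ x : H, orderOf x = 2 → x = z)
    (h3 : ∀ A B : Subgroup H, Nat.card A = 3 → Nat.card B = 3 → A = B) :
    Nat.card H ∣ 12 * Nat.card (Subgroup.center H) ∧ 6 ∣ Nat.card (Subgroup.center H) ∧
      ∃ x y : H, x * y ≠ y * x := by
  classical
  haveI h2f : Fact (Nat.Prime 2) := ⟨Nat.prime_two⟩
  haveI h3f : Fact (Nat.Prime 3) := ⟨Nat.prime_three⟩
  have hdvd2 : 2 ∣ Nat.card H := hz ▸ orderOf_dvd_natCard z
  have hzc : z ∈ Subgroup.center H := by
    rw [Subgroup.mem_center_iff]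
    intro g
    have h1 : g * z * g⁻¹ = z :=
      huniq _ (by rw [show g * z * g⁻¹ = MulAut.conj g z from rfl, MulEquiv.orderOf_eq, hz])
    exact mul_inv_eq_iff_eq_mul.1 h1
  -- a 3-element acting on a 2-subgroup
  obtain ⟨R, hR, u, hu3, huN, huC⟩ : ∃ R : Subgroup H, IsPGroup 2 R ∧
      ∃ u : H, (∃ j, orderOf u = 3 ^ j) ∧ u ∈ Subgroup.normalizer (R : Set H) ∧
        u ∉ Subgroup.centralizer (R : Set H) := by
    obtain ⟨P⟩ := (inferInstance : Nonempty (Sylow 2 H))
    by_contra hcon
    refine not_two_nilpotent hno hdvd2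
      (Transfer.hasNormalPComplement_of_centralizer P fun R hR g hg hco => ?_)
    by_contra hgC
    have hRp : IsPGroup 2 R := P.2.to_le hR
    have hodd : Odd (orderOf g) := Nat.coprime_two_right.1 hco
    obtain ⟨hg3, -⟩ := conj_odd huniq hRp hg hodd
    obtain ⟨a, b, hab, hb, ha⟩ := Transfer.exists_mul_coprime_dvd_pow 3 _ (orderOf_pos g)
    refine hcon ⟨R, hRp, g ^ b, ?_, pow_mem hg b, fun hgb => hgC ?_⟩
    · have h1 : orderOf (g ^ b) ∣ a := orderOf_dvd_of_pow_eq_one (by
        rw [← pow_mul, mul_comm, ← hab, pow_orderOf_eq_one])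
      obtain ⟨j, -, hj⟩ := (Nat.dvd_prime_pow Nat.prime_three).1 (h1.trans ha)
      exact ⟨j, hj⟩
    · have hbez := Nat.gcd_eq_gcd_ab b 3
      rw [hb.gcd_eq_one] at hbez
      have : g = (g ^ b) ^ Nat.gcdA b 3 * (g ^ 3) ^ Nat.gcdB b 3 := by
        rw [← zpow_natCast, ← zpow_mul, ← zpow_natCast g 3, ← zpow_mul, ← zpow_add, ← hbez]
        simp
      rw [this]
      exact mul_mem (zpow_mem hgb _) (zpow_mem hg3 _)
  have hu1 : u ≠ 1 := fun e => huC (e ▸ one_mem _)
  obtain ⟨j, hj⟩ := hu3
  have hj0 : j ≠ 0 := fun h => hu1 (orderOf_eq_one_iff.1 (by rw [hj, h, pow_zero]))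
  have hdvd3 : 3 ∣ Nat.card H := (dvd_pow_self 3 hj0).trans (hj ▸ orderOf_dvd_natCard u)
  -- the subgroup of order three is central
  obtain ⟨P, hP⟩ : ∃ P : Subgroup H, Nat.card P = 3 := by
    obtain ⟨w, hw⟩ := exists_prime_orderOf_dvd_card' 3 hdvd3
    exact ⟨Subgroup.zpowers w, by rw [Nat.card_zpowers, hw]⟩
  have hPmap : ∀ e : H ≃* H, ∀ x ∈ P, e x ∈ P := fun e x hx => by
    have := h3 _ P (show Nat.card (P.map e.toMonoidHom) = 3 by
      rw [Subgroup.card_map_of_injective e.injective, hP]) hP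
    rw [← this]
    exact ⟨x, hx, rfl⟩
  haveI hPn : P.Normal := ⟨fun x hx g => hPmap (MulAut.conj g) x hx⟩
  have hPc : P ≤ Subgroup.center H :=
    odd_normal_central hno σ hσ2 hfix hz P (hPmap σ) (by rw [hP]; norm_num)
  -- the Sylow 3-subgroup
  obtain ⟨Y, hY⟩ := (IsPGroup.of_card (p := 3) (n := j) (G := Subgroup.zpowers u)
    (by rw [Nat.card_zpowers, hj])).exists_le_sylow
  have huY : u ∈ (Y : Subgroup H) := hY (Subgroup.mem_zpowers u)
  have hYu : ∀ A B : Subgroup Y, Nat.card A = 3 → Nat.card B = 3 → A = B := by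
    intro A B hA hB
    refine Subgroup.map_injective (Y : Subgroup H).subtype_injective (h3 _ _ ?_ ?_)
    · rw [Subgroup.card_map_of_injective (Y : Subgroup H).subtype_injective, hA]
    · rw [Subgroup.card_map_of_injective (Y : Subgroup H).subtype_injective, hB]
  haveI hYc : IsCyclic Y := by
    rcases PGroup.cyclic_or_quaternion_of_unique Y.2 hYu with h | h
    · exact h
    · exact absurd h.1 (by norm_num)
  obtain ⟨⟨y, hy⟩, hygen⟩ := IsCyclic.exists_generator (α := Y)
  have hgen : ∀ x ∈ (Y : Subgroup H), ∃ i : ℤ, y ^ i = x := fun x hx => by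
    obtain ⟨i, hi⟩ := Subgroup.mem_zpowers_iff.1 (hygen ⟨x, hx⟩)
    exact ⟨i, congrArg Subtype.val hi⟩
  obtain ⟨k, hk⟩ := Y.2.exists_card_eq
  have hyo : orderOf y = 3 ^ k := by
    rw [← hk, ← orderOf_eq_card_of_forall_mem_zpowers hygen, Subgroup.orderOf_mk]
  have hk2 : 2 ≤ k := by
    by_contra hk2
    have hPY : (Y : Subgroup H) = P := by
      have hcard : Nat.card (Y : Subgroup H) = 3 := by
        refine hk.trans ?_
        rcases k with _ | _ | k
        · exfalso
          have h1 : u ^ 3 ^ 0 = 1 := by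
            obtain ⟨i, hi⟩ := hgen u huY
            rw [pow_zero, pow_one, ← hi, orderOf_eq_one_iff.1 (hyo.trans (pow_zero 3)), one_zpow]
          exact hu1 (by simpa using h1)
        · norm_num
        · omega
      exact h3 _ _ hcard hP
    refine huC (Subgroup.mem_centralizer_iff.2 fun r _ => ?_)
    exact Subgroup.mem_center_iff.1 (hPc (hPY ▸ huY)) r
  -- normal 3-complement
  have hN3 : Cfsg.HasNormalPComplement 3 H := by
    refine Transfer.hasNormalPComplement_of_normalizer_le_centralizer Y fun n hn => ?_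
    set N := Subgroup.normalizer (Y : Set H)
    have hn' := Subgroup.mem_normalizer_iff.1 hn
    obtain ⟨r, hr⟩ := hgen (n * y * n⁻¹) ((hn' y).1 hy)
    -- `n` fixes the element of order three, so `r ≡ 1 (mod 3)`
    set w := y ^ (3 : ℕ) ^ (k - 1) with hw
    have hwo : orderOf w = 3 := by
      rw [hw, orderOf_pow' y (by positivity), hyo, Nat.gcd_eq_right (pow_dvd_pow 3 (Nat.sub_le k 1)),
        Nat.pow_div (Nat.sub_le k 1) (by norm_num), show k - (k - 1) = 1 by omega, pow_one]
    have hwP : w ∈ P := by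
      have := h3 (Subgroup.zpowers w) P (by rw [Nat.card_zpowers, hwo]) hP
      exact this ▸ Subgroup.mem_zpowers w
    have hwr : w ^ r = w := by
      calc w ^ r = (n * y * n⁻¹) ^ (3 : ℕ) ^ (k - 1) := by
            rw [hw, ← hr, ← zpow_natCast, ← zpow_natCast, ← zpow_mul, ← zpow_mul, mul_comm]
        _ = n * w * n⁻¹ := by rw [conj_pow]
        _ = w := by rw [Subgroup.mem_center_iff.1 (hPc hwP) n, mul_inv_cancel_right]
    obtain ⟨q, hq⟩ : (3 : ℤ) ∣ r - 1 := by
      have := orderOf_dvd_iff_zpow_eq_one.2 (show w ^ (r - 1) = 1 by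
        rw [zpow_sub, zpow_one, hwr, mul_inv_cancel])
      rwa [hwo] at this
    have hiter : ∀ i : ℕ, n ^ i * y * (n ^ i)⁻¹ = y ^ r ^ i := by
      intro i
      induction i with
      | zero => simp
      | succ i ih =>
        rw [pow_succ' n, mul_inv_rev, show n * n ^ i * y * ((n ^ i)⁻¹ * n⁻¹) =
          n * (n ^ i * y * (n ^ i)⁻¹) * n⁻¹ by group, ih, ← conj_zpow, ← hr, ← zpow_mul, pow_succ']
    have hmod : y ^ r ^ 3 ^ k = y := by
      rw [← zpow_one y, ← zpow_mul, one_mul, zpow_eq_zpow_iff_modEq, hyo]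
      have h1 : ((3 : ℕ) : ℤ) ∣ r - 1 := ⟨q, by simpa using hq⟩
      have := dvd_sub_pow_of_dvd_sub h1 k
      rw [one_pow] at this
      refine (Int.ModEq.symm (Int.modEq_iff_dvd.2 ?_))
      refine dvd_trans ?_ this
      push_cast
      exact pow_dvd_pow 3 k.le_succ
    have hcomm3 : n ^ 3 ^ k * y = y * n ^ 3 ^ k :=
      mul_inv_eq_iff_eq_mul.1 ((hiter _).trans hmod)
    -- the 3-part of `n` lies in `Y`
    obtain ⟨a, b, hab, hb, ha⟩ := Transfer.exists_mul_coprime_dvd_pow 3 _ (orderOf_pos n)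
    have hnb : n ^ b ∈ (Y : Subgroup H) := by
      obtain ⟨i, -, hi⟩ := (Nat.dvd_prime_pow Nat.prime_three).1
        ((orderOf_dvd_of_pow_eq_one (x := n ^ b) (by
          rw [← pow_mul, mul_comm, ← hab, pow_orderOf_eq_one])).trans ha)
      have hp : IsPGroup 3 (Subgroup.zpowers (n ^ b)) :=
        IsPGroup.of_card (n := i) (by rw [Nat.card_zpowers, hi])
      have hle : Subgroup.zpowers (n ^ b) ≤ Subgroup.normalizer ((Y : Subgroup H) : Set H) :=
        Subgroup.zpowers_le.2 (pow_mem hn b)
      have hsup := hp.to_sup_of_normal_right' Y.2 hle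
      rw [← Y.3 hsup le_sup_right]
      exact Subgroup.mem_sup_left (Subgroup.mem_zpowers _)
    have hnbC : y * n ^ b = n ^ b * y := by
      obtain ⟨i, hi⟩ := hgen _ hnb
      rw [← hi]
      exact (Commute.refl y).zpow_right i
    have hny : Commute n y := by
      have h1 : Commute (n ^ b) y := hnbC.symm
      have h2 : Commute (n ^ 3 ^ k) y := hcomm3
      have hbez := Nat.gcd_eq_gcd_ab b (3 ^ k)
      rw [(hb.pow_right k).gcd_eq_one] at hbez
      have : n = (n ^ b) ^ Nat.gcdA b (3 ^ k) * (n ^ 3 ^ k) ^ Nat.gcdB b (3 ^ k) := by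
        rw [← zpow_natCast, ← zpow_mul, ← zpow_natCast n (3 ^ k), ← zpow_mul, ← zpow_add, ← hbez]
        simp
      rw [this]
      exact (h1.zpow_left _).mul_left (h2.zpow_left _)
    rw [Subgroup.mem_centralizer_iff]
    intro x hx
    obtain ⟨i, rfl⟩ := hgen x hx
    exact (hny.zpow_right i).symm.eq
  set N3 := Cfsg.pResidual 3 H with hN3def
  haveI := Transfer.pResidual_normal (G := H) 3
  have hmem3 : ∀ x : H, x ∈ N3 ↔ Nat.Coprime (orderOf x) 3 := Transfer.mem_pResidual_iff hN3
  -- the 3-complement has a normal 2-complement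
  have hN2 : Cfsg.HasNormalPComplement 2 N3 := by
    obtain ⟨S⟩ := (inferInstance : Nonempty (Sylow 2 N3))
    refine Transfer.hasNormalPComplement_of_centralizer S fun Q hQ g hg hco => ?_
    have hQ' : IsPGroup 2 (Q.map N3.subtype) := (S.2.to_le hQ).map _
    have hg' : (g : H) ∈ Subgroup.normalizer ((Q.map N3.subtype : Subgroup H) : Set H) := by
      refine Subgroup.le_normalizer_map N3.subtype ⟨g, hg, rfl⟩
    obtain ⟨hg3, -⟩ := conj_odd huniq hQ' hg'
      (by rw [Subgroup.orderOf_coe]; exact Nat.coprime_two_right.1 hco)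
    have hco3 : Nat.Coprime 3 (orderOf (g : H)) := ((hmem3 _).1 g.2).symm
    have hgpow : (g : H) ∈ Subgroup.centralizer ((Q.map N3.subtype : Subgroup H) : Set H) := by
      obtain ⟨m, hm⟩ := exists_pow_eq_self_of_coprime hco3
      rw [← hm]
      exact pow_mem hg3 m
    rw [Subgroup.mem_centralizer_iff] at hgpow ⊢
    exact fun q hq => Subtype.ext (hgpow _ ⟨q, hq, rfl⟩)
  have hmem2 := Transfer.mem_pResidual_iff hN2
  obtain ⟨O, hOmem⟩ : ∃ O : Subgroup H, ∀ x, x ∈ O ↔ Nat.Coprime (orderOf x) 6 := by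
    refine ⟨{
      carrier := {x | Nat.Coprime (orderOf x) 6}
      one_mem' := by simp
      inv_mem' := by intro x hx; simpa using hx
      mul_mem' := ?_ }, fun x => Iff.rfl⟩
    intro x x' hx hx'
    simp only [Set.mem_ofPred_eq] at hx hx' ⊢
    have a1 : x ∈ N3 := (hmem3 x).2 (hx.coprime_dvd_right (by norm_num))
    have a2 : x' ∈ N3 := (hmem3 x').2 (hx'.coprime_dvd_right (by norm_num))
    have b1 : (⟨x, a1⟩ : N3) ∈ Cfsg.pResidual 2 N3 :=
      (hmem2 _).2 (by rw [Subgroup.orderOf_mk]; exact hx.coprime_dvd_right (by norm_num))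
    have b2 : (⟨x', a2⟩ : N3) ∈ Cfsg.pResidual 2 N3 :=
      (hmem2 _).2 (by rw [Subgroup.orderOf_mk]; exact hx'.coprime_dvd_right (by norm_num))
    have c2 := (hmem2 _).1 (mul_mem b1 b2)
    rw [← Subgroup.orderOf_coe] at c2
    exact Nat.Coprime.mul_right c2 ((hmem3 _).1 (mul_mem a1 a2))
  haveI hOn : O.Normal := ⟨fun x hx g => by
    rw [hOmem, show g * x * g⁻¹ = MulAut.conj g x from rfl, MulEquiv.orderOf_eq]; exact (hOmem x).1 hx⟩
  have hOσ : ∀ x ∈ O, σ x ∈ O := fun x hx => by rw [hOmem, MulEquiv.orderOf_eq]; exact (hOmem x).1 hx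
  have hOodd : ¬ 2 ∣ Nat.card O := by
    intro h
    obtain ⟨x, hx⟩ := exists_prime_orderOf_dvd_card' 2 h
    have := (hOmem x).1 x.2
    rw [Subgroup.orderOf_coe, hx] at this
    exact absurd this (by norm_num)
  have hOc : O ≤ Subgroup.center H := odd_normal_central hno σ hσ2 hfix hz O hOσ hOodd
  -- the 2-elements form a normal subgroup
  obtain ⟨Q, hQR⟩ := hR.exists_le_sylow
  have hQmem : ∀ x : H, ∀ i, orderOf x = 2 ^ i → x ∈ (Q : Subgroup H) := by
    intro x i hi
    have hQN : ∀ w ∈ (Q : Subgroup H), w ∈ N3 := fun w hw => by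
      refine (hmem3 w).2 ?_
      obtain ⟨e, he⟩ := IsPGroup.iff_orderOf.1 Q.2 ⟨w, hw⟩
      rw [Subgroup.orderOf_mk] at he
      rw [he]
      exact Nat.Coprime.pow_left e (by norm_num)
    have hxN : x ∈ N3 := (hmem3 x).2 (by rw [hi]; exact Nat.Coprime.pow_left i (by norm_num))
    haveI := Transfer.pResidual_normal (G := N3) 2
    let Q' : Sylow 2 N3 := Q.subtype hQN
    have htop := Transfer.sylow_sup_pResidual_eq_top Q'
    obtain ⟨q, hq, o, ho, hqo⟩ := Subgroup.mem_sup_of_normal_right.1
      (htop ▸ Subgroup.mem_top (⟨x, hxN⟩ : N3))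
    have hqo' : (q : H) * (o : H) = x := congrArg Subtype.val hqo
    have ho6 : Nat.Coprime (orderOf (o : H)) 6 := by
      have h2 := (hmem2 o).1 ho
      rw [← Subgroup.orderOf_coe] at h2
      exact Nat.Coprime.mul_right h2 ((hmem3 _).1 o.2)
    have hcomm : Commute (q : H) (o : H) := Subgroup.mem_center_iff.1 (hOc ((hOmem _).2 ho6)) q
    have hqQ : (q : H) ∈ (Q : Subgroup H) := hq
    obtain ⟨e, he⟩ := IsPGroup.iff_orderOf.1 Q.2 ⟨_, hqQ⟩
    rw [Subgroup.orderOf_mk] at he
    have ho1 : (o : H) = 1 := by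
      have h1 : (o : H) ^ (2 ^ e * 2 ^ i) = 1 := by
        have hx1 : x ^ (2 ^ e * 2 ^ i) = 1 := by
          rw [mul_comm, pow_mul, ← hi, pow_orderOf_eq_one, one_pow]
        have hq1 : (q : H) ^ (2 ^ e * 2 ^ i) = 1 := by rw [pow_mul, ← he, pow_orderOf_eq_one, one_pow]
        rwa [← hqo', hcomm.mul_pow, hq1, one_mul] at hx1
      have h2 := Nat.dvd_gcd dvd_rfl (orderOf_dvd_of_pow_eq_one h1)
      rw [← pow_add, ((ho6.coprime_dvd_right (show 2 ∣ 6 by norm_num)).pow_right (e + i)).gcd_eq_one] at h2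
      exact orderOf_eq_one_iff.1 (Nat.dvd_one.1 h2)
    rw [← hqo', ho1, mul_one]
    exact hqQ
  haveI hQn : (Q : Subgroup H).Normal := ⟨fun x hx g => by
    obtain ⟨e, he⟩ := IsPGroup.iff_orderOf.1 Q.2 ⟨x, hx⟩
    rw [Subgroup.orderOf_mk] at he
    exact hQmem _ e (by rw [show g * x * g⁻¹ = MulAut.conj g x from rfl, MulEquiv.orderOf_eq, he])⟩
  have hQN : ∀ g : H, g ∈ Subgroup.normalizer ((Q : Subgroup H) : Set H) := fun g => by
    rw [Subgroup.normalizer_eq_top]; exact Subgroup.mem_top g
  have hQ8 : Nat.card Q = 8 := by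
    by_contra h8
    have huodd : Odd (orderOf u) := by rw [hj]; exact Odd.pow (by decide)
    have := (conj_odd huniq Q.2 (hQN u) huodd).2 h8
    exact huC (Subgroup.centralizer_le hQR this)
  -- `y ^ 3` is central
  have hyodd : Odd (orderOf y) := by rw [hyo]; exact Odd.pow (by decide)
  have hy3Q : y ^ 3 ∈ Subgroup.centralizer ((Q : Subgroup H) : Set H) :=
    (conj_odd huniq Q.2 (hQN y) hyodd).1
  have hgenH : Subgroup.closure ((O : Set H) ∪ (Q : Subgroup H) ∪ {y}) = ⊤ := by
    have htop := Transfer.sylow_sup_pResidual_eq_top Y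
    rw [eq_top_iff, ← htop, sup_le_iff]
    refine ⟨fun x hx => ?_, fun x hx => ?_⟩
    · obtain ⟨i, rfl⟩ := hgen x hx
      exact zpow_mem (Subgroup.subset_closure (Set.mem_union_right _ (Set.mem_singleton y))) i
    · have hx3 := (hmem3 x).1 hx
      obtain ⟨a, b, hab, hb, ha⟩ := Transfer.exists_mul_coprime_dvd_pow 2 _ (orderOf_pos x)
      have hb0 : b ≠ 0 := by rintro rfl; rw [mul_zero] at hab; exact (orderOf_pos x).ne' hab
      have hxb : x ^ b ∈ (Q : Subgroup H) := by
        obtain ⟨i, -, hi⟩ := (Nat.dvd_prime_pow Nat.prime_two).1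
          ((orderOf_dvd_of_pow_eq_one (x := x ^ b) (by
            rw [← pow_mul, mul_comm, ← hab, pow_orderOf_eq_one])).trans ha)
        exact hQmem _ i hi
      have hxa : x ^ a ∈ O := by
        rw [hOmem]
        have h1 : orderOf (x ^ a) ∣ b := orderOf_dvd_of_pow_eq_one (by
          rw [← pow_mul, ← hab, pow_orderOf_eq_one])
        have h2 : Nat.Coprime b 3 := hx3.coprime_dvd_left (hab ▸ dvd_mul_left b a)
        exact Nat.Coprime.coprime_dvd_left h1 (Nat.Coprime.mul_right hb h2)
      have hco : Nat.Coprime a b :=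
        ((hb.pow_right _).symm).coprime_dvd_left ha
      have hbez := Nat.gcd_eq_gcd_ab a b
      rw [hco.gcd_eq_one] at hbez
      have : x = (x ^ a) ^ Nat.gcdA a b * (x ^ b) ^ Nat.gcdB a b := by
        rw [← zpow_natCast, ← zpow_mul, ← zpow_natCast x b, ← zpow_mul, ← zpow_add, ← hbez]
        simp
      rw [this]
      exact mul_mem (zpow_mem (Subgroup.subset_closure (Set.mem_union_left _ (Set.mem_union_left _ hxa))) _)
        (zpow_mem (Subgroup.subset_closure (Set.mem_union_left _ (Set.mem_union_right _ hxb))) _)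
  have hy3c : y ^ 3 ∈ Subgroup.center H := by
    refine mem_center_of_commute_generators hgenH ?_
    rintro t ((ht | ht) | rfl)
    · exact (Subgroup.mem_center_iff.1 (hOc ht) _).symm
    · exact Subgroup.mem_centralizer_iff.1 hy3Q t ht
    · exact (Commute.self_pow t 3).eq
  set Z := Subgroup.center H
  have hZ0 : Nat.card Z ≠ 0 := Nat.card_pos.ne'
  have h2Z : 2 ∣ Nat.card Z := hz ▸ Subgroup.orderOf_dvd_natCard Z hzc
  have h3Z : 3 ^ (k - 1) ∣ Nat.card Z := by
    have : orderOf (y ^ 3) = 3 ^ (k - 1) := by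
      rw [orderOf_pow' y (by norm_num), hyo, Nat.gcd_eq_right (dvd_pow_self 3 (by omega)),
        Nat.div_eq_iff_eq_mul_left (by norm_num) (dvd_pow_self 3 (by omega)), ← pow_succ,
        show k - 1 + 1 = k by omega]
    exact this ▸ Subgroup.orderOf_dvd_natCard Z hy3c
  refine ⟨?_, ?_, ?_⟩
  · rw [Nat.dvd_iff_prime_pow_dvd_dvd]
    intro r e hr hre
    haveI := Fact.mk hr
    rcases Nat.eq_zero_or_pos e with rfl | he
    · simp
    obtain ⟨W, hW⟩ := Sylow.exists_subgroup_card_pow_prime r hre
    by_cases hr2 : r = 2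
    · subst hr2
      have : W ≤ (Q : Subgroup H) := fun x hx => by
        obtain ⟨i, hi⟩ := IsPGroup.iff_orderOf.1 (IsPGroup.of_card hW) ⟨x, hx⟩
        exact hQmem x i (by rw [← hi, Subgroup.orderOf_mk])
      have h8 : 2 ^ e ∣ 8 := hQ8 ▸ hW ▸ Subgroup.card_dvd_of_le this
      refine h8.trans ?_
      obtain ⟨c, hc⟩ := h2Z
      exact ⟨3 * c, by rw [hc]; ring⟩
    by_cases hr3 : r = 3
    · subst hr3
      have h1 : 3 ^ e ∣ 3 ^ k := by
        rw [← hk]
        obtain ⟨W', hW'⟩ := (IsPGroup.of_card hW).exists_le_sylow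
        obtain ⟨g, rfl⟩ := MulAction.exists_smul_eq H Y W'
        rw [← hW]
        refine (Subgroup.card_dvd_of_le hW').trans (dvd_of_eq ?_)
        rw [Sylow.card_eq_multiplicity, Sylow.card_eq_multiplicity]
      refine h1.trans ?_
      obtain ⟨c, hc⟩ := h3Z
      refine ⟨4 * c, ?_⟩
      rw [hc]
      obtain ⟨k', rfl⟩ : ∃ k', k = k' + 1 := ⟨k - 1, by omega⟩
      rw [Nat.add_sub_cancel, pow_succ]; ring
    · have : W ≤ Z := fun x hx => hOc ((hOmem x).2 (by
        obtain ⟨i, hi⟩ := IsPGroup.iff_orderOf.1 (IsPGroup.of_card hW) ⟨x, hx⟩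
        rw [Subgroup.orderOf_mk] at hi
        rw [hi]
        refine Nat.Coprime.pow_left i (Nat.Coprime.mul_right (n := 3) (m := 2) ?_ ?_)
        · exact (Nat.coprime_primes hr Nat.prime_two).2 hr2
        · exact (Nat.coprime_primes hr Nat.prime_three).2 hr3))
      exact (hW ▸ Subgroup.card_dvd_of_le this).trans (dvd_mul_left _ 12)
  · exact Nat.Coprime.mul_dvd_of_dvd_of_dvd (by norm_num) h2Z
      ((dvd_pow_self 3 (by omega)).trans h3Z)
  · rw [Subgroup.mem_centralizer_iff] at huC
    push Not at huC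
    obtain ⟨r, -, hr⟩ := huC
    exact ⟨r, u, hr⟩

omit hno hσ2 hfix in
/-- A group acting regularly on the non-identity elements of an abelian group, whose centre has order
divisible by 6 and index dividing 12, is commutative. -/
theorem comm_of_center_large {K : Type*} [CommGroup K] [Finite K] (φ : H →* MulAut K)
    (hfree : ∀ h k, φ h k = k → h = 1 ∨ k = 1) (hcard : Nat.card H + 1 = Nat.card K)
    (h12 : Nat.card H ∣ 12 * Nat.card (Subgroup.center H))
    (h6 : 6 ∣ Nat.card (Subgroup.center H)) : ∀ x y : H, x * y = y * x := by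
  classical
  have htrans : ∀ k k' : K, k ≠ 1 → k' ≠ 1 → ∃ h, φ h k = k' := by
    intro k k' hk hk'
    have := Fintype.ofFinite H
    have := Fintype.ofFinite K
    let f : H → {w : K // w ≠ 1} := fun h =>
      ⟨φ h k, fun e => hk ((φ h).map_eq_one_iff.1 e)⟩
    have hinj : Function.Injective f := by
      intro g g' e
      have e' : φ g k = φ g' k := congrArg Subtype.val e
      rcases hfree (g'⁻¹ * g) k (by
        rw [map_mul, MulAut.mul_apply, e', ← MulAut.mul_apply, ← map_mul, inv_mul_cancel, map_one]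
        rfl) with h | h
      · exact (inv_mul_eq_one.1 h).symm
      · exact absurd h hk
    have hbij := (Fintype.bijective_iff_injective_and_card f).2 ⟨hinj, by
      rw [Fintype.card_subtype_compl, Fintype.card_subtype_eq]
      rw [Nat.card_eq_fintype_card, Nat.card_eq_fintype_card] at hcard
      omega⟩
    obtain ⟨h, hh⟩ := hbij.2 ⟨k', hk'⟩
    exact ⟨h, congrArg Subtype.val hh⟩
  let toEnd : H →* AddMonoid.End (Additive K) :=
    { toFun := fun h => (φ h).toMonoidHom.toAdditive
      map_one' := AddMonoidHom.ext fun x => by simp; rfl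
      map_mul' := fun g g' => AddMonoidHom.ext fun x => by simp; rfl }
  let R := Subring.closure (toEnd '' (Subgroup.center H : Set H))
  have hc : ∀ a ∈ toEnd '' (Subgroup.center H : Set H),
      ∀ b ∈ toEnd '' (Subgroup.center H : Set H), a * b = b * a := by
    rintro _ ⟨g, -, rfl⟩ _ ⟨g', hg', rfl⟩
    rw [← map_mul, ← map_mul, Subgroup.mem_center_iff.1 hg' g]
  let instR : CommRing R := haveI := Subring.isMulCommutative_closure hc; { mul_comm := fun a b => mul_comm' a b }
  -- `R` commutes with `H`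
  have hRH : ∀ r : R, ∀ h x, toEnd h ((r : AddMonoid.End (Additive K)) x) =
      (r : AddMonoid.End (Additive K)) (toEnd h x) := by
    intro r h x
    have hle : R ≤ Subring.centralizer (Set.range toEnd) := by
      rw [Subring.closure_le]
      rintro _ ⟨g, hg, rfl⟩
      rw [SetLike.mem_coe, Subring.mem_centralizer_iff]
      rintro _ ⟨g', rfl⟩
      rw [← map_mul, ← map_mul, Subgroup.mem_center_iff.1 hg g']
    exact DFunLike.congr_fun ((Subring.mem_centralizer_iff.1 (hle r.2)) (toEnd h) ⟨h, rfl⟩) x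
  have hzero : ∀ r : R, ∀ x, x ≠ 0 → (r : AddMonoid.End (Additive K)) x = 0 → r = 0 := by
    intro r x hx hr
    refine Subtype.ext (AddMonoidHom.ext fun w => ?_)
    show (r : AddMonoid.End (Additive K)) w = 0
    rcases eq_or_ne w 0 with rfl | hw
    · exact map_zero _
    obtain ⟨h, hh⟩ := htrans (Additive.toMul x) (Additive.toMul w) hx hw
    have hw' : toEnd h x = w := congrArg Additive.ofMul hh
    rw [← hw', ← hRH r h x, hr, map_zero]
  obtain ⟨e₀, he₀⟩ : ∃ e : Additive K, e ≠ 0 := by
    haveI : Nontrivial K := Finite.one_lt_card_iff_nontrivial.1 (by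
      have : 0 < Nat.card H := Nat.card_pos
      omega)
    exact exists_ne (0 : Additive K)
  let ev : R → Additive K := fun r => (r : AddMonoid.End (Additive K)) e₀
  have hinj : Function.Injective ev := fun r r' h => by
    have : r - r' = 0 := hzero _ e₀ he₀ (show (r : AddMonoid.End (Additive K)) e₀ -
      (r' : AddMonoid.End (Additive K)) e₀ = 0 from sub_eq_zero.2 h)
    exact sub_eq_zero.1 this
  haveI : Finite R := Finite.of_injective ev hinj
  haveI : Nontrivial R := ⟨⟨0, 1, fun h => he₀ (congrArg ev h).symm⟩⟩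
  haveI : NoZeroDivisors R := ⟨fun {a b} h => by
    by_contra hcon
    rw [not_or] at hcon
    refine hcon.1 (hzero a (ev b) (fun hb => hcon.2 (hzero b e₀ he₀ hb)) ?_)
    exact congrArg ev h⟩
  haveI : IsDomain R := NoZeroDivisors.to_isDomain R
  haveI : Fintype R := Fintype.ofFinite R
  letI instF : Field R := Fintype.fieldOfDomain R
  -- the centre embeds in the units
  let ι : Subgroup.center H →* R :=
    { toFun := fun g => ⟨toEnd g, Subring.subset_closure ⟨g, g.2, rfl⟩⟩
      map_one' := Subtype.ext (map_one toEnd)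
      map_mul' := fun g g' => Subtype.ext (map_mul toEnd (g : H) g') }
  have hιinj : Function.Injective ι.toHomUnits := by
    intro g g' h
    have h' : toEnd (g : H) e₀ = toEnd (g' : H) e₀ :=
      congrArg (fun u : Rˣ => ((u : R) : AddMonoid.End (Additive K)) e₀) h
    rcases hfree ((g' : H)⁻¹ * g) (Additive.toMul e₀) (by
      have e' : φ (g : H) (Additive.toMul e₀) = φ (g' : H) (Additive.toMul e₀) :=
        congrArg Additive.toMul h'
      rw [map_mul, MulAut.mul_apply, e', ← MulAut.mul_apply, ← map_mul, inv_mul_cancel, map_one]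
      rfl) with h1 | h1
    · exact Subtype.ext (inv_mul_eq_one.1 h1).symm
    · exact absurd h1 he₀
  have hdvdQ : Nat.card (Subgroup.center H) ∣ Fintype.card R - 1 := by
    have := Subgroup.card_dvd_of_injective ι.toHomUnits hιinj
    rwa [Nat.card_eq_fintype_card (α := Rˣ), Fintype.card_units] at this
  -- `K` is a vector space over `R`
  letI : Module R (Additive K) :=
    { smul := fun r x => (r : AddMonoid.End (Additive K)) x
      one_smul := fun _ => rfl
      mul_smul := fun _ _ _ => rfl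
      smul_zero := fun r => map_zero (r : AddMonoid.End (Additive K))
      smul_add := fun r => map_add (r : AddMonoid.End (Additive K))
      add_smul := fun _ _ _ => rfl
      zero_smul := fun _ => rfl }
  haveI : Fintype (Additive K) := Fintype.ofFinite _
  have hpow := Module.card_eq_pow_finrank (K := R) (V := Additive K)
  have hKc : Fintype.card (Additive K) = Nat.card H + 1 := by
    rw [hcard, ← Nat.card_eq_fintype_card]; rfl
  rw [hKc] at hpow
  generalize Module.finrank R (Additive K) = f at hpow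
  by_contra hcon
  push Not at hcon
  obtain ⟨x, y, hxy⟩ := hcon
  have hf1 : f ≠ 1 := by
    rintro rfl
    rw [pow_one] at hpow
    have hsurj : Function.Surjective ev :=
      ((Fintype.bijective_iff_injective_and_card ev).2 ⟨hinj, hpow.symm.trans hKc.symm⟩).2
    -- every element of `H` is given by a scalar
    have hscal : ∀ h, ∃ r : R, ∀ w, toEnd h w = (r : AddMonoid.End (Additive K)) w := by
      intro h
      obtain ⟨r, hr⟩ := hsurj (toEnd h e₀)
      refine ⟨r, fun w => ?_⟩
      obtain ⟨t, rfl⟩ := hsurj w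
      show toEnd h ((t : AddMonoid.End (Additive K)) e₀) = _
      rw [hRH t h e₀, ← hr]
      exact DFunLike.congr_fun (congrArg Subtype.val (mul_comm t r)) e₀
    obtain ⟨r, hr⟩ := hscal x
    apply hxy
    have h1 : toEnd (x * y) e₀ = toEnd (y * x) e₀ := by
      rw [map_mul, map_mul]
      show toEnd x (toEnd y e₀) = toEnd y (toEnd x e₀)
      rw [hr, hr, ← hRH r y e₀]
    rcases hfree ((y * x)⁻¹ * (x * y)) (Additive.toMul e₀) (by
      have e' : φ (x * y) (Additive.toMul e₀) = φ (y * x) (Additive.toMul e₀) :=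
        congrArg Additive.toMul h1
      rw [map_mul _ (y * x)⁻¹, MulAut.mul_apply, e', ← MulAut.mul_apply, ← map_mul, inv_mul_cancel,
        map_one]
      rfl) with h2 | h2
    · exact (inv_mul_eq_one.1 h2).symm
    · exact absurd h2 he₀
  have hf0 : f ≠ 0 := by
    rintro rfl
    have : 0 < Nat.card H := Nat.card_pos
    rw [pow_zero] at hpow
    omega
  -- arithmetic
  have hq2 : 2 ≤ Fintype.card R := Fintype.one_lt_card
  generalize Fintype.card R = q at hdvdQ hpow hq2
  have hZ := Nat.le_of_dvd (by omega) hdvdQ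
  have hH : 0 < Nat.card H := Nat.card_pos
  have hd := Nat.le_of_dvd (Nat.mul_pos (by norm_num) Nat.card_pos) h12
  have hqsq : q * q ≤ Nat.card H + 1 := by
    rw [hpow, ← pow_two]; exact Nat.pow_le_pow_right (by omega) (by omega)
  obtain ⟨c, hc⟩ := h6.trans hdvdQ
  obtain rfl : q = 7 := by
    have h13 : q ≤ 12 := by
      by_contra h
      have : 13 * q ≤ q * q := Nat.mul_le_mul_right q (by omega)
      omega
    have : q = 7 ∨ q = 1 := by omega
    rcases this with h | h
    · exact h
    · omega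
  obtain ⟨c', hc'⟩ := h6
  have hZ6 : Nat.card (Subgroup.center H) = 6 := by omega
  rw [hZ6] at h12 hd
  have hfle : f ≤ 2 := by
    by_contra h
    have : 7 ^ 3 ≤ 7 ^ f := Nat.pow_le_pow_right (by norm_num) (by omega)
    omega
  obtain rfl : f = 2 := by omega
  rw [show Nat.card H = 48 by omega] at h12
  norm_num at h12

omit hno hσ2 hfix in
/-- **The index two theorem.** -/
theorem exists_invariant_quotient {K : Type*} [CommGroup K] [Finite K] (φ : H →* MulAut K)
    (hfree : ∀ h k, φ h k = k → h = 1 ∨ k = 1) (hcard : Nat.card H + 1 = Nat.card K)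
    (σ : H ≃* H) (hσ2 : ∀ x, σ (σ x) = x) (hfix : ∀ x, σ x = x → x = 1 ∨ x = z)
    (hz : orderOf z = 2) (huniq : ∀ x : H, orderOf x = 2 → x = z)
    (h3 : ∀ A B : Subgroup H, Nat.card A = 3 → Nat.card B = 3 → A = B) :
    ∃ χ : H →* C₂, χ ≠ 1 ∧ ∀ x, χ (σ x) = χ x := by
  by_contra hcon
  have hno : ∀ f : H →* C₂, f = 1 := fun f => by
    by_contra hf
    exact hcon (exists_invariant_hom σ hσ2 hf)
  obtain ⟨h12, h6, x, y, hxy⟩ := center_large hno σ hσ2 hfix hz huniq h3
  exact hxy (comm_of_center_large φ hfree hcard h12 h6 x y)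

end Cfsg.Agent.Perm.SharplyEven
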