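import Mathlib
import Cfsg.Agent.Lib.Perm.SharplyEven
import Cfsg.Agent.Lib.Perm.Transitive
import Cfsg.Agent.Lib.Perm.Sharply
import Cfsg.Agent.S0728

/-!
# Index two in two-point stabilisers of sharply 3-transitive groups of even degree
-/

set_option autoImplicit false
set_option linter.style.haveILetI false
set_option linter.unusedSectionVars false

namespace Cfsg.Agent.Perm

open MulAction

variable {G α : Type*} [Group G] [MulAction G α] [FaithfulSMul G α] [Fintype α]

/-- The abelian regular normal subgroup of a point stabiliser of a sharply 3-transitive group. -/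
theorem exists_kernel_of_sharply_three (h3 : IsMultiplyPretransitive G α 3)
    (hsharp : ∀ x : Fin 3 ↪ α, stabilizer G x = ⊥) {ω o e : α} (ho : o ≠ ω) (he : e ≠ ω) (hoe : o ≠ e) :
    ∃ K : Subgroup G, (∀ k ∈ K, k • ω = ω) ∧ (∀ x, x ≠ ω → ∃! k : K, (k : G) • o = x) ∧
      IsMulCommutative K ∧ ∀ h : G, h • ω = ω → ∀ k ∈ K, h * k * h⁻¹ ∈ K := by
  classical
  have : Nontrivial (SubMulAction.ofStabilizer G ω) :=
    ⟨⟨o, ho⟩, ⟨e, he⟩, fun h => hoe (congrArg Subtype.val h)⟩
  have htr : IsPretransitive G α := by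
    refine ⟨fun x y => ?_⟩
    obtain ⟨c, hc1, hc2⟩ : ∃ c, c ≠ x ∧ c ≠ y := by
      obtain ⟨c, -, hc⟩ := Finset.exists_mem_notMem_of_card_lt_card (s := ({x, y} : Finset α))
        (t := Finset.univ) (by
          have := Finset.card_le_two (a := x) (b := y)
          have h3' : ({ω, o, e} : Finset α).card = 3 := by simp [ho.symm, he.symm, hoe]
          have := Finset.card_le_univ ({ω, o, e} : Finset α)
          rw [Finset.card_univ]; omega)
      simp at hc; exact ⟨c, hc⟩
    rcases eq_or_ne x y with rfl | hxy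
    · exact ⟨1, one_smul G x⟩
    obtain ⟨g, hg, -, -⟩ := exists_smul_eq_three h3 hxy hc1.symm hc2.symm hxy.symm hc2.symm hc1.symm
    exact ⟨g, hg⟩
  have h2 : IsMultiplyPretransitive (stabilizer G ω) (SubMulAction.ofStabilizer G ω) 2 :=
    SubMulAction.ofStabilizer.isMultiplyPretransitive.1 h3
  have hsharp2 : ∀ x : Fin 2 ↪ SubMulAction.ofStabilizer G ω, stabilizer (stabilizer G ω) x = ⊥ := by
    intro x
    rw [Subgroup.eq_bot_iff_forall]
    intro g hg
    refine Subtype.ext (eq_one_of_fixes_three hsharp (fun h : ω = ((x 0 : SubMulAction.ofStabilizer G ω) : α) => (x 0).2 h.symm)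
      (fun h : ω = ((x 1 : SubMulAction.ofStabilizer G ω) : α) => (x 1).2 h.symm)
      (fun e => absurd (x.injective (Subtype.ext e)) (by decide)) g.2
      (congrArg Subtype.val (congrArg (fun e : Fin 2 ↪ SubMulAction.ofStabilizer G ω => e 0) hg))
      (congrArg Subtype.val (congrArg (fun e : Fin 2 ↪ SubMulAction.ofStabilizer G ω => e 1) hg)))
  have : FaithfulSMul (stabilizer G ω) (SubMulAction.ofStabilizer G ω) := ⟨fun {g g'} h => by
    refine Subtype.ext (FaithfulSMul.eq_of_smul_eq_smul (α := α) fun x => ?_)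
    rcases eq_or_ne x ω with rfl | hx
    · exact (g.2 : (g : G) • x = x).trans (g'.2 : (g' : G) • x = x).symm
    · exact congrArg Subtype.val (h ⟨x, hx⟩)⟩
  obtain ⟨K, hKn, hKt, hKs, -, hKc, -⟩ := exists_kernel_of_sharply_two hsharp2
  refine ⟨K.map (stabilizer G ω).subtype, ?_, ?_, ?_, ?_⟩
  · rintro _ ⟨k, -, rfl⟩; exact k.2
  · intro x hx
    obtain ⟨k, hk⟩ := hKt.exists_smul_eq (⟨o, ho⟩ : SubMulAction.ofStabilizer G ω) ⟨x, hx⟩
    refine ⟨⟨_, k, k.2, rfl⟩, congrArg Subtype.val hk, ?_⟩
    rintro ⟨_, k', hk', rfl⟩ he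
    have : (⟨k', hk'⟩ : K) = k := by
      refine eq_of_inv_mul_eq_one ((Subgroup.eq_bot_iff_forall _).1 (hKs ⟨o, ho⟩) _ ?_) |>.symm
      show (k⁻¹ * ⟨k', hk'⟩ : K) • (⟨o, ho⟩ : SubMulAction.ofStabilizer G ω) = _
      rw [mul_smul, show (⟨k', hk'⟩ : K) • (⟨o, ho⟩ : SubMulAction.ofStabilizer G ω) = ⟨x, hx⟩ from Subtype.ext he,
        ← hk, inv_smul_smul]
    subst this
    rfl
  · refine ⟨⟨?_⟩⟩
    rintro ⟨_, k, hk, rfl⟩ ⟨_, k', hk', rfl⟩
    exact Subtype.ext (congrArg (fun u : K => ((u : stabilizer G ω) : G)) (hKc.1.1 ⟨k, hk⟩ ⟨k', hk'⟩))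
  · rintro h hh _ ⟨k, hk, rfl⟩
    exact ⟨⟨h, hh⟩ * k * ⟨h, hh⟩⁻¹, hKn.conj_mem k hk _, rfl⟩

/-- S0728, for a faithful action. -/
theorem subgroup_three_unique (heven : Even (Fintype.card α)) (h6 : 6 ≤ Fintype.card α)
    (h3 : IsMultiplyPretransitive G α 3) (hsharp : ∀ x : Fin 3 ↪ α, stabilizer G x = ⊥)
    {a b : α} (hab : a ≠ b) (A B : Subgroup G) (hA : A ≤ stabilizer G a ⊓ stabilizer G b)
    (hB : B ≤ stabilizer G a ⊓ stabilizer G b) (hA3 : Nat.card A = 3) (hB3 : Nat.card B = 3) :
    A = B := by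
  classical
  let ρ := MulAction.toPermHom G α
  let G' := ρ.range
  let f : G →* G' := ρ.rangeRestrict
  have hf : Function.Injective f := fun g g' h => by
    refine FaithfulSMul.eq_of_smul_eq_smul (α := α) fun x => ?_
    exact congrArg (fun u : G' => (u : Equiv.Perm α) x) h
  have hsm : ∀ (g : G) (x : α), f g • x = g • x := fun g x => rfl
  have h3' : IsMultiplyPretransitive G' α 3 := ⟨fun x y => by
    obtain ⟨g, hg⟩ := h3.exists_smul_eq x y
    refine ⟨f g, Function.Embedding.ext fun i => ?_⟩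
    exact congrArg (fun e : Fin 3 ↪ α => e i) hg⟩
  have hsharp' : ∀ x : Fin 3 ↪ α, stabilizer G' x = ⊥ := fun x => by
    rw [Subgroup.eq_bot_iff_forall]
    rintro ⟨_, g, rfl⟩ hg
    have : g = 1 := (Subgroup.eq_bot_iff_forall _).1 (hsharp x) g (Function.Embedding.ext fun i =>
      congrArg (fun e : Fin 3 ↪ α => e i) hg)
    subst this
    exact Subtype.ext (map_one ρ)
  have hle : ∀ A : Subgroup G, A ≤ stabilizer G a ⊓ stabilizer G b →
      A.map f ≤ stabilizer G' a ⊓ stabilizer G' b := by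
    rintro A hA _ ⟨g, hg, rfl⟩
    exact ⟨(hA hg).1, (hA hg).2⟩
  refine Subgroup.map_injective hf (S0728.result heven h6 G' h3' hsharp' hab _ _ (hle A hA) (hle B hB) ?_ ?_)
  · rw [Subgroup.card_map_of_injective hf, hA3]
  · rw [Subgroup.card_map_of_injective hf, hB3]

variable (h3 : IsMultiplyPretransitive G α 3) (hsharp : ∀ x : Fin 3 ↪ α, stabilizer G x = ⊥)
include h3 hsharp

theorem finite_of_sharply_three {a b c : α} (hab : a ≠ b) (hac : a ≠ c) (hbc : b ≠ c) : Finite G := by
  refine Nat.finite_of_card_ne_zero ?_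
  have h3' : 3 ≤ Nat.card α := by
    classical
    rw [Nat.card_eq_fintype_card]
    refine le_trans (le_of_eq ?_) (Finset.card_le_univ ({a, b, c} : Finset α))
    simp [hab, hac, hbc]
  obtain ⟨x⟩ : Nonempty (Fin 3 ↪ α) :=
    Function.Embedding.nonempty_of_card_le (by simpa [Nat.card_eq_fintype_card] using h3')
  rw [card_eq_of_sharply (hsharp x)]
  exact (Nat.descFactorial_pos.2 h3').ne'

/-- The two-point stabiliser is regular on the remaining points. -/
theorem card_twoStab_of_sharply {a b c : α} (hab : a ≠ b) (hac : a ≠ c) (hbc : b ≠ c) :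
    Nat.card ↥(stabilizer G a ⊓ stabilizer G b) + 2 = Fintype.card α := by
  classical
  let f : ↥(stabilizer G a ⊓ stabilizer G b) → {x : α // x ∈ ((Finset.univ.erase a).erase b)} :=
    fun h => ⟨(h : G) • c, Finset.mem_erase.2 ⟨fun e => hbc (smul_left_cancel _ (e.trans (h.2.2).symm)).symm,
      Finset.mem_erase.2 ⟨fun e => hac (smul_left_cancel _ (e.trans (h.2.1).symm)).symm, Finset.mem_univ _⟩⟩⟩
  have hf : Function.Bijective f := by
    constructor
    · intro h h' e
      have e' : (h : G) • c = (h' : G) • c := congrArg Subtype.val e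
      refine Subtype.ext (inv_mul_eq_one.1 (eq_one_of_fixes_three hsharp hab hac hbc ?_ ?_ ?_)).symm
      · rw [mul_smul, show (h : G) • a = a from h.2.1, inv_smul_eq_iff, show (h' : G) • a = a from h'.2.1]
      · rw [mul_smul, show (h : G) • b = b from h.2.2, inv_smul_eq_iff, show (h' : G) • b = b from h'.2.2]
      · rw [mul_smul, e', inv_smul_smul]
    · rintro ⟨x, hx⟩
      simp only [Finset.mem_erase, Finset.mem_univ, and_true] at hx
      obtain ⟨g, hga, hgb, hgc⟩ := exists_smul_eq_three h3 hab hac hbc hab (Ne.symm hx.2) (Ne.symm hx.1)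
      exact ⟨⟨g, hga, hgb⟩, Subtype.ext hgc⟩
  have h3' : ({a, b, c} : Finset α).card = 3 := by simp [hab, hac, hbc]
  have := Finset.card_le_univ ({a, b, c} : Finset α)
  rw [Nat.card_congr (Equiv.ofBijective f hf), Nat.card_eq_finsetCard,
    Finset.card_erase_of_mem (by simp [Ne.symm hab]), Finset.card_erase_of_mem (Finset.mem_univ _),
    Finset.card_univ]
  omega

/-- In a sharply 3-transitive group of even degree a two-point stabiliser `H` has a homomorphism
onto a group of order two invariant under an element `s` interchanging the two points and fixing a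
third. -/
theorem exists_invariant_quotient_twoStab (heven : Even (Fintype.card α)) (h6 : 6 ≤ Fintype.card α)
    {a b c : α} (hab : a ≠ b) (hac : a ≠ c) (hbc : b ≠ c) {s : G} (hsa : s • a = b)
    (hsb : s • b = a) (hsc : s • c = c) :
    ∃ χ : ↥(stabilizer G a ⊓ stabilizer G b) →* Multiplicative (ZMod 2), χ ≠ 1 ∧
      ∀ x y : ↥(stabilizer G a ⊓ stabilizer G b), (y : G) = s * x * s⁻¹ → χ y = χ x := by
  classical
  have : Finite G := finite_of_sharply_three h3 hsharp hab hac hbc
  set H := stabilizer G a ⊓ stabilizer G b with hH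
  obtain ⟨K, hKa, hreg, hKc, hnorm⟩ := exists_kernel_of_sharply_three h3 hsharp hab.symm hac.symm hbc
  have hinj : ∀ k k' : K, (k : G) • b = (k' : G) • b → k = k' := by
    intro k k' e
    have hne : (k' : G) • b ≠ a := fun h => hab.symm (smul_left_cancel _ (h.trans (hKa _ k'.2).symm))
    obtain ⟨v, -, hv⟩ := hreg _ hne
    exact (hv k e).trans (hv k' rfl).symm
  have hKcard : Nat.card K + 1 = Fintype.card α := by
    rw [Nat.card_congr (Equiv.ofBijective (fun k : K => (⟨(k : G) • b, fun h =>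
        hab.symm (smul_left_cancel _ (h.trans (hKa _ k.2).symm))⟩ : {x : α // x ≠ a})) ⟨?_, ?_⟩),
      Nat.card_eq_fintype_card, Fintype.card_subtype_compl, Fintype.card_subtype_eq]
    · omega
    · intro k k' h
      exact hinj k k' (congrArg Subtype.val h)
    · intro x
      obtain ⟨v, hv, -⟩ := hreg x.1 x.2
      exact ⟨v, Subtype.ext hv⟩
  have hcardH : Nat.card H + 2 = Fintype.card α := card_twoStab_of_sharply h3 hsharp hab hac hbc
  have hle : H ≤ Subgroup.normalizer (K : Set G) := by
    intro h hh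
    rw [Subgroup.mem_normalizer_iff]
    intro k
    refine ⟨fun hk => hnorm h hh.1 k hk, fun hk => ?_⟩
    have := hnorm h⁻¹ (inv_smul_eq_iff.2 (show h • a = a from hh.1).symm) _ hk
    simpa [mul_assoc] using this
  haveI := hKc
  open scoped IsMulCommutative in
  let φ : H →* MulAut K := K.normalizerMonoidHom.comp (Subgroup.inclusion hle)
  have hφ : ∀ (h : H) (k : K), ((φ h k : K) : G) = (h : G) * k * (h : G)⁻¹ := fun h k => rfl
  have hfree : ∀ (h : H) (k : K), φ h k = k → h = 1 ∨ k = 1 := by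
    intro h k e
    rcases eq_or_ne k 1 with hk | hk
    · exact Or.inr hk
    refine Or.inl (Subtype.ext ?_)
    have e' : (h : G) * k * (h : G)⁻¹ = k := (hφ h k).symm.trans (congrArg Subtype.val e)
    refine eq_one_of_fixes_three hsharp hab (c := (k : G) • b) ?_ ?_ h.2.1 h.2.2 ?_
    · exact fun e'' => hab.symm (smul_left_cancel (k : G) (e''.symm.trans (hKa _ k.2).symm))
    · exact fun e'' => hk (hinj k 1 (by rw [← e'', OneMemClass.coe_one, one_smul]))
    · rw [← mul_smul, mul_inv_eq_iff_eq_mul.1 e', mul_smul, show (h : G) • b = b from h.2.2]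
  have hK1 : ∃ k : K, k ≠ 1 := by
    obtain ⟨v, hv, -⟩ := hreg c hac.symm
    exact ⟨v, fun e => hbc (by rw [← hv, e, OneMemClass.coe_one, one_smul])⟩
  have hinvol : ∀ w : H, orderOf w = 2 → ∀ k : K, (φ w k) = k⁻¹ := by
    intro w hw k
    have hww : φ w (φ w k) = k := by
      rw [← MulAut.mul_apply, ← map_mul, ← pow_two, ← hw, pow_orderOf_eq_one, map_one]; rfl
    rcases hfree w (k * φ w k) (by
      rw [map_mul, hww]
      exact hKc.1.1 _ _) with h | h
    · rw [h, orderOf_one] at hw; omega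
    · exact eq_inv_of_mul_eq_one_right h
  have huniq : ∀ w w' : H, orderOf w = 2 → orderOf w' = 2 → w = w' := by
    intro w w' hw hw'
    obtain ⟨k, hk⟩ := hK1
    rcases hfree (w'⁻¹ * w) k (by
      rw [map_mul, MulAut.mul_apply, hinvol w hw, ← hinvol w' hw', ← MulAut.mul_apply, ← map_mul,
        inv_mul_cancel, map_one]
      rfl) with h | h
    · exact (inv_mul_eq_one.1 h).symm
    · exact absurd h hk
  obtain ⟨z, hz⟩ : ∃ z : H, orderOf z = 2 := by
    haveI := Fact.mk Nat.prime_two
    refine exists_prime_orderOf_dvd_card' 2 (even_iff_two_dvd.1 ?_)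
    have := hcardH ▸ heven
    rwa [Nat.even_add, iff_true_right even_two] at this
  have hss : s * s = 1 := eq_one_of_fixes_three hsharp hab hac hbc
    (by rw [mul_smul, hsa, hsb]) (by rw [mul_smul, hsb, hsa]) (by rw [mul_smul, hsc, hsc])
  have hsinv : s⁻¹ = s := inv_eq_of_mul_eq_one_right hss
  have hconj : ∀ x : H, s * (x : G) * s⁻¹ ∈ H := fun x => by
    constructor
    · show (s * (x : G) * s⁻¹) • a = a
      rw [hsinv, mul_smul, mul_smul, hsa, show (x : G) • b = b from x.2.2, hsb]
    · show (s * (x : G) * s⁻¹) • b = b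
      rw [hsinv, mul_smul, mul_smul, hsb, show (x : G) • a = a from x.2.1, hsa]
  let σ : H ≃* H :=
    { toFun := fun x => ⟨_, hconj x⟩
      invFun := fun x => ⟨_, hconj x⟩
      left_inv := fun x => Subtype.ext (by
        show s * (s * (x : G) * s⁻¹) * s⁻¹ = x
        rw [hsinv, show s * (s * (x : G) * s) * s = (s * s) * x * (s * s) by group, hss, one_mul, mul_one])
      right_inv := fun x => Subtype.ext (by
        show s * (s * (x : G) * s⁻¹) * s⁻¹ = x
        rw [hsinv, show s * (s * (x : G) * s) * s = (s * s) * x * (s * s) by group, hss, one_mul, mul_one])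
      map_mul' := fun x y => Subtype.ext (by
        show s * ((x : G) * y) * s⁻¹ = s * x * s⁻¹ * (s * y * s⁻¹)
        group) }
  have hσ2 : ∀ x, σ (σ x) = x := σ.left_inv
  have hfixpt : ∀ x : H, σ x = x → s • ((x : G) • c) = (x : G) • c := by
    intro x hx
    have hx' : s * (x : G) * s⁻¹ = x := congrArg Subtype.val hx
    rw [← mul_smul, mul_inv_eq_iff_eq_mul.1 hx', mul_smul, hsc]
  have hfix : ∀ x, σ x = x → x = 1 ∨ x = z := by
    intro x hx
    have hσz : σ z = z := huniq _ _ (by rw [MulEquiv.orderOf_eq, hz]) hz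
    have hx1 := hfixpt x hx
    have hz1 := hfixpt z hσz
    by_contra hcon
    rw [not_or] at hcon
    have hfree' : ∀ u u' : H, (u : G) • c = (u' : G) • c → u = u' := by
      intro u u' e
      refine Subtype.ext (inv_mul_eq_one.1 (eq_one_of_fixes_three hsharp hab hac hbc ?_ ?_ ?_)).symm
      · rw [mul_smul, show (u : G) • a = a from u.2.1, inv_smul_eq_iff, show (u' : G) • a = a from u'.2.1]
      · rw [mul_smul, show (u : G) • b = b from u.2.2, inv_smul_eq_iff, show (u' : G) • b = b from u'.2.2]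
      · rw [mul_smul, e, inv_smul_smul]
    have hz' : z ≠ 1 := fun e => by rw [e, orderOf_one] at hz; omega
    have hs1 : s = 1 := eq_one_of_fixes_three hsharp
      (a := c) (b := (x : G) • c) (c := (z : G) • c)
      (fun e => hcon.1 (hfree' x 1 (by rw [OneMemClass.coe_one, one_smul]; exact e.symm)))
      (fun e => hz' (hfree' z 1 (by rw [OneMemClass.coe_one, one_smul]; exact e.symm)))
      (fun e => hcon.2 (hfree' x z e)) hsc hx1 hz1
    rw [hs1, one_smul] at hsa
    exact hab hsa
  have h3u : ∀ A B : Subgroup H, Nat.card A = 3 → Nat.card B = 3 → A = B := by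
    intro A B hA hB
    refine Subgroup.map_injective H.subtype_injective
      (subgroup_three_unique heven h6 h3 hsharp hab _ _ (Subgroup.map_subtype_le A)
        (Subgroup.map_subtype_le B) ?_ ?_)
    · rw [Subgroup.card_map_of_injective H.subtype_injective, hA]
    · rw [Subgroup.card_map_of_injective H.subtype_injective, hB]
  open scoped IsMulCommutative in
  obtain ⟨χ, hχ, hχσ⟩ := SharplyEven.exists_invariant_quotient φ hfree (by omega) σ hσ2 hfix hz
    (fun w hw => huniq w z hw hz) h3u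
  refine ⟨χ, hχ, fun x y e => ?_⟩
  rw [show y = σ x from Subtype.ext e, hχσ]

end Cfsg.Agent.Perm
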