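import Mathlib
import Cfsg.Agent.Lib.Perm.Zassenhaus
import Cfsg.Agent.Lib.Perm.SharplyEvenStab
import Cfsg.Agent.Lib.ZassenhausOdd.Basic
import Cfsg.Agent.Lib.Frobenius.FixedPointFree

/-!
# Simple Zassenhaus groups with two-point stabilisers of even order `d`

Here `2 d` is the degree minus two: a sharply 3-transitive group of even degree is not simple
(a sign character, or the transfer into the stabiliser of a pair composed with the index two
character of the two-point stabiliser).
-/

set_option autoImplicit false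
set_option linter.style.haveILetI false
set_option linter.unusedSectionVars false

namespace Cfsg.Agent.Perm.ZassEven

open MulAction Finset

variable {G Ω : Type*} [Group G] [Finite G] [MulAction G Ω] [Fintype Ω]

theorem card_stab_dvd (hZ : Cfsg.IsZassenhausGroup G Ω) {a b : Ω} (hab : a ≠ b) :
    Nat.card ↥(stabilizer G a ⊓ stabilizer G b) ∣ Fintype.card Ω - 2 := by
  classical
  set E := stabilizer G a ⊓ stabilizer G b
  obtain ⟨T, hT⟩ : ∃ T : Finset Ω, T = (Finset.univ.erase a).erase b := ⟨_, rfl⟩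
  have hTc : T.card = Fintype.card Ω - 2 := by
    rw [hT, Finset.card_erase_of_mem (Finset.mem_erase.2 ⟨hab.symm, Finset.mem_univ b⟩),
      Finset.card_erase_of_mem (Finset.mem_univ a), Finset.card_univ]
    omega
  let act : MulAction E {x : Ω // x ∈ T} :=
    { smul := fun h x => ⟨(h : G) • (x : Ω), by
        have hx := x.2
        simp only [hT, Finset.mem_erase, Finset.mem_univ, and_true] at hx ⊢
        exact ⟨fun e => hx.1 (smul_left_cancel (h : G) (e.trans (show (h : G) • b = b from h.2.2).symm)),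
          fun e => hx.2 (smul_left_cancel (h : G) (e.trans (show (h : G) • a = a from h.2.1).symm))⟩⟩
      one_smul := fun x => Subtype.ext (one_smul G (x : Ω))
      mul_smul := fun h h' x => Subtype.ext (mul_smul (h : G) h' (x : Ω)) }
  have hfree : ∀ x : {x : Ω // x ∈ T}, stabilizer E x = ⊥ := by
    intro x
    rw [Subgroup.eq_bot_iff_forall]
    intro h hh
    have hx := x.2
    simp only [hT, Finset.mem_erase, Finset.mem_univ, and_true] at hx
    exact Subtype.ext (Zass.eq_one_of_three hZ hab (Ne.symm hx.1) (Ne.symm hx.2) h.2.1 h.2.2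
      (congrArg Subtype.val hh))
  rw [← hTc, ← Nat.card_eq_finsetCard, Nat.card_congr (selfEquivSigmaOrbits E {x : Ω // x ∈ T})]
  have := Fintype.ofFinite (Quotient (orbitRel E {x : Ω // x ∈ T}))
  rw [Nat.card_sigma]
  refine Finset.dvd_sum fun ω _ => dvd_of_eq ?_
  have h1 := index_stabilizer E ω.out
  rw [hfree, Subgroup.index_bot] at h1
  rw [h1, ← Nat.card_coe_set_eq]

theorem hom_eq_one_of_simple [IsSimpleGroup G] (hG : 2 < Nat.card G) {M : Type*} [Group M] [Finite M]
    (hM : Nat.card M ≤ 2) (f : G →* M) : f = 1 := by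
  rcases IsSimpleGroup.eq_bot_or_eq_top_of_normal f.ker inferInstance with h | h
  · have := Nat.card_le_card_of_injective f ((MonoidHom.ker_eq_bot_iff f).1 h)
    omega
  · exact MonoidHom.ker_eq_top_iff.1 h

/-- In a simple group an involution moves a number of points divisible by four. -/
theorem four_dvd_moved [IsSimpleGroup G] [FaithfulSMul G Ω] [DecidableEq Ω] (hG : 2 < Nat.card G)
    {w : G} (hw : orderOf w = 2) :
    4 ∣ (univ.filter fun x : Ω => w • x ≠ x).card := by
  set π := MulAction.toPermHom G Ω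
  have hinj : Function.Injective π := fun g g' h => FaithfulSMul.eq_of_smul_eq_smul
    fun x => congrArg (fun u : Equiv.Perm Ω => u x) h
  have hπ : orderOf (π w) = 2 := by rw [orderOf_injective π hinj, hw]
  have hsign : Equiv.Perm.sign (π w) = 1 :=
    DFunLike.congr_fun (hom_eq_one_of_simple hG (by simp) (Equiv.Perm.sign.comp π)) w
  obtain ⟨n, hn⟩ := Equiv.Perm.cycleType_prime_order (σ := π w) (by rw [hπ]; exact Nat.prime_two)
  rw [hπ] at hn
  rw [Equiv.Perm.sign_of_cycleType, hn] at hsign
  simp only [Multiset.sum_replicate, Multiset.card_replicate, smul_eq_mul] at hsign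
  have hev : Even ((n + 1) * 2 + (n + 1)) := by
    by_contra h
    rw [(Nat.not_even_iff_odd.1 h).neg_one_pow] at hsign
    exact absurd hsign (by decide)
  have hs : (π w).support.card = (n + 1) * 2 := by
    rw [← Equiv.Perm.sum_cycleType, hn, Multiset.sum_replicate, smul_eq_mul]
  have he : (univ.filter fun x : Ω => w • x ≠ x) = (π w).support := by
    ext x
    simp only [mem_filter, mem_univ, true_and, Equiv.Perm.mem_support]
    rfl
  rw [he, hs]
  rw [Nat.even_iff] at hev
  omega

/-- A simple Zassenhaus group with two-point stabilisers of even order `d` is not sharply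
3-transitive. -/
theorem card_stab_ne [IsSimpleGroup G] (hZ : Cfsg.IsZassenhausGroup G Ω) {a b : Ω} (hab : a ≠ b)
    (heven : Even (Nat.card ↥(stabilizer G a ⊓ stabilizer G b))) :
    Nat.card ↥(stabilizer G a ⊓ stabilizer G b) ≠ Fintype.card Ω - 2 := by
  classical
  intro hd
  haveI := hZ.1
  set E := stabilizer G a ⊓ stabilizer G b with hE
  have hn3 := Zass.three_le hZ
  have hd0 : 0 < Nat.card E := Nat.card_pos
  have hG : 2 < Nat.card G := by
    rw [ZassenhausOdd.card_group hZ hab]
    calc 2 < 3 * (1 * 1) := by norm_num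
      _ ≤ _ := Nat.mul_le_mul hn3 (Nat.mul_le_mul (by omega) hd0)
  obtain ⟨z, hz, hza, hzb⟩ := Zass.exists_involution_of_even heven
  have hz1 : z ≠ 1 := fun e => by rw [e, orderOf_one] at hz; omega
  -- `4 ∣ d`
  have h4 : 4 ∣ Nat.card E := by
    have h := four_dvd_moved (Ω := Ω) hG hz
    have hfix : (univ.filter fun x : Ω => z • x ≠ x) = (univ.erase a).erase b := by
      ext x
      simp only [mem_filter, mem_erase, mem_univ, true_and, and_true]
      refine ⟨fun hx => ⟨fun e => hx (e ▸ hzb), fun e => hx (e ▸ hza)⟩, fun hx e => hz1 ?_⟩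
      exact Zass.eq_one_of_three hZ hab (Ne.symm hx.1) (Ne.symm hx.2) hza hzb e
    rw [hfix, card_erase_of_mem (mem_erase.2 ⟨hab.symm, mem_univ b⟩),
      card_erase_of_mem (mem_univ a), card_univ] at h
    rw [hd]
    omega
  have hd4 : 4 ≤ Nat.card E := Nat.le_of_dvd hd0 h4
  have hΩeven : Even (Fintype.card Ω) := by
    rw [Nat.even_iff]; omega
  -- every involution fixes a point
  have hinv : ∀ w : G, orderOf w = 2 → ∃ e : Ω, w • e = e := by
    intro w hw
    by_contra hcon
    push Not at hcon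
    have h := four_dvd_moved (Ω := Ω) hG hw
    rw [filter_true_of_mem (fun x _ => hcon x), card_univ] at h
    omega
  -- sharp triple transitivity
  have hsharp : ∀ x : Fin 3 ↪ Ω, stabilizer G x = ⊥ := fun x => by
    rw [Subgroup.eq_bot_iff_forall]
    intro g hg
    have h := fun i => congrArg (fun e : Fin 3 ↪ Ω => e i) hg
    exact Zass.eq_one_of_three hZ (x.injective.ne (show (0 : Fin 3) ≠ 1 by decide))
      (x.injective.ne (show (1 : Fin 3) ≠ 2 by decide))
      (x.injective.ne (show (0 : Fin 3) ≠ 2 by decide)) (h 0) (h 1) (h 2)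
  have h3 : IsMultiplyPretransitive G Ω 3 := by
    have key : ∀ u w : Ω, u ≠ a → u ≠ b → w ≠ a → w ≠ b →
        ∃ h : G, h • a = a ∧ h • b = b ∧ h • u = w := by
      intro u w hua hub hwa hwb
      let f : E → {x : Ω // x ∈ (univ.erase a).erase b} := fun h => ⟨(h : G) • u,
        mem_erase.2 ⟨fun e => hub (smul_left_cancel _ (e.trans (h.2.2).symm)),
          mem_erase.2 ⟨fun e => hua (smul_left_cancel _ (e.trans (h.2.1).symm)), mem_univ _⟩⟩⟩
      have hfinj : Function.Injective f := by
        intro h h' e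
        have e' : (h : G) • u = (h' : G) • u := congrArg Subtype.val e
        refine Subtype.ext (inv_mul_eq_one.1 (Zass.eq_one_of_three hZ hab hub.symm hua.symm ?_ ?_ ?_)).symm
        · rw [mul_smul, show (h : G) • a = a from h.2.1, inv_smul_eq_iff, show (h' : G) • a = a from h'.2.1]
        · rw [mul_smul, show (h : G) • b = b from h.2.2, inv_smul_eq_iff, show (h' : G) • b = b from h'.2.2]
        · rw [mul_smul, e', inv_smul_smul]
      have := Fintype.ofFinite E
      have hbij := (Fintype.bijective_iff_injective_and_card f).2 ⟨hfinj, by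
        rw [← Nat.card_eq_fintype_card, hd, Fintype.card_coe,
          card_erase_of_mem (mem_erase.2 ⟨hab.symm, mem_univ b⟩), card_erase_of_mem (mem_univ a), card_univ]
        omega⟩
      obtain ⟨h, hh⟩ := hbij.2 ⟨w, mem_erase.2 ⟨hwb, mem_erase.2 ⟨hwa, mem_univ _⟩⟩⟩
      exact ⟨h, h.2.1, h.2.2, congrArg Subtype.val hh⟩
    refine isMultiplyPretransitive_of_forall fun x y hx hy => ?_
    obtain ⟨g, hga, hgb⟩ := Zass.two_trans hZ (hx.ne (show (0 : Fin 3) ≠ 1 by decide)) hab
    obtain ⟨k, hka, hkb⟩ := Zass.two_trans hZ (hy.ne (show (0 : Fin 3) ≠ 1 by decide)) hab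
    obtain ⟨h, hha, hhb, hh⟩ := key (g • x 2) (k • y 2)
      (fun e => hx.ne (show (2 : Fin 3) ≠ 0 by decide) (smul_left_cancel g (e.trans hga.symm)))
      (fun e => hx.ne (show (2 : Fin 3) ≠ 1 by decide) (smul_left_cancel g (e.trans hgb.symm)))
      (fun e => hy.ne (show (2 : Fin 3) ≠ 0 by decide) (smul_left_cancel k (e.trans hka.symm)))
      (fun e => hy.ne (show (2 : Fin 3) ≠ 1 by decide) (smul_left_cancel k (e.trans hkb.symm)))
    refine ⟨k⁻¹ * h * g, fun i => ?_⟩
    fin_cases i
    · simp only [mul_smul]; rw [inv_smul_eq_iff]; exact (congrArg (h • ·) hga).trans (hha.trans hka.symm)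
    · simp only [mul_smul]; rw [inv_smul_eq_iff]; exact (congrArg (h • ·) hgb).trans (hhb.trans hkb.symm)
    · simp only [mul_smul]; rw [inv_smul_eq_iff]; exact hh
  obtain ⟨c, hca, hcb⟩ := Zass.exists_third hZ a b
  obtain ⟨s, hsa, hsb, hsc⟩ := exists_smul_eq_three h3 hab hca.symm hcb.symm hab.symm hcb.symm hca.symm
  obtain ⟨χ, hχ, hχs⟩ := exists_invariant_quotient_twoStab h3 hsharp hΩeven (by omega) hab hca.symm
    hcb.symm hsa hsb hsc
  have hss : s * s = 1 := eq_one_of_fixes_three hsharp hab hca.symm hcb.symm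
    (by rw [mul_smul, hsa, hsb]) (by rw [mul_smul, hsb, hsa]) (by rw [mul_smul, hsc, hsc])
  have hsinv : s⁻¹ = s := inv_eq_of_mul_eq_one_right hss
  -- the stabiliser of the pair and the extension of `χ`
  let M : Subgroup G :=
    { carrier := {g | (g • a = a ∧ g • b = b) ∨ (g • a = b ∧ g • b = a)}
      one_mem' := Or.inl ⟨one_smul G a, one_smul G b⟩
      mul_mem' := by
        rintro g k (⟨h1, h2⟩ | ⟨h1, h2⟩) (⟨h3, h4⟩ | ⟨h3, h4⟩) <;>
          simp [mul_smul, h1, h2, h3, h4]
      inv_mem' := by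
        rintro g (⟨h1, h2⟩ | ⟨h1, h2⟩)
        · exact Or.inl ⟨inv_smul_eq_iff.2 h1.symm, inv_smul_eq_iff.2 h2.symm⟩
        · exact Or.inr ⟨inv_smul_eq_iff.2 h2.symm, inv_smul_eq_iff.2 h1.symm⟩ }
  have hEM : ∀ x ∈ E, x ∈ M := fun x hx => Or.inl hx
  have hsplit : ∀ g : M, ((g : G) • a = a ∧ (g : G) ∈ E) ∨ ((g : G) • a ≠ a ∧ (g : G) * s ∈ E) := by
    rintro ⟨g, ⟨h1, h2⟩ | ⟨h1, h2⟩⟩
    · exact Or.inl ⟨h1, h1, h2⟩
    · refine Or.inr ⟨fun e => hab (e.symm.trans h1), ?_, ?_⟩
      · show (g * s) • a = a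
        rw [mul_smul, hsa, h2]
      · show (g * s) • b = b
        rw [mul_smul, hsb, h1]
  let part : M → E := fun g => if h : (g : G) • a = a then
      ⟨g, (hsplit g).elim (fun h' => h'.2) (fun h' => absurd h h'.1)⟩
    else ⟨(g : G) * s, (hsplit g).elim (fun h' => absurd h'.1 h) (fun h' => h'.2)⟩
  have hpart1 : ∀ (g : M) (h : (g : G) • a = a), (part g : G) = g := fun g h => by simp [part, h]
  have hpart2 : ∀ (g : M) (h : (g : G) • a ≠ a), (part g : G) = g * s := fun g h => by simp [part, h]
  have hswap : ∀ g : M, (g : G) • a ≠ a → (g : G) • a = b ∧ (g : G) • b = a := by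
    rintro ⟨g, h | h⟩ hne
    · exact absurd h.1 hne
    · exact h
  let ψ : M →* Multiplicative (ZMod 2) :=
    { toFun := fun g => χ (part g)
      map_one' := by
        rw [show part 1 = 1 from Subtype.ext (by rw [hpart1 1 (one_smul G a)]; rfl), map_one]
      map_mul' := fun g k => by
        have hsconj : ∀ x : E, s * (x : G) * s⁻¹ ∈ E := fun x => by
          constructor
          · show (s * (x : G) * s⁻¹) • a = a
            rw [hsinv, mul_smul, mul_smul, hsa, show (x : G) • b = b from x.2.2, hsb]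
          · show (s * (x : G) * s⁻¹) • b = b
            rw [hsinv, mul_smul, mul_smul, hsb, show (x : G) • a = a from x.2.1, hsa]
        by_cases hg : (g : G) • a = a
        · have hgb : (g : G) • b = b := ((hsplit g).resolve_right fun h => h.1 hg).2.2
          by_cases hk : (k : G) • a = a
          · have hgk : ((g * k : M) : G) • a = a := by rw [Subgroup.coe_mul, mul_smul, hk, hg]
            rw [← map_mul]
            congr 1
            exact Subtype.ext (by rw [hpart1 _ hgk, Subgroup.coe_mul, Subgroup.coe_mul, hpart1 _ hg, hpart1 _ hk])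
          · have hgk : ((g * k : M) : G) • a ≠ a := by
              rw [Subgroup.coe_mul, mul_smul, (hswap k hk).1, hgb]; exact hab.symm
            rw [← map_mul]
            congr 1
            exact Subtype.ext (by
              rw [hpart2 _ hgk, Subgroup.coe_mul, Subgroup.coe_mul, hpart1 _ hg, hpart2 _ hk, mul_assoc])
        · have hgb := hswap g hg
          rw [← hχs (part k) ⟨_, hsconj (part k)⟩ rfl, ← map_mul]
          congr 1
          by_cases hk : (k : G) • a = a
          · have hgk : ((g * k : M) : G) • a ≠ a := by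
              rw [Subgroup.coe_mul, mul_smul, hk]; exact hg
            exact Subtype.ext (by
              rw [hpart2 _ hgk, Subgroup.coe_mul, Subgroup.coe_mul, hpart2 _ hg]
              show (g : G) * k * s = g * s * (s * (part k : G) * s⁻¹)
              rw [hpart1 _ hk, hsinv, show (g : G) * s * (s * (k : G) * s) = g * (s * s) * k * s by group,
                hss, mul_one])
          · have hgk : ((g * k : M) : G) • a = a := by
              rw [Subgroup.coe_mul, mul_smul, (hswap k hk).1, hgb.2]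
            exact Subtype.ext (by
              rw [hpart1 _ hgk, Subgroup.coe_mul, Subgroup.coe_mul, hpart2 _ hg]
              show (g : G) * k = g * s * (s * (part k : G) * s⁻¹)
              rw [hpart2 _ hk, hsinv,
                show (g : G) * s * (s * ((k : G) * s) * s) = g * (s * s) * k * (s * s) by group,
                hss, mul_one, mul_one]) }
  -- involutions interchanging `a` and `b` lie in the kernel
  have hinvker : ∀ g : M, (g : G) * g = 1 → (g : G) • a ≠ a → ψ g = 1 := by
    intro g hg2 hga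
    obtain ⟨h1, h2⟩ := hswap g hga
    have hg1 : (g : G) ≠ 1 := fun e => hga (by rw [e, one_smul])
    obtain ⟨e, he⟩ := hinv g (orderOf_eq_prime (by rw [pow_two]; exact hg2) hg1)
    have hea : e ≠ a := fun h => hab (by rw [h] at he; exact he.symm.trans h1)
    have heb : e ≠ b := fun h => hab (by rw [h] at he; exact h2.symm.trans he)
    obtain ⟨k, hka, hkb, hkc⟩ := exists_smul_eq_three h3 hab hca.symm hcb.symm hab hea.symm heb.symm
    have hkE : k ∈ E := ⟨hka, hkb⟩
    have hg : (g : G) = k * s * k⁻¹ := by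
      refine (inv_mul_eq_one.1 (eq_one_of_fixes_three hsharp hab hea.symm heb.symm ?_ ?_ ?_)).symm
      · rw [mul_smul, h1, inv_smul_eq_iff, mul_smul, mul_smul, inv_smul_eq_iff.2 hka.symm, hsa, hkb]
      · rw [mul_smul, h2, inv_smul_eq_iff, mul_smul, mul_smul, inv_smul_eq_iff.2 hkb.symm, hsb, hka]
      · rw [mul_smul, he, inv_smul_eq_iff, mul_smul, mul_smul, inv_smul_eq_iff.2 hkc.symm, hsc, hkc]
    have hmem : s * (k⁻¹ : G) * s⁻¹ ∈ E := by
      constructor
      · show (s * k⁻¹ * s⁻¹) • a = a
        rw [hsinv, mul_smul, mul_smul, hsa, inv_smul_eq_iff.2 hkb.symm, hsb]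
      · show (s * k⁻¹ * s⁻¹) • b = b
        rw [hsinv, mul_smul, mul_smul, hsb, inv_smul_eq_iff.2 hka.symm, hsa]
    show χ (part g) = 1
    have : part g = ⟨k, hkE⟩ * ⟨_, hmem⟩ := Subtype.ext (by
      rw [hpart2 _ hga, hg, Subgroup.coe_mul]
      show k * s * k⁻¹ * s = k * (s * k⁻¹ * s⁻¹)
      rw [hsinv]; group)
    rw [this, map_mul, hχs ⟨k⁻¹, E.inv_mem hkE⟩ ⟨_, hmem⟩ rfl,
      show (⟨k⁻¹, E.inv_mem hkE⟩ : E) = (⟨k, hkE⟩ : E)⁻¹ from rfl, map_inv, mul_inv_cancel]
  -- transfer
  obtain ⟨x, hx⟩ : ∃ x : E, χ x ≠ 1 := by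
    by_contra h
    push Not at h
    exact hχ (MonoidHom.ext fun x => h x)
  have h1 : ψ.transfer (x : G) = 1 :=
    DFunLike.congr_fun (hom_eq_one_of_simple hG (by simp) ψ.transfer) (x : G)
  haveI : Fintype (Quotient (orbitRel (Subgroup.zpowers (x : G)) (G ⧸ M))) := Fintype.ofFinite _
  rw [MonoidHom.transfer_eq_prod_quotient_orbitRel_zpowers_quot] at h1
  set q₀ : Quotient (orbitRel (Subgroup.zpowers (x : G)) (G ⧸ M)) := Quotient.mk _ ((1 : G) : G ⧸ M)
  have hxM : (x : G) ∈ M := hEM x x.2
  have hfix1 : ∀ r ∈ orbit (Subgroup.zpowers (x : G)) ((1 : G) : G ⧸ M), r = ((1 : G) : G ⧸ M) := by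
    rintro _ ⟨⟨u, hu⟩, rfl⟩
    show u • ((1 : G) : G ⧸ M) = _
    rw [MulAction.Quotient.smul_mk, QuotientGroup.eq, mul_one, smul_eq_mul, mul_one]
    exact M.inv_mem ((Subgroup.zpowers_le.2 hxM) hu)
  rw [Fintype.prod_eq_single q₀] at h1
  · have h0 : q₀.out = ((1 : G) : G ⧸ M) :=
      hfix1 _ (orbitRel_apply.1 (Quotient.mk_out (s := orbitRel (Subgroup.zpowers (x : G)) (G ⧸ M))
        ((1 : G) : G ⧸ M)))
    have hper0 : Function.minimalPeriod ((x : G) • ·) q₀.out = 1 := by
      rw [Function.minimalPeriod_eq_one_iff_isFixedPt, h0]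
      show (x : G) • ((1 : G) : G ⧸ M) = _
      rw [MulAction.Quotient.smul_mk, QuotientGroup.eq, mul_one, smul_eq_mul, mul_one]
      exact M.inv_mem hxM
    set m := Quotient.out q₀.out
    have hm : m ∈ M := by
      have : (m : G ⧸ M) = ((1 : G) : G ⧸ M) := (QuotientGroup.out_eq' _).trans h0
      rw [QuotientGroup.eq, mul_one] at this
      exact (M.inv_mem_iff).1 this
    have hmem : m⁻¹ * (x : G) * m ∈ M := M.mul_mem (M.mul_mem (M.inv_mem hm) hxM) hm
    have h5 : ψ ⟨m⁻¹ * (x : G) * m, hmem⟩ = 1 := by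
      refine Eq.trans ?_ h1
      congr 1
      apply Subtype.ext
      show _ = m⁻¹ * (x : G) ^ _ * m
      rw [hper0, pow_one]
    rw [show (⟨m⁻¹ * (x : G) * m, hmem⟩ : M) = ⟨m, hm⟩⁻¹ * ⟨x, hxM⟩ * ⟨m, hm⟩ from rfl, map_mul,
      map_mul, map_inv, mul_right_comm, inv_mul_cancel, one_mul] at h5
    refine hx (Eq.trans ?_ h5)
    show χ x = χ (part ⟨x, hxM⟩)
    congr 1
    exact Subtype.ext (hpart1 ⟨x, hxM⟩ x.2.1).symm
  · intro q hq
    set k := Quotient.out q.out with hk
    set p := Function.minimalPeriod ((x : G) • ·) q.out with hp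
    have hkne : k ∉ M := by
      intro hkM
      apply hq
      have : q.out = ((1 : G) : G ⧸ M) := by
        rw [← QuotientGroup.out_eq' q.out, QuotientGroup.eq, mul_one]
        exact M.inv_mem hkM
      rw [← Quotient.out_eq q, this]
    have hpq : k⁻¹ * (x : G) ^ p * k ∈ M := by
      have h2 : (x : G) ^ p • q.out = q.out := MulAction.pow_period_smul (x : G) q.out
      rw [← QuotientGroup.out_eq' q.out, MulAction.Quotient.smul_mk, QuotientGroup.eq,
        smul_eq_mul, mul_inv_rev] at h2
      simpa [k, mul_assoc] using M.inv_mem h2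
    have key : ∀ j : ℕ, k⁻¹ * (x : G) ^ j * k ∈ E → (x : G) ^ j = 1 := by
      intro j hj
      by_contra hne
      obtain ⟨hga, hgb⟩ := ZassenhausOdd.pair_of_conj_mem hZ hab (Subgroup.pow_mem _ x.2 j) hne hj
      refine hkne ?_
      rcases hga with ha | ha <;> rcases hgb with hb | hb
      · exact absurd (smul_left_cancel k (ha.trans hb.symm)) hab
      · exact Or.inl ⟨ha, hb⟩
      · exact Or.inr ⟨ha, hb⟩
      · exact absurd (smul_left_cancel k (ha.trans hb.symm)) hab
    suffices h : ∀ (hm : k⁻¹ * (x : G) ^ p * k ∈ M), ψ ⟨_, hm⟩ = 1 from h _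
    intro hm
    set y : M := ⟨k⁻¹ * (x : G) ^ p * k, hm⟩
    by_cases hya : (y : G) • a = a
    · have hyE : (y : G) ∈ E := ((hsplit y).resolve_right fun h => h.1 hya).2
      have h2 := key p hyE
      rw [show y = 1 from Subtype.ext (show k⁻¹ * (x : G) ^ p * k = 1 by rw [h2, mul_one, inv_mul_cancel]),
        map_one]
    · obtain ⟨h1', h2'⟩ := hswap y hya
      have hy2 : k⁻¹ * (x : G) ^ (2 * p) * k = (y : G) * y := by
        show _ = k⁻¹ * (x : G) ^ p * k * (k⁻¹ * (x : G) ^ p * k)
        rw [two_mul, pow_add]; group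
      have hyE : k⁻¹ * (x : G) ^ (2 * p) * k ∈ E := by
        rw [hy2]
        exact ⟨show ((y : G) * y) • a = a by rw [mul_smul, h1', h2'],
          show ((y : G) * y) • b = b by rw [mul_smul, h2', h1']⟩
      refine hinvker y ?_ hya
      rw [← hy2, key _ hyE, mul_one, inv_mul_cancel]

/-- In a simple Zassenhaus group `2 d = |Ω| - 2` when `d` is even. -/
theorem two_mul_card_stab [IsSimpleGroup G] (hZ : Cfsg.IsZassenhausGroup G Ω) {a b : Ω} (hab : a ≠ b)
    (heven : Even (Nat.card ↥(stabilizer G a ⊓ stabilizer G b))) :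
    2 * Nat.card ↥(stabilizer G a ⊓ stabilizer G b) = Fintype.card Ω - 2 := by
  have hne := card_stab_ne hZ hab heven
  have hle := Zass.degree_le_of_even hZ hab heven
  have h3 := Zass.three_le hZ
  obtain ⟨k, hk⟩ := card_stab_dvd hZ hab
  have hd0 : 0 < Nat.card ↥(stabilizer G a ⊓ stabilizer G b) := Nat.card_pos
  generalize Nat.card ↥(stabilizer G a ⊓ stabilizer G b) = d at hne hle hk hd0 ⊢
  rcases k with _ | _ | _ | k
  · omega
  · exact absurd (hk.trans (mul_one _)).symm hne
  · omega
  · have : d * 3 ≤ d * (k + 1 + 1 + 1) := Nat.mul_le_mul_left d (by omega)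
    omega

/-- In a simple Zassenhaus group with `d` even the two-point stabiliser is cyclic and inverted by
every element interchanging the two points. -/
theorem twoStab_cyclic_inverted [IsSimpleGroup G] (hZ : Cfsg.IsZassenhausGroup G Ω) {a b : Ω}
    (hab : a ≠ b) (heven : Even (Nat.card ↥(stabilizer G a ⊓ stabilizer G b))) :
    IsCyclic ↥(stabilizer G a ⊓ stabilizer G b) ∧
      ∀ v : G, v • a = b → v • b = a → v * v = 1 ∧
        ∀ h ∈ stabilizer G a ⊓ stabilizer G b, v * h * v⁻¹ = h⁻¹ := by
  classical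
  have := Fintype.ofFinite G
  have h2d := two_mul_card_stab hZ hab heven
  set E := stabilizer G a ⊓ stabilizer G b with hE
  let Hf : Finset G := univ.filter fun g => g • a = a ∧ g • b = b
  have hHf : Hf.card = Nat.card E := by
    rw [← Fintype.card_subtype, ← Nat.card_eq_fintype_card]; rfl
  let S0 : Finset G := univ.filter fun g : G =>
    (orderOf g = 2 ∧ ∃ x y : Ω, x ≠ y ∧ g • x = x ∧ g • y = y) ∧ g • a = b
  have hS0 : 2 * S0.card = Fintype.card Ω - 2 := by
    convert Zass.two_mul_card_swapping hZ hab heven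
  have hsq : ∀ v : G, v • a = b → v • b = a → v * v = 1 := by
    intro v h1 h2
    let Sw : Finset G := univ.filter fun g => g • a = b ∧ g • b = a
    have hsub : S0 ⊆ Sw := by
      intro g hg
      simp only [S0, Sw, mem_filter, mem_univ, true_and] at hg ⊢
      refine ⟨hg.2, ?_⟩
      rw [← hg.2, Zass.smul_smul_of_sq (Zass.sq_eq_one_of_order hg.1.1)]
    have hSw : Sw.card ≤ Hf.card := by
      refine card_le_card_of_injOn (fun g => v * g) ?_ (fun x _ y _ h => mul_left_cancel h)
      intro g hg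
      simp only [Sw, coe_filter, mem_univ, true_and, Set.mem_ofPred_eq] at hg
      simp only [Hf, coe_filter, mem_univ, true_and, Set.mem_ofPred_eq, mul_smul, hg.1, hg.2, h1, h2,
        and_self]
    have heq : S0 = Sw := eq_of_subset_of_card_le hsub (by omega)
    have hv : v ∈ S0 := heq ▸ mem_filter.2 ⟨mem_univ _, h1, h2⟩
    exact Zass.sq_eq_one_of_order (mem_filter.1 hv).2.1.1
  have hinv : ∀ v : G, v • a = b → v • b = a → ∀ h ∈ E, v * h * v⁻¹ = h⁻¹ := by
    intro v h1 h2 h hh
    have hv := hsq v h1 h2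
    have h3 := hsq (v * h) (by rw [mul_smul, show h • a = a from hh.1, h1])
      (by rw [mul_smul, show h • b = b from hh.2, h2])
    rw [eq_inv_iff_mul_eq_one, show v⁻¹ = v from inv_eq_of_mul_eq_one_right hv, mul_assoc]
    exact h3
  refine ⟨?_, fun v h1 h2 => ⟨hsq v h1 h2, hinv v h1 h2⟩⟩
  obtain ⟨s, hs, hsa, hsb⟩ := Zass.exists_swap hZ hab
  have hcomm : ∀ x y : E, Commute x y := by
    intro x y
    refine Subtype.ext ?_
    have e1 := hinv s hsa hsb _ (E.mul_mem x.2 y.2)
    rw [show s * ((x : G) * y) * s⁻¹ = (s * x * s⁻¹) * (s * y * s⁻¹) by group,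
      hinv s hsa hsb _ x.2, hinv s hsa hsb _ y.2, ← mul_inv_rev] at e1
    exact (inv_injective e1).symm
  obtain ⟨K, hKa, hreg, hKc, hnorm⟩ := Zass.exists_kernel_of_even hZ hab heven
  have hle : E ≤ Subgroup.normalizer (K : Set G) := by
    intro h hh
    rw [Subgroup.mem_normalizer_iff]
    intro k
    refine ⟨fun hk => hnorm h hh.1 k hk, fun hk => ?_⟩
    have := hnorm h⁻¹ (inv_smul_eq_iff.2 (show h • a = a from hh.1).symm) _ hk
    simpa [mul_assoc] using this
  haveI := hKc
  open scoped IsMulCommutative in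
  have hfpf : Frobenius.Fpf.IsFpf (V := K) (Frobenius.Fpf.conjHom E K hle) := by
    intro h hh k hk
    by_contra hk1
    have e' : (h : G) * k * (h : G)⁻¹ = k := congrArg Subtype.val hk
    refine hh (Subtype.ext ?_)
    refine Zass.eq_one_of_three hZ hab (c := (k : G) • b) ?_ ?_ h.2.1 h.2.2 ?_
    · intro e''
      obtain ⟨w, -, hw⟩ := hreg b hab.symm
      exact hk1 ((hw k e''.symm).trans (hw 1 (one_smul G b)).symm)
    · exact fun e'' => hab.symm (smul_left_cancel (k : G) (e''.symm.trans (hKa _ k.2).symm))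
    · rw [← mul_smul, mul_inv_eq_iff_eq_mul.1 e', mul_smul, show (h : G) • b = b from h.2.2]
  haveI : Nontrivial K := by
    obtain ⟨c, hca, hcb⟩ := Zass.exists_third hZ a b
    obtain ⟨k, hk, -⟩ := hreg c hca
    exact ⟨⟨k, 1, fun e => hcb (by rw [← hk, e, OneMemClass.coe_one, one_smul])⟩⟩
  open scoped IsMulCommutative in
  exact Frobenius.Fpf.isCyclic_of_comm hfpf hcomm

end Cfsg.Agent.Perm.ZassEven
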