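import Cfsg.Agent.Lib.Perm.Transitive

/-!
# Regular normal subgroups

If `N` is a normal subgroup acting regularly, the action of a point stabiliser on the points is
its action by conjugation on `N`, transported by `n ↦ n • a`.
-/

namespace Cfsg.Agent.Perm

open MulAction

variable {G α : Type*} [Group G] [MulAction G α]

/-- For `g` fixing `a`, conjugation by `g` on `N` is the action of `g` on `n • a`. -/
theorem conj_smul_eq {g : G} {a : α} (hg : g • a = a) (n : G) :
    (g * n * g⁻¹) • a = g • n • a := by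
  rw [mul_smul, mul_smul]
  congr 2
  rw [inv_smul_eq_iff, hg]

/-- In a semiregular subgroup an element is determined by the image of one point. -/
theorem eq_of_smul_eq {N : Subgroup G} {a : α} (h : stabilizer N a = ⊥) {m n : G} (hm : m ∈ N)
    (hn : n ∈ N) (he : m • a = n • a) : m = n :=
  inv_mul_eq_one.1 <| stabilizer_subgroup_eq_bot_iff.1 h _ (N.mul_mem (N.inv_mem hm) hn)
    (by rw [mul_smul, inv_smul_eq_iff, he])

/-- An element fixing `a` centralises `n` in a regular normal subgroup iff it fixes `n • a`. -/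
theorem commute_iff_fixes {N : Subgroup G} [hN : N.Normal] {a : α} (h : stabilizer N a = ⊥)
    {g n : G} (hg : g • a = a) (hn : n ∈ N) : g * n = n * g ↔ g • n • a = n • a := by
  rw [← conj_smul_eq hg n]
  constructor
  · intro hc
    rw [hc, mul_inv_cancel_right]
  · intro he
    exact mul_inv_eq_iff_eq_mul.1 (eq_of_smul_eq h (hN.conj_mem n hn g) hn he)

/-- In a finite group, if all non-trivial elements of a non-trivial normal subgroup are conjugate,
it is an elementary abelian `p`-group. -/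
theorem elementary_abelian_of_conj_transitive {N : Subgroup G} [hN : N.Normal] [Finite N]
    (hne : N ≠ ⊥) (h : ∀ x ∈ N, ∀ y ∈ N, x ≠ 1 → y ≠ 1 → ∃ g : G, g * x * g⁻¹ = y) :
    ∃ p m : ℕ, p.Prime ∧ 1 ≤ m ∧ Nat.card N = p ^ m ∧ IsMulCommutative N ∧
      ∀ x ∈ N, x ^ p = 1 := by
  have h1 : Nat.card N ≠ 1 := fun h => hne (Subgroup.eq_bot_of_card_eq N h)
  obtain ⟨p, hp, hpd⟩ := Nat.exists_prime_and_dvd h1
  have : Fact p.Prime := ⟨hp⟩
  obtain ⟨⟨x, hxN⟩, hx⟩ := exists_prime_orderOf_dvd_card' p hpd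
  rw [Subgroup.orderOf_mk] at hx
  have hx1 : x ≠ 1 := fun e => hp.ne_one (by rw [← hx, e, orderOf_one])
  have hxp : x ^ p = 1 := hx ▸ pow_orderOf_eq_one x
  have hexp : ∀ y ∈ N, y ^ p = 1 := fun y hy => by
    rcases eq_or_ne y 1 with rfl | hy1
    · exact one_pow p
    · obtain ⟨g, rfl⟩ := h x hxN y hy hx1 hy1
      rw [conj_pow, hxp, mul_one, mul_inv_cancel]
  have hpg : IsPGroup p N := fun y => ⟨1, Subtype.ext (by simpa using hexp y y.2)⟩
  obtain ⟨m, hm⟩ := IsPGroup.iff_card.1 hpg
  refine ⟨p, m, hp, Nat.one_le_iff_ne_zero.2 fun e => h1 (by rw [hm, e, pow_zero]), hm, ?_, hexp⟩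
  have : Nontrivial N := (Subgroup.nontrivial_iff_ne_bot N).2 hne
  have hz := hpg.center_nontrivial
  obtain ⟨⟨⟨z, hzN⟩, hzc⟩, hz1⟩ := exists_ne (1 : Subgroup.center N)
  have hz1' : z ≠ 1 := fun e => hz1 (Subtype.ext (Subtype.ext e))
  refine ⟨⟨fun u v => Subtype.ext ?_⟩⟩
  rcases eq_or_ne (u : G) 1 with e | e
  · simp [e]
  · obtain ⟨g, hg⟩ := h z hzN u u.2 hz1' e
    have := congrArg Subtype.val
      (Subgroup.mem_center_iff.1 hzc ⟨g⁻¹ * v * g, hN.conj_mem' v v.2 g⟩)
    change (g⁻¹ * v * g) * z = z * (g⁻¹ * v * g) at this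
    calc ((u * v : N) : G) = g * (z * (g⁻¹ * v * g)) * g⁻¹ := by
          rw [Subgroup.coe_mul, ← hg]; group
      _ = g * ((g⁻¹ * v * g) * z) * g⁻¹ := by rw [this]
      _ = ((v * u : N) : G) := by rw [Subgroup.coe_mul, ← hg]; group

/-- If a point stabiliser is transitive on the other points, the non-trivial elements of a regular
normal subgroup are conjugate. -/
theorem exists_conj_of_two_transitive (h2 : IsMultiplyPretransitive G α 2) {N : Subgroup G}
    [hN : N.Normal] {a : α} (h : stabilizer N a = ⊥) {x y : G} (hx : x ∈ N) (hy : y ∈ N)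
    (hx1 : x ≠ 1) (hy1 : y ≠ 1) : ∃ g : G, g • a = a ∧ g * x * g⁻¹ = y := by
  have hxa : x • a ≠ a := fun e => hx1 (stabilizer_subgroup_eq_bot_iff.1 h x hx e)
  have hya : y • a ≠ a := fun e => hy1 (stabilizer_subgroup_eq_bot_iff.1 h y hy e)
  obtain ⟨g, hga, hg⟩ := exists_stabilizer_smul_eq h2 hxa hya
  exact ⟨g, hga, eq_of_smul_eq h (hN.conj_mem x hx g) hy (by rw [conj_smul_eq hga, hg])⟩

/-- A regular normal subgroup of a finite 2-transitive group is elementary abelian. -/
theorem regular_normal_elementary_abelian [Finite α] [Nontrivial α]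
    (h2 : IsMultiplyPretransitive G α 2) {N : Subgroup G} [N.Normal] [IsPretransitive N α]
    (hreg : ∀ a : α, stabilizer N a = ⊥) :
    ∃ p m : ℕ, p.Prime ∧ 1 ≤ m ∧ Nat.card α = p ^ m ∧ Nat.card N = p ^ m ∧
      IsMulCommutative N ∧ ∀ x ∈ N, x ^ p = 1 := by
  obtain ⟨a, b, hab⟩ := exists_pair_ne α
  have hbij := bijective_smul_of_regular (hreg a)
  have : Finite N := Finite.of_injective _ hbij.1
  have hne : N ≠ ⊥ := by
    rintro rfl
    obtain ⟨n, hn, hab'⟩ := isPretransitive_subgroup_iff.1 ‹_› a b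
    exact hab (by rw [← hab', Subgroup.mem_bot.1 hn, one_smul])
  obtain ⟨p, m, hp, hm, hc, hcom, hexp⟩ := elementary_abelian_of_conj_transitive hne
    fun x hx y hy hx1 hy1 =>
      let ⟨g, _, hg⟩ := exists_conj_of_two_transitive h2 (hreg a) hx hy hx1 hy1
      ⟨g, hg⟩
  exact ⟨p, m, hp, hm, by rw [← hc, card_eq_of_regular (hreg a)], hc, hcom, hexp⟩

/-- The key step for regular normal subgroups of 3-transitive groups: if an element fixes `a`
and `x • a`, it fixes `x⁻¹ • a`. -/
theorem fixes_inv_of_fixes {N : Subgroup G} [hN : N.Normal] {a : α} (h : stabilizer N a = ⊥)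
    {g x : G} (hg : g • a = a) (hx : x ∈ N) (hgx : g • x • a = x • a) :
    g • x⁻¹ • a = x⁻¹ • a := by
  rw [← commute_iff_fixes h hg (N.inv_mem hx)]
  have hc : Commute g x := (commute_iff_fixes h hg hx).2 hgx
  exact hc.inv_right.eq

/-- If an element fixes `a`, `x • a` and `y • a`, it fixes `(x * y) • a`. -/
theorem fixes_mul_of_fixes {N : Subgroup G} [hN : N.Normal] {a : α} (h : stabilizer N a = ⊥)
    {g x y : G} (hg : g • a = a) (hx : x ∈ N) (hy : y ∈ N) (hgx : g • x • a = x • a)
    (hgy : g • y • a = y • a) : g • (x * y) • a = (x * y) • a := by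
  rw [← commute_iff_fixes h hg (N.mul_mem hx hy)]
  have hc : Commute g x := (commute_iff_fixes h hg hx).2 hgx
  exact (hc.mul_right ((commute_iff_fixes h hg hy).2 hgy)).eq

/-- A regular normal subgroup of a 3-transitive group of degree at least 4 has exponent 2. -/
theorem regular_normal_exponent_two [Finite α] (h3 : IsMultiplyPretransitive G α 3)
    {N : Subgroup G} [N.Normal] [IsPretransitive N α] (hreg : ∀ a : α, stabilizer N a = ⊥)
    (h4 : 4 ≤ Nat.card α) : ∀ x ∈ N, x ^ 2 = 1 := by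
  intro x hx
  by_contra hx2
  have hx1 : x ≠ 1 := fun e => hx2 (by rw [e, one_pow])
  obtain ⟨a⟩ : Nonempty α := (Nat.card_pos_iff.1 (by omega)).1
  have h := hreg a
  have hxa : x • a ≠ a := fun e => hx1 (stabilizer_subgroup_eq_bot_iff.1 h x hx e)
  have hxa' : x⁻¹ • a ≠ a := fun e =>
    hx1 (inv_eq_one.1 (stabilizer_subgroup_eq_bot_iff.1 h _ (N.inv_mem hx) e))
  have hxx : x⁻¹ • a ≠ x • a := fun e => hx2 (by
    have := eq_of_smul_eq h (N.inv_mem hx) hx e
    rw [pow_two, ← mul_inv_cancel x, this])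
  obtain ⟨d, hda, hdx, hdx'⟩ : ∃ d, d ≠ a ∧ d ≠ x • a ∧ d ≠ x⁻¹ • a := by
    by_contra hall
    have hsub : (Set.univ : Set α) ⊆ {a, x • a, x⁻¹ • a} := fun d _ => by
      by_contra hd
      simp only [Set.mem_insert_iff, Set.mem_singleton_iff, not_or] at hd
      exact hall ⟨d, hd⟩
    have := Set.ncard_le_ncard hsub
    rw [Set.ncard_univ, Set.ncard_insert_of_notMem (by simp [hxa.symm, hxa'.symm]),
      Set.ncard_pair hxx.symm] at this
    omega
  obtain ⟨g, hga, hgx, hgd⟩ :=
    exists_smul_eq_three h3 hxa.symm hxa'.symm hxx.symm hxa.symm (Ne.symm hda) (Ne.symm hdx)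
  exact hdx' (hgd.symm.trans (fixes_inv_of_fixes h hga hx hgx))

/-- A 4-transitive group with a regular normal subgroup has degree at most 4. -/
theorem regular_normal_four [Finite α] (h4 : IsMultiplyPretransitive G α 4) {N : Subgroup G}
    [N.Normal] [IsPretransitive N α] (hreg : ∀ a : α, stabilizer N a = ⊥) :
    Nat.card α ≤ 4 := by
  by_contra hn
  rw [not_le] at hn
  have : IsMultiplyPretransitive G α 3 :=
    haveI := h4
    isMultiplyPretransitive_of_le (n := 4) (by omega) hn.le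
  have hexp := regular_normal_exponent_two this hreg (by omega)
  obtain ⟨a⟩ : Nonempty α := (Nat.card_pos_iff.1 (by omega)).1
  have h := hreg a
  have hbij := bijective_smul_of_regular h
  obtain ⟨b, hba⟩ : ∃ b, b ≠ a := by
    have : Nontrivial α := Finite.one_lt_card_iff_nontrivial.1 (by omega)
    exact exists_ne a
  obtain ⟨⟨x, hx⟩, hxb⟩ := hbij.2 b
  change x • a = b at hxb
  obtain ⟨c, hca, hcb⟩ : ∃ c, c ≠ a ∧ c ≠ b := by
    by_contra hall
    have hsub : (Set.univ : Set α) ⊆ {a, b} := fun d _ => by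
      by_contra hd
      simp only [Set.mem_insert_iff, Set.mem_singleton_iff, not_or] at hd
      exact hall ⟨d, hd⟩
    have := Set.ncard_le_ncard hsub
    rw [Set.ncard_univ, Set.ncard_pair hba.symm] at this
    omega
  obtain ⟨⟨y, hy⟩, hyc⟩ := hbij.2 c
  change y • a = c at hyc
  have hda : (x * y) • a ≠ a := fun e => by
    have h1 := stabilizer_subgroup_eq_bot_iff.1 h _ (N.mul_mem hx hy) e
    have h2 : y = x := by
      rw [eq_inv_of_mul_eq_one_right h1]
      exact inv_eq_of_mul_eq_one_right (by rw [← pow_two]; exact hexp x hx)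
    exact hcb (by rw [← hyc, h2, hxb])
  have hdb : (x * y) • a ≠ b := fun e => by
    have h1 := eq_of_smul_eq h (N.mul_mem hx hy) hx (e.trans hxb.symm)
    rw [mul_eq_left] at h1
    exact hca (by rw [← hyc, h1, one_smul])
  have hdc : (x * y) • a ≠ c := fun e => by
    have h1 := eq_of_smul_eq h (N.mul_mem hx hy) hy (e.trans hyc.symm)
    rw [mul_eq_right] at h1
    exact hba (by rw [← hxb, h1, one_smul])
  obtain ⟨d, hd1, hd2, hd3, hd4⟩ :
      ∃ d, d ≠ a ∧ d ≠ b ∧ d ≠ c ∧ d ≠ (x * y) • a := by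
    by_contra hall
    have hsub : (Set.univ : Set α) ⊆ {a, b, c, (x * y) • a} := fun d _ => by
      by_contra hd
      simp only [Set.mem_insert_iff, Set.mem_singleton_iff, not_or] at hd
      exact hall ⟨d, hd⟩
    have := Set.ncard_le_ncard hsub
    rw [Set.ncard_univ, Set.ncard_insert_of_notMem (by simp [hba.symm, hca.symm, hda.symm]),
      Set.ncard_insert_of_notMem (by simp [hcb.symm, hdb.symm]),
      Set.ncard_pair hdc.symm] at this
    omega
  obtain ⟨g, hga, hgb, hgc, hgd⟩ := exists_smul_eq_four h4 hba.symm hca.symm hda.symm hcb.symm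
    hdb.symm hdc.symm hba.symm hca.symm hd1.symm hcb.symm hd2.symm hd3.symm
  refine hd4 (hgd.symm.trans (fixes_mul_of_fixes h hga hx hy ?_ ?_))
  · rw [hxb, hgb]
  · rw [hyc, hgc]

end Cfsg.Agent.Perm
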