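import Mathlib
import Cfsg.Prelude.Def_LieExceptional
import Cfsg.Prelude.Def_Solvable
import Cfsg.Agent.Lib.Perm.RegularNormal
import Cfsg.Agent.Lib.Perm.Zassenhaus
import Cfsg.Agent.Lib.CharInt.FrobeniusKernel

/-!
# Normal subgroups of Zassenhaus groups

A non-trivial normal subgroup of a Zassenhaus group is again a Zassenhaus group.
-/

set_option autoImplicit false
set_option linter.style.haveILetI false

namespace Cfsg.Agent.Perm.Zass

open MulAction
open scoped Pointwise

variable {G Ω : Type*} [Group G] [MulAction G Ω] [Finite Ω]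

omit [Finite Ω] in
theorem nontrivial_domain (hZ : Cfsg.IsZassenhausGroup G Ω) : Nontrivial Ω :=
  let ⟨_, _, a, b, hab, _, _⟩ := hZ.2.2.2.1
  ⟨⟨a, b, hab⟩⟩

theorem finite_group (hZ : Cfsg.IsZassenhausGroup G Ω) : Finite G := by
  haveI := hZ.1
  exact Finite.of_injective (fun g : G => (fun x : Ω => g • x)) fun g h e =>
    FaithfulSMul.eq_of_smul_eq_smul (α := Ω) fun x => congrFun e x

omit [Finite Ω] in
/-- A non-trivial normal subgroup of a faithful 2-transitive group is transitive. -/
theorem normal_transitive [FaithfulSMul G Ω] (h2 : IsMultiplyPretransitive G Ω 2) (N : Subgroup G)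
    [N.Normal] (hN : N ≠ ⊥) : IsPretransitive N Ω := by
  haveI := h2
  haveI : IsPreprimitive G Ω := isPreprimitive_of_is_two_pretransitive h2
  refine IsQuasiPreprimitive.isPretransitive_of_normal fun h => hN ?_
  refine eq_bot_of_forall_smul_eq (α := Ω) fun g hg a => ?_
  have ha : a ∈ fixedPoints N Ω := h ▸ Set.mem_univ a
  exact ha ⟨g, hg⟩

/-- Some non-identity element of a non-trivial normal subgroup fixes two points. -/
theorem normal_exists_two_fixed (hZ : Cfsg.IsZassenhausGroup G Ω) (N : Subgroup G) [N.Normal]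
    (hN : N ≠ ⊥) : ∃ g : N, g ≠ 1 ∧ ∃ a b : Ω, a ≠ b ∧ g • a = a ∧ g • b = b := by
  by_contra h
  push Not at h
  haveI := hZ.1
  haveI := nontrivial_domain hZ
  haveI := finite_group hZ
  haveI hNt : IsPretransitive N Ω := normal_transitive hZ.2.1 N hN
  obtain ⟨a, ha⟩ := hZ.2.2.2.2 N ‹_› hNt
  have huniq : ∀ g : N, g ≠ 1 → ∀ x y : Ω, g • x = x → g • y = y → x = y := by
    intro g hg x y hx hy
    by_contra hxy
    exact h g hg x y hxy hx hy
  have hH : Cfsg.IsFrobeniusComplement (stabilizer N a) := by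
    refine ⟨ha, fun htop => ?_, fun g hg => ?_⟩
    · obtain ⟨b, hb⟩ := exists_ne a
      obtain ⟨g, hg⟩ := exists_smul_eq N a b
      have : g ∈ stabilizer N a := htop ▸ Subgroup.mem_top g
      exact hb (hg.symm.trans this)
    · rw [Subgroup.eq_bot_iff_forall]
      intro x hx
      obtain ⟨hxa, hxg⟩ := Subgroup.mem_inf.1 hx
      rw [Subgroup.mem_pointwise_smul_iff_inv_smul_mem] at hxg
      have hxg' : (g⁻¹ * x * g) • a = a := by simpa [mul_assoc] using hxg
      rw [mul_smul, mul_smul, inv_smul_eq_iff] at hxg'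
      by_contra hx1
      exact hg (huniq x hx1 a (g • a) hxa hxg').symm
  obtain ⟨K, hKset, hKn, hKc⟩ := CharInt.exists_frobeniusKernel hH
  have hmem : ∀ x : N, x ≠ 1 → (x ∈ K ↔ ∀ y : Ω, x • y ≠ y) := by
    intro x hx
    rw [← SetLike.mem_coe, hKset, Frobenius.mem_kernel_iff hx]
    constructor
    · intro hk y hy
      obtain ⟨g, rfl⟩ := exists_smul_eq N a y
      refine hk g ?_
      rw [mem_stabilizer_iff, mul_smul, mul_smul, inv_smul_eq_iff, hy]
    · intro hk g hg
      refine hk (g • a) ?_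
      rw [mem_stabilizer_iff, mul_smul, mul_smul, inv_smul_eq_iff] at hg
      exact hg
  set M := K.map N.subtype with hM
  haveI hMn : M.Normal := by
    refine ⟨fun x hx g => ?_⟩
    obtain ⟨k, hk, rfl⟩ := Subgroup.mem_map.1 hx
    refine Subgroup.mem_map.2 ⟨⟨g * k * g⁻¹, (inferInstance : N.Normal).conj_mem k k.2 g⟩, ?_, rfl⟩
    rcases eq_or_ne k 1 with rfl | hk1
    · convert K.one_mem
      simp
    · refine (hmem _ fun e => hk1 ?_).2 fun y hy => (hmem k hk1).1 hk (g⁻¹ • y) ?_
      · have := congrArg Subtype.val e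
        simpa [conj_eq_one_iff] using this
      · change (g * (k : G) * g⁻¹) • y = y at hy
        rw [mul_smul, mul_smul, smul_eq_iff_eq_inv_smul] at hy
        exact hy
  have hMt : IsPretransitive M Ω := by
    refine isPretransitive_subgroup_iff.2 fun x y => ?_
    have key : ∀ y : Ω, ∃ k ∈ K, k • a = y := by
      intro y
      obtain ⟨g, rfl⟩ := exists_smul_eq N a y
      obtain ⟨⟨k, s⟩, hks⟩ := (Subgroup.isComplement_iff_existsUnique.1 hKc g).exists
      refine ⟨k, k.2, ?_⟩
      have hs : (s : N) • a = a := s.2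
      rw [← hks]
      simp only [mul_smul, hs]
    obtain ⟨k, hk, rfl⟩ := key x
    obtain ⟨l, hl, rfl⟩ := key y
    refine ⟨(l * k⁻¹ : N), Subgroup.mem_map_of_mem _ (K.mul_mem hl (K.inv_mem hk)), ?_⟩
    change (l * k⁻¹ : N) • k • a = l • a
    rw [mul_smul, inv_smul_smul]
  obtain ⟨y, hy⟩ := hZ.2.2.2.2 M hMn hMt
  refine hy (stabilizer_subgroup_eq_bot_iff.2 fun g hg hgy => ?_)
  obtain ⟨k, hk, rfl⟩ := Subgroup.mem_map.1 hg
  by_contra hk1
  exact (hmem k fun e => hk1 (by simp [e])).1 hk y hgy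

/-- A non-trivial normal subgroup of a Zassenhaus group is 2-transitive. -/
theorem normal_two_transitive (hZ : Cfsg.IsZassenhausGroup G Ω) (N : Subgroup G) [N.Normal]
    (hN : N ≠ ⊥) : IsMultiplyPretransitive N Ω 2 := by
  classical
  haveI := hZ.1
  haveI := finite_group hZ
  haveI hNt : IsPretransitive N Ω := normal_transitive hZ.2.1 N hN
  obtain ⟨g₀, hg₀, a, b₀, hab₀, hg₀a, hg₀b⟩ := normal_exists_two_fixed hZ N hN
  refine isTwoPretransitive_of_stabilizer a fun b c hb hc => ?_
  set X := stabilizer N a with hX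
  suffices c ∈ orbit X b by
    obtain ⟨⟨g, hg⟩, hgc⟩ := this
    exact ⟨g, hg, hgc⟩
  by_contra hcon
  let e : Ω → ℕ := fun x => Nat.card (stabilizer X x)
  have hne : ∀ x, x ≠ a → e x = e b₀ := by
    intro x hx
    obtain ⟨k, hka, hkb⟩ := two_trans hZ hab₀ hx.symm
    have hflat : ∀ y : Ω, e y = Nat.card {g : G // g ∈ N ∧ g • a = a ∧ g • y = y} := fun y =>
      Nat.card_congr
        { toFun := fun s => ⟨((s.1 : N) : G), (s.1 : N).2, s.1.2, s.2⟩
          invFun := fun g => ⟨⟨⟨g.1, g.2.1⟩, g.2.2.1⟩, g.2.2.2⟩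
          left_inv := fun _ => rfl
          right_inv := fun _ => rfl }
    rw [hflat, hflat]
    refine (Nat.card_congr ((MulAut.conj k).toEquiv.subtypeEquiv fun g => ?_)).symm
    change _ ↔ k * g * k⁻¹ ∈ N ∧ (k * g * k⁻¹) • a = a ∧ (k * g * k⁻¹) • x = x
    have hn : k * g * k⁻¹ ∈ N ↔ g ∈ N := by
      refine ⟨fun h => ?_, fun h => (inferInstance : N.Normal).conj_mem g h k⟩
      have := (inferInstance : N.Normal).conj_mem' _ h k
      simpa [mul_assoc] using this
    rw [hn, mul_smul, mul_smul, mul_smul, mul_smul, inv_smul_eq_iff.2 hka.symm,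
      inv_smul_eq_iff.2 hkb.symm]
    conv_rhs => enter [2, 1, 2]; rw [← hka]
    conv_rhs => enter [2, 2, 2]; rw [← hkb]
    simp only [smul_left_cancel_iff]
  have he2 : 2 ≤ e b₀ := by
    haveI : Nontrivial (stabilizer X b₀) :=
      ⟨⟨⟨⟨g₀, hg₀a⟩, hg₀b⟩, 1, fun h => hg₀ (congrArg (fun s : stabilizer X b₀ => s.1.1) h)⟩⟩
    exact Finite.one_lt_card
  have horb : ∀ x, x ≠ a → (orbit X x).ncard * e b₀ = Nat.card X := by
    intro x hx
    rw [← hne x hx, ← index_stabilizer, mul_comm]
    exact (stabilizer X x).card_mul_index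
  have hsub : ∀ x, x ≠ a → orbit X x ⊆ {y : Ω | y ≠ a} := by
    rintro x hx _ ⟨⟨g, hg⟩, rfl⟩ hga
    exact hx (smul_left_cancel g (hga.trans hg.symm))
  have hdisj : Disjoint (orbit X b) (orbit X c) := by
    rw [Set.disjoint_left]
    intro y hy hy'
    exact hcon (by rw [← orbit_eq_iff.2 hy, orbit_eq_iff.2 hy']; exact mem_orbit_self c)
  have h1 : (orbit X b).ncard + (orbit X c).ncard ≤ ({y : Ω | y ≠ a} : Set Ω).ncard := by
    rw [← Set.ncard_union_eq hdisj]
    exact Set.ncard_le_ncard (Set.union_subset (hsub b hb) (hsub c hc))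
  have h2 : (orbit X b).ncard = (orbit X c).ncard :=
    Nat.eq_of_mul_eq_mul_right (by omega) ((horb b hb).trans (horb c hc).symm)
  have h3 : ({y : Ω | y ≠ a} : Set Ω).ncard * (e b₀ - 1) ≤ Nat.card X - 1 := by
    haveI := Fintype.ofFinite Ω
    haveI := Fintype.ofFinite X
    let T : Ω → Finset X := fun x => (Finset.univ.filter fun s : X => s • x = x).erase 1
    have hT : ∀ x ∈ Finset.univ.erase a, (T x).card = e b₀ - 1 := by
      intro x hx
      rw [Finset.card_erase_of_mem (by simp), ← hne x (Finset.ne_of_mem_erase hx)]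
      congr 1
      exact (Nat.subtype_card _ fun s => by simp).symm
    have hd : (↑(Finset.univ.erase a) : Set Ω).PairwiseDisjoint T := by
      intro x hx y hy hxy
      rw [Function.onFun, Finset.disjoint_left]
      intro s hsx hsy
      simp only [T, Finset.mem_erase, Finset.mem_filter, Finset.mem_univ, true_and] at hsx hsy
      refine hsx.1 (Subtype.ext (Subtype.ext (eq_one_of_three hZ ?_ hxy ?_
        (show ((s : N) : G) • a = a from s.2) hsx.2 hsy.2)))
      · exact (Finset.ne_of_mem_erase hx).symm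
      · exact (Finset.ne_of_mem_erase hy).symm
    have hle : ((Finset.univ.erase a).biUnion T).card ≤ (Finset.univ.erase (1 : X)).card :=
      Finset.card_le_card fun s hs => by
        simp only [Finset.mem_biUnion, T, Finset.mem_erase, Finset.mem_filter] at hs
        simpa using hs.choose_spec.2.1
    rw [Finset.card_biUnion hd, Finset.sum_congr rfl hT, Finset.sum_const, smul_eq_mul,
      Finset.card_erase_of_mem (Finset.mem_univ _),
      Finset.card_erase_of_mem (Finset.mem_univ _), Finset.card_univ, Finset.card_univ,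
      ← Nat.card_eq_fintype_card (α := X)] at hle
    convert hle using 2
    rw [Set.ncard_eq_toFinset_card']
    simp [Finset.filter_ne']
  have h4 := horb b hb
  have hl : 0 < (orbit X b).ncard := (Set.ncard_pos (Set.toFinite _)).2 ⟨b, mem_orbit_self b⟩
  obtain ⟨d, hd⟩ : ∃ d, e b₀ = d + 2 := ⟨e b₀ - 2, by omega⟩
  rw [hd] at h3 h4
  rw [← h2] at h1
  rw [← h4] at h3
  have h5 := Nat.mul_le_mul_right (d + 1) h1
  simp only [show d + 2 - 1 = d + 1 by omega, Nat.add_mul, Nat.mul_add] at h3 h5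
  omega

/-- A non-trivial normal subgroup of a Zassenhaus group is a Zassenhaus group. -/
theorem normal_isZassenhausGroup (hZ : Cfsg.IsZassenhausGroup G Ω) (N : Subgroup G) [hNn : N.Normal]
    (hN : N ≠ ⊥) : Cfsg.IsZassenhausGroup N Ω := by
  haveI := hZ.1
  haveI := nontrivial_domain hZ
  haveI := finite_group hZ
  haveI hf : FaithfulSMul N Ω :=
    ⟨fun h => Subtype.ext (FaithfulSMul.eq_of_smul_eq_smul (α := Ω) h)⟩
  have h2 := normal_two_transitive hZ N hN
  refine ⟨hf, h2, fun g a b c hab hbc hac ha hb hc =>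
      Subtype.ext (eq_one_of_three hZ hab hbc hac ha hb hc),
    normal_exists_two_fixed hZ N hN, fun M hMn hMt => ?_⟩
  by_contra hreg
  push Not at hreg
  obtain ⟨-, -, -, -, -, -, hcomm, -⟩ := regular_normal_elementary_abelian h2 hreg
  obtain ⟨a, b, hab⟩ := exists_pair_ne Ω
  have hMne : M ≠ ⊥ := by
    rintro rfl
    obtain ⟨m, hm, hmb⟩ := isPretransitive_subgroup_iff.1 hMt a b
    exact hab (by rw [← hmb, Subgroup.mem_bot.1 hm, one_smul])
  have habs : ∀ J : Subgroup N, J.Normal → J ≠ ⊥ → J ≤ M → M ≤ J := by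
    intro J hJn hJ hJM m hm
    have hJt : IsPretransitive J Ω := normal_transitive h2 J hJ
    obtain ⟨j, hj, hja⟩ := isPretransitive_subgroup_iff.1 hJt a (m • a)
    exact eq_of_smul_eq (hreg a) (hJM hj) hm hja ▸ hj
  have hMG : (M.map N.subtype).Normal := by
    refine ⟨fun x hx g => ?_⟩
    obtain ⟨m, hm, rfl⟩ := Subgroup.mem_map.1 hx
    set M' := M.map (MulAut.conjNormal g : MulAut N).toMonoidHom with hM'
    haveI hM'n : M'.Normal := hMn.map _ (MulAut.conjNormal g : MulAut N).surjective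
    have hle : M' ≤ M := by
      by_cases hI : M' ⊓ M = ⊥
      · intro y hy
        have hyc : y ∈ Subgroup.centralizer (M : Set N) := by
          rw [Subgroup.mem_centralizer_iff]
          intro m' hm'
          exact (Subgroup.commute_of_normal_of_disjoint _ _ hM'n hMn
            (disjoint_iff.2 hI) y m' hy hm').symm
        obtain ⟨m₁, hm₁, hm₁a⟩ := isPretransitive_subgroup_iff.1 hMt a (y • a)
        have : m₁⁻¹ * y = 1 := by
          refine stabilizer_subgroup_eq_bot_iff.1
            (semiregular_centralizer (N := M) (α := Ω) a) _ ?_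
            (by rw [mul_smul, ← hm₁a, inv_smul_smul])
          refine Subgroup.mul_mem _ (Subgroup.inv_mem _ ?_) hyc
          exact Subgroup.mem_centralizer_iff.2 fun k hk =>
            congrArg Subtype.val (hcomm.is_comm.comm ⟨k, hk⟩ ⟨m₁, hm₁⟩)
        rwa [← inv_mul_eq_one.1 this]
      · have h1 : M ≤ M' ⊓ M := habs _ inferInstance hI inf_le_right
        refine le_of_eq (SetLike.coe_injective (Eq.symm ?_))
        refine Set.eq_of_subset_of_ncard_le (fun y hy => (h1 hy).1) ?_
        rw [← Nat.card_coe_set_eq, ← Nat.card_coe_set_eq]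
        exact (Subgroup.card_map_of_injective (MulAut.conjNormal g : MulAut N).injective).le
    refine Subgroup.mem_map.2 ⟨_, hle (Subgroup.mem_map_of_mem _ hm), ?_⟩
    simp
  have hMt' : IsPretransitive (M.map N.subtype) Ω := by
    refine isPretransitive_subgroup_iff.2 fun x y => ?_
    obtain ⟨m, hm, hmy⟩ := isPretransitive_subgroup_iff.1 hMt x y
    exact ⟨m, Subgroup.mem_map_of_mem _ hm, hmy⟩
  obtain ⟨x, hx⟩ := hZ.2.2.2.2 _ hMG hMt'
  refine hx (stabilizer_subgroup_eq_bot_iff.2 fun g hg hgx => ?_)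
  obtain ⟨m, hm, rfl⟩ := Subgroup.mem_map.1 hg
  rw [stabilizer_subgroup_eq_bot_iff.1 (hreg x) m hm hgx, map_one]

end Cfsg.Agent.Perm.Zass
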