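import Mathlib
import Cfsg.Agent.Lib.Perm.Coords
import Cfsg.Agent.Lib.Perm.Zassenhaus
import Cfsg.Agent.Lib.Perm.Transitive
import Cfsg.Agent.Lib.ZassenhausOdd.Reduction

/-!
# Zassenhaus groups with abelian kernel and two-point stabilisers of odd order `(q - 1) / 2`

Such a group is `PSL_2 F`, with `|F| = q ≡ 3 mod 4`.
-/

set_option autoImplicit false
set_option linter.style.haveILetI false

namespace Cfsg.Agent.Perm.ZassPSL

open MulAction Finset

/-- Odd two-point stabilisers of order `(|Ω| - 2) / 2` and abelian kernel: the group is `PSL_2`. -/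
theorem psl_of_odd {G Ω : Type*} [Group G] [Fintype G] [MulAction G Ω] [Fintype Ω]
    (hZ : Cfsg.IsZassenhausGroup G Ω) {a b : Ω} (hab : a ≠ b)
    (hodd : Odd (Nat.card (ZassenhausOdd.twoStab G a b))) {H : Subgroup G} (hHa : H ≤ stabilizer G a)
    (hHcard : Nat.card H + 1 = Fintype.card Ω)
    (hHfix : ∀ u ∈ H, u ≠ 1 → ∀ c : Ω, u • c = c → c = a)
    (hHc : ∀ u ∈ H, ∀ v ∈ H, u * v = v * u)
    (hd : 2 * Nat.card (ZassenhausOdd.twoStab G a b) = Fintype.card Ω - 2) :
    ∃ (K : Type) (_ : Field K) (_ : Fintype K), (2 : K) ≠ 0 ∧ Fintype.card Ω = Fintype.card K + 1 ∧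
      Nonempty (G ≃* Matrix.ProjectiveSpecialLinearGroup (Fin 2) K) := by
  classical
  have hperf := ZassenhausOdd.perfect_of_abelian hZ hab hodd hHa hHcard hHfix hHc
  have h3 := Zass.three_le hZ
  set d := Nat.card (ZassenhausOdd.twoStab G a b) with hddef
  have hdeg : Even (Fintype.card Ω) := ⟨d + 1, by omega⟩
  let Hf : Finset G := univ.filter fun g => g • a = a ∧ g • b = b
  have hHf : Hf.card = d := by
    rw [hddef, ← Fintype.card_subtype, ← Nat.card_eq_fintype_card]; rfl
  have hdpos : 0 < d := Nat.card_pos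
  -- involutions exchanging `a` and `b` have no fixed point
  have hfpf : ∀ g : G, g * g = 1 → g • a = b → ∀ c : Ω, g • c ≠ c := by
    intro g hg hga c hc
    have hg1 : g ≠ 1 := fun e => hab (by rw [← hga, e, one_smul])
    have h2 : 1 < (univ.filter fun x : Ω => g • x = x).card := by
      have hev : Even (univ.filter fun x : Ω => g • x = x).card := (Zass.card_fixed_parity hg).2 hdeg
      have hp : 0 < (univ.filter fun x : Ω => g • x = x).card :=
        card_pos.2 ⟨c, mem_filter.2 ⟨mem_univ _, hc⟩⟩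
      obtain ⟨r, hr⟩ := hev
      omega
    obtain ⟨u, hu, v, hv, huv⟩ := one_lt_card.1 h2
    have hmem : g ∈ ZassenhausOdd.twoStab G u v := ⟨(mem_filter.1 hu).2, (mem_filter.1 hv).2⟩
    have ho : orderOf g = 2 := orderOf_eq_prime (by rw [pow_two, hg]) hg1
    have hdvd := Subgroup.orderOf_dvd_natCard _ hmem
    rw [ho, ZassenhausOdd.card_twoStab_eq hZ hab huv] at hdvd
    exact Nat.not_even_iff_odd.2 hodd (even_iff_two_dvd.2 hdvd)
  obtain ⟨t, ht, hta, htb⟩ := Zass.exists_swap hZ hab
  have htt := Zass.sq_eq_one_of_order ht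
  have hinv' := ZassenhausOdd.twoStab_inverted hZ hab hperf hodd hta htt
  have hinv : ∀ h : G, h • a = a → h • b = b → t * h * t = h⁻¹ := by
    intro h ha hb
    have := hinv' h ⟨ha, hb⟩
    rwa [inv_eq_of_mul_eq_one_right htt] at this
  have hDc : ∀ h h' : G, h • a = a → h • b = b → h' • a = a → h' • b = b → h * h' = h' * h := by
    intro h h' ha hb ha' hb'
    have e1 := hinv (h * h') (by rw [mul_smul, ha', ha]) (by rw [mul_smul, hb', hb])
    rw [show t * (h * h') * t = (t * h * t) * (t * h' * t) by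
      calc t * (h * h') * t = t * h * 1 * h' * t := by group
        _ = t * h * (t * t) * h' * t := by rw [htt]
        _ = _ := by group, hinv h ha hb, hinv h' ha' hb', ← mul_inv_rev] at e1
    exact (inv_injective e1).symm
  have hKa : ∀ k ∈ H, k • a = a := fun k hk => hHa hk
  have hreg : ∀ x, x ≠ a → ∃! k : H, (k : G) • b = x := by
    intro x hx
    obtain ⟨v, hv, hvx⟩ := ZassenhausOdd.exists_kernel_smul hZ hab hHa hHcard hHfix hx
    refine ⟨⟨v, hv⟩, hvx, fun k hk => Subtype.ext (inv_mul_eq_one.1 ?_).symm⟩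
    by_contra hne
    exact hab.symm (hHfix _ (H.mul_mem (H.inv_mem hv) k.2) hne b (by
      rw [mul_smul, show (k : G) • b = x from hk, ← hvx, inv_smul_smul]))
  have hKcard : Nat.card H = Fintype.card Ω - 1 := by omega
  obtain ⟨e, hea, heb⟩ := Zass.exists_third hZ a b
  obtain ⟨F, _, _, pt, hpa, hpb, hpe, hT, hM⟩ := Coords.exists_coords hab.symm heb hea H hKa hreg
    ⟨⟨fun u v => Subtype.ext (hHc u u.2 v v.2)⟩⟩
    (fun h ha _ k hk => ZassenhausOdd.kernel_conj hZ hHa hHcard hHfix ha hk) hDc (by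
      intro L hL hLinv
      refine (em (L = ⊥)).imp id fun hne => ?_
      obtain ⟨l, hl, hl1⟩ := L.bot_or_exists_ne_one.resolve_left hne
      have hinj : Set.InjOn (fun h : G => h * l * h⁻¹) Hf := by
        intro h hh h' hh' hhh
        simp only [Hf, coe_filter, mem_univ, true_and, Set.mem_ofPred_eq] at hh hh'
        have hlb : l • b ≠ b := fun hb => hab.symm (hHfix l (hL hl) hl1 b hb)
        have hla : l • b ≠ a := fun h => hab.symm (smul_left_cancel _ (h.trans (hKa l (hL hl)).symm))
        have e' : h • l • b = h' • l • b := by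
          have := congrArg (fun g : G => g • b) hhh
          simpa only [mul_smul, inv_smul_eq_iff.2 hh.2.symm, inv_smul_eq_iff.2 hh'.2.symm] using this
        have := Zass.eq_one_of_three hZ hab hlb.symm hla.symm
          (show (h'⁻¹ * h) • a = a by rw [mul_smul, hh.1, inv_smul_eq_iff, hh'.1])
          (by rw [mul_smul, hh.2, inv_smul_eq_iff, hh'.2]) (by rw [mul_smul, e', inv_smul_smul])
        exact (inv_mul_eq_one.1 this).symm
      have hc : d + 1 ≤ Nat.card L := by
        rw [← hHf, Nat.card_eq_fintype_card, Fintype.card_subtype, ← card_image_of_injOn hinj]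
        refine le_trans (card_insert_of_notMem (a := (1 : G)) ?_).ge (card_le_card fun g hg => ?_)
        · intro h1
          obtain ⟨h, -, hh⟩ := mem_image.1 h1
          exact hl1 (by simpa using hh)
        · rcases mem_insert.1 hg with rfl | hg
          · simp
          · obtain ⟨h, hh, rfl⟩ := mem_image.1 hg
            simp only [Hf, mem_filter, mem_univ, true_and] at hh ⊢
            exact hLinv h hh.1 hh.2 l hl
      have hdvd := Subgroup.card_dvd_of_le hL
      rw [hKcard] at hdvd
      refine Subgroup.eq_of_le_of_card_ge hL ?_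
      obtain ⟨c, hc'⟩ := hdvd
      have hdef : Fintype.card Ω - 1 = 2 * d + 1 := by omega
      rw [hKcard, hdef]
      rw [hdef] at hc'
      rcases c with _ | _ | c
      · omega
      · omega
      · nlinarith)
  have hcardF : Fintype.card Ω = Fintype.card F + 1 := by
    rw [← Fintype.card_option]; exact (Fintype.card_congr pt).symm
  have hq : Fintype.card F = 2 * d + 1 := by omega
  have h2F : (2 : F) ≠ 0 := by
    refine Ring.two_ne_zero fun h => ?_
    have := FiniteField.even_card_iff_char_two.1 h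
    omega
  have hsome : ∀ {x y : F}, pt (some x) = pt (some y) → x = y := fun h =>
    Option.some_injective _ (pt.injective h)
  -- the multipliers
  let M : Finset F := univ.filter fun x : F => ∃ h : G, h • a = a ∧ h • b = b ∧ h • e = pt (some x)
  have hMspec : ∀ m ∈ M, m ≠ 0 ∧
      ∃ h : G, h • a = a ∧ h • b = b ∧ ∀ x, h • pt (some x) = pt (some (m * x)) := by
    intro m hm
    obtain ⟨-, h, ha, hb, he⟩ := mem_filter.1 hm
    obtain ⟨m', hm', hmx⟩ := hM h ha hb
    have : m' = m := by
      have h1 := hmx 1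
      rw [hpe, he, mul_one] at h1
      exact (hsome h1).symm
    subst this
    exact ⟨hm', h, ha, hb, hmx⟩
  have hmem : ∀ h : G, h • a = a → h • b = b →
      ∃ m : F, m ∈ M ∧ m ≠ 0 ∧ ∀ x, h • pt (some x) = pt (some (m * x)) := by
    intro h ha hb
    obtain ⟨m, hm, hmx⟩ := hM h ha hb
    exact ⟨m, mem_filter.2 ⟨mem_univ _, h, ha, hb, by rw [← hpe, hmx, mul_one]⟩, hm, hmx⟩
  have hMc : M.card = d := by
    rw [← hHf]
    refine (card_bij (fun h _ => (pt.symm (h • e)).getD 0) ?_ ?_ ?_).symm
    · intro h hh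
      obtain ⟨ha, hb⟩ := (mem_filter.1 hh).2
      obtain ⟨m, hm, -, hmx⟩ := hmem h ha hb
      rw [← hpe, hmx, mul_one, Equiv.symm_apply_apply, Option.getD_some]
      exact hm
    · intro h hh h' hh' he
      obtain ⟨ha, hb⟩ := (mem_filter.1 hh).2
      obtain ⟨ha', hb'⟩ := (mem_filter.1 hh').2
      obtain ⟨m, -, -, hmx⟩ := hmem h ha hb
      obtain ⟨m', -, -, hmx'⟩ := hmem h' ha' hb'
      rw [← hpe, hmx, hmx', Equiv.symm_apply_apply, Equiv.symm_apply_apply] at he
      simp at he
      have := Zass.eq_one_of_three hZ hab heb.symm hea.symm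
        (show (h'⁻¹ * h) • a = a by rw [mul_smul, ha, inv_smul_eq_iff, ha'])
        (by rw [mul_smul, hb, inv_smul_eq_iff, hb'])
        (by rw [mul_smul, ← hpe, hmx, he, ← hmx', inv_smul_smul])
      exact (inv_mul_eq_one.1 this).symm
    · intro m hm
      obtain ⟨-, h, ha, hb, hh⟩ := hMspec m hm
      exact ⟨h, mem_filter.2 ⟨mem_univ _, ha, hb⟩, by rw [← hpe, hh, mul_one, Equiv.symm_apply_apply]; rfl⟩
  -- every multiplier has order dividing `d`
  have hMpow : ∀ m ∈ M, m ^ d = 1 := by
    intro m hm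
    obtain ⟨-, h, ha, hb, hh⟩ := hMspec m hm
    have hpw : ∀ (r : ℕ) (x : F), h ^ r • pt (some x) = pt (some (m ^ r * x)) := by
      intro r
      induction r with
      | zero => intro x; simp
      | succ r ih => intro x; rw [pow_succ, mul_smul, hh, ih, pow_succ, mul_assoc]
    have h1 : h ^ d = 1 := by
      have := congrArg Subtype.val
        (pow_card_eq_one' (x := (⟨h, ha, hb⟩ : ZassenhausOdd.twoStab G a b)))
      rwa [SubmonoidClass.coe_pow, OneMemClass.coe_one] at this
    have := hpw d 1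
    rw [h1, one_smul, mul_one] at this
    exact (hsome this).symm
  -- `M` is the set of solutions of `x ^ d = 1`, and its complement is `-M`
  have hneg : ∀ x : F, x ≠ 0 → x ∉ M → -x ∈ M := by
    intro x hx0 hx
    by_contra hnx
    have hdisj : Disjoint M (M.image fun m => -m) := by
      rw [disjoint_left]
      intro m hm hm'
      obtain ⟨m', hm'M, rfl⟩ := mem_image.1 hm'
      have h1 := hMpow _ hm
      rw [Odd.neg_pow hodd, hMpow m' hm'M] at h1
      exact h2F (by linear_combination -h1)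
    have hsub : M ∪ M.image (fun m => -m) ⊆ ((univ.erase (0 : F)).erase x) := by
      intro y hy
      simp only [mem_erase, mem_univ, and_true]
      rcases mem_union.1 hy with hy | hy
      · exact ⟨fun e => hx (e ▸ hy), (hMspec y hy).1⟩
      · obtain ⟨m, hm, rfl⟩ := mem_image.1 hy
        exact ⟨fun e => hnx (by rw [← e, neg_neg]; exact hm), neg_ne_zero.2 (hMspec m hm).1⟩
    have := card_le_card hsub
    rw [card_union_of_disjoint hdisj, card_image_of_injective _ neg_injective, hMc,
      card_erase_of_mem (mem_erase.2 ⟨hx0, mem_univ _⟩), card_erase_of_mem (mem_univ _),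
      card_univ, hq] at this
    omega
  have hone : (1 : F) ∈ M :=
    mem_filter.2 ⟨mem_univ _, 1, one_smul G a, one_smul G b, by rw [one_smul, hpe]⟩
  -- the image of the unit
  obtain ⟨μ, hμ⟩ : ∃ μ, t • e = pt (some μ) := by
    rcases hx : pt.symm (t • e) with _ | μ
    · exfalso
      have : t • e = a := by rw [← hpa, ← hx, Equiv.apply_symm_apply]
      exact heb (smul_left_cancel t (this.trans htb.symm))
    · exact ⟨μ, by rw [← hx, Equiv.apply_symm_apply]⟩
  have hμ0 : μ ≠ 0 := fun h => hea (smul_left_cancel t (by rw [hμ, h, hpb, hta]))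
  have hswap : ∀ h : G, h • a = a → h • b = b → t * h * (t * h) = 1 := by
    intro h ha hb
    calc t * h * (t * h) = t * h * t * h := by group
      _ = 1 := by rw [hinv h ha hb, inv_mul_cancel]
  have hμM : μ ∉ M := by
    intro hμM
    obtain ⟨-, h, ha, hb, hh⟩ := hMspec μ hμM
    have hh2 : ∀ x : F, h ^ 2 • pt (some x) = pt (some (μ * (μ * x))) := fun x => by
      rw [pow_two, mul_smul, hh, hh]
    obtain ⟨k, hk⟩ := id hodd
    -- `t * h` fixes the point `μ ^ (k + 1)`
    obtain ⟨g, hg⟩ : ∃ g, g = h ^ (k + 1) := ⟨_, rfl⟩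
    have hga : g • a = a := by rw [hg]; exact pow_mem (show h ∈ stabilizer G a from ha) _
    have hgb : g • b = b := by rw [hg]; exact pow_mem (show h ∈ stabilizer G b from hb) _
    obtain ⟨m, hmM, hm0, hmx⟩ := hmem g hga hgb
    have hgg : g * g = h := by
      rw [hg, ← pow_add, show k + 1 + (k + 1) = d + 1 by omega, pow_succ]
      have := congrArg Subtype.val
        (pow_card_eq_one' (x := (⟨h, ha, hb⟩ : ZassenhausOdd.twoStab G a b)))
      rw [SubmonoidClass.coe_pow, OneMemClass.coe_one] at this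
      rw [this, one_mul]
    have hm2 : m * m = μ := by
      have h1 := hh 1
      rw [← hgg, mul_smul, hmx, hmx, mul_one, mul_one] at h1
      exact hsome h1
    refine hfpf t htt hta (g • e) ?_
    rw [← mul_smul]
    have h2 : t * g = g⁻¹ * t := by rw [← hinv g hga hgb, mul_assoc, htt, mul_one]
    rw [h2, mul_smul, hμ, inv_smul_eq_iff, ← hpe, hmx, hmx, mul_one, hm2]
  obtain ⟨hν0, h₁, h₁a, h₁b, h₁x⟩ := hMspec (-μ) (hneg μ hμ0 hμM)
  -- the swapping involution inducing `x ↦ -1/x`
  set s := h₁⁻¹ * t with hs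
  have hss : s * s = 1 := by
    rw [hs, ← hinv h₁ h₁a h₁b]
    calc t * h₁ * t * t * (t * h₁ * t * t) = t * h₁ * (t * t) * (t * h₁) * (t * t) := by group
      _ = 1 := by rw [htt, mul_one, mul_one, hswap h₁ h₁a h₁b]
  have hsa : s • a = b := by rw [hs, mul_smul, hta, inv_smul_eq_iff, h₁b]
  have hsb : s • b = a := by rw [hs, mul_smul, htb, inv_smul_eq_iff, h₁a]
  have hs1 : s • pt (some 1) = pt (some (-1)) := by
    rw [hs, mul_smul, hpe, hμ, inv_smul_eq_iff, h₁x, mul_neg, mul_one, neg_neg]
  have hsM : ∀ m ∈ M, s • pt (some m) = pt (some (-1 / m)) := by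
    intro m hm
    obtain ⟨hm0, h, ha, hb, hh⟩ := hMspec m hm
    have hsh : s * h = h⁻¹ * s := by
      rw [hs, mul_assoc, show t * h = h⁻¹ * t by rw [← hinv h ha hb, mul_assoc, htt, mul_one],
        ← mul_assoc, ← mul_assoc, ← mul_inv_rev, ← mul_inv_rev, hDc h₁ h h₁a h₁b ha hb]
    rw [show pt (some m) = h • pt (some 1) by rw [hh, mul_one], ← mul_smul, hsh, mul_smul, hs1,
      inv_smul_eq_iff, hh]
    congr 2
    field_simp
  have hsinv : ∀ x : F, x ≠ 0 → s • pt (some x) = pt (some (-1 / x)) := by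
    intro x hx
    by_cases hxM : x ∈ M
    · exact hsM x hxM
    · have hm := hneg x hx hxM
      have hm' : (-x)⁻¹ ∈ M := by
        obtain ⟨-, h, ha, hb, hh⟩ := hMspec _ hm
        refine mem_filter.2 ⟨mem_univ _, h⁻¹, inv_smul_eq_iff.2 ha.symm, inv_smul_eq_iff.2 hb.symm, ?_⟩
        rw [inv_smul_eq_iff, hh, mul_inv_cancel₀ (neg_ne_zero.2 hx), hpe]
      have := hsM _ hm'
      rw [show (-1 : F) / (-x)⁻¹ = x by rw [div_inv_eq_mul]; ring] at this
      rw [← this, Zass.smul_smul_of_sq hss]
      congr 2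
      field_simp
  refine ⟨F, inferInstance, inferInstance, h2F, hcardF, ?_⟩
  have := hZ.1
  refine Mobius.nonempty_mulEquiv_PSL (pt := pt) pt.bijective h2F (fun c => ?_) ⟨s, ?_⟩ ?_
  · obtain ⟨σ, hσ, hσx⟩ := hT c
    exact ⟨σ, Coords.realises_affine (by rw [hpa, hσ]) hσx⟩
  · exact Coords.realises_inversion (by rw [hpa, hsa, hpb]) (by rw [hpb, hsb, hpa]) hsinv
  · rw [Nat.card_eq_fintype_card (α := G)]
    have hG := ZassenhausOdd.card_group hZ hab
    rw [Nat.card_eq_fintype_card (α := G)] at hG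
    rw [hG, hcardF, show Fintype.card F + 1 - 1 = Fintype.card F by omega, ← hddef,
      show Fintype.card F ^ 2 - 1 = (Fintype.card F + 1) * (2 * d) by
        rw [show 2 * d = Fintype.card F - 1 by omega, ← Nat.sq_sub_sq, one_pow]]
    ring

end Cfsg.Agent.Perm.ZassPSL
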