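import Cfsg.Agent.Lib.Socle.Factors

/-!
# The structure of a minimal normal subgroup: a power of a simple group
-/

namespace Cfsg.Agent.Perm

universe u

variable {H : Type u} [Group H]

/-- An abelian minimal normal subgroup of a finite group has prime exponent. -/
theorem exists_prime_exponent_of_abelian_minimal [Finite H] (N : Subgroup H) [hNn : N.Normal]
    (hN : N ≠ ⊥) (hmin : ∀ M : Subgroup H, M.Normal → M ≤ N → M = ⊥ ∨ M = N)
    [IsMulCommutative N] : ∃ p : ℕ, p.Prime ∧ ∀ x ∈ N, x ^ p = 1 := by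
  obtain ⟨p, hp, hpd⟩ := Nat.exists_prime_and_dvd (fun h => hN (Subgroup.eq_bot_of_card_eq N h))
  have : Fact p.Prime := ⟨hp⟩
  obtain ⟨x, hx⟩ := exists_prime_orderOf_dvd_card' p hpd
  let K : Subgroup H :=
    { carrier := {g | g ∈ N ∧ g ^ p = 1}
      one_mem' := ⟨N.one_mem, one_pow p⟩
      mul_mem' := fun {g k} hg hk => ⟨N.mul_mem hg.1 hk.1, by
        have hc : Commute g k :=
          congrArg Subtype.val (mul_comm' (⟨g, hg.1⟩ : N) ⟨k, hk.1⟩)
        rw [hc.mul_pow, hg.2, hk.2, one_mul]⟩
      inv_mem' := fun {g} hg => ⟨N.inv_mem hg.1, by rw [inv_pow, hg.2, inv_one]⟩ }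
  have hK : K.Normal := ⟨fun n hn g => ⟨hNn.conj_mem n hn.1 g, by
    rw [conj_pow, hn.2, mul_one, mul_inv_cancel]⟩⟩
  refine ⟨p, hp, fun m hm => ?_⟩
  rcases hmin K hK (fun g hg => hg.1) with h | h
  · have hxK : (x : H) ∈ K :=
      ⟨x.2, by rw [← Subgroup.coe_pow, ← hx, pow_orderOf_eq_one, Subgroup.coe_one]⟩
    rw [h, Subgroup.mem_bot] at hxK
    rw [show x = 1 from Subtype.ext hxK, orderOf_one] at hx
    exact absurd hx.symm hp.ne_one
  · exact (h.ge hm : m ∈ K).2

/-- An abelian group of prime exponent is a power of the cyclic group of that order. -/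
theorem exists_mulEquiv_zmod_pow (A : Type*) [Group A] [Finite A] [IsMulCommutative A] {p : ℕ}
    [Fact p.Prime] (hp : ∀ x : A, x ^ p = 1) :
    ∃ m : ℕ, Nonempty (A ≃* (Fin m → Multiplicative (ZMod p))) := by
  letI : CommGroup A := { (inferInstance : Group A) with mul_comm := mul_comm' }
  letI : Module (ZMod p) (Additive A) :=
    AddCommGroup.zmodModule fun x => congrArg Additive.ofMul (hp (Additive.toMul x))
  have b₀ := Module.Basis.ofVectorSpace (ZMod p) (Additive A)
  haveI : Finite (Module.Basis.ofVectorSpaceIndex (ZMod p) (Additive A)) :=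
    Subtype.finite
  let b := b₀.reindex (Finite.equivFin (Module.Basis.ofVectorSpaceIndex (ZMod p) (Additive A)))
  let e : Additive A ≃+ (Fin _ → ZMod p) := b.equivFun.toAddEquiv
  exact ⟨_, ⟨
    { toFun := fun x i => Multiplicative.ofAdd (e (Additive.ofMul x) i)
      invFun := fun f => Additive.toMul (e.symm fun i => Multiplicative.toAdd (f i))
      left_inv := fun x => congrArg Additive.toMul (e.symm_apply_apply (Additive.ofMul x))
      right_inv := fun f => funext fun i => congrArg Multiplicative.ofAdd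
        (congrFun (e.apply_symm_apply fun j => Multiplicative.toAdd (f j)) i)
      map_mul' := fun x y => funext fun i => congrArg Multiplicative.ofAdd
        (congrFun (map_add e (Additive.ofMul x) (Additive.ofMul y)) i) }⟩⟩

/-- A minimal normal subgroup of a finite group is a power of a simple group. -/
theorem exists_simple_power [Finite H] (N : Subgroup H) [N.Normal] (hN : N ≠ ⊥)
    (hmin : ∀ M : Subgroup H, M.Normal → M ≤ N → M = ⊥ ∨ M = N) :
    ∃ (T : Type) (_ : Group T) (m : ℕ), IsSimpleGroup T ∧ 0 < m ∧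
      Nonempty (N ≃* (Fin m → T)) := by
  haveI : Nontrivial N := (Subgroup.nontrivial_iff_ne_bot N).2 hN
  by_cases hc : IsMulCommutative N
  · obtain ⟨p, hp, hexp⟩ := exists_prime_exponent_of_abelian_minimal N hN hmin
    haveI : Fact p.Prime := ⟨hp⟩
    obtain ⟨m, ⟨e⟩⟩ := exists_mulEquiv_zmod_pow N (p := p) fun x => Subtype.ext (hexp x x.2)
    refine ⟨Multiplicative (ZMod p), inferInstance, m, isSimpleGroup_of_prime_card (p := p) ?_,
      Nat.pos_of_ne_zero ?_, ⟨e⟩⟩
    · exact (Nat.card_congr Multiplicative.toAdd).trans (Nat.card_zmod p)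
    · rintro rfl
      exact not_subsingleton N e.toEquiv.subsingleton
  · obtain ⟨𝒯, hF⟩ := Socle.exists_factors N hN hmin hc
    classical
    haveI : Fintype (Subgroup H) := Fintype.ofFinite _
    obtain ⟨T₀, hT₀⟩ := hF.nonempty
    have hiso : ∀ T : 𝒯, Nonempty ((T : Subgroup H) ≃* T₀) := by
      rintro ⟨T, hT⟩
      obtain ⟨g, hg⟩ := hF.exists_conj T₀ hT₀ T hT
      subst hg
      exact ⟨(T₀.equivMapOfInjective (MulAut.conj g).toMonoidHom (MulAut.conj g).injective).symm⟩
    let f₀ : T₀ ≃* Shrink.{0} T₀ := Shrink.mulEquiv.symm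
    let φ : N →* ∀ T : 𝒯, (T : Subgroup H) :=
      MonoidHom.mk' (fun n T => ⟨hF.coord T.2 n, hF.coord_mem T.2 n⟩)
        fun a b => funext fun T => Subtype.ext (map_mul (hF.coord T.2) a b)
    have hφ : Function.Bijective φ := by
      refine ⟨fun a b h => hF.coord_ext fun T hT =>
        congrArg Subtype.val (congrFun h ⟨T, hT⟩), fun f => ?_⟩
      have hmem : ∀ T : 𝒯, ∀ x : (T : Subgroup H), (x : H) ∈ N := fun T x => hF.le T T.2 x.2
      have hpart : ∀ s : Finset 𝒯, ∃ n : N, ∀ T : 𝒯,
          hF.coord T.2 n = if T ∈ s then (f T : H) else 1 := by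
        intro s
        induction s using Finset.induction_on with
        | empty => exact ⟨1, fun T => by simp⟩
        | @insert a s ha ih =>
          obtain ⟨n, hn⟩ := ih
          refine ⟨⟨f a, hmem a (f a)⟩ * n, fun T => ?_⟩
          rw [map_mul, hn T]
          by_cases hTa : T = a
          · subst hTa
            rw [hF.coord_self T.2 (n := ⟨f T, hmem T (f T)⟩) (f T).2]
            simp [ha]
          · rw [hF.coord_of_ne T.2 a.2 (fun h => hTa (Subtype.ext h))
              (n := ⟨f a, hmem a (f a)⟩) (f a).2]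
            simp [hTa]
      obtain ⟨n, hn⟩ := hpart Finset.univ
      exact ⟨n, funext fun T => Subtype.ext ((hn T).trans (if_pos (Finset.mem_univ T)))⟩
    haveI := hF.simple T₀ hT₀
    refine ⟨Shrink.{0} T₀, inferInstance, Nat.card 𝒯, ?_, ?_, ⟨?_⟩⟩
    · haveI : Nontrivial (Shrink.{0} T₀) := f₀.symm.toEquiv.nontrivial
      refine ⟨fun K hK => ?_⟩
      rcases Subgroup.Normal.eq_bot_or_eq_top (hK.comap f₀.toMonoidHom) with h | h
      · exact Or.inl ((Subgroup.map_comap_eq_self_of_surjective f₀.surjective K).symm.trans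
          ((congrArg (Subgroup.map f₀.toMonoidHom) h).trans (Subgroup.map_bot _)))
      · exact Or.inr ((Subgroup.map_comap_eq_self_of_surjective f₀.surjective K).symm.trans
          ((congrArg (Subgroup.map f₀.toMonoidHom) h).trans
            (Subgroup.map_top_of_surjective _ f₀.surjective)))
    · haveI : Nonempty 𝒯 := ⟨⟨T₀, hT₀⟩⟩
      exact Nat.card_pos
    · refine ((MulEquiv.ofBijective φ hφ).trans
        (MulEquiv.piCongrRight fun T => (hiso T).some.trans f₀)).trans ?_
      exact
        { toFun := fun f i => f ((Finite.equivFin 𝒯).symm i)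
          invFun := fun f T => f (Finite.equivFin 𝒯 T)
          left_inv := fun f => funext fun T => congrArg f ((Finite.equivFin 𝒯).symm_apply_apply T)
          right_inv := fun f => funext fun i => congrArg f ((Finite.equivFin 𝒯).apply_symm_apply i)
          map_mul' := fun _ _ => rfl }

end Cfsg.Agent.Perm
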