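/-
Simplicity criteria for transitive groups of prime degree and for their one-point extensions.
-/
import Mathlib

set_option autoImplicit false

namespace Cfsg.Agent.Perm

open MulAction Subgroup

variable {G α : Type*} [Group G] [MulAction G α]

/-- A nontrivial normal subgroup of a primitive faithful group is transitive. -/
theorem normal_isPretransitive [IsPreprimitive G α] [FaithfulSMul G α]
    (N : Subgroup G) [N.Normal] (hN : N ≠ ⊥) : IsPretransitive N α := by
  apply IsQuasiPreprimitive.isPretransitive_of_normal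
  intro h
  apply hN
  rw [eq_bot_iff]
  intro g hg
  refine Subgroup.mem_bot.2 (eq_of_smul_eq_smul (α := α) fun a => ?_)
  have ha : a ∈ fixedPoints N α := by rw [h]; trivial
  rw [one_smul]
  exact ha ⟨g, hg⟩

/-- A transitive subgroup containing a point stabiliser is everything. -/
theorem eq_top_of_stabilizer_le (N : Subgroup G) [IsPretransitive N α] (a : α)
    (h : stabilizer G a ≤ N) : N = ⊤ := by
  rw [eq_top_iff]
  intro g _
  obtain ⟨⟨n, hn⟩, e⟩ := exists_smul_eq N a (g • a)
  have : n⁻¹ * g ∈ N := h (by
    rw [mem_stabilizer_iff, mul_smul, ← e]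
    exact inv_smul_smul n a)
  simpa using N.mul_mem hn this

variable [Finite G]

/-- A transitive subgroup has order `degree * stabiliser`. -/
theorem card_eq_degree_mul (N : Subgroup G) [IsPretransitive N α] (a : α) :
    Nat.card N = Nat.card α * Nat.card (stabilizer N a) := by
  rw [← index_stabilizer_of_transitive N a, Subgroup.index_mul_card]

/-- In a faithful group of prime degree `p`, the normaliser of a subgroup of order `p`
has order `p * d` with `d ∣ p - 1`. -/
theorem card_normalizer_of_prime_degree [FaithfulSMul G α] {p : ℕ} [hp : Fact p.Prime]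
    (hα : Nat.card α = p) (P : Subgroup G) (hP : Nat.card P = p) :
    ∃ d, d ∣ p - 1 ∧ Nat.card (normalizer (P : Set G)) = p * d := by
  have : Finite α := Nat.finite_of_card_ne_zero (hα ▸ hp.out.ne_zero)
  -- `P` is transitive
  obtain ⟨⟨x, hx⟩, hx1⟩ : ∃ x : P, x ≠ 1 := by
    have : Nontrivial P := Finite.one_lt_card_iff_nontrivial.1 (hP ▸ hp.out.one_lt)
    exact exists_ne 1
  obtain ⟨a, ha⟩ : ∃ a : α, x • a ≠ a := by
    by_contra h
    push Not at h
    exact hx1 (Subtype.ext (eq_of_smul_eq_smul (α := α) fun a => by simp [h a]))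
  have horb : orbit P a = Set.univ := by
    apply Set.eq_univ_of_univ_subset
    have hdvd : (orbit P a).ncard ∣ p := by
      rw [← index_stabilizer P a, ← hP]
      exact Subgroup.index_dvd_card _
    rcases (Nat.dvd_prime hp.out).1 hdvd with h | h
    · obtain ⟨b, hb⟩ := Set.ncard_eq_one.1 h
      have h1 : a ∈ orbit P a := mem_orbit_self a
      have h2 : x • a ∈ orbit P a := mem_orbit a (⟨x, hx⟩ : P)
      rw [hb] at h1 h2
      exact absurd (h2.trans h1.symm) ha
    · exact (Set.eq_of_subset_of_ncard_le (Set.subset_univ _)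
        (by rw [Set.ncard_univ, hα, h]) (Set.toFinite _)).ge
  set M : Subgroup G := normalizer (P : Set G) with hM
  have hPM : P ≤ M := Subgroup.le_normalizer
  have hMt : IsPretransitive M α := by
    refine ⟨fun b c => ?_⟩
    have hb : b ∈ orbit P a := horb ▸ Set.mem_univ b
    have hc : c ∈ orbit P a := horb ▸ Set.mem_univ c
    obtain ⟨u, rfl⟩ := hb
    obtain ⟨v, rfl⟩ := hc
    exact ⟨⟨v * u⁻¹, hPM (P.mul_mem v.2 (P.inv_mem u.2))⟩,
      by simp [Subgroup.smul_def, mul_smul]⟩
  refine ⟨Nat.card (stabilizer M a), ?_, by rw [card_eq_degree_mul M a, hα]⟩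
  -- the stabiliser embeds in `Aut P`
  let φ : stabilizer M a →* MulAut P :=
    (Subgroup.normalizerMonoidHom P).comp (stabilizer M a).subtype
  have hφ : Function.Injective φ := by
    rw [← MonoidHom.ker_eq_bot_iff, eq_bot_iff]
    rintro ⟨⟨g, hg⟩, hga⟩ hker
    simp only [Subgroup.mem_bot, Subtype.ext_iff]
    refine eq_of_smul_eq_smul (α := α) fun b => ?_
    obtain ⟨u, rfl⟩ : b ∈ orbit P a := horb ▸ Set.mem_univ b
    have hk : g * u * g⁻¹ = u := congrArg Subtype.val (DFunLike.congr_fun hker u)
    have hga' : g • a = a := hga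
    show g • (u : G) • a = (1 : G) • (u : G) • a
    rw [one_smul, ← mul_smul, mul_inv_eq_iff_eq_mul.1 hk, mul_smul, hga']
  have : IsCyclic P := isCyclic_of_prime_card hP
  have h := Subgroup.card_dvd_of_injective φ hφ
  rwa [IsCyclic.card_mulAut, hP, Nat.totient_prime hp.out] at h

omit [MulAction G α] in
theorem prime_div_sylow_count {p : ℕ} [hp : Fact p.Prime] (P : Sylow p G) :
    Nat.card G / Nat.card (normalizer ((P : Subgroup G) : Set G)) ≡ 1 [MOD p] := by
  have h := card_sylow_modEq_one p G
  rw [P.card_eq_index_normalizer] at h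
  convert h using 1
  exact Nat.div_eq_of_eq_mul_left Nat.card_pos (Subgroup.index_mul_card _).symm

/-- Simplicity of a transitive group of prime degree `p` whose order is not divisible by `p²`,
when every normaliser order `p * d` allowed by Sylow's theorem has `d` prime. -/
theorem isSimpleGroup_of_prime_degree [FaithfulSMul G α] [IsPretransitive G α]
    {p : ℕ} [hp : Fact p.Prime] (hα : Nat.card α = p) (hp2 : ¬ p ^ 2 ∣ Nat.card G)
    (hd : ∀ d, d ∣ p - 1 → p * d ∣ Nat.card G → Nat.card G / (p * d) ≡ 1 [MOD p] →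
      d.Prime ∧ p * d < Nat.card G) : IsSimpleGroup G := by
  have : Finite α := Nat.finite_of_card_ne_zero (hα ▸ hp.out.ne_zero)
  have : IsPreprimitive G α := IsPreprimitive.of_prime_card (hα ▸ hp.out)
  obtain ⟨a⟩ : Nonempty α := (Nat.card_pos_iff.1 (hα ▸ hp.out.pos)).1
  have hpG : p ∣ Nat.card G := hα ▸ index_stabilizer_of_transitive G a ▸ Subgroup.index_dvd_card _
  have : Nontrivial G := Finite.one_lt_card_iff_nontrivial.1
    (lt_of_lt_of_le hp.out.one_lt (Nat.le_of_dvd Nat.card_pos hpG))
  refine ⟨fun N hN => or_iff_not_imp_left.2 fun hN0 => ?_⟩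
  have hNt := normal_isPretransitive (α := α) N hN0
  have hpN : p ∣ Nat.card N := hα ▸ Dvd.intro _ (card_eq_degree_mul N a).symm
  obtain ⟨P⟩ : Nonempty (Sylow p N) := Sylow.nonempty
  set P' : Subgroup G := (P : Subgroup N).map N.subtype with hP'
  have hcP : Nat.card (P : Subgroup N) = p := by
    obtain ⟨k, hk⟩ := IsPGroup.iff_card.1 P.isPGroup'
    have hdvd : Nat.card (P : Subgroup N) ∣ Nat.card G :=
      (Subgroup.card_subgroup_dvd_card _).trans (Subgroup.card_subgroup_dvd_card N)
    have hk2 : k < 2 := by
      by_contra h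
      exact hp2 ((pow_dvd_pow p (not_lt.1 h)).trans (hk ▸ hdvd))
    have hk0 : k ≠ 0 := by
      intro h
      subst h
      have := P.not_dvd_index
      rw [← Subgroup.index_mul_card (P : Subgroup N), hk, pow_zero, mul_one] at hpN
      exact this hpN
    rw [hk, show k = 1 by omega, pow_one]
  have hcP' : Nat.card P' = p := by rw [hP', Subgroup.card_map_of_injective N.subtype_injective, hcP]
  obtain ⟨d, hd1, hd2⟩ := card_normalizer_of_prime_degree hα P' hcP'
  obtain ⟨Q, hQ⟩ : ∃ Q : Sylow p G, (Q : Subgroup G) = P' := by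
    obtain ⟨Q, hQ⟩ := (IsPGroup.of_card (p := p) (n := 1) (by simpa using hcP')).exists_le_sylow
    refine ⟨Q, (Subgroup.eq_of_le_of_card_ge hQ ?_).symm⟩
    obtain ⟨k, hk⟩ := IsPGroup.iff_card.1 Q.isPGroup'
    have hk2 : k < 2 := by
      by_contra h
      exact hp2 ((pow_dvd_pow p (not_lt.1 h)).trans (hk ▸ Subgroup.card_subgroup_dvd_card _))
    rw [hcP', hk]
    calc p ^ k ≤ p ^ 1 := Nat.pow_le_pow_right hp.out.pos (by omega)
      _ = p := pow_one p
  have hcount := prime_div_sylow_count Q
  rw [hQ, hd2] at hcount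
  obtain ⟨hdp, hlt⟩ := hd d hd1 (hd2 ▸ Subgroup.card_subgroup_dvd_card _) hcount
  have hfr : normalizer (P' : Set G) ⊔ N = ⊤ := Sylow.normalizer_sup_eq_top P
  -- the normaliser inside `N`
  set R : Subgroup N := normalizer ((P : Subgroup N) : Set N) with hR
  obtain ⟨e, he1, he2⟩ := card_normalizer_of_prime_degree (α := α) hα (P : Subgroup N) hcP
  have hRle : R.map N.subtype ≤ normalizer (P' : Set G) :=
    Subgroup.le_normalizer_map _
  have hed : e ∣ d := by
    have := Subgroup.card_dvd_of_le hRle
    rw [Subgroup.card_map_of_injective N.subtype_injective, he2, hd2] at this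
    exact (Nat.mul_dvd_mul_iff_left hp.out.pos).1 this
  rcases (Nat.dvd_prime hdp).1 hed with rfl | rfl
  · -- Burnside transfer: normal `p`-complement
    have hRP : R = (P : Subgroup N) :=
      (Subgroup.eq_of_le_of_card_ge Subgroup.le_normalizer (by rw [he2, hcP, mul_one])).symm
    have : IsCyclic (P : Subgroup N) := isCyclic_of_prime_card hcP
    have hcent : R ≤ Subgroup.centralizer ((P : Subgroup N) : Set N) := by
      rw [hRP]
      exact fun x hx y hy => congrArg Subtype.val
        (IsMulCommutative.is_comm.comm (⟨y, hy⟩ : (P : Subgroup N)) ⟨x, hx⟩)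
    have hK := MonoidHom.ker_transferSylow_isComplement' P hcent
    set K := (MonoidHom.transferSylow P hcent).ker with hKdef
    have hKc : Nat.card K * p = Nat.card N := by rw [← hcP]; exact hK.card_mul_card
    have hKp : ¬ p ∣ Nat.card K := by
      intro h
      apply hp2
      rw [sq]
      exact (Nat.mul_dvd_mul_right h p).trans (hKc ▸ Subgroup.card_subgroup_dvd_card N)
    have hKmem : ∀ x : N, x ∈ K ↔ ¬ p ∣ orderOf x := by
      intro x
      constructor
      · intro hx h
        exact hKp (h.trans (Subgroup.orderOf_dvd_natCard _ hx))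
      · intro hx
        rw [hKdef, MonoidHom.mem_ker, ← orderOf_eq_one_iff]
        have h1 : orderOf (MonoidHom.transferSylow P hcent x) ∣ p :=
          (_root_.orderOf_dvd_natCard _).trans hcP.dvd
        rcases (Nat.dvd_prime hp.out).1 h1 with h | h
        · exact h
        · exact absurd (h.symm.dvd.trans (orderOf_map_dvd _ x)) hx
    have hKn : (K.map N.subtype).Normal := by
      refine ⟨?_⟩
      rintro y ⟨⟨x, hxN⟩, hxK, rfl⟩ g
      refine ⟨⟨g * x * g⁻¹, hN.conj_mem x hxN g⟩, ?_, rfl⟩
      rw [SetLike.mem_coe, hKmem] at hxK ⊢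
      rw [← Subgroup.orderOf_coe] at hxK ⊢
      have heq : orderOf (g * x * g⁻¹) = orderOf x :=
        (SemiconjBy.orderOf_eq g (by simp [SemiconjBy])).symm
      simpa [heq] using hxK
    by_cases hK0 : K.map N.subtype = ⊥
    · have hK1 : Nat.card K = 1 := by
        rw [← Subgroup.card_map_of_injective N.subtype_injective, hK0, Subgroup.card_bot]
      have : P' = N := Subgroup.eq_of_le_of_card_ge (Subgroup.map_subtype_le _)
        (by rw [hcP', ← hKc, hK1, one_mul])
      have htop : normalizer (P' : Set G) = ⊤ := by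
        rw [this]; exact Subgroup.normalizer_eq_top (H := N)
      rw [htop, Subgroup.card_top] at hd2
      omega
    · have := normal_isPretransitive (α := α) _ hK0
      exfalso
      apply hKp
      rw [← Subgroup.card_map_of_injective N.subtype_injective, card_eq_degree_mul (K.map N.subtype) a, hα]
      exact Dvd.intro _ rfl
  · have : R.map N.subtype = normalizer (P' : Set G) := Subgroup.eq_of_le_of_card_ge hRle
      (by rw [Subgroup.card_map_of_injective N.subtype_injective, he2, hd2])
    rwa [← this, sup_eq_right.2 (Subgroup.map_subtype_le _)] at hfr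

/-- A doubly transitive faithful group with a simple point stabiliser, that is at least
2-transitive on the remaining points and whose degree is not a prime power, is simple. -/
theorem isSimpleGroup_of_simple_stabilizer [FaithfulSMul G α] [IsMultiplyPretransitive G α 2]
    (a : α) (hs : IsSimpleGroup (stabilizer G a)) {q r : ℕ} (hq : q.Prime) (hr : r.Prime)
    (hqr : q ≠ r) (hqd : q ∣ Nat.card α) (hrd : r ∣ Nat.card α) : IsSimpleGroup G := by
  have : IsPretransitive G α := isPretransitive_of_is_two_pretransitive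
  have : IsPreprimitive G α := isPreprimitive_of_is_two_pretransitive inferInstance
  have : Finite α :=
    Finite.of_surjective (fun g : G => g • a) (MulAction.surjective_smul G a)
  have : Nontrivial G := (stabilizer G a).subtype_injective.nontrivial
  refine ⟨fun N hN => or_iff_not_imp_left.2 fun hN0 => ?_⟩
  have hNt := normal_isPretransitive (α := α) N hN0
  rcases hs.eq_bot_or_eq_top_of_normal (N.subgroupOf (stabilizer G a)) inferInstance with h | h
  · exfalso
    have h' : ∀ g ∈ N, g • a = a → g = 1 := fun g hg hga => by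
      have : (⟨g, hga⟩ : stabilizer G a) ∈ N.subgroupOf (stabilizer G a) := hg
      rw [h, Subgroup.mem_bot] at this
      exact congrArg Subtype.val this
    have hst : stabilizer N a = ⊥ := by
      rw [eq_bot_iff]
      intro g hg
      exact Subgroup.mem_bot.2 (Subtype.ext (h' g g.2 hg))
    have hcard : Nat.card N = Nat.card α := by
      rw [card_eq_degree_mul N a, hst, Subgroup.card_bot, mul_one]
    have : Fact q.Prime := ⟨hq⟩
    have : Fact r.Prime := ⟨hr⟩
    obtain ⟨x, hx⟩ := exists_prime_orderOf_dvd_card' q (hcard ▸ hqd)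
    obtain ⟨y, hy⟩ := exists_prime_orderOf_dvd_card' r (hcard ▸ hrd)
    have hne : ∀ z : N, orderOf z ≠ 1 → (z : G) • a ≠ a := fun z hz hza =>
      hz (orderOf_eq_one_iff.2 (Subtype.ext (h' z z.2 hza)))
    obtain ⟨g, hga, hgxy⟩ := (is_two_pretransitive_iff.1 (by assumption))
      (hne x (hx ▸ hq.one_lt.ne')).symm (hne y (hy ▸ hr.one_lt.ne')).symm
    have hconj : g * x * g⁻¹ ∈ N := hN.conj_mem x x.2 g
    have hga' : g⁻¹ • a = a := inv_smul_eq_iff.2 hga.symm
    have key : (y : G)⁻¹ * (g * x * g⁻¹) = 1 := h' _ (N.mul_mem (N.inv_mem y.2) hconj) (by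
      rw [mul_smul, mul_smul, mul_smul, hga', hgxy, inv_smul_smul])
    apply hqr
    rw [← hx, ← hy, ← Subgroup.orderOf_coe x, ← Subgroup.orderOf_coe y,
      inv_mul_eq_one.1 key]
    exact SemiconjBy.orderOf_eq g (by simp [SemiconjBy])
  · exact eq_top_of_stabilizer_le N a (Subgroup.subgroupOf_eq_top.1 h)

omit [Finite G] in
/-- Order of a sharply `k`-transitive group. -/
theorem card_eq_descFactorial_of_sharp [Fintype α] {k : ℕ} (hk : k ≤ Fintype.card α)
    [IsMultiplyPretransitive G α k] (hsharp : ∀ x : Fin k ↪ α, stabilizer G x = ⊥) :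
    Nat.card G = (Fintype.card α).descFactorial k := by
  obtain ⟨x⟩ : Nonempty (Fin k ↪ α) := Function.Embedding.nonempty_of_card_le (by simpa using hk)
  have := index_stabilizer_of_transitive G x
  rw [hsharp x, Subgroup.index_bot] at this
  classical
  rw [this, Nat.card_eq_fintype_card, Fintype.card_embedding_eq, Fintype.card_fin]

end Cfsg.Agent.Perm
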