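import Cfsg.Agent.Lib.Perm.ModuleHeart
import Mathlib.Algebra.Polynomial.Roots
import Mathlib.RingTheory.Polynomial.DegreeLT
import Mathlib.LinearAlgebra.Matrix.Dual
import Mathlib.GroupTheory.Solvable
import Mathlib.Data.ZMod.Basic
import Mathlib.Algebra.Field.ZMod
import Mathlib.GroupTheory.Perm.Cycle.Type

/-!
# Permutation groups of prime degree via the modular permutation module

* `eq_polyFun`: translation-invariant subspaces of `ZMod p → K` are spaces of polynomial functions;
* `exists_coords`: a transitive group of prime degree contains the translations, in suitable coordinates;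
* `heart_trivial_or_solvable`: for a non-solvable group the heart is irreducible;
* `twoTransitive_of_not_isSolvable`: Burnside's theorem on groups of prime degree.
-/

set_option autoImplicit false

namespace Cfsg.Agent.Perm.PrimeDegree

theorem perm_zmod_two_affine :
    ∀ τ : Equiv.Perm (ZMod 2), ∃ a b : ZMod 2, ∀ x, τ x = a * x + b := by decide

theorem perm_zmod_three_affine :
    ∀ τ : Equiv.Perm (ZMod 3), ∃ a b : ZMod 3, ∀ x, τ x = a * x + b := by decide

open Cfsg Polynomial Cfsg.Agent.Perm.ModuleHeart

variable {p : ℕ} [hp : Fact p.Prime] {K : Type*} [Field K] [CharP K p]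

/-- The embedding of the prime field. -/
def inc : ZMod p →+* K := ZMod.castHom (dvd_refl p) K

theorem inc_injective : Function.Injective (inc : ZMod p → K) := (inc (K := K)).injective

theorem inc_eq_cast (x : ZMod p) : (inc x : K) = (ZMod.cast x : K) := rfl

variable (p K) in
/-- Evaluation of polynomials as functions on the prime field. -/
noncomputable def evalFun : K[X] →ₗ[K] (ZMod p → K) where
  toFun P x := P.eval (inc x)
  map_add' P Q := by funext x; simp
  map_smul' c P := by funext x; simp

theorem evalFun_apply (P : K[X]) (x : ZMod p) : evalFun p K P x = P.eval (inc x) := rfl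

variable (p K) in
/-- The functions given by polynomials of degree `< r`. -/
noncomputable def polyFun (r : ℕ) : Submodule K (ZMod p → K) :=
  (degreeLT K r).map (evalFun p K)

theorem mem_polyFun_iff {r : ℕ} {f : ZMod p → K} :
    f ∈ polyFun p K r ↔ ∃ P : K[X], P.degree < r ∧ ∀ x, f x = P.eval (inc x) := by
  simp only [polyFun, Submodule.mem_map, mem_degreeLT]
  exact exists_congr fun P => and_congr_right fun _ =>
    ⟨fun h x => by rw [← h]; rfl, fun h => funext fun x => (h x).symm⟩

theorem eq_zero_of_evalFun_eq_zero {P : K[X]} (hd : P.degree < p) (h : evalFun p K P = 0) :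
    P = 0 := by
  by_cases h0 : P = 0
  · exact h0
  refine eq_zero_of_natDegree_lt_card_of_eval_eq_zero P inc_injective (fun x => congrFun h x) ?_
  rw [ZMod.card]
  exact (natDegree_lt_iff_degree_lt h0).2 hd

theorem finrank_polyFun {r : ℕ} (hr : r ≤ p) : Module.finrank K (polyFun p K r) = r := by
  have hinj : Function.Injective ((evalFun p K).domRestrict (degreeLT K r)) := by
    rw [injective_iff_map_eq_zero]
    rintro ⟨P, hP⟩ h
    exact Subtype.ext (eq_zero_of_evalFun_eq_zero
      ((mem_degreeLT.1 hP).trans_le (by exact_mod_cast hr)) h)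
  have h : Module.finrank K (degreeLT K r) = r := by
    rw [(degreeLTEquiv K r).finrank_eq, Module.finrank_fintype_fun_eq_card, Fintype.card_fin]
  rw [polyFun, ← LinearMap.range_domRestrict, LinearMap.finrank_range_of_inj hinj, h]

variable (p K) in
/-- The difference operator. -/
def delta : (ZMod p → K) →ₗ[K] (ZMod p → K) where
  toFun f x := f (x - 1) - f x
  map_add' f g := by funext x; simp only [Pi.add_apply]; ring
  map_smul' c f := by funext x; simp [mul_sub]

theorem delta_apply (f : ZMod p → K) (x : ZMod p) : delta p K f x = f (x - 1) - f x := rfl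

theorem delta_pow_evalFun : ∀ (k : ℕ) (P : K[X]), P.degree < k →
    ((delta p K) ^ k) (evalFun p K P) = 0
  | 0, P, h => by
    have : P = 0 := degree_eq_bot.1 (Nat.WithBot.lt_zero_iff.1 (by simpa using h))
    simp [this]
  | k + 1, P, h => by
    rw [pow_succ, Module.End.mul_apply]
    have he : delta p K (evalFun p K P) = evalFun p K (P.comp (X - C 1) - P) := by
      funext x
      simp [delta_apply, evalFun_apply]
    rw [he]
    refine delta_pow_evalFun k _ ?_
    by_cases hP : P = 0
    · simp [hP]
    have h1 : (P.comp (X - C 1)).natDegree = P.natDegree := by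
      rw [natDegree_comp, natDegree_X_sub_C, mul_one]
    have h2 : P.comp (X - C 1) ≠ 0 := by
      intro h0
      rw [h0, natDegree_zero] at h1
      obtain ⟨c, hc⟩ := natDegree_eq_zero.1 h1.symm
      rw [← hc, C_comp] at h0
      exact hP (hc ▸ h0)
    have hd : (P.comp (X - C 1) - P).degree < P.degree := by
      refine (degree_sub_lt ?_ h2 ?_).trans_eq ?_
      · rw [degree_eq_natDegree h2, degree_eq_natDegree hP, h1]
      · rw [leadingCoeff_comp (by rw [natDegree_X_sub_C]; norm_num), (monic_X_sub_C (1 : K)).leadingCoeff,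
          one_pow, mul_one]
      · rw [degree_eq_natDegree h2, degree_eq_natDegree hP, h1]
    refine hd.trans_le ?_
    rw [degree_eq_natDegree hP] at h ⊢
    exact_mod_cast Nat.lt_succ_iff.1 (by exact_mod_cast h)

theorem polyFun_le_ker (k : ℕ) : polyFun p K k ≤ LinearMap.ker ((delta p K) ^ k) := by
  rintro _ ⟨P, hP, rfl⟩
  exact delta_pow_evalFun k P (mem_degreeLT.1 hP)

theorem polyFun_top : polyFun p K p = ⊤ :=
  Submodule.eq_top_of_finrank_eq (by
    rw [finrank_polyFun le_rfl, Module.finrank_fintype_fun_eq_card, ZMod.card])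

theorem finrank_ker_delta_pow (k : ℕ) :
    Module.finrank K (LinearMap.ker ((delta p K) ^ k)) ≤ k := by
  induction k with
  | zero => simp [LinearMap.ker_id, Module.End.one_eq_id]
  | succ k ih =>
    have hmap : ∀ f ∈ LinearMap.ker ((delta p K) ^ (k + 1)),
        delta p K f ∈ LinearMap.ker ((delta p K) ^ k) := fun f hf => by
      rw [LinearMap.mem_ker, ← Module.End.mul_apply, ← pow_succ]
      exact hf
    let D := (delta p K).restrict hmap
    have h1 : Module.finrank K (LinearMap.range D) ≤ k := (Submodule.finrank_le _).trans ih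
    have h2 : Module.finrank K (LinearMap.ker D) ≤ 1 := by
      have hconst : ∀ f : ZMod p → K, delta p K f = 0 → ∀ x, f x = f 0 := by
        intro f hf
        have hstep : ∀ x, f (x - 1) = f x := fun x => sub_eq_zero.1 (congrFun hf x)
        have hnat : ∀ n : ℕ, f (n : ZMod p) = f 0 := by
          intro n
          induction n with
          | zero => simp
          | succ n ihn =>
            rw [← hstep, ← ihn]
            simp
        intro x
        rw [← ZMod.natCast_zmod_val x]
        exact hnat _
      let E : LinearMap.ker D →ₗ[K] K :=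
        { toFun := fun f => ((f : LinearMap.ker ((delta p K) ^ (k + 1))) : ZMod p → K) 0
          map_add' := fun _ _ => rfl
          map_smul' := fun _ _ => rfl }
      refine (LinearMap.finrank_le_finrank_of_injective (f := E) ?_).trans_eq (Module.finrank_self K)
      rw [injective_iff_map_eq_zero]
      rintro ⟨⟨f, hf⟩, hfD⟩ hE
      have hd : delta p K f = 0 := congrArg Subtype.val hfD
      exact Subtype.ext (Subtype.ext (funext fun x => (hconst f hd x).trans hE))
    have h3 := LinearMap.finrank_range_add_finrank_ker D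
    omega

theorem polyFun_eq_ker {r : ℕ} (hr : r ≤ p) :
    polyFun p K r = LinearMap.ker ((delta p K) ^ r) :=
  Submodule.eq_of_le_of_finrank_le (polyFun_le_ker r)
    ((finrank_ker_delta_pow r).trans (finrank_polyFun hr).ge)

/-- Translation-invariant subspaces consist of the polynomial functions of bounded degree. -/
theorem eq_polyFun {W : Submodule K (ZMod p → K)} (hW : ∀ f ∈ W, (fun x => f (x - 1)) ∈ W) :
    Module.finrank K W ≤ p ∧ W = polyFun p K (Module.finrank K W) := by
  have hle : Module.finrank K W ≤ p :=
    (Submodule.finrank_le W).trans_eq (by rw [Module.finrank_fintype_fun_eq_card, ZMod.card])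
  refine ⟨hle, ?_⟩
  have hD : ∀ f ∈ W, delta p K f ∈ W := fun f hf => W.sub_mem (hW f hf) hf
  let Wk : ℕ → Submodule K (ZMod p → K) := fun k => W ⊓ LinearMap.ker ((delta p K) ^ k)
  have hWp : Wk p = W := by
    refine le_antisymm inf_le_left (le_inf le_rfl ?_)
    exact le_top.trans (polyFun_top.ge.trans (polyFun_le_ker p))
  have hstab : ∀ k, Wk (k + 1) = Wk k → ∀ j, Wk (k + j) = Wk k := by
    intro k hk j
    induction j with
    | zero => rfl
    | succ j ih =>
      refine le_antisymm (fun f hf => ?_) (fun f hf => ⟨hf.1, ?_⟩)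
      · rw [← hk]
        refine ⟨hf.1, ?_⟩
        have hDf : delta p K f ∈ Wk (k + j) := ⟨hD f hf.1, by
          have h := hf.2
          rw [SetLike.mem_coe, LinearMap.mem_ker, ← add_assoc, pow_succ, Module.End.mul_apply] at h
          exact h⟩
        rw [ih] at hDf
        show ((delta p K) ^ (k + 1)) f = 0
        rw [pow_succ, Module.End.mul_apply]
        exact hDf.2
      · show ((delta p K) ^ (k + (j + 1))) f = 0
        rw [add_comm, pow_add, Module.End.mul_apply, show ((delta p K) ^ k) f = 0 from hf.2, map_zero]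
  have hgrow : ∀ k, k ≤ Module.finrank K (Wk k) ∨ Wk k = W := by
    intro k
    induction k with
    | zero => exact Or.inl (Nat.zero_le _)
    | succ k ih =>
      have hmono : Wk k ≤ Wk (k + 1) := fun f hf => ⟨hf.1, by
        show ((delta p K) ^ (k + 1)) f = 0
        rw [pow_succ', Module.End.mul_apply, show ((delta p K) ^ k) f = 0 from hf.2, map_zero]⟩
      rcases ih with ih | ih
      · by_cases heq : Wk (k + 1) = Wk k
        · refine Or.inr (le_antisymm inf_le_left ?_)
          rcases le_or_gt k p with hkp | hkp
          · rw [heq, ← hstab k heq (p - k), Nat.add_sub_cancel' hkp, hWp]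
          · have h1 : Module.finrank K (Wk k) ≤ p :=
              (Submodule.finrank_mono inf_le_left).trans hle
            omega
        · left
          have := Submodule.finrank_lt_finrank_of_lt (lt_of_le_of_ne hmono (Ne.symm heq))
          omega
      · exact Or.inr (le_antisymm inf_le_left (ih.ge.trans hmono))
  have hker : W ≤ LinearMap.ker ((delta p K) ^ Module.finrank K W) := by
    rcases hgrow (Module.finrank K W) with h | h
    · exact ((Submodule.eq_of_le_of_finrank_le inf_le_left h).ge).trans inf_le_right
    · exact h.ge.trans inf_le_right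
  rw [polyFun_eq_ker hle]
  exact Submodule.eq_of_le_of_finrank_le hker (finrank_ker_delta_pow _)

theorem polyFun_shift {r : ℕ} (hr : r ≤ p) :
    ∀ f ∈ polyFun p K r, (fun x => f (x - 1)) ∈ polyFun p K r := by
  intro f hf
  rw [polyFun_eq_ker hr] at hf ⊢
  have he : (fun x => f (x - 1)) = delta p K f + f := by funext x; simp [delta_apply]
  rw [he]
  refine Submodule.add_mem _ ?_ hf
  rw [LinearMap.mem_ker] at hf ⊢
  rw [← Module.End.mul_apply, ← pow_succ, pow_succ', Module.End.mul_apply, hf, map_zero]

/-- A substitution preserving the polynomial functions of degree `< r`, with `r ≤ (p + 1) / 2`,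
is affine. -/
theorem affine_of_preserves {r : ℕ} (h2 : 2 ≤ r) (hr : 2 * r ≤ p + 1) (σ : ZMod p → ZMod p)
    (hσ : ∀ f ∈ polyFun p K r, f ∘ σ ∈ polyFun p K r) :
    ∃ a b : ZMod p, ∀ x, σ x = a * x + b := by
  have hpow : ∀ j, j < r → ∃ Q : K[X], Q.degree < r ∧ ∀ x, inc (σ x) ^ j = Q.eval (inc x) := by
    intro j hj
    have hm : (fun x => (inc x : K) ^ j) ∈ polyFun p K r :=
      mem_polyFun_iff.2 ⟨X ^ j, by rw [degree_X_pow]; exact_mod_cast hj, fun x => by simp⟩
    exact mem_polyFun_iff.1 (hσ _ hm)
  obtain ⟨P, hPd, hP⟩ := hpow 1 (by omega)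
  simp only [pow_one] at hP
  have hnd : P.natDegree ≤ 1 := by
    by_contra hlt
    set d := P.natDegree with hd
    have hP0 : P ≠ 0 := fun h => by simp [hd, h] at hlt
    have hdr : d < r := (natDegree_lt_iff_degree_lt hP0).2 hPd
    let j := (r - 1) / d + 1
    have hlow : r ≤ d * j := by
      have := Nat.lt_mul_div_succ (r - 1) (show 0 < d by omega)
      simp only [j]
      omega
    have hhigh : d * j ≤ r - 1 + d := by
      have := Nat.div_mul_le_self (r - 1) d
      simp only [j, mul_add, mul_one]
      rw [mul_comm]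
      omega
    have hjr : j < r := by
      have := Nat.div_le_div_left (show 2 ≤ d by omega) (show 0 < 2 by omega) (a := r - 1)
      simp only [j]
      omega
    obtain ⟨Q, hQd, hQ⟩ := hpow j hjr
    have heq : P ^ j = Q := by
      refine sub_eq_zero.1 (eq_zero_of_evalFun_eq_zero (p := p) ?_ ?_)
      · refine (degree_sub_le _ _).trans_lt (max_lt ?_ (hQd.trans_le (by exact_mod_cast (show r ≤ p by omega))))
        rw [degree_eq_natDegree (pow_ne_zero _ hP0), natDegree_pow, ← hd, mul_comm]
        exact_mod_cast (show d * j < p by omega)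
      · funext x
        simp [evalFun_apply, ← hP, hQ]
    have : Q.natDegree < r :=
      (natDegree_lt_iff_degree_lt (heq ▸ pow_ne_zero _ hP0)).2 hQd
    rw [← heq, natDegree_pow, ← hd, mul_comm] at this
    omega
  obtain ⟨a, b, rfl⟩ := exists_eq_X_add_C_of_natDegree_le_one hnd
  refine ⟨σ 1 - σ 0, σ 0, fun x => inc_injective (K := K) ?_⟩
  have h0 := hP 0
  have h1 := hP 1
  simp only [eval_add, eval_mul, eval_C, eval_X, map_zero, map_one, mul_zero, zero_add, mul_one]
    at h0 h1
  rw [map_add, map_mul, map_sub, h0, h1, hP x]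
  simp

/-- A group of substitutions preserving a space of polynomial functions of intermediate degree
consists of affine maps. -/
theorem affine_of_invariant {r : ℕ} (h2 : 2 ≤ r) (hr : r + 2 ≤ p) {Γ : Type*} [Group Γ]
    [MulAction Γ (ZMod p)] (hΓ : ∀ g : Γ, ∀ f ∈ polyFun p K r, (fun x => f (g • x)) ∈ polyFun p K r)
    (g : Γ) : ∃ a b : ZMod p, ∀ x, g • x = a * x + b := by
  by_cases h : 2 * r ≤ p + 1
  · exact affine_of_preserves h2 h _ (hΓ g)
  let e := dotProductEquiv K (ZMod p)
  let A : Submodule K (ZMod p → K) := (polyFun p K r).dualAnnihilator.comap e.toLinearMap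
  have hmem : ∀ u, u ∈ A ↔ ∀ f ∈ polyFun p K r, ∑ x, u x * f x = 0 := fun u => by
    simp only [A, Submodule.mem_comap, Submodule.mem_dualAnnihilator]
    rfl
  have hA : Module.finrank K A = p - r := by
    have h1 := Subspace.finrank_add_finrank_dualAnnihilator_eq (polyFun p K r)
    rw [finrank_polyFun (by omega), Module.finrank_fintype_fun_eq_card, ZMod.card] at h1
    have h2 : Module.finrank K A = Module.finrank K (polyFun p K r).dualAnnihilator := by
      have : A = (polyFun p K r).dualAnnihilator.map e.symm.toLinearMap :=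
        (Submodule.map_equiv_eq_comap_symm e.symm _).symm
      rw [this]
      exact LinearEquiv.finrank_map_eq e.symm _
    omega
  have hshift : ∀ u ∈ A, (fun x => u (x - 1)) ∈ A := by
    intro u hu
    rw [hmem] at hu ⊢
    intro f hf
    have hf' : (fun x => f (x + 1)) ∈ polyFun p K r := by
      obtain ⟨P, hP, hPe⟩ := mem_polyFun_iff.1 hf
      refine mem_polyFun_iff.2 ⟨taylor 1 P, mem_degreeLT.1 (taylor_mem_degreeLT.2 (mem_degreeLT.2 hP)), fun x => ?_⟩
      rw [hPe, taylor_eval, map_add, map_one]
    rw [← hu _ hf', ← Equiv.sum_comp (Equiv.addRight (1 : ZMod p))]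
    simp
  have hAeq : A = polyFun p K (p - r) := hA ▸ (eq_polyFun hshift).2
  refine affine_of_preserves (K := K) (r := p - r) (by omega) (by omega) _ fun u hu => ?_
  rw [← hAeq, hmem] at hu ⊢
  intro f hf
  rw [← hu _ (hΓ g⁻¹ f hf), ← Equiv.sum_comp (MulAction.toPerm g⁻¹)]
  simp [MulAction.toPerm_apply]

section Coordinates

variable {α : Type*} [Fintype α] [DecidableEq α] (G : Subgroup (Equiv.Perm α))

omit hp in
theorem not_dvd_card_sq (hprime : p.Prime) (hα : Fintype.card α = p) : ¬ p ^ 2 ∣ Nat.card G := by
  intro h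
  have h' := h.trans (Subgroup.card_subgroup_dvd_card G)
  rw [Nat.card_perm, Nat.card_eq_fintype_card, hα] at h'
  obtain ⟨m, hm⟩ : ∃ m, p = m + 1 := ⟨p - 1, by have := hprime.pos; omega⟩
  rw [pow_two] at h'
  subst hm
  rw [Nat.factorial_succ] at h'
  have := (hprime.dvd_factorial).1 (Nat.dvd_of_mul_dvd_mul_left (Nat.succ_pos m) h')
  omega

/-- A transitive group of degree `p` has an element of order `p`. -/
theorem exists_orderOf_eq [MulAction.IsPretransitive G α] (hα : Fintype.card α = p) :
    ∃ c : G, orderOf c = p := by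
  haveI : Nonempty α := Fintype.card_pos_iff.1 (hα ▸ hp.out.pos)
  refine exists_prime_orderOf_dvd_card' p ?_
  rw [← hα, ← Nat.card_eq_fintype_card,
    ← MulAction.index_stabilizer_of_transitive G (Classical.arbitrary α)]
  exact Subgroup.index_dvd_card _

/-- Coordinates in which a given element of order `p` is the translation and a given point is `0`. -/
theorem exists_coords (hα : Fintype.card α = p) {c : Equiv.Perm α} (hc : orderOf c = p) (a : α) :
    ∃ e : ZMod p ≃ α, e 0 = a ∧ ∀ i, c (e i) = e (i + 1) := by
  have hcyc : c.IsCycle :=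
    Equiv.Perm.isCycle_of_prime_order'' (hα ▸ hp.out) (hc.trans hα.symm)
  have hs : c.support = Finset.univ :=
    Finset.eq_univ_of_card _ (by rw [← hcyc.orderOf, hc, hα])
  have hmv : ∀ x : α, c x ≠ x := fun x =>
    Equiv.Perm.mem_support.1 (by rw [hs]; exact Finset.mem_univ x)
  have hpow : ∀ n : ℕ, (c ^ n) a = (c ^ (n % p)) a := fun n => by rw [← hc, pow_mod_orderOf]
  let f : ZMod p → α := fun i => (c ^ i.val) a
  have hsurj : Function.Surjective f := by
    intro x
    obtain ⟨n, hn, hx⟩ := (hcyc.sameCycle (hmv a) (hmv x)).exists_pow_eq' 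
    refine ⟨(n : ZMod p), ?_⟩
    simp only [f, ZMod.val_natCast]
    rw [← hpow, hx]
  have hbij : Function.Bijective f :=
    (Fintype.bijective_iff_surjective_and_card f).2 ⟨hsurj, by rw [ZMod.card, hα]⟩
  refine ⟨Equiv.ofBijective f hbij, ?_, fun i => ?_⟩
  · simp [f]
  · show c ((c ^ i.val) a) = (c ^ (i + 1).val) a
    rw [← Equiv.Perm.mul_apply, ← pow_succ', hpow]
    congr 2
    rw [ZMod.val_add, ZMod.val_one]

variable {G}

/-- A group of affine substitutions is solvable. -/
theorem isSolvable_of_affine (e : ZMod p ≃ α)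
    (h : ∀ g : G, ∃ a b : ZMod p, ∀ x, e.symm ((g : Equiv.Perm α) (e x)) = a * x + b) :
    Group.IsSolvable G := by
  let τ : G → ZMod p → ZMod p := fun g x => e.symm ((g : Equiv.Perm α) (e x))
  let φ : G →* ZMod p :=
    { toFun := fun g => τ g 1 - τ g 0
      map_one' := by simp [τ]
      map_mul' := fun g h' => by
        obtain ⟨a, b, hg⟩ := h g
        obtain ⟨c, d, hh⟩ := h h'
        have hgh : ∀ x, τ (g * h') x = a * (c * x + d) + b := fun x => by
          simp only [τ, Subgroup.coe_mul, Equiv.Perm.mul_apply]
          rw [← hh, ← hg, Equiv.apply_symm_apply]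
        simp only [hgh, show ∀ x, τ g x = a * x + b from hg, show ∀ x, τ h' x = c * x + d from hh]
        ring }
  have hker : ∀ g : G, g ∈ φ.toHomUnits.ker → ∀ x, τ g x = x + τ g 0 := by
    intro g hg x
    obtain ⟨a, b, hgx⟩ := h g
    have h1 : τ g 1 - τ g 0 = 1 := congrArg Units.val hg
    simp only [show ∀ x, τ g x = a * x + b from hgx] at h1 ⊢
    have ha : a = 1 := by linear_combination h1
    rw [ha]; ring
  haveI : IsMulCommutative φ.toHomUnits.ker := by
    refine ⟨⟨fun u v => Subtype.ext (Subtype.ext (Equiv.ext fun y => ?_))⟩⟩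
    have key : ∀ w : φ.toHomUnits.ker, ∀ x, ((w : G) : Equiv.Perm α) (e x) = e (x + τ w 0) :=
      fun w x => by rw [← hker w w.2 x]; simp [τ]
    obtain ⟨x, rfl⟩ := e.surjective y
    simp only [Subgroup.coe_mul, Equiv.Perm.mul_apply, key]
    congr 1
    ring
  haveI : Group.IsSolvable φ.toHomUnits.ker :=
    Group.isSolvable_of_comm fun u v => IsMulCommutative.is_comm.comm u v
  exact Group.isSolvable_of_ker_le_range φ.toHomUnits.ker.subtype φ.toHomUnits
    (by rw [Subgroup.range_subtype])

/-- Substitutions in degree at most three are affine, so a non-solvable group has degree `≥ 5`. -/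
theorem five_le_of_not_isSolvable (e : ZMod p ≃ α) (hG : ¬ Group.IsSolvable G) : 5 ≤ p := by
  by_contra h
  refine hG (isSolvable_of_affine e fun g => ?_)
  let σ : Equiv.Perm (ZMod p) := e.trans ((g : Equiv.Perm α).trans e.symm)
  show ∃ a b, ∀ x, σ x = a * x + b
  generalize σ = τ
  have h2 := hp.out.two_le
  have h4 : p ≠ 4 := fun h4 => absurd (h4 ▸ hp.out) (by decide)
  obtain rfl | rfl : p = 2 ∨ p = 3 := by omega
  · exact perm_zmod_two_affine τ
  · exact perm_zmod_three_affine τ

/-- Transport of invariant subspaces to coordinates. -/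
theorem exists_poly_coords (W : Subrepresentation (permRep K G α)) {c : G} (e : ZMod p ≃ α)
    (hc : ∀ i, (c : Equiv.Perm α) (e i) = e (i + 1)) :
    ∃ r ≤ p, Module.finrank K W.toSubmodule = r ∧
      ∀ u : α → K, u ∈ W.toSubmodule ↔ u ∘ e ∈ polyFun p K r := by
  let L : (α → K) ≃ₗ[K] (ZMod p → K) := LinearEquiv.funCongrLeft K K e
  have hL : ∀ u : α → K, L u = u ∘ e := fun u => rfl
  let W' := W.toSubmodule.map L.toLinearMap
  have hshift : ∀ f ∈ W', (fun x => f (x - 1)) ∈ W' := by
    rintro _ ⟨u, hu, rfl⟩
    refine ⟨permRep K G α c u, W.apply_mem_toSubmodule c hu, funext fun x => ?_⟩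
    show permRep K G α c u (e x) = u (e (x - 1))
    rw [permRep_apply]
    congr 1
    show ((c⁻¹ : G) : Equiv.Perm α) (e x) = e (x - 1)
    rw [InvMemClass.coe_inv, Equiv.Perm.inv_def, Equiv.symm_apply_eq, hc, sub_add_cancel]
  obtain ⟨hle, heq⟩ := eq_polyFun hshift
  refine ⟨_, hle, (LinearEquiv.finrank_map_eq L W.toSubmodule).symm, fun u => ?_⟩
  rw [← heq, ← hL]
  exact ⟨fun h => ⟨u, h, rfl⟩, fun ⟨v, hv, hvu⟩ => L.injective hvu ▸ hv⟩

/-- In prime degree, a non-solvable group has irreducible heart. -/
theorem heart_irreducible [MulAction.IsPretransitive G α] (hα : Fintype.card α = p)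
    (hG : ¬ Group.IsSolvable G) (W : Subrepresentation (permRep K G α))
    (h₁ : (permConstants K G α).toSubmodule ≤ W.toSubmodule)
    (h₂ : W.toSubmodule ≤ (permSumZero K G α).toSubmodule) :
    W = permConstants K G α ∨ W = permSumZero K G α := by
  obtain ⟨c, hc⟩ := exists_orderOf_eq G hα
  haveI : Nonempty α := Fintype.card_pos_iff.1 (hα ▸ hp.out.pos)
  obtain ⟨e, -, he⟩ := exists_coords hα (c := (c : Equiv.Perm α)) (by rw [Subgroup.orderOf_coe, hc])
    (Classical.arbitrary α)
  obtain ⟨r, hrp, hr, hmem⟩ := exists_poly_coords W e he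
  have hC : Module.finrank K (permConstants K G α).toSubmodule = 1 :=
    finrank_span_singleton fun h => one_ne_zero (α := K) (congrFun h (Classical.arbitrary α))
  have hS : Module.finrank K (permSumZero K G α).toSubmodule < p := by
    have hne : (permSumZero K G α).toSubmodule ≠ ⊤ := by
      intro h
      have h' : Pi.single (Classical.arbitrary α) (1 : K) ∈ (permSumZero K G α).toSubmodule :=
        h ▸ Submodule.mem_top
      rw [mem_sumZero_iff] at h'
      simp at h'
    have := Submodule.finrank_lt hne
    rwa [Module.finrank_fintype_fun_eq_card, hα] at this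
  have h1r : 1 ≤ r := by
    have := Submodule.finrank_mono h₁
    omega
  by_cases hr1 : r = 1
  · exact Or.inl (Subrepresentation.toSubmodule_injective
      (Submodule.eq_of_le_of_finrank_le h₁ (by omega)).symm)
  have hrS : r ≤ Module.finrank K (permSumZero K G α).toSubmodule := hr ▸ Submodule.finrank_mono h₂
  by_cases hrp' : r + 1 = p
  · exact Or.inr (Subrepresentation.toSubmodule_injective
      (Submodule.eq_of_le_of_finrank_le h₂ (by omega)))
  exfalso
  letI act : MulAction G (ZMod p) :=
    { smul := fun g x => e.symm ((g : Equiv.Perm α) (e x))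
      one_smul := fun x => by show e.symm ((1 : Equiv.Perm α) (e x)) = x; simp
      mul_smul := fun g h x => by
        show e.symm (((g * h : G) : Equiv.Perm α) (e x)) =
          e.symm ((g : Equiv.Perm α) (e (e.symm ((h : Equiv.Perm α) (e x)))))
        simp }
  refine hG (isSolvable_of_affine e fun g => affine_of_invariant (K := K) (r := r) (by omega) (by omega)
    (fun g f hf => ?_) g)
  have hu : f ∘ e.symm ∈ W.toSubmodule := by
    rw [hmem]
    convert hf using 1
    funext x; simp
  have h := (hmem _).1 (W.apply_mem_toSubmodule g⁻¹ hu)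
  convert h using 1
  funext x
  show f (e.symm ((g : Equiv.Perm α) (e x))) = _
  simp [permRep_apply, Subgroup.smul_def]

/-- Burnside: a non-solvable transitive group of prime degree is doubly transitive. -/
theorem twoTransitive_of_not_isSolvable [MulAction.IsPretransitive G α] (hα : Fintype.card α = p)
    (hG : ¬ Group.IsSolvable G) : MulAction.IsMultiplyPretransitive G α 2 := by
  by_contra h2
  obtain ⟨W, W', hW, hlt, hW', htriv⟩ := exists_trivial_section_of_not_twoTransitive
    (K := ZMod p) (p := p) (f := 1) le_rfl (by rw [hα, pow_one]) h2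
  obtain ⟨c, hc⟩ := exists_orderOf_eq G hα
  haveI : Nonempty α := Fintype.card_pos_iff.1 (hα ▸ hp.out.pos)
  obtain ⟨e, -, he⟩ := exists_coords hα (c := (c : Equiv.Perm α)) (by rw [Subgroup.orderOf_coe, hc])
    (Classical.arbitrary α)
  have hp5 : 5 ≤ p := five_le_of_not_isSolvable e hG
  have hWC : W = permConstants (ZMod p) G α := by
    rcases heart_irreducible hα hG W hW (hlt.le.trans hW') with h | h
    · exact h
    · exact absurd (hlt.trans_le hW') (h ▸ lt_irrefl _)
  have hW'S : W' = permSumZero (ZMod p) G α := by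
    rcases heart_irreducible hα hG W' (hW.trans hlt.le) hW' with h | h
    · exact absurd (hW.trans_lt hlt) (h ▸ lt_irrefl _)
    · exact h
  subst hWC hW'S
  -- every subspace between constants and sum-zero functions is now invariant
  let x : α → ZMod p := fun a => e.symm a
  have hx : x ∈ (permSumZero (ZMod p) G α).toSubmodule := by
    rw [mem_sumZero_iff, ← Equiv.sum_comp e]
    simp only [x, Equiv.symm_apply_apply]
    have hneg : ∑ i : ZMod p, i = -∑ i : ZMod p, i := by
      conv_lhs => rw [← Equiv.sum_comp (Equiv.neg (ZMod p))]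
      simp only [Equiv.neg_apply]
      rw [← Finset.sum_neg_distrib]
    have h2 : (2 : ZMod p) ≠ 0 := by
      intro h
      have := (ZMod.natCast_eq_zero_iff 2 p).1 (by exact_mod_cast h)
      have := Nat.le_of_dvd (by norm_num) this
      omega
    exact (mul_eq_zero.1 (show (2 : ZMod p) * ∑ i : ZMod p, i = 0 by linear_combination hneg)).resolve_left h2
  let V : Subrepresentation (permRep (ZMod p) G α) :=
    { toSubmodule := (permConstants (ZMod p) G α).toSubmodule ⊔ Submodule.span (ZMod p) {x}
      apply_mem_toSubmodule := fun g v hv => by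
        obtain ⟨u, hu, w, hw, rfl⟩ := Submodule.mem_sup.1 hv
        obtain ⟨t, rfl⟩ := Submodule.mem_span_singleton.1 hw
        rw [map_add, map_smul]
        refine add_mem (Submodule.mem_sup_left ((permConstants (ZMod p) G α).apply_mem_toSubmodule g hu))
          (Submodule.smul_mem _ t ?_)
        simpa using add_mem (Submodule.mem_sup_left (htriv g x hx) :
          permRep (ZMod p) G α g x - x ∈ _)
          (Submodule.mem_sup_right (Submodule.mem_span_singleton_self x)) }
  rcases heart_irreducible hα hG V le_sup_left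
    (sup_le (hW.trans (hlt.le.trans hW')) (by simpa using hx)) with h | h
  · have hxV : x ∈ V.toSubmodule := Submodule.mem_sup_right (Submodule.mem_span_singleton_self x)
    rw [h] at hxV
    obtain ⟨t, ht⟩ := mem_constants_iff.1 hxV
    have h0 := congrFun ht (e 0)
    have h1 := congrFun ht (e 1)
    simp only [x, Equiv.symm_apply_apply] at h0 h1
    exact one_ne_zero (h1.trans h0.symm)
  · have hle : Module.finrank (ZMod p) V.toSubmodule ≤ 2 :=
      (Submodule.finrank_add_le_finrank_add_finrank _ _).trans
        (add_le_add (finrank_span_le_card _) (finrank_span_le_card _))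
    rw [h] at hle
    have := Submodule.finrank_add_le_finrank_add_finrank
      (permSumZero (ZMod p) G α).toSubmodule (Submodule.span (ZMod p) {(Pi.single (e 0) 1 : α → ZMod p)})
    have htop : (permSumZero (ZMod p) G α).toSubmodule ⊔
        Submodule.span (ZMod p) {(Pi.single (e 0) 1 : α → ZMod p)} = ⊤ := by
      rw [eq_top_iff]
      intro u _
      rw [Submodule.mem_sup]
      refine ⟨u - (∑ a, u a) • (Pi.single (e 0) 1 : α → ZMod p), ?_, (∑ a, u a) • (Pi.single (e 0) 1 : α → ZMod p),
        Submodule.smul_mem _ _ (Submodule.mem_span_singleton_self _), sub_add_cancel _ _⟩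
      rw [mem_sumZero_iff]
      simp [Finset.sum_sub_distrib, ← Finset.mul_sum]
    rw [htop, finrank_top, Module.finrank_fintype_fun_eq_card, hα] at this
    have h1 : Module.finrank (ZMod p) (Submodule.span (ZMod p) {(Pi.single (e 0) 1 : α → ZMod p)}) ≤ 1 :=
      (finrank_span_le_card _).trans (by simp)
    omega

end Coordinates

end Cfsg.Agent.Perm.PrimeDegree
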