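import Mathlib

/-!
# Permutation group core

Semiregular and regular subgroups, the centraliser of a transitive group, normal subgroups of
primitive groups.

Throughout, "`N` is semiregular" is written `∀ a, stabilizer N a = ⊥`, and "`N` is regular" adds
`IsPretransitive N α`.
-/

namespace Cfsg.Agent.Perm

open MulAction Pointwise

variable {G α : Type*} [Group G] [MulAction G α]

/-- An element fixing all points of a faithful action is trivial. -/
theorem eq_one_of_forall_smul_eq [FaithfulSMul G α] {g : G} (h : ∀ a : α, g • a = a) : g = 1 :=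
  FaithfulSMul.eq_of_smul_eq_smul fun a => by rw [h a, one_smul]

/-- A subgroup of a faithful group acts faithfully. -/
theorem eq_bot_of_forall_smul_eq [FaithfulSMul G α] {N : Subgroup G}
    (h : ∀ g ∈ N, ∀ a : α, g • a = a) : N = ⊥ :=
  (Subgroup.eq_bot_iff_forall N).2 fun g hg => eq_one_of_forall_smul_eq (h g hg)

/-- Stabiliser in a subgroup is trivial, elementwise. -/
theorem stabilizer_subgroup_eq_bot_iff {N : Subgroup G} {a : α} :
    stabilizer N a = ⊥ ↔ ∀ g ∈ N, g • a = a → g = 1 := by
  rw [Subgroup.eq_bot_iff_forall]
  constructor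
  · intro h g hg hga
    exact congrArg Subtype.val (h ⟨g, hg⟩ hga)
  · intro h g hga
    exact Subtype.ext (h g g.2 hga)

/-- Elementwise transitivity of a subgroup. -/
theorem isPretransitive_subgroup_iff {N : Subgroup G} :
    IsPretransitive N α ↔ ∀ a b : α, ∃ g ∈ N, g • a = b := by
  constructor
  · intro h a b
    obtain ⟨⟨g, hg⟩, hab⟩ := h.exists_smul_eq a b
    exact ⟨g, hg, hab⟩
  · intro h
    exact ⟨fun a b => let ⟨g, hg, hab⟩ := h a b; ⟨⟨g, hg⟩, hab⟩⟩

/-- A subgroup containing a transitive one is transitive. -/
theorem isPretransitive_of_le {M N : Subgroup G} (h : M ≤ N) (hM : IsPretransitive M α) :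
    IsPretransitive N α :=
  isPretransitive_subgroup_iff.2 fun a b =>
    let ⟨g, hg, hab⟩ := isPretransitive_subgroup_iff.1 hM a b
    ⟨g, h hg, hab⟩

/-- A transitive subgroup makes the whole group transitive. -/
theorem isPretransitive_of_subgroup {M : Subgroup G} (hM : IsPretransitive M α) :
    IsPretransitive G α :=
  ⟨fun a b => let ⟨g, _, hab⟩ := isPretransitive_subgroup_iff.1 hM a b; ⟨g, hab⟩⟩

/-- A subgroup of a semiregular subgroup is semiregular. -/
theorem semiregular_of_le {M N : Subgroup G} (h : M ≤ N) (hN : ∀ a : α, stabilizer N a = ⊥) :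
    ∀ a : α, stabilizer M a = ⊥ := fun a =>
  stabilizer_subgroup_eq_bot_iff.2 fun g hg =>
    stabilizer_subgroup_eq_bot_iff.1 (hN a) g (h hg)

/-! ## Commuting subgroups -/

/-- An element commuting with a transitive subgroup and fixing a point fixes every point. -/
theorem smul_eq_of_mem_centralizer {N : Subgroup G} [IsPretransitive N α] {c : G}
    (hc : c ∈ Subgroup.centralizer (N : Set G)) {a : α} (hca : c • a = a) (b : α) : c • b = b := by
  obtain ⟨⟨g, hg⟩, rfl⟩ := exists_smul_eq N a b
  change c • g • a = g • a
  rw [← mul_smul, ← Subgroup.mem_centralizer_iff.1 hc g hg, mul_smul, hca]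

/-- The centraliser of a transitive subgroup of a faithful group is semiregular. -/
theorem semiregular_centralizer [FaithfulSMul G α] {N : Subgroup G} [IsPretransitive N α] (a : α) :
    stabilizer (Subgroup.centralizer (N : Set G)) a = ⊥ :=
  stabilizer_subgroup_eq_bot_iff.2 fun _ hc hca =>
    eq_one_of_forall_smul_eq fun b => smul_eq_of_mem_centralizer hc hca b

/-- A subgroup centralised by a transitive one is semiregular. -/
theorem semiregular_of_commute [FaithfulSMul G α] {M N : Subgroup G} (hN : IsPretransitive N α)
    (h : M ≤ Subgroup.centralizer (N : Set G)) : ∀ a : α, stabilizer M a = ⊥ :=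
  semiregular_of_le h fun a => semiregular_centralizer a

/-- A transitive abelian subgroup of a faithful group is regular. -/
theorem semiregular_of_abelian [FaithfulSMul G α] {N : Subgroup G} [IsMulCommutative N]
    (hN : IsPretransitive N α) : ∀ a : α, stabilizer N a = ⊥ := by
  refine semiregular_of_commute hN fun x hx => Subgroup.mem_centralizer_iff.2 fun y hy => ?_
  exact congrArg Subtype.val (mul_comm' (⟨y, hy⟩ : N) ⟨x, hx⟩)

/-- A semiregular overgroup of a transitive subgroup is that subgroup. -/
theorem eq_of_transitive_le_semiregular {M N : Subgroup G} (h : M ≤ N)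
    (hM : IsPretransitive M α) (hN : ∀ a : α, stabilizer N a = ⊥) [Nonempty α] : M = N := by
  refine le_antisymm h fun g hg => ?_
  obtain ⟨a⟩ := ‹Nonempty α›
  obtain ⟨m, hm, hma⟩ := isPretransitive_subgroup_iff.1 hM a (g • a)
  have : m⁻¹ * g = 1 := stabilizer_subgroup_eq_bot_iff.1 (hN a) _
    (N.mul_mem (N.inv_mem (h hm)) hg) (by rw [mul_smul, inv_smul_eq_iff, hma])
  rwa [← inv_mul_eq_one.1 this]

/-- A transitive abelian subgroup of a faithful group is its own centraliser. -/
theorem centralizer_eq_of_abelian [FaithfulSMul G α] [Nonempty α] {N : Subgroup G}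
    [IsMulCommutative N] (hN : IsPretransitive N α) : Subgroup.centralizer (N : Set G) = N := by
  have := hN
  refine (eq_of_transitive_le_semiregular ?_ hN fun a => semiregular_centralizer a).symm
  intro x hx
  exact Subgroup.mem_centralizer_iff.2 fun y hy =>
    congrArg Subtype.val (mul_comm' (⟨y, hy⟩ : N) ⟨x, hx⟩)

/-! ## Regular subgroups -/

/-- The bijection `n ↦ n • a` of a regular subgroup with the points. -/
theorem bijective_smul_of_regular {N : Subgroup G} [IsPretransitive N α] {a : α}
    (h : stabilizer N a = ⊥) : Function.Bijective fun n : N => n • a := by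
  refine ⟨fun m n hmn => ?_, fun b => exists_smul_eq N a b⟩
  have : m⁻¹ * n ∈ stabilizer N a := by
    rw [mem_stabilizer_iff, mul_smul, inv_smul_eq_iff]; exact hmn.symm
  rw [h, Subgroup.mem_bot, inv_mul_eq_one] at this
  exact this

/-- A regular subgroup has order equal to the degree. -/
theorem card_eq_of_regular {N : Subgroup G} [IsPretransitive N α] {a : α}
    (h : stabilizer N a = ⊥) : Nat.card N = Nat.card α :=
  Nat.card_congr (Equiv.ofBijective _ (bijective_smul_of_regular h))

/-- A semiregular subgroup has order dividing the degree. -/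
theorem card_dvd_of_semiregular [Finite α] {N : Subgroup G}
    (h : ∀ a : α, stabilizer N a = ⊥) : Nat.card N ∣ Nat.card α := by
  have e : α ≃ orbitRel.Quotient N α × N :=
    (selfEquivSigmaOrbitsQuotientStabilizer N α).trans
      ((Equiv.sigmaCongrRight fun ω => by
        rw [h (Quotient.out ω)]
        exact (QuotientGroup.quotientBot (G := N)).toEquiv).trans (Equiv.sigmaEquivProd _ _))
  rw [Nat.card_congr e, Nat.card_prod]
  exact Dvd.intro_left _ rfl

/-- A semiregular subgroup of order equal to the degree is transitive. -/
theorem isPretransitive_of_semiregular_card [Finite α] {N : Subgroup G}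
    (h : ∀ a : α, stabilizer N a = ⊥) (hc : Nat.card N = Nat.card α) : IsPretransitive N α := by
  refine ⟨fun a b => ?_⟩
  have hinj : Function.Injective fun n : N => n • a := fun m n hmn => by
    have : m⁻¹ * n ∈ stabilizer N a := by
      rw [mem_stabilizer_iff, mul_smul, inv_smul_eq_iff]; exact hmn.symm
    rw [h a, Subgroup.mem_bot, inv_mul_eq_one] at this
    exact this
  have : Finite N := Finite.of_injective _ hinj
  exact ((Nat.bijective_iff_injective_and_card _).2 ⟨hinj, hc⟩).2 b

/-- A transitive subgroup of order equal to the degree is regular. -/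
theorem semiregular_of_card_eq [Finite α] {N : Subgroup G} [Finite N] [IsPretransitive N α]
    (hc : Nat.card N = Nat.card α) (a : α) : stabilizer N a = ⊥ := by
  have : Nonempty α := ⟨a⟩
  have h := (stabilizer N a).index_mul_card
  rw [index_stabilizer_of_transitive N a, hc] at h
  exact Subgroup.eq_bot_of_card_eq _
    (Nat.eq_of_mul_eq_mul_left Nat.card_pos (h.trans (mul_one _).symm))

/-! ## Stabilisers -/

/-- Orbit–stabiliser for a transitive action. -/
theorem card_mul_card_stabilizer [IsPretransitive G α] (a : α) :
    Nat.card α * Nat.card (stabilizer G a) = Nat.card G := by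
  rw [← index_stabilizer_of_transitive G a, Subgroup.index_mul_card]

/-- A normal subgroup fixing a point of a transitive action fixes every point. -/
theorem smul_eq_of_normal_fixes [IsPretransitive G α] {N : Subgroup G} [hN : N.Normal] {a : α}
    (h : ∀ n ∈ N, n • a = a) {n : G} (hn : n ∈ N) (b : α) : n • b = b := by
  obtain ⟨g, rfl⟩ := exists_smul_eq G a b
  have := h _ (hN.conj_mem' n hn g)
  rwa [mul_smul, mul_smul, inv_smul_eq_iff] at this

/-! ## Blocks -/

/-- The classes of an invariant equivalence relation are blocks. -/
theorem isBlock_of_equivalence {r : α → α → Prop} (hr : Equivalence r)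
    (hinv : ∀ (g : G) a b, r a b → r (g • a) (g • b)) (a : α) : IsBlock G {x | r a x} := by
  refine isBlock_iff_smul_eq_of_mem.2 fun g b hb hgb => ?_
  have hga : r a (g • a) := hr.trans hgb (hr.symm (hinv g a b hb))
  ext x
  rw [Set.mem_smul_set_iff_inv_smul_mem]
  constructor
  · intro h
    exact hr.trans hga (smul_inv_smul g x ▸ hinv g a _ h)
  · intro h
    exact inv_smul_smul g a ▸ hinv g⁻¹ _ _ (hr.trans (hr.symm hga) h)

/-- In a primitive action an invariant equivalence relation is trivial or universal. -/
theorem equivalence_trivial [IsPreprimitive G α] {r : α → α → Prop} (hr : Equivalence r)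
    (hinv : ∀ (g : G) a b, r a b → r (g • a) (g • b)) {a b : α} (hab : r a b) (hne : a ≠ b)
    (x : α) : r a x := by
  rcases IsPreprimitive.isTrivialBlock_of_isBlock (isBlock_of_equivalence hr hinv a) with h | h
  · exact absurd (h (hr.refl a) hab) hne
  · exact h.ge (Set.mem_univ x)

/-- A transitive action without non-trivial invariant equivalence relations is primitive. -/
theorem isPreprimitive_of_equivalence [IsPretransitive G α]
    (h : ∀ r : α → α → Prop, Equivalence r → (∀ (g : G) a b, r a b → r (g • a) (g • b)) →
      (∀ a b, r a b → a = b) ∨ ∀ a b, r a b) : IsPreprimitive G α := by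
  refine ⟨fun {B} hB => ?_⟩
  by_cases hs : B.Subsingleton
  · exact Or.inl hs
  right
  simp only [Set.Subsingleton, not_forall] at hs
  obtain ⟨a, ha, b, hb, hab⟩ := hs
  rcases h (fun x y => ∀ g : G, x ∈ g • B ↔ y ∈ g • B)
    ⟨fun _ _ => Iff.rfl, fun h g => (h g).symm, fun h k g => (h g).trans (k g)⟩
    (fun k x y hxy g => by
      rw [← smul_inv_smul k (g • B), Set.smul_mem_smul_set_iff, Set.smul_mem_smul_set_iff,
        smul_smul]
      exact hxy _) with h | h
  · refine absurd (h a b fun g => ?_) hab
    constructor <;> intro hg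
    · rw [hB.smul_eq_of_nonempty ⟨a, hg, ha⟩]; exact hb
    · rw [hB.smul_eq_of_nonempty ⟨b, hg, hb⟩]; exact ha
  · exact Set.eq_univ_of_forall fun x => by simpa [ha] using h a x 1

/-! ## Normal subgroups of primitive groups -/

/-- A non-trivial normal subgroup of a faithful primitive group is transitive. -/
theorem isPretransitive_of_normal [FaithfulSMul G α] [IsPreprimitive G α] {N : Subgroup G}
    [N.Normal] (hN : N ≠ ⊥) : IsPretransitive N α := by
  refine IsQuasiPreprimitive.isPretransitive_of_normal fun hfix => hN ?_
  refine eq_bot_of_forall_smul_eq (α := α) fun g hg a => ?_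
  have : a ∈ fixedPoints N α := hfix ▸ Set.mem_univ a
  exact this ⟨g, hg⟩

/-- In a primitive group a point stabiliser and a subgroup transitive on the points generate. -/
theorem stabilizer_sup_eq_top [IsPretransitive G α] {N : Subgroup G} (hN : IsPretransitive N α)
    (a : α) : stabilizer G a ⊔ N = ⊤ := by
  refine eq_top_iff.2 fun g _ => ?_
  obtain ⟨n, hn, hna⟩ := isPretransitive_subgroup_iff.1 hN a (g • a)
  have hmem : n⁻¹ * g ∈ stabilizer G a := by
    rw [mem_stabilizer_iff, mul_smul, inv_smul_eq_iff, hna]
  simpa using (stabilizer G a ⊔ N).mul_mem (Subgroup.mem_sup_right hn)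
    (Subgroup.mem_sup_left hmem)

/-- The centraliser in a faithful primitive group of a non-trivial normal subgroup is
trivial or transitive, and in any case semiregular. -/
theorem semiregular_centralizer_normal [FaithfulSMul G α] [IsPreprimitive G α] {N : Subgroup G}
    [N.Normal] (hN : N ≠ ⊥) : ∀ a : α, stabilizer (Subgroup.centralizer (N : Set G)) a = ⊥ :=
  have := isPretransitive_of_normal (α := α) hN
  fun a => semiregular_centralizer a

/-- Two commuting non-trivial normal subgroups of a faithful primitive group are regular. -/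
theorem regular_of_commuting_normal [FaithfulSMul G α] [IsPreprimitive G α] {M N : Subgroup G}
    [M.Normal] [N.Normal] (hM : M ≠ ⊥) (hN : N ≠ ⊥) (h : M ≤ Subgroup.centralizer (N : Set G)) :
    IsPretransitive M α ∧ ∀ a : α, stabilizer M a = ⊥ :=
  ⟨isPretransitive_of_normal hM, semiregular_of_commute (isPretransitive_of_normal hN) h⟩

/-- An abelian non-trivial normal subgroup of a faithful primitive group is regular and
self-centralising. -/
theorem regular_of_abelian_normal [FaithfulSMul G α] [IsPreprimitive G α] [Nonempty α]
    {N : Subgroup G} [N.Normal] [IsMulCommutative N] (hN : N ≠ ⊥) :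
    IsPretransitive N α ∧ (∀ a : α, stabilizer N a = ⊥) ∧
      Subgroup.centralizer (N : Set G) = N :=
  have h := isPretransitive_of_normal (α := α) hN
  ⟨h, semiregular_of_abelian h, centralizer_eq_of_abelian h⟩

/-- Two distinct minimal normal subgroups commute. -/
theorem le_centralizer_of_minimal {M N : Subgroup G} [M.Normal] [N.Normal]
    (hMmin : ∀ L : Subgroup G, L.Normal → L ≤ M → L = ⊥ ∨ L = M)
    (hNmin : ∀ L : Subgroup G, L.Normal → L ≤ N → L = ⊥ ∨ L = N) (hne : M ≠ N) :
    M ≤ Subgroup.centralizer (N : Set G) := by
  have hbot : M ⊓ N = ⊥ := by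
    rcases hMmin (M ⊓ N) inferInstance inf_le_left with h | h
    · exact h
    · rcases hNmin (M ⊓ N) inferInstance inf_le_right with h' | h'
      · exact h'
      · exact absurd (h.symm.trans h') hne
  intro x hx
  refine Subgroup.mem_centralizer_iff.2 fun y hy => ?_
  exact (Subgroup.commute_of_normal_of_disjoint M N ‹_› ‹_› (disjoint_iff.2 hbot) x y hx hy).symm.eq

/-! ## The centraliser in the symmetric group -/

/-- An element of the centraliser of a transitive permutation group can move `a` to `b` when the
two stabilisers agree. -/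
theorem exists_centralizer_apply_eq {β : Type*} (H : Subgroup (Equiv.Perm β))
    [IsPretransitive H β] {a b : β} (hab : stabilizer H a = stabilizer H b) :
    ∃ c ∈ Subgroup.centralizer (H : Set (Equiv.Perm β)), c a = b := by
  choose w hw using fun x : β => exists_smul_eq H a x
  have hwd : ∀ g h : H, g • a = h • a ↔ g • b = h • b := by
    intro g h
    have := SetLike.ext_iff.1 hab (h⁻¹ * g)
    simpa [mem_stabilizer_iff, mul_smul, inv_smul_eq_iff] using this
  have hf : ∀ g : H, w (g • a) • b = g • b := fun g => (hwd _ _).1 (hw _)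
  have hbij : Function.Bijective fun x => w x • b := by
    refine ⟨fun x y hxy => ?_, fun y => ?_⟩
    · rw [← hw x, ← hw y]; exact (hwd _ _).2 hxy
    · obtain ⟨g, rfl⟩ := exists_smul_eq H b y
      exact ⟨g • a, hf g⟩
  refine ⟨Equiv.ofBijective _ hbij, Subgroup.mem_centralizer_iff.2 fun g hg => ?_, ?_⟩
  · ext x
    change g (w x • b) = w (g x) • b
    obtain ⟨k, rfl⟩ := exists_smul_eq H a x
    have hgx : g (k • a) = ((⟨g, hg⟩ : H) * k) • a := rfl
    rw [hgx, hf, hf]
    rfl
  · change w a • b = b
    simpa using hf 1

end Cfsg.Agent.Perm
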