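import Cfsg.Prelude.Def_Perm
import Mathlib.GroupTheory.Sylow
import Mathlib.GroupTheory.GroupAction.Quotient
import Mathlib.GroupTheory.GroupAction.MultipleTransitivity
import Mathlib.Algebra.CharP.Lemmas
import Mathlib.LinearAlgebra.Dimension.Finrank
import Mathlib.LinearAlgebra.Dual.Lemmas
import Mathlib.RingTheory.Finiteness.Basic
import Mathlib.GroupTheory.FiniteAbelian.Basic

/-!
# The permutation module of a transitive action of prime-power degree in characteristic `p`

* `constants_le_of_ne_bot`: the constants are the unique minimal invariant subspace;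
* `le_sumZero_of_ne_top`: the sum-zero functions are the unique maximal one;
* `kernelMap`: the linear map of an invariant kernel is equivariant;
* `exists_trivial_section_of_not_twoTransitive`: failing double transitivity, the heart has a
  trivial composition factor.
-/

set_option autoImplicit false

namespace Cfsg.Agent.Perm.ModuleHeart

open Cfsg

variable {G : Type*} [Group G] {K : Type*} [Field K] {Ω : Type*} [MulAction G Ω]

theorem permRep_apply (g : G) (f : Ω → K) (x : Ω) : permRep K G Ω g f x = f (g⁻¹ • x) := rfl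

theorem mem_constants_iff {f : Ω → K} :
    f ∈ (permConstants K G Ω).toSubmodule ↔ ∃ c : K, f = fun _ => c := by
  show f ∈ Submodule.span K {fun _ => (1 : K)} ↔ _
  rw [Submodule.mem_span_singleton]
  refine exists_congr fun c => ⟨fun h => ?_, fun h => ?_⟩ <;> funext x <;> simp [← h] <;> simp [h]

theorem const_mem_constants (c : K) :
    (fun _ : Ω => c) ∈ (permConstants K G Ω).toSubmodule := mem_constants_iff.2 ⟨c, rfl⟩

theorem mem_sumZero_iff [Fintype Ω] {f : Ω → K} :
    f ∈ (permSumZero K G Ω).toSubmodule ↔ ∑ x, f x = 0 := Iff.rfl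

theorem single_sub_single_mem_sumZero [Fintype Ω] [DecidableEq Ω] (x y : Ω) :
    (Pi.single x (1 : K) - Pi.single y 1) ∈ (permSumZero K G Ω).toSubmodule := by
  rw [mem_sumZero_iff]
  simp [Finset.sum_sub_distrib]

/-- A Sylow `p`-subgroup is transitive when the degree is a power of `p`. -/
theorem sylow_isPretransitive [Finite G] {p f : ℕ} [hp : Fact p.Prime] [Finite Ω]
    [MulAction.IsPretransitive G Ω] (hcard : Nat.card Ω = p ^ f) (P : Sylow p G) :
    MulAction.IsPretransitive (P : Subgroup G) Ω := by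
  classical
  haveI : Nonempty Ω := Finite.card_pos_iff.1 (by rw [hcard]; exact pow_pos hp.out.pos f)
  obtain ⟨a⟩ := ‹Nonempty Ω›
  rw [MulAction.isPretransitive_iff_orbit_eq_univ a]
  set S := MulAction.stabilizer (P : Subgroup G) a with hS
  have hPa : Nat.card (MulAction.orbit (P : Subgroup G) a) * Nat.card S =
      Nat.card (P : Subgroup G) := by
    rw [Nat.card_congr (MulAction.orbitEquivQuotientStabilizer (P : Subgroup G) a)]
    exact S.index_mul_card
  have hGa : Nat.card Ω * Nat.card (MulAction.stabilizer G a) = Nat.card G := by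
    rw [← MulAction.index_stabilizer_of_transitive G a]
    exact Subgroup.index_mul_card _
  have h1 : Nat.card S ∣ Nat.card (MulAction.stabilizer G a) :=
    Subgroup.card_dvd_of_injective
      (((P : Subgroup G).subtype.comp S.subtype).codRestrict (MulAction.stabilizer G a)
        (fun s => s.2)) (fun x y h => Subtype.ext (Subtype.ext (congrArg Subtype.val h :)))
  obtain ⟨k, hk⟩ := (P.2.to_subgroup S).exists_card_eq
  have h2 : p ^ (f + k) ∣ Nat.card (P : Subgroup G) := P.pow_dvd_card_of_pow_dvd_card (by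
    rw [pow_add, ← hGa, hcard, ← hk]
    exact mul_dvd_mul_left _ h1)
  rw [pow_add, ← hPa, ← hk] at h2
  have h3 : p ^ f ∣ Nat.card (MulAction.orbit (P : Subgroup G) a) :=
    Nat.dvd_of_mul_dvd_mul_right Nat.card_pos h2
  haveI : Nonempty (MulAction.orbit (P : Subgroup G) a) := ⟨⟨a, MulAction.mem_orbit_self a⟩⟩
  apply Set.eq_of_subset_of_ncard_le (Set.subset_univ _) ?_ (Set.toFinite _)
  rw [Set.ncard_univ, hcard]
  exact Nat.le_of_dvd Nat.card_pos h3

/-- A `p`-group fixes a non-zero vector in every non-zero invariant subspace (characteristic `p`). -/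
theorem exists_fixed_ne_zero [Finite G] {p : ℕ} [hp : Fact p.Prime] [CharP K p] (hG : IsPGroup p G)
    {V : Type*} [AddCommGroup V] [Module K V] (ρ : Representation K G V) {W : Submodule K V}
    (hW : ∀ g : G, ∀ w ∈ W, ρ g w ∈ W) (hne : W ≠ ⊥) :
    ∃ w ∈ W, w ≠ 0 ∧ ∀ g : G, ρ g w = w := by
  classical
  obtain ⟨v, hv, hv0⟩ := W.ne_bot_iff.1 hne
  let A : AddSubgroup V := AddSubgroup.closure (Set.range fun g : G => ρ g v)
  have hAW : ∀ x ∈ A, x ∈ W := fun x hx => by
    refine (AddSubgroup.closure_le W.toAddSubgroup).2 ?_ hx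
    rintro _ ⟨g, rfl⟩
    exact hW g v hv
  have hpA : ∀ x : V, p • x = 0 := fun x => by
    rw [← Nat.cast_smul_eq_nsmul K, CharP.cast_eq_zero, zero_smul]
  have hstable : ∀ g : G, ∀ x ∈ A, ρ g x ∈ A := by
    intro g
    show A ≤ A.comap (ρ g).toAddMonoidHom
    refine (AddSubgroup.closure_le _).2 ?_
    rintro _ ⟨h, rfl⟩
    show ρ g (ρ h v) ∈ A
    refine AddSubgroup.subset_closure ⟨g * h, ?_⟩
    simp
  haveI : AddGroup.FG A := (AddGroup.fg_iff_addSubgroup_fg A).2
    ((AddSubgroup.fg_iff A).2 ⟨_, rfl, Set.finite_range _⟩)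
  have htors : IsAddTorsion A := fun x =>
    isOfFinAddOrder_iff_nsmul_eq_zero.2 ⟨p, hp.out.pos, Subtype.ext (by simpa using hpA x)⟩
  haveI : Finite A := AddCommGroup.finite_of_fg_isAddTorsion A htors
  letI actA : MulAction G A :=
    { smul := fun g x => ⟨ρ g x, hstable g x x.2⟩
      one_smul := fun x => Subtype.ext (by show ρ 1 (x : V) = x; simp)
      mul_smul := fun g h x => Subtype.ext (by
        show ρ (g * h) (x : V) = ρ g (ρ h (x : V)); simp) }
  have hpdvd : p ∣ Nat.card A := by
    let x₀ : A := ⟨v, AddSubgroup.subset_closure ⟨1, by simp⟩⟩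
    have hx₀ : addOrderOf x₀ = p :=
      addOrderOf_eq_prime (Subtype.ext (by simpa [x₀] using hpA v))
        (fun h => hv0 (congrArg Subtype.val h))
    exact hx₀ ▸ addOrderOf_dvd_natCard x₀
  have h0 : (0 : A) ∈ MulAction.fixedPoints G A := fun g =>
    Subtype.ext (by show ρ g (0 : V) = 0; simp)
  obtain ⟨⟨w, hwA⟩, hw, hne'⟩ :=
    hG.exists_fixed_point_of_prime_dvd_card_of_fixed_point A hpdvd h0
  exact ⟨w, hAW w hwA, fun h => hne' (Subtype.ext h.symm), fun g => congrArg Subtype.val (hw g)⟩

/-- The constants are contained in every non-zero invariant subspace. -/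
theorem constants_le_of_ne_bot [Finite G] {p f : ℕ} [Fact p.Prime] [CharP K p] [Finite Ω]
    [MulAction.IsPretransitive G Ω] (hcard : Nat.card Ω = p ^ f) {W : Submodule K (Ω → K)}
    (hW : ∀ g : G, ∀ w ∈ W, permRep K G Ω g w ∈ W) (hne : W ≠ ⊥) :
    (permConstants K G Ω).toSubmodule ≤ W := by
  let P : Sylow p G := default
  haveI := sylow_isPretransitive hcard P
  obtain ⟨w, hw, hw0, hfix⟩ :=
    exists_fixed_ne_zero P.2 ((permRep K G Ω).comp (P : Subgroup G).subtype)
      (fun g => hW g) hne
  obtain ⟨a, ha⟩ := Function.ne_iff.1 hw0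
  have hconst : ∀ x, w x = w a := fun x => by
    obtain ⟨g, rfl⟩ := MulAction.exists_smul_eq (P : Subgroup G) a x
    have h := congrFun (hfix g) ((g : G) • a)
    change w ((g : G)⁻¹ • ((g : G) • a)) = w ((g : G) • a) at h
    rw [inv_smul_smul] at h
    exact h.symm
  intro v hv
  obtain ⟨c, rfl⟩ := mem_constants_iff.1 hv
  have hcw : (fun _ : Ω => c) = (c / w a) • w := by
    funext x
    simp [hconst x, div_mul_cancel₀ c (ha : w a ≠ 0)]
  exact hcw ▸ W.smul_mem _ hw

/-- The sum-zero functions contain every proper invariant subspace. -/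
theorem le_sumZero_of_ne_top [Finite G] {p f : ℕ} [Fact p.Prime] [CharP K p] [Fintype Ω]
    [MulAction.IsPretransitive G Ω] (hcard : Nat.card Ω = p ^ f) {W : Submodule K (Ω → K)}
    (hW : ∀ g : G, ∀ w ∈ W, permRep K G Ω g w ∈ W) (hne : W ≠ ⊤) :
    W ≤ (permSumZero K G Ω).toSubmodule := by
  classical
  let A : Submodule K (Ω → K) :=
    { carrier := {u | ∀ w ∈ W, ∑ x, u x * w x = 0}
      add_mem' := fun {u v} hu hv w hw => by
        simp only [Pi.add_apply, add_mul, Finset.sum_add_distrib, hu w hw, hv w hw, add_zero]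
      zero_mem' := fun w _ => by simp
      smul_mem' := fun c u hu w hw => by
        simp only [Pi.smul_apply, smul_eq_mul, mul_assoc, ← Finset.mul_sum, hu w hw, mul_zero] }
  have hA : ∀ g : G, ∀ u ∈ A, permRep K G Ω g u ∈ A := by
    intro g u hu w hw
    rw [← hu _ (hW g⁻¹ w hw), ← Equiv.sum_comp (MulAction.toPerm g)]
    exact Finset.sum_congr rfl fun x _ => by simp [permRep_apply]
  have hAne : A ≠ ⊥ := by
    obtain ⟨φ, hφ0, hφ⟩ := W.exists_dual_map_eq_bot_of_lt_top hne.lt_top inferInstance
    have hrep : ∀ w : Ω → K, φ w = ∑ x, φ (Pi.single x 1) * w x := fun w => by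
      conv_lhs => rw [pi_eq_sum_univ' w]
      simp [map_sum, mul_comm]
    refine A.ne_bot_iff.2 ⟨fun x => φ (Pi.single x 1), fun w hw => ?_, fun h => hφ0 ?_⟩
    · rw [← hrep]
      exact (Submodule.mem_bot K).1 (hφ ▸ Submodule.mem_map_of_mem hw)
    · refine LinearMap.ext fun w => ?_
      rw [hrep]
      exact Finset.sum_eq_zero fun x _ => by rw [show φ (Pi.single x 1) = 0 from congrFun h x, zero_mul]
  intro w hw
  rw [mem_sumZero_iff]
  simpa using constants_le_of_ne_bot hcard hA hAne (const_mem_constants 1) w hw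

variable {Ω' : Type*} [MulAction G Ω']

/-- The linear map with matrix `M`. -/
def kernelMap [Fintype Ω] (M : Ω' → Ω → K) : (Ω → K) →ₗ[K] (Ω' → K) where
  toFun f y := ∑ x, M y x * f x
  map_add' f g := by funext y; simp [mul_add, Finset.sum_add_distrib]
  map_smul' c f := by funext y; simp [Finset.mul_sum, mul_left_comm]

theorem kernelMap_apply [Fintype Ω] (M : Ω' → Ω → K) (f : Ω → K) (y : Ω') :
    kernelMap M f y = ∑ x, M y x * f x := rfl

/-- An invariant matrix gives an equivariant map. -/
theorem kernelMap_equivariant [Fintype Ω] {M : Ω' → Ω → K}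
    (hM : ∀ (g : G) y x, M (g • y) (g • x) = M y x) (g : G) (f : Ω → K) :
    kernelMap M (permRep K G Ω g f) = permRep K G Ω' g (kernelMap M f) := by
  funext y
  simp only [kernelMap_apply, permRep_apply]
  rw [← Equiv.sum_comp (MulAction.toPerm g)]
  refine Finset.sum_congr rfl fun x _ => ?_
  simp only [MulAction.toPerm_apply, inv_smul_smul]
  rw [← hM g (g⁻¹ • y) x, smul_inv_smul]

/-- In prime-power degree and characteristic `p`, an action that is not doubly transitive has a
trivial composition factor in the heart of its permutation module. -/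
theorem exists_trivial_section_of_not_twoTransitive [Finite G] {p f : ℕ} [hp : Fact p.Prime]
    [CharP K p] [Fintype Ω] [MulAction.IsPretransitive G Ω] (hf : 1 ≤ f)
    (hcard : Fintype.card Ω = p ^ f) (h2 : ¬ MulAction.IsMultiplyPretransitive G Ω 2) :
    ∃ W W' : Subrepresentation (permRep K G Ω),
      (permConstants K G Ω).toSubmodule ≤ W.toSubmodule ∧ W.toSubmodule < W'.toSubmodule ∧
      W'.toSubmodule ≤ (permSumZero K G Ω).toSubmodule ∧
      ∀ g : G, ∀ v ∈ W'.toSubmodule, permRep K G Ω g v - v ∈ W.toSubmodule := by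
  classical
  have hcard' : Nat.card Ω = p ^ f := by rw [Nat.card_eq_fintype_card, hcard]
  rw [MulAction.is_two_pretransitive_iff] at h2
  push Not at h2
  obtain ⟨a, b, c, d, hab, hcd, hno⟩ := h2
  let R : Ω → Ω → Prop := fun x y => ∃ g : G, g • a = x ∧ g • b = y
  have hRg : ∀ (g : G) x y, R (g • x) (g • y) ↔ R x y := by
    intro g x y
    constructor
    · rintro ⟨h, h1, h2⟩
      exact ⟨g⁻¹ * h, by rw [mul_smul, h1, inv_smul_smul], by rw [mul_smul, h2, inv_smul_smul]⟩
    · rintro ⟨h, h1, h2⟩
      exact ⟨g * h, by rw [mul_smul, h1], by rw [mul_smul, h2]⟩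
  have hRne : ∀ x, ¬ R x x := fun x ⟨g, h1, h2⟩ => hab (smul_left_cancel g (h1.trans h2.symm))
  let outd : Ω → ℕ := fun x => (Finset.univ.filter (R x)).card
  let ind : Ω → ℕ := fun y => (Finset.univ.filter fun x => R x y).card
  have houtd : ∀ x, outd x = outd a := fun x => by
    obtain ⟨g, rfl⟩ := MulAction.exists_smul_eq G a x
    refine (Finset.card_equiv (MulAction.toPerm g) fun y => ?_).symm
    simp [hRg]
  have hind : ∀ y, ind y = ind a := fun y => by
    obtain ⟨g, rfl⟩ := MulAction.exists_smul_eq G a y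
    refine (Finset.card_equiv (MulAction.toPerm g) fun x => ?_).symm
    simp [hRg]
  have hio : ind a = outd a := by
    have h : ∑ x, outd x = ∑ y, ind y := by
      simp only [outd, ind, Finset.card_filter]
      exact Finset.sum_comm
    simp only [houtd, hind, Finset.sum_const, Finset.card_univ, smul_eq_mul] at h
    exact (Nat.eq_of_mul_eq_mul_left (hcard ▸ pow_pos hp.out.pos f) h).symm
  let M : Ω → Ω → K := fun x y =>
    (if R x y then 1 else 0) - (if x = y then (outd a : K) else 0)
  have hM : ∀ (g : G) x y, M (g • x) (g • y) = M x y := fun g x y => by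
    simp [M, hRg, smul_left_cancel_iff]
  have hrow : ∀ x, ∑ y, M x y = 0 := fun x => by
    simp only [M, Finset.sum_sub_distrib, Finset.sum_boole, Finset.sum_ite_eq, Finset.mem_univ,
      if_true]
    rw [show (Finset.univ.filter (R x)).card = outd a from houtd x, sub_self]
  have hcol : ∀ y, ∑ x, M x y = 0 := fun y => by
    simp only [M, Finset.sum_sub_distrib, Finset.sum_boole, Finset.sum_ite_eq', Finset.mem_univ,
      if_true]
    rw [show (Finset.univ.filter fun x => R x y).card = ind a from hind y, hio, sub_self]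
  -- the kernel is not constant
  have hMnc : M a b ≠ M c d := by
    have h1 : R a b := ⟨1, one_smul _ _, one_smul _ _⟩
    have h2 : ¬ R c d := fun ⟨g, hg1, hg2⟩ => hno g hg1 hg2
    simp [M, h1, h2, hab, hcd]
  let T := kernelMap M
  have hT : ∀ g f, T (permRep K G Ω g f) = permRep K G Ω g (T f) := kernelMap_equivariant hM
  let S := (permSumZero K G Ω).toSubmodule
  have hTsingle : ∀ y x, T (Pi.single y 1) x = M x y := fun y x => by
    simp [T, kernelMap_apply, Pi.single_apply]
  have himS : LinearMap.range T ≤ S := by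
    rintro _ ⟨f, rfl⟩
    show ∑ x, ∑ y, M x y * f y = 0
    rw [Finset.sum_comm]
    exact Finset.sum_eq_zero fun y _ => by rw [← Finset.sum_mul, hcol, zero_mul]
  have hSinv : ∀ g : G, ∀ v ∈ S.map T, permRep K G Ω g v ∈ S.map T := by
    rintro g _ ⟨v, hv, rfl⟩
    exact ⟨permRep K G Ω g v, (permSumZero K G Ω).apply_mem_toSubmodule g hv, hT g v⟩
  have hSne : S.map T ≠ ⊥ := by
    intro h
    have hker : ∀ x y z : Ω, M x y = M x z := fun x y z => by
      have h' : T (Pi.single y (1 : K) - Pi.single z 1) = 0 :=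
        (Submodule.mem_bot K).1 (h ▸ Submodule.mem_map_of_mem (single_sub_single_mem_sumZero y z))
      have h'' := congrFun h' x
      rw [map_sub, Pi.sub_apply, hTsingle, hTsingle, Pi.zero_apply, sub_eq_zero] at h''
      exact h''
    apply hMnc
    obtain ⟨g, rfl⟩ := MulAction.exists_smul_eq G a c
    rw [hker (g • a) d (g • b), hM]
  have hlt : S.map T < LinearMap.range T := by
    refine lt_of_le_of_ne (LinearMap.map_le_range) fun heq => ?_
    have hker : LinearMap.ker T ≠ ⊤ := fun h => hMnc (by
      rw [← hTsingle b a, ← hTsingle d c, LinearMap.ker_eq_top.1 h]; rfl)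
    have hkerinv : ∀ g : G, ∀ w ∈ LinearMap.ker T, permRep K G Ω g w ∈ LinearMap.ker T := by
      intro g w hw
      rw [LinearMap.mem_ker] at hw ⊢
      rw [hT, hw, map_zero]
    have hle := le_sumZero_of_ne_top hcard' hkerinv hker
    obtain ⟨s, hs, hse⟩ : T (Pi.single a 1) ∈ S.map T := heq ▸ LinearMap.mem_range_self _ _
    have hk : Pi.single a (1 : K) - s ∈ S := hle (by simp [LinearMap.mem_ker, hse])
    have : Pi.single a (1 : K) ∈ S := by simpa using S.add_mem hk hs
    rw [mem_sumZero_iff] at this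
    simp at this
  refine ⟨⟨S.map T, fun g v hv => hSinv g v hv⟩, ⟨LinearMap.range T, ?_⟩,
    constants_le_of_ne_bot hcard' hSinv hSne, hlt, himS, ?_⟩
  · rintro g _ ⟨v, rfl⟩
    exact ⟨permRep K G Ω g v, hT g v⟩
  · rintro g _ ⟨v, rfl⟩
    refine ⟨permRep K G Ω g v - v, ?_, by rw [map_sub, hT]⟩
    show ∑ x, (v (g⁻¹ • x) - v x) = 0
    rw [Finset.sum_sub_distrib, sub_eq_zero]
    exact Equiv.sum_comp (MulAction.toPerm g⁻¹) v

end Cfsg.Agent.Perm.ModuleHeart
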