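import Mathlib

/-!
# The Coxeter presentation of the symmetric group

Elements `s 0, …, s (n - 1)` satisfying the relations of the adjacent transpositions generate a
group of order at most `(n + 1)!`; so they define a homomorphism from `Sym (n + 1)`.
-/

set_option autoImplicit false

namespace Cfsg.Agent.Perm

variable {K : Type*} [Group K]

/-- The relations of adjacent transpositions for the first `n` members of a sequence. -/
structure BraidRels (s : ℕ → K) (n : ℕ) : Prop where
  sq : ∀ i < n, s i * s i = 1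
  braid : ∀ i, i + 1 < n → s i * s (i + 1) * s i = s (i + 1) * s i * s (i + 1)
  comm : ∀ i j, i + 1 < j → j < n → s i * s j = s j * s i

theorem BraidRels.mono {s : ℕ → K} {m n : ℕ} (h : BraidRels s n) (hmn : m ≤ n) : BraidRels s m :=
  ⟨fun i hi => h.sq i (hi.trans_le hmn), fun i hi => h.braid i (hi.trans_le hmn),
    fun i j hij hj => h.comm i j hij (hj.trans_le hmn)⟩

/-- Coset representatives `s n * s (n - 1) * ⋯`, with `d` factors. -/
def braidRep (s : ℕ → K) (n : ℕ) : ℕ → K
  | 0 => 1
  | d + 1 => braidRep s n d * s (n - d)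

theorem braidRep_comm {s : ℕ → K} {n : ℕ} (h : BraidRels s (n + 1)) :
    ∀ d k : ℕ, k + d + 1 ≤ n → s k * braidRep s n d = braidRep s n d * s k
  | 0, k, _ => by simp [braidRep]
  | d + 1, k, hk => by
    rw [braidRep, ← mul_assoc, braidRep_comm h d k (by omega), mul_assoc, mul_assoc,
      h.comm k (n - d) (by omega) (by omega)]

theorem card_closure_le : ∀ (n : ℕ) {s : ℕ → K}, BraidRels s n →
    Finite (Subgroup.closure (s '' Set.Iio n)) ∧ Nat.card (Subgroup.closure (s '' Set.Iio n)) ≤ (n + 1).factorial
  | 0, s, _ => by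
    have : Subgroup.closure (s '' Set.Iio 0) = ⊥ := by simp
    rw [this]
    exact ⟨inferInstance, by simp⟩
  | n + 1, s, h => by
    obtain ⟨hfin, hcard⟩ := card_closure_le n (h.mono n.le_succ)
    set H := Subgroup.closure (s '' Set.Iio n)
    set T := Subgroup.closure (s '' Set.Iio (n + 1))
    haveI := hfin
    have hcomm : ∀ d k, k + d + 1 ≤ n → s k * braidRep s n d = braidRep s n d * s k := fun d k hkd =>
      braidRep_comm h d k hkd
    -- pushing a later generator to the left
    have hpush : ∀ k, 1 ≤ k → k ≤ n → ∀ d, n - k + 2 ≤ d → d ≤ n + 1 →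
        braidRep s n d * s k = s (k - 1) * braidRep s n d := by
      intro k hk1 hkn d
      induction d with
      | zero => intro hd; omega
      | succ d ih =>
        intro hd hd'
        rcases Nat.eq_or_lt_of_le hd with he | hlt
        · obtain rfl : d = n - k + 1 := by omega
          have h1 : n - (n - k) = k := by omega
          have h2 : n - (n - k + 1) = k - 1 := by omega
          simp only [braidRep, h1, h2]
          rw [mul_assoc _ (s k), mul_assoc _ (s k * s (k - 1))]
          have hb := h.braid (k - 1) (by omega)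
          rw [show k - 1 + 1 = k by omega] at hb
          rw [← hb, ← mul_assoc _ (s (k - 1) * s k), ← mul_assoc _ (s (k - 1)), ← hcomm (n - k) (k - 1) (by omega)]
          simp only [mul_assoc]
        · rw [braidRep, mul_assoc, h.comm (n - d) k (by omega) (by omega), ← mul_assoc,
            ih (by omega) (by omega), mul_assoc]
    let f : H × Fin (n + 2) → K := fun p => (p.1 : K) * braidRep s n p.2
    have hstep : ∀ x ∈ Set.range f, ∀ k < n + 1, x * s k ∈ Set.range f := by
      rintro _ ⟨⟨a, ⟨d, hd⟩⟩, rfl⟩ k hk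
      rcases Nat.lt_trichotomy (k + d) n with hlt | heq | hgt
      · exact ⟨⟨a * ⟨s k, Subgroup.subset_closure ⟨k, Set.mem_Iio.2 (by omega), rfl⟩⟩, ⟨d, hd⟩⟩, by
          simp only [f, Subgroup.coe_mul]; rw [mul_assoc, mul_assoc, hcomm d k (by omega)]⟩
      · exact ⟨⟨a, ⟨d + 1, by omega⟩⟩, by
          simp only [f, braidRep]; rw [mul_assoc, show n - d = k by omega]⟩
      · rcases Nat.eq_or_lt_of_le (Nat.succ_le_iff.2 hgt) with he | hgt'
        · obtain ⟨e, rfl⟩ : ∃ e, d = e + 1 := ⟨d - 1, by omega⟩
          exact ⟨⟨a, ⟨e, by omega⟩⟩, by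
            simp only [f, braidRep]
            rw [show n - e = k by omega, mul_assoc (a : K), mul_assoc (braidRep s n e), h.sq k hk, mul_one]⟩
        · exact ⟨⟨a * ⟨s (k - 1), Subgroup.subset_closure ⟨k - 1, Set.mem_Iio.2 (by omega), rfl⟩⟩, ⟨d, hd⟩⟩, by
            simp only [f, Subgroup.coe_mul]; rw [mul_assoc, mul_assoc, hpush k (by omega) (by omega) d (by omega) (by omega)]⟩
    have hall : (T : Set K) ⊆ Set.range f := by
      intro z hz
      induction hz using Subgroup.closure_induction_right with
      | one => exact ⟨⟨1, ⟨0, by omega⟩⟩, by simp [f, braidRep]⟩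
      | mul_right u _ g hg hu => obtain ⟨k, hk, rfl⟩ := hg; exact hstep u hu k hk
      | mul_inv_cancel u _ g hg hu =>
        obtain ⟨k, hk, rfl⟩ := hg
        rw [inv_eq_of_mul_eq_one_right (h.sq k hk)]
        exact hstep u hu k hk
    haveI : Finite (Set.range f) := Set.finite_range f
    have hTfin : Finite T := Finite.of_injective (fun z : T => (⟨z.1, hall z.2⟩ : Set.range f))
      (fun a b e => Subtype.ext (congrArg Subtype.val e :))
    refine ⟨hTfin, ?_⟩
    calc Nat.card T ≤ Nat.card (Set.range f) :=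
          Nat.card_le_card_of_injective (fun z : T => (⟨z.1, hall z.2⟩ : Set.range f))
            (fun a b e => Subtype.ext (congrArg Subtype.val e :))
      _ ≤ Nat.card (H × Fin (n + 2)) := Finite.card_range_le f
      _ ≤ (n + 2).factorial := by
          rw [Nat.card_prod, Nat.card_fin, Nat.factorial_succ, mul_comm]
          exact Nat.mul_le_mul_left _ hcard

/-- The adjacent transposition `(i i+1)` of `Fin (n + 1)`, trivial out of range. -/
def adjSwap (n i : ℕ) : Equiv.Perm (Fin (n + 1)) :=
  if h : i < n then Equiv.swap ⟨i, by omega⟩ ⟨i + 1, by omega⟩ else 1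

theorem adjSwap_rels (n : ℕ) : BraidRels (adjSwap n) n where
  sq i hi := by simp [adjSwap, hi]
  braid i hi := by
    have hi' : i < n := by omega
    simp only [adjSwap, hi, hi', dif_pos]
    rw [Equiv.swap_mul_swap_mul_swap (by simp [Fin.ext_iff]) (by simp [Fin.ext_iff] <;> omega),
      Equiv.swap_comm (⟨i + 1, by omega⟩ : Fin (n + 1)) ⟨i + 1 + 1, by omega⟩,
      Equiv.swap_comm (⟨i, by omega⟩ : Fin (n + 1)) ⟨i + 1, by omega⟩,
      Equiv.swap_mul_swap_mul_swap (by simp [Fin.ext_iff]) (by simp [Fin.ext_iff] <;> omega)]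
    exact Equiv.swap_comm _ _
  comm i j hij hj := by
    have hi : i < n := by omega
    simp only [adjSwap, hi, hj, dif_pos]
    refine (Equiv.Perm.Disjoint.commute ?_).eq
    rw [Equiv.Perm.disjoint_iff_disjoint_support, Equiv.Perm.support_swap (by simp), Equiv.Perm.support_swap (by simp)]
    simp [Fin.ext_iff]
    omega

theorem closure_adjSwap (n : ℕ) : Subgroup.closure (adjSwap n '' Set.Iio n) = ⊤ := by
  rw [eq_top_iff]
  intro σ _
  have h : σ ∈ Submonoid.closure (Set.range fun i : Fin n => Equiv.swap i.castSucc i.succ) := by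
    rw [Equiv.Perm.mclosure_swap_castSucc_succ]; trivial
  have hle : Submonoid.closure (Set.range fun i : Fin n => Equiv.swap i.castSucc i.succ) ≤
      (Subgroup.closure (adjSwap n '' Set.Iio n)).toSubmonoid := by
    rw [Submonoid.closure_le]
    rintro _ ⟨i, rfl⟩
    refine Subgroup.subset_closure ⟨i, i.isLt, ?_⟩
    simp [adjSwap, Fin.castSucc, Fin.succ]
    rfl
  exact hle h

/-- Elements with the relations of the adjacent transpositions define a map from `Sym (n + 1)`. -/
theorem exists_hom_of_braidRels {n : ℕ} {s : ℕ → K} (h : BraidRels s n) :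
    ∃ φ : Equiv.Perm (Fin (n + 1)) →* K, ∀ i < n, φ (adjSwap n i) = s i := by
  let p : ℕ → K × Equiv.Perm (Fin (n + 1)) := fun i => (s i, adjSwap n i)
  have hp : BraidRels p n :=
    ⟨fun i hi => Prod.ext (h.sq i hi) ((adjSwap_rels n).sq i hi),
      fun i hi => Prod.ext (h.braid i hi) ((adjSwap_rels n).braid i hi),
      fun i j hij hj => Prod.ext (h.comm i j hij hj) ((adjSwap_rels n).comm i j hij hj)⟩
  obtain ⟨hfin, hcard⟩ := card_closure_le n hp
  set T := Subgroup.closure (p '' Set.Iio n)
  let π : T →* Equiv.Perm (Fin (n + 1)) := (MonoidHom.snd K _).comp T.subtype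
  have hsurj : Function.Surjective π := by
    rw [← MonoidHom.range_eq_top, eq_top_iff, ← closure_adjSwap n, Subgroup.closure_le]
    rintro _ ⟨i, hi, rfl⟩
    exact ⟨⟨p i, Subgroup.subset_closure ⟨i, hi, rfl⟩⟩, rfl⟩
  have hbij : Function.Bijective π := (Nat.bijective_iff_surjective_and_card π).2
    ⟨hsurj, le_antisymm (hcard.trans_eq (by rw [Nat.card_perm, Nat.card_fin])) (Nat.card_le_card_of_surjective π hsurj)⟩
  let e := MulEquiv.ofBijective π hbij
  refine ⟨((MonoidHom.fst K _).comp T.subtype).comp e.symm.toMonoidHom, fun i hi => ?_⟩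
  have he : e.symm (adjSwap n i) = ⟨p i, Subgroup.subset_closure ⟨i, hi, rfl⟩⟩ := by
    rw [MulEquiv.symm_apply_eq]; rfl
  show ((e.symm (adjSwap n i) : T) : K × Equiv.Perm (Fin (n + 1))).1 = s i
  rw [he]

end Cfsg.Agent.Perm
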