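import Mathlib

/-!
The subgroup generated by the derangements of a finite transitive group: it is transitive, every element
outside it has exactly one fixed point, and its index divides the size of every point-stabilizer-invariant
set avoiding the point.
-/

set_option autoImplicit false
set_option linter.style.haveILetI false

namespace Cfsg.Agent.Perm.Derangement

open MulAction

variable (G Ω : Type*) [Group G] [MulAction G Ω]

/-- The subgroup generated by the elements fixing no point. -/
abbrev derSub : Subgroup G := Subgroup.closure {g : G | ∀ ω : Ω, g • ω ≠ ω}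

theorem normal_derSub : (derSub G Ω).Normal := by
  refine ⟨fun d hd h => ?_⟩
  have hle : derSub G Ω ≤ (derSub G Ω).comap (MulAut.conj h).toMonoidHom := by
    refine (Subgroup.closure_le _).mpr fun g hg => Subgroup.subset_closure fun ω hω => hg (h⁻¹ • ω) ?_
    have := congrArg (h⁻¹ • ·) hω
    simpa [mul_smul] using this
  simpa using hle hd

variable {G Ω}

theorem exists_fixed_of_not_mem {g : G} (hg : g ∉ derSub G Ω) : ∃ ω : Ω, g • ω = ω := by
  by_contra hno
  exact hg (Subgroup.subset_closure fun ω hω => hno ⟨ω, hω⟩)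

variable [Finite G] [Finite Ω]

/-- A transitive subgroup: the fixed points along any coset average to one. -/
theorem sum_fixedBy_coset [Nonempty Ω] (D : Subgroup G) [Fintype D] (ht : IsPretransitive D Ω) (g : G) :
    ∑ d : D, Nat.card (fixedBy Ω (g * (d : G))) = Nat.card D := by
  classical
  haveI := ht
  haveI := Fintype.ofFinite Ω
  calc ∑ d : D, Nat.card (fixedBy Ω (g * (d : G)))
      = ∑ d : D, ∑ ω : Ω, (if d • ω = g⁻¹ • ω then 1 else 0) := by
        refine Finset.sum_congr rfl fun d _ => ?_
        rw [Finset.sum_boole, Nat.cast_id, Nat.card_eq_fintype_card, ← Set.toFinset_card]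
        congr 1
        ext ω
        simp [MulAction.mem_fixedBy, eq_inv_smul_iff, mul_smul, Subgroup.smul_def]
    _ = ∑ ω : Ω, ∑ d : D, (if d • ω = g⁻¹ • ω then 1 else 0) := Finset.sum_comm
    _ = ∑ ω : Ω, Nat.card (stabilizer D ω) := by
        refine Finset.sum_congr rfl fun ω _ => ?_
        obtain ⟨d₀, hd₀⟩ := exists_smul_eq D ω (g⁻¹ • ω)
        rw [Finset.sum_boole, Nat.cast_id, ← Fintype.card_subtype, ← Nat.card_eq_fintype_card]
        refine Nat.card_congr (Equiv.subtypeEquiv (Equiv.mulLeft d₀⁻¹) fun d => ?_)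
        simp [mem_stabilizer_iff, mul_smul, inv_smul_eq_iff, hd₀]
    _ = Nat.card D := by
        obtain ⟨ω₀⟩ := ‹Nonempty Ω›
        have hidx : ∀ ω : Ω, (stabilizer D ω).index = Nat.card Ω := fun ω => index_stabilizer_of_transitive D ω
        have heq : ∀ ω : Ω, Nat.card (stabilizer D ω) = Nat.card D / Nat.card Ω := fun ω => by
          rw [← Subgroup.card_mul_index (stabilizer D ω), hidx, Nat.mul_div_cancel _ Nat.card_pos]
        rw [Finset.sum_congr rfl fun ω _ => heq ω, Finset.sum_const, smul_eq_mul, Finset.card_univ,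
          ← Nat.card_eq_fintype_card, Nat.mul_div_cancel']
        exact ⟨Nat.card (stabilizer D ω₀), by rw [← hidx ω₀, Subgroup.index_mul_card]⟩

theorem isPretransitive_derSub (ht : IsPretransitive G Ω) : IsPretransitive (derSub G Ω) Ω := by
  classical
  haveI := ht
  rcases isEmpty_or_nonempty Ω with hE | hne
  · exact ⟨fun x => isEmptyElim x⟩
  haveI := Fintype.ofFinite G
  haveI := Fintype.ofFinite Ω
  haveI : Nonempty (orbitRel.Quotient G Ω) := Nonempty.map Quotient.mk'' hne
  set D := derSub G Ω with hD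
  haveI := Fintype.ofFinite (orbitRel.Quotient G Ω)
  haveI := Fintype.ofFinite (orbitRel.Quotient D Ω)
  have hG := sum_card_fixedBy_eq_card_orbits_mul_card_group G Ω
  have hDs := sum_card_fixedBy_eq_card_orbits_mul_card_group D Ω
  have h1 : Fintype.card (orbitRel.Quotient G Ω) = 1 := by
    refine Fintype.card_eq_one_iff.mpr ⟨Quotient.mk'' (Classical.arbitrary Ω), fun q => ?_⟩
    induction q using Quotient.inductionOn' with
    | h x => exact Quotient.sound' (exists_smul_eq G (Classical.arbitrary Ω) x)
  rw [h1, one_mul] at hG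
  have hsplit := Finset.sum_add_sum_compl (Finset.univ.filter (· ∈ D)) (fun g : G => Fintype.card (fixedBy Ω g))
  have hDsum : ∑ g ∈ Finset.univ.filter (· ∈ D), Fintype.card (fixedBy Ω g) =
      ∑ d : ↥D, Fintype.card ↑(fixedBy Ω (d : ↥D)) := by
    rw [Finset.sum_subtype (p := (· ∈ D)) _ (by simp)]
    exact Finset.sum_congr rfl fun d _ => Fintype.card_congr (Equiv.setCongr rfl)
  have hout : ((Finset.univ.filter (· ∈ D))ᶜ).card ≤
      ∑ g ∈ (Finset.univ.filter (· ∈ D))ᶜ, Fintype.card (fixedBy Ω g) := by
    rw [Finset.card_eq_sum_ones]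
    refine Finset.sum_le_sum fun g hg => ?_
    obtain ⟨ω, hω⟩ := exists_fixed_of_not_mem (G := G) (Ω := Ω) (g := g) (by simpa using hg)
    exact Fintype.card_pos_iff.mpr ⟨⟨ω, hω⟩⟩
  have hcD : (Finset.univ.filter (· ∈ D)).card = Fintype.card D := (Fintype.card_subtype _).symm
  have hcc := Finset.card_add_card_compl (Finset.univ.filter (· ∈ D))
  have hDpos : 0 < Fintype.card D := Fintype.card_pos
  have hle : Fintype.card (orbitRel.Quotient D Ω) ≤ 1 := by
    refine Nat.le_of_mul_le_mul_right ?_ hDpos
    simp only [← Nat.card_eq_fintype_card, orbitRel.Quotient] at hG hDs hsplit hDsum hout hcD hcc hDpos ⊢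
    omega
  haveI := Fintype.card_le_one_iff_subsingleton.mp hle
  exact (pretransitive_iff_subsingleton_quotient D Ω).mpr inferInstance

theorem card_fixedBy_eq_one (ht : IsPretransitive G Ω) [Nonempty Ω] {g : G} (hg : g ∉ derSub G Ω) :
    Nat.card (fixedBy Ω g) = 1 := by
  classical
  haveI := Fintype.ofFinite (derSub G Ω)
  haveI := Fintype.ofFinite Ω
  have hs := sum_fixedBy_coset (derSub G Ω) (isPretransitive_derSub ht) g
  have hpos : ∀ d : derSub G Ω, 1 ≤ Nat.card (fixedBy Ω (g * (d : G))) := fun d => by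
    obtain ⟨ω, hω⟩ := exists_fixed_of_not_mem (G := G) (Ω := Ω) (g := g * (d : G))
      (fun h => hg (by simpa using (derSub G Ω).mul_mem h ((derSub G Ω).inv_mem d.2)))
    haveI : Nonempty (fixedBy Ω (g * (d : G))) := ⟨⟨ω, hω⟩⟩
    exact Nat.card_pos
  rw [Nat.card_eq_fintype_card (α := derSub G Ω), Fintype.card_eq_sum_ones] at hs
  have h1 := ((Finset.sum_eq_sum_iff_of_le fun d _ => hpos d).mp hs.symm) 1 (Finset.mem_univ _)
  simpa using h1.symm

theorem stabilizer_inf_le (ht : IsPretransitive G Ω) {a b : Ω} (hab : b ≠ a) :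
    stabilizer G a ⊓ stabilizer G b ≤ derSub G Ω := by
  rintro g ⟨ha, hb⟩
  by_contra hg
  haveI : Nonempty Ω := ⟨a⟩
  haveI := (Nat.card_eq_one_iff_unique.mp (card_fixedBy_eq_one ht hg)).1
  exact hab (Subtype.ext_iff.mp (Subsingleton.elim (⟨b, hb⟩ : fixedBy Ω g) ⟨a, ha⟩))

theorem relIndex_stabilizer (ht : IsPretransitive G Ω) (a : Ω) :
    (derSub G Ω).relIndex (stabilizer G a) = (derSub G Ω).index := by
  haveI := normal_derSub G Ω
  haveI := isPretransitive_derSub ht
  rw [← Subgroup.relIndex_sup_right, ← Subgroup.relIndex_top_right]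
  congr 1
  refine eq_top_iff.mpr fun g _ => ?_
  obtain ⟨d, hd⟩ := exists_smul_eq (derSub G Ω) a (g • a)
  have h : (d : G)⁻¹ * g ∈ stabilizer G a := by
    rw [mem_stabilizer_iff, mul_smul, inv_smul_eq_iff]; exact hd.symm
  have := Subgroup.mul_mem_sup d.2 h
  rw [mul_inv_cancel_left] at this
  rwa [sup_comm]

theorem index_dvd_card_orbit (ht : IsPretransitive G Ω) {a b : Ω} (hab : b ≠ a) :
    (derSub G Ω).index ∣ Nat.card (orbit (stabilizer G a) b) := by
  rw [← relIndex_stabilizer ht a, Nat.card_coe_set_eq, ← index_stabilizer]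
  refine Subgroup.index_dvd_of_le ?_
  intro g hg
  exact stabilizer_inf_le ht hab ⟨g.2, hg⟩

/-- Every set invariant under a point stabilizer and avoiding the point has size divisible by the index. -/
theorem index_dvd_ncard (ht : IsPretransitive G Ω) (a : Ω) (S : Set Ω) (haS : a ∉ S)
    (hS : ∀ g ∈ stabilizer G a, ∀ x ∈ S, g • x ∈ S) : (derSub G Ω).index ∣ S.ncard := by
  classical
  let T : SubMulAction (stabilizer G a) Ω := { carrier := S, smul_mem' := fun g x hx => hS g g.2 x hx }
  haveI := Fintype.ofFinite (orbitRel.Quotient (stabilizer G a) T)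
  rw [← Nat.card_coe_set_eq]
  change _ ∣ Nat.card T
  rw [Nat.card_congr (selfEquivSigmaOrbits' (stabilizer G a) T), Nat.card_sigma]
  refine Finset.dvd_sum fun q _ => ?_
  induction q using Quotient.inductionOn' with
  | h x =>
    have hcard : Nat.card (orbitRel.Quotient.orbit (Quotient.mk'' x : orbitRel.Quotient (stabilizer G a) T)) =
        Nat.card (orbit (stabilizer G a) (x : Ω)) := by
      rw [orbitRel.Quotient.orbit_mk, ← SubMulAction.val_image_orbit,
        Nat.card_image_of_injective Subtype.val_injective]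
    rw [hcard]
    exact index_dvd_card_orbit ht (fun h => haS (h ▸ x.2))

end Cfsg.Agent.Perm.Derangement
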