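import Mathlib
import Cfsg.Prelude.Def_HallClasses

/-!
Sylow 2-subgroups of symmetric and alternating groups are self-normalizing (alternating: degree ≥ 6),
and consequences for pronormality of subgroups of odd index.
-/
set_option autoImplicit false

namespace Cfsg.Agent.Perm

open Equiv Equiv.Perm

section Pronormal
variable {G : Type*} [Group G] [Finite G] {p : ℕ} [Fact p.Prime]

/-- A subgroup containing the normalizer of a Sylow subgroup that it contains is pronormal; more
generally it suffices that this normalizer normalizes it. -/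
theorem isPronormal_of_normalizer_sylow_le (S : Sylow p G) (H : Subgroup G) (hSH : (S : Subgroup G) ≤ H)
    (hN : Subgroup.normalizer ((S : Subgroup G) : Set G) ≤ Subgroup.normalizer (H : Set G)) :
    Cfsg.IsPronormal H := by
  intro g
  set K : Subgroup G := H ⊔ H.map (MulAut.conj g).toMonoidHom with hK
  have h1 : (S : Subgroup G) ≤ K := hSH.trans le_sup_left
  have h2 : ((MulAut.conj g) • S : Sylow p G).1 ≤ K := by
    refine le_trans ?_ (le_sup_right : H.map (MulAut.conj g).toMonoidHom ≤ K)
    intro x hx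
    obtain ⟨y, hy, rfl⟩ := hx
    exact ⟨y, hSH hy, rfl⟩
  obtain ⟨k, hk⟩ := MulAction.exists_smul_eq K (S.subtype h1) (((MulAut.conj g) • S : Sylow p G).subtype h2)
  have hk' : ((MulAut.conj (k : G)) • S : Sylow p G) = (MulAut.conj g) • S := by
    apply Sylow.subtype_injective (hP := ?_) (hQ := h2)
    · rw [← hk]; exact (Sylow.smul_subtype h1 k).symm
  have hkg : (k : G)⁻¹ * g ∈ Subgroup.normalizer ((S : Subgroup G) : Set G) := by
    apply Sylow.smul_eq_iff_mem_normalizer.1
    have : ((k : G)⁻¹ * g) • S = (k : G)⁻¹ • (g • S) := mul_smul _ _ _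
    rw [this]
    have h3 : g • S = (k : G) • S := hk'.symm
    rw [h3, inv_smul_smul]
  have hH := hN hkg
  refine ⟨k, k.2, ?_⟩
  ext x
  rw [Subgroup.mem_normalizer_iff] at hH
  constructor
  · rintro ⟨y, hy, rfl⟩
    refine ⟨(k : G)⁻¹ * g * y * ((k : G)⁻¹ * g)⁻¹, (hH y).1 hy, ?_⟩
    simp [MulAut.conj_apply]; group
  · rintro ⟨y, hy, rfl⟩
    refine ⟨((k : G)⁻¹ * g)⁻¹ * y * ((k : G)⁻¹ * g), ?_, ?_⟩
    · rw [SetLike.mem_coe, hH]; simp only [SetLike.mem_coe] at hy; convert hy using 2; group
    · simp [MulAut.conj_apply]; group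

/-- Maximal subgroups are pronormal. -/
theorem isPronormal_of_isCoatom {G : Type*} [Group G] (H : Subgroup G) (hH : IsCoatom H) :
    Cfsg.IsPronormal H := by
  intro g
  by_cases hle : H.map (MulAut.conj g).toMonoidHom ≤ H
  · refine ⟨1, Subgroup.one_mem _, ?_⟩
    have h1 : IsCoatom (H.map (MulAut.conj g).toMonoidHom) :=
      (OrderIso.isCoatom_iff (MulEquiv.mapSubgroup (MulAut.conj g)) H).2 hH
    have : H.map (MulAut.conj g).toMonoidHom = H := by
      rcases eq_or_lt_of_le hle with h | h
      · exact h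
      · exact absurd (h1.2 _ h) hH.1
    rw [this]
    ext x
    simp
  · refine ⟨g, ?_, rfl⟩
    have : H ⊔ H.map (MulAut.conj g).toMonoidHom = ⊤ := hH.2 _ (left_lt_sup.2 hle)
    rw [this]; exact Subgroup.mem_top _

/-- A subgroup of prime index is maximal. -/
theorem isCoatom_of_index_prime {G : Type*} [Group G] (H : Subgroup G) (hH : H.index.Prime) :
    IsCoatom H := by
  refine ⟨fun h => by simp [h, Nat.not_prime_one] at hH, fun K hK => ?_⟩
  have h1 := Subgroup.relIndex_mul_index hK.le
  rcases (Nat.dvd_prime hH).1 (Dvd.intro_left _ h1) with h | h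
  · exact Subgroup.index_eq_one.1 h
  · exfalso
    have h2 : H.relIndex K = 1 := by
      rw [h] at h1
      exact Nat.eq_of_mul_eq_mul_right hH.pos (by rw [h1, one_mul])
    exact hK.not_ge (Subgroup.relIndex_eq_one.1 h2)

end Pronormal

section Pairs

variable {α β γ : Type*} [DecidableEq α] [Finite α] [Finite β]
variable (e : α ≃ (β × Bool) ⊕ γ)

/-- The pairing involution attached to `e`. -/
def pairFlip : α → α := fun x =>
  e.symm (Sum.map (fun p : β × Bool => (p.1, !p.2)) id (e x))

/-- The pair containing a point. -/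
def pairOfPt : α → Option β := fun x => Sum.elim (fun p : β × Bool => some p.1) (fun _ => none) (e x)

/-- Permutations of `α` with a compatible permutation of the pairs. -/
def pairCompat : Subgroup (Perm α × Perm β) where
  carrier := {w | ∀ x, pairOfPt e (w.1 x) = (pairOfPt e x).map w.2}
  one_mem' := fun x => by simp
  mul_mem' := by
    intro a b ha hb x
    show pairOfPt e (a.1 (b.1 x)) = (pairOfPt e x).map (a.2 * b.2)
    rw [ha, hb, Option.map_map]; rfl
  inv_mem' := by
    intro a ha x
    have h := ha (a.1⁻¹ x)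
    rw [show a.1 (a.1⁻¹ x) = x from a.1.apply_symm_apply x] at h
    rw [h, Option.map_map]
    simp [Prod.fst_inv, Prod.snd_inv]

omit [Finite α] [Finite β] [DecidableEq α] in
theorem pairFlip_flip (x : α) : pairFlip e (pairFlip e x) = x := by
  obtain ⟨y, rfl⟩ := e.symm.surjective x
  rcases y with ⟨b, i⟩ | c <;> simp [pairFlip]

omit [Finite α] [Finite β] [DecidableEq α] in
theorem pairOfPt_eq_iff [Subsingleton γ] (x y : α) :
    pairOfPt e y = pairOfPt e x ↔ y = x ∨ y = pairFlip e x := by
  obtain ⟨u, rfl⟩ := e.symm.surjective x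
  obtain ⟨v, rfl⟩ := e.symm.surjective y
  rcases u with ⟨b, i⟩ | c <;> rcases v with ⟨b', i'⟩ | c' <;> simp [pairFlip, pairOfPt]
  · cases i <;> cases i' <;> simp
  · exact Subsingleton.elim _ _

omit [Finite α] [Finite β] [DecidableEq α] in
theorem pairOfPt_eq_none_iff (x : α) : pairOfPt e x = none ↔ pairFlip e x = x := by
  obtain ⟨u, rfl⟩ := e.symm.surjective x
  rcases u with ⟨b, i⟩ | c <;> simp [pairFlip, pairOfPt]

omit [Finite α] [Finite β] [DecidableEq α] in
theorem eq_of_fixed [Subsingleton γ] {x y : α} (hx : pairFlip e x = x) (hy : pairFlip e y = y) : x = y := by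
  have h := (pairOfPt_eq_none_iff e x).2 hx
  have h' := (pairOfPt_eq_none_iff e y).2 hy
  rcases (pairOfPt_eq_iff e x y).1 (h'.trans h.symm) with r | r
  · exact r.symm
  · rw [r, hx]

omit [Finite α] [Finite β] in
theorem swap_pair_mem [Subsingleton γ] (x : α) : (swap x (pairFlip e x), (1 : Perm β)) ∈ pairCompat e := by
  intro y
  show pairOfPt e (swap x (pairFlip e x) y) = (pairOfPt e y).map (1 : Perm β)
  rw [show ((1 : Perm β) : β → β) = id from rfl, Option.map_id_fun, id, pairOfPt_eq_iff]
  rcases eq_or_ne y x with r | r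
  · subst r; simp
  · rcases eq_or_ne y (pairFlip e x) with r' | r'
    · subst r'; simp [pairFlip_flip]
    · simp [swap_apply_of_ne_of_ne r r']

/-- If a predicate on permutations holds exactly at the pair swaps among all swaps, then anything
preserving it commutes with the pairing. -/
theorem flip_comm_of_invariant [Subsingleton γ] (Pr : Perm α → Prop)
    (h1 : ∀ x, pairFlip e x ≠ x → Pr (swap x (pairFlip e x)))
    (h2 : ∀ x y, x ≠ y → Pr (swap x y) → y = pairFlip e x)
    (g : Perm α) (hg : ∀ s, Pr s → Pr (g * s * g⁻¹)) (hg' : ∀ s, Pr s → Pr (g⁻¹ * s * g)) (x : α) :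
    g (pairFlip e x) = pairFlip e (g x) := by
  have key : ∀ (g : Perm α), (∀ s, Pr s → Pr (g * s * g⁻¹)) → ∀ x, pairFlip e x ≠ x →
      g (pairFlip e x) = pairFlip e (g x) := by
    intro g hg x hx
    apply h2 _ _ (fun h => hx (g.injective h).symm)
    rw [Equiv.swap_apply_apply]
    exact hg _ (h1 x hx)
  by_cases hx : pairFlip e x = x
  · by_contra hne
    rw [hx] at hne
    have h := key g⁻¹ (by simpa using hg') (g x) (Ne.symm hne)
    rw [show g⁻¹ (g x) = x from g.symm_apply_apply x, hx] at h
    exact hne (by rw [← g.apply_symm_apply (pairFlip e (g x)), show g.symm (pairFlip e (g x)) = x from h])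
  · exact key g hg x hx

/-- A permutation commuting with the pairing induces a permutation of the pairs. -/
theorem exists_compat [Subsingleton γ] (g : Perm α) (hg : ∀ x, g (pairFlip e x) = pairFlip e (g x)) :
    ∃ π : Perm β, (g, π) ∈ pairCompat e := by
  have hmov : ∀ b, ∃ b', pairOfPt e (g (e.symm (.inl (b, false)))) = some b' := by
    intro b
    rcases h : pairOfPt e (g (e.symm (.inl (b, false)))) with _ | b'
    · exfalso
      rw [pairOfPt_eq_none_iff, ← hg] at h
      have := g.injective h
      rw [← pairOfPt_eq_none_iff] at this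
      simp [pairOfPt] at this
    · exact ⟨b', rfl⟩
  choose f hf using hmov
  have hinj : Function.Injective f := by
    intro b b' h
    have h' : pairOfPt e (g (e.symm (.inl (b', false)))) = pairOfPt e (g (e.symm (.inl (b, false)))) := by
      rw [hf, hf, h]
    rcases (pairOfPt_eq_iff e _ _).1 h' with r | r
    · simpa using (g.injective r).symm
    · rw [← hg] at r
      simpa [pairFlip] using g.injective r
  refine ⟨Equiv.ofBijective f ⟨hinj, Finite.surjective_of_injective hinj⟩, fun x => ?_⟩
  show pairOfPt e (g x) = (pairOfPt e x).map f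
  rcases h : pairOfPt e x with _ | b
  · rw [pairOfPt_eq_none_iff] at h
    rw [Option.map_none, pairOfPt_eq_none_iff, ← hg, h]
  · rw [Option.map_some, ← hf]
    have hx : pairOfPt e x = pairOfPt e (e.symm (.inl (b, false))) := by rw [h]; simp [pairOfPt]
    rcases (pairOfPt_eq_iff e _ _).1 hx with r | r <;> rw [r]
    rw [pairOfPt_eq_iff]; exact Or.inr (hg _)

omit [Finite α] [Finite β] [DecidableEq α] in
theorem pairCompat_snd_surjective [Subsingleton γ] (π : Perm β) : ∃ g, (g, π) ∈ pairCompat e := by
  refine ⟨e.symm.permCongr (Equiv.sumCongr (Equiv.prodCongr π (Equiv.refl Bool)) (Equiv.refl γ)), fun x => ?_⟩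
  obtain ⟨u, rfl⟩ := e.symm.surjective x
  rcases u with ⟨b, i⟩ | c <;> simp [pairOfPt, Equiv.permCongr_apply]

/-- The two projections of `pairCompat`. -/
def compatFst : pairCompat e →* Perm α := (MonoidHom.fst _ _).comp (pairCompat e).subtype
/-- The two projections of `pairCompat`. -/
def compatSnd : pairCompat e →* Perm β := (MonoidHom.snd _ _).comp (pairCompat e).subtype

omit [Finite α] [Finite β] in
theorem compatSnd_surjective [Subsingleton γ] : Function.Surjective (compatSnd e) := fun π =>
  let ⟨g, hg⟩ := pairCompat_snd_surjective e π; ⟨⟨(g, π), hg⟩, rfl⟩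

omit [Finite α] [Finite β] [DecidableEq α] in
theorem compatFst_injective : Function.Injective (compatFst e) := by
  rintro ⟨⟨g, π⟩, hw⟩ ⟨⟨g', π'⟩, hw'⟩ h
  obtain rfl : g = g' := h
  suffices π = π' by subst this; rfl
  ext b
  have h1 := hw (e.symm (.inl (b, false)))
  have h2 := hw' (e.symm (.inl (b, false)))
  simpa [pairOfPt] using h1.symm.trans h2

omit [Finite α] [Finite β] in
theorem ker_compatSnd_sq [Subsingleton γ] (w : pairCompat e) (hw : compatSnd e w = 1) : w ^ 2 = 1 := by
  apply compatFst_injective e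
  rw [map_pow, map_one]
  ext x
  have h : ∀ y, w.1.1 y = y ∨ w.1.1 y = pairFlip e y := by
    intro y
    have := w.2 y
    rw [show w.1.2 = 1 from hw, show ((1 : Perm β) : β → β) = id from rfl, Option.map_id_fun, id] at this
    exact (pairOfPt_eq_iff e y _).1 this
  show (w.1.1 ^ 2) x = x
  rw [pow_two, Perm.mul_apply]
  rcases h x with r | r
  · rw [r, r]
  · rcases h (pairFlip e x) with r' | r'
    · have := w.1.1.injective (r.trans r'.symm)
      rw [r, r']; exact this.symm
    · rw [r, r', pairFlip_flip]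

theorem isPGroup_ker_compatSnd [Subsingleton γ] : IsPGroup 2 (compatSnd e).ker := fun w =>
  ⟨1, by rw [pow_one]; exact Subtype.ext (ker_compatSnd_sq e w.1 w.2)⟩

omit [DecidableEq α] [Finite β] in
/-- No three-cycle in a 2-group of permutations. -/
theorem not_threeCycle_mem [Fintype α] [DecidableEq α] (Q : Subgroup (Perm α)) (hQ : IsPGroup 2 Q)
    (s : Perm α) (hs : s ∈ Q) (h3 : s.IsThreeCycle) : False := by
  obtain ⟨k, hk⟩ := hQ ⟨s, hs⟩
  have h : s ^ 2 ^ k = 1 := congrArg Subtype.val hk
  have h3' : orderOf s ∣ 2 ^ k := orderOf_dvd_of_pow_eq_one h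
  rw [h3.orderOf] at h3'
  have := Nat.Prime.dvd_of_dvd_pow Nat.prime_three h3'
  norm_num at this

variable [Subsingleton γ] (P : Sylow 2 (Perm α))
  (hP : ∀ x, swap x (pairFlip e x) ∈ (P : Subgroup (Perm α)))
include hP

theorem sylow_swap_eq (x y : α) (hxy : x ≠ y) (h : swap x y ∈ (P : Subgroup (Perm α))) :
    y = pairFlip e x := by
  have := Fintype.ofFinite α
  by_contra hne
  by_cases hx : pairFlip e x = x
  · have hy : pairFlip e y ≠ y := fun hy => hxy (eq_of_fixed e hx hy)
    have hne' : pairFlip e y ≠ x := fun r => hne (by rw [← r, pairFlip_flip])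
    exact not_threeCycle_mem (P : Subgroup (Perm α)) P.isPGroup' _
      (mul_mem (by rwa [swap_comm] at h) (hP y))
      (isThreeCycle_swap_mul_swap_same hxy.symm hy.symm hne'.symm)
  · exact not_threeCycle_mem (P : Subgroup (Perm α)) P.isPGroup' _ (mul_mem h (hP x))
      (isThreeCycle_swap_mul_swap_same hxy (Ne.symm hx) hne)

theorem sylow_le_range : (P : Subgroup (Perm α)) ≤ (compatFst e).range := by
  intro g hg
  obtain ⟨π, hπ⟩ := exists_compat e g (flip_comm_of_invariant e (fun s => s ∈ (P : Subgroup (Perm α)))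
    (fun x _ => hP x) (sylow_swap_eq e P hP) g
    (fun s hs => mul_mem (mul_mem hg hs) (inv_mem hg))
    (fun s hs => mul_mem (mul_mem (inv_mem hg) hs) hg))
  exact ⟨⟨(g, π), hπ⟩, rfl⟩

/-- The core step: an element compatible with the pairing whose action on the pairs normalizes the
image of `P` lies in `P`, provided Sylow 2-subgroups of `Perm β` are self-normalizing. -/
theorem mem_sylow_of_compat
    (ih : ∀ Q : Sylow 2 (Perm β), Subgroup.normalizer ((Q : Subgroup (Perm β)) : Set (Perm β)) = Q)
    (w : pairCompat e) (hw : compatSnd e w ∈ Subgroup.normalizer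
      ((((P : Subgroup (Perm α)).comap (compatFst e)).map (compatSnd e) : Subgroup (Perm β)) : Set (Perm β))) :
    compatFst e w ∈ (P : Subgroup (Perm α)) := by
  let P' : Sylow 2 (pairCompat e) :=
    P.comapOfInjective (compatFst e) (compatFst_injective e) (sylow_le_range e P hP)
  let Q : Sylow 2 (Perm β) := P'.mapSurjective (compatSnd_surjective e)
  have hQ : compatSnd e w ∈ (Q : Subgroup (Perm β)) := by
    rw [← ih Q]; exact hw
  obtain ⟨u, hu, hue⟩ := hQ
  have hker : (compatSnd e).ker ≤ (P' : Subgroup (pairCompat e)) := by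
    have h1 : IsPGroup 2 ((P' : Subgroup (pairCompat e)) ⊔ (compatSnd e).ker : Subgroup (pairCompat e)) :=
      P'.isPGroup'.to_sup_of_normal_right (isPGroup_ker_compatSnd e)
    rw [← P'.is_maximal' h1 le_sup_left]
    exact le_sup_right
  have : w ∈ (P' : Subgroup (pairCompat e)) := by
    have h2 : w = u * (u⁻¹ * w) := by group
    rw [h2]
    exact mul_mem hu (hker (by rw [MonoidHom.mem_ker, map_mul, map_inv, hue, inv_mul_cancel]))
  exact this

theorem normalizer_sylow_of_pairing
    (ih : ∀ Q : Sylow 2 (Perm β), Subgroup.normalizer ((Q : Subgroup (Perm β)) : Set (Perm β)) = Q) :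
    Subgroup.normalizer ((P : Subgroup (Perm α)) : Set (Perm α)) = P := by
  refine le_antisymm (fun g hg => ?_) Subgroup.le_normalizer
  have hg' := Subgroup.mem_normalizer_iff.1 hg
  obtain ⟨π, hπ⟩ := exists_compat e g (flip_comm_of_invariant e (fun s => s ∈ (P : Subgroup (Perm α)))
    (fun x _ => hP x) (sylow_swap_eq e P hP) g (fun s hs => (hg' s).1 hs)
    (fun s hs => by
      have := (Subgroup.mem_normalizer_iff.1 (inv_mem hg) s).1 hs
      simpa using this))
  refine mem_sylow_of_compat e P hP ih ⟨(g, π), hπ⟩ ?_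
  apply Subgroup.le_normalizer_map
  refine ⟨⟨(g, π), hπ⟩, ?_, rfl⟩
  rw [SetLike.mem_coe, Subgroup.mem_normalizer_iff]
  intro k
  simp only [Subgroup.mem_comap, map_mul, map_inv]
  exact hg' _

end Pairs

section Alt
variable {α β γ : Type*} [DecidableEq α] [Fintype α] [Finite β] [Subsingleton γ]
variable (e : α ≃ (β × Bool) ⊕ γ) (P : Sylow 2 (Perm α))
  (hP : ∀ x, swap x (pairFlip e x) ∈ (P : Subgroup (Perm α)))
include hP

/-- Swaps normalizing the even part of `P` are pair swaps (at least three pairs). -/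
theorem even_part_swap_eq (h3 : 3 ≤ Nat.card β) (x y : α) (hxy : x ≠ y)
    (h : swap x y ∈ Subgroup.normalizer
      ((((P : Subgroup (Perm α)) ⊓ alternatingGroup α : Subgroup (Perm α))) : Set (Perm α))) :
    y = pairFlip e x := by
  have main : ∀ x y : α, x ≠ y → pairFlip e x ≠ x → y ≠ pairFlip e x → swap x y ∈ Subgroup.normalizer
      ((((P : Subgroup (Perm α)) ⊓ alternatingGroup α : Subgroup (Perm α))) : Set (Perm α)) → False := by
    intro x y hxy hx hne h
    obtain ⟨c, hc1, hc2⟩ : ∃ c : β, pairOfPt e x ≠ some c ∧ pairOfPt e y ≠ some c := by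
      classical
      have := Fintype.ofFinite β
      rw [Nat.card_eq_fintype_card] at h3
      by_contra hall
      push Not at hall
      have : (Finset.univ : Finset β).image some ⊆ {pairOfPt e x, pairOfPt e y} := by
        intro o ho
        obtain ⟨c, -, rfl⟩ := Finset.mem_image.1 ho
        by_cases hc : pairOfPt e x = some c
        · simp [hc]
        · simp [hall c hc]
      have hcard := Finset.card_le_card this
      rw [Finset.card_image_of_injective _ (Option.some_injective β), Finset.card_univ] at hcard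
      have := hcard.trans Finset.card_le_two
      omega
    set a := e.symm (.inl (c, false)) with ha
    have hpa : pairOfPt e a = some c := by simp [a, pairOfPt]
    have hpb : pairOfPt e (pairFlip e a) = some c := by
      rw [← hpa, pairOfPt_eq_iff]; exact Or.inr rfl
    have hab : a ≠ pairFlip e a := fun r => by simp [(pairOfPt_eq_none_iff e a).2 r.symm] at hpa
    have hax : a ≠ x := fun r => hc1 (r ▸ hpa)
    have hay : a ≠ y := fun r => hc2 (r ▸ hpa)
    have hbx : pairFlip e a ≠ x := fun r => hc1 (r ▸ hpb)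
    have hby : pairFlip e a ≠ y := fun r => hc2 (r ▸ hpb)
    set s := swap a (pairFlip e a) with hs
    have hu : swap x (pairFlip e x) * s ∈ (P : Subgroup (Perm α)) ⊓ alternatingGroup α := by
      refine ⟨mul_mem (hP x) (hP a), ?_⟩
      show sign (swap x (pairFlip e x) * s) = 1
      rw [Perm.sign_mul, sign_swap (Ne.symm hx), sign_swap hab]; rfl
    have hv := (Subgroup.mem_normalizer_iff.1 h _).1 hu
    have hcalc : swap x y * (swap x (pairFlip e x) * s) * (swap x y)⁻¹ =
        swap y (pairFlip e x) * s := by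
      rw [show swap x y * (swap x (pairFlip e x) * s) * (swap x y)⁻¹ =
        (swap x y * swap x (pairFlip e x) * (swap x y)⁻¹) * (swap x y * s * (swap x y)⁻¹) by group]
      rw [← Equiv.swap_apply_apply, hs, ← Equiv.swap_apply_apply]
      rw [swap_apply_left, swap_apply_of_ne_of_ne hx (Ne.symm hne),
        swap_apply_of_ne_of_ne hax hay, swap_apply_of_ne_of_ne hbx hby]
    rw [hcalc] at hv
    have hprod : swap x (pairFlip e x) * s * (swap y (pairFlip e x) * s)⁻¹ =
        swap (pairFlip e x) x * swap (pairFlip e x) y := by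
      rw [mul_inv_rev, swap_inv y, ← mul_assoc, mul_assoc _ s, mul_inv_cancel, mul_one,
        swap_comm x, swap_comm y]
    have hmem := mul_mem hu (inv_mem hv)
    rw [hprod] at hmem
    exact not_threeCycle_mem (P : Subgroup (Perm α)) P.isPGroup' _ hmem.1
      (isThreeCycle_swap_mul_swap_same hx (Ne.symm hne) hxy)
  by_contra hne
  by_cases hx : pairFlip e x = x
  · have hy : pairFlip e y ≠ y := fun hy => hxy (eq_of_fixed e hx hy)
    exact main y x hxy.symm hy (fun r => hne (by rw [r, pairFlip_flip])) (by rwa [swap_comm] at h)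
  · exact main x y hxy hx hne h

theorem normalizer_even_part_of_pairing (h3 : 3 ≤ Nat.card β)
    (ih : ∀ Q : Sylow 2 (Perm β), Subgroup.normalizer ((Q : Subgroup (Perm β)) : Set (Perm β)) = Q)
    (g : Perm α) (hga : g ∈ alternatingGroup α) (hg : g ∈ Subgroup.normalizer
      ((((P : Subgroup (Perm α)) ⊓ alternatingGroup α : Subgroup (Perm α))) : Set (Perm α))) :
    g ∈ (P : Subgroup (Perm α)) ⊓ alternatingGroup α := by
  refine ⟨?_, hga⟩
  set T := (P : Subgroup (Perm α)) ⊓ alternatingGroup α with hT
  have hPN : (P : Subgroup (Perm α)) ≤ Subgroup.normalizer (T : Set (Perm α)) := by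
    intro p hp
    rw [Subgroup.mem_normalizer_iff]
    intro k
    have e1 : p * k * p⁻¹ ∈ alternatingGroup α ↔ k ∈ alternatingGroup α := by
      show sign (p * k * p⁻¹) = 1 ↔ sign k = 1
      rw [Perm.sign_mul, Perm.sign_mul, Perm.sign_inv, mul_comm (sign p), mul_assoc, Int.units_mul_self, mul_one]
    have e2 : p * k * p⁻¹ ∈ (P : Subgroup (Perm α)) ↔ k ∈ (P : Subgroup (Perm α)) := by
      rw [Subgroup.mul_mem_cancel_right _ (inv_mem hp), Subgroup.mul_mem_cancel_left _ hp]
    rw [hT, Subgroup.mem_inf, Subgroup.mem_inf, e1, e2]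
  obtain ⟨π, hπ⟩ := exists_compat e g (flip_comm_of_invariant e
    (fun s => s ∈ Subgroup.normalizer (T : Set (Perm α)))
    (fun x _ => hPN (hP x)) (even_part_swap_eq e P hP h3) g
    (fun s hs => mul_mem (mul_mem hg hs) (inv_mem hg))
    (fun s hs => mul_mem (mul_mem (inv_mem hg) hs) hg))
  refine mem_sylow_of_compat e P hP ih ⟨(g, π), hπ⟩ ?_
  have hmap : ((P : Subgroup (Perm α)).comap (compatFst e)).map (compatSnd e) =
      (T.comap (compatFst e)).map (compatSnd e) := by
    refine le_antisymm ?_ (Subgroup.map_mono (Subgroup.comap_mono inf_le_left))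
    rintro _ ⟨w, hw, rfl⟩
    rcases Int.units_eq_one_or (sign (compatFst e w)) with hs | hs
    · exact ⟨w, ⟨hw, hs⟩, rfl⟩
    · obtain ⟨b⟩ : Nonempty β := (Nat.card_pos_iff.1 (by omega)).1
      set a := e.symm (.inl (b, false)) with ha
      have hab : a ≠ pairFlip e a := fun r => by
        simpa [a, pairOfPt] using (pairOfPt_eq_none_iff e a).2 r.symm
      refine ⟨w * ⟨_, swap_pair_mem e a⟩, ⟨?_, ?_⟩, ?_⟩
      · exact mul_mem hw (hP a)
      · show sign (compatFst e w * swap a (pairFlip e a)) = 1
        rw [Perm.sign_mul, hs, sign_swap hab]; rfl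
      · rw [map_mul]; exact mul_one _
  rw [hmap]
  apply Subgroup.le_normalizer_map
  refine ⟨⟨(g, π), hπ⟩, ?_, rfl⟩
  rw [SetLike.mem_coe, Subgroup.mem_normalizer_iff]
  intro k
  simp only [Subgroup.mem_comap, map_mul, map_inv]
  exact Subgroup.mem_normalizer_iff.1 hg _

end Alt

/-- Every Sylow 2-subgroup of `Sym n` contains the swaps of some pairing of the points. -/
theorem exists_pairing (n : ℕ) (P : Sylow 2 (Perm (Fin n))) :
    ∃ e : Fin n ≃ (Fin (n / 2) × Bool) ⊕ Fin (n % 2),
      ∀ x, swap x (pairFlip e x) ∈ (P : Subgroup (Perm (Fin n))) := by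
  have : Subsingleton (Fin (n % 2)) := Fin.subsingleton_iff_le_one.2 (by omega)
  let e₀ : Fin n ≃ (Fin (n / 2) × Bool) ⊕ Fin (n % 2) := Fintype.equivOfCardEq (by simp; omega)
  have hE : IsPGroup 2 ((compatSnd e₀).ker.map (compatFst e₀)) := (isPGroup_ker_compatSnd e₀).map _
  obtain ⟨P₀, hP₀⟩ := hE.exists_le_sylow
  obtain ⟨c, hc⟩ := MulAction.exists_smul_eq (Perm (Fin n)) P₀ P
  refine ⟨(c.symm : Fin n ≃ Fin n).trans e₀, fun x => ?_⟩
  have h0 : swap (c.symm x) (pairFlip e₀ (c.symm x)) ∈ (P₀ : Subgroup (Perm (Fin n))) :=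
    hP₀ ⟨⟨_, swap_pair_mem e₀ (c.symm x)⟩, rfl, rfl⟩
  rw [← hc]
  refine ⟨_, h0, ?_⟩
  show c * swap (c.symm x) (pairFlip e₀ (c.symm x)) * c⁻¹ = _
  rw [← Equiv.swap_apply_apply, Equiv.apply_symm_apply]
  rfl

/-- Sylow 2-subgroups of symmetric groups are self-normalizing. -/
theorem normalizer_sylow_two_perm (n : ℕ) (P : Sylow 2 (Perm (Fin n))) :
    Subgroup.normalizer ((P : Subgroup (Perm (Fin n))) : Set (Perm (Fin n))) = P := by
  induction n using Nat.strong_induction_on with
  | _ n ih =>
    by_cases hn : n ≤ 1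
    · have : Subsingleton (Fin n) := Fin.subsingleton_iff_le_one.2 hn
      exact Subsingleton.elim _ _
    · have : Subsingleton (Fin (n % 2)) := Fin.subsingleton_iff_le_one.2 (by omega)
      obtain ⟨e, he⟩ := exists_pairing n P
      exact normalizer_sylow_of_pairing e P he (ih (n / 2) (by omega))

/-- Sylow 2-subgroups of alternating groups of degree at least 6 are self-normalizing. -/
theorem normalizer_sylow_two_alternating (n : ℕ) (hn : 6 ≤ n) (S : Sylow 2 (alternatingGroup (Fin n))) :
    Subgroup.normalizer ((S : Subgroup (alternatingGroup (Fin n))) : Set (alternatingGroup (Fin n))) = S := by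
  refine le_antisymm (fun g hg => ?_) Subgroup.le_normalizer
  obtain ⟨P, hP⟩ := (S.isPGroup'.map (alternatingGroup (Fin n)).subtype).exists_le_sylow
  have hS : (S : Subgroup (alternatingGroup (Fin n))) =
      (P : Subgroup (Perm (Fin n))).subgroupOf (alternatingGroup (Fin n)) := by
    refine (S.is_maximal' (P.isPGroup'.comap_of_injective _ (Subgroup.subtype_injective _)) ?_).symm
    exact fun x hx => hP ⟨x, hx, rfl⟩
  have : Subsingleton (Fin (n % 2)) := Fin.subsingleton_iff_le_one.2 (by omega)
  obtain ⟨e, he⟩ := exists_pairing n P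
  rw [hS] at hg ⊢
  refine (normalizer_even_part_of_pairing e P he (by simp; omega) (normalizer_sylow_two_perm _) g g.2 ?_).1
  rw [Subgroup.mem_normalizer_iff] at hg ⊢
  intro k
  constructor
  · rintro ⟨hk, hka⟩
    exact ⟨(hg ⟨k, hka⟩).1 hk, (alternatingGroup (Fin n)).mul_mem ((alternatingGroup (Fin n)).mul_mem g.2 hka) ((alternatingGroup (Fin n)).inv_mem g.2)⟩
  · rintro ⟨hk, hka⟩
    have hka' : k ∈ alternatingGroup (Fin n) :=
      (Subgroup.mul_mem_cancel_left _ g.2).1 ((Subgroup.mul_mem_cancel_right _ (inv_mem g.2)).1 hka)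
    exact ⟨(hg ⟨k, hka'⟩).2 hk, hka'⟩

end Cfsg.Agent.Perm
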