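import Mathlib

/-!
# The fixed-point formula for a four-group acting on a group of odd order

No solubility is needed: in a group of odd order square roots are unique.
-/

set_option autoImplicit false

namespace Cfsg.Agent.Perm.FourGroup

variable {H : Type*} [Group H] [Finite H] (hodd : Odd (Nat.card H))

/-- The square root. -/
noncomputable def sqrt' (H : Type*) [Group H] (x : H) : H := x ^ ((Nat.card H + 1) / 2)

include hodd

theorem sqrt_mul_self (x : H) : sqrt' H x * sqrt' H x = x := by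
  rw [Nat.odd_iff] at hodd
  rw [sqrt', ← pow_add, show (Nat.card H + 1) / 2 + (Nat.card H + 1) / 2 = Nat.card H + 1 by omega,
    pow_succ, pow_card_eq_one', one_mul]

theorem eq_sqrt {u x : H} (h : u * u = x) : u = sqrt' H x := by
  rw [Nat.odd_iff] at hodd
  rw [sqrt', ← h, ← pow_two, ← pow_mul, show 2 * ((Nat.card H + 1) / 2) = Nat.card H + 1 by omega,
    pow_succ, pow_card_eq_one', one_mul]

theorem sq_inj {u v : H} (h : u * u = v * v) : u = v := by
  rw [eq_sqrt hodd h, ← eq_sqrt hodd rfl]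

omit [Finite H] hodd in
theorem map_sqrt (f : H ≃* H) (x : H) : f (sqrt' H x) = sqrt' H (f x) := map_pow f _ _

omit [Finite H] hodd in
theorem sqrt_inv (x : H) : sqrt' H x⁻¹ = (sqrt' H x)⁻¹ := inv_pow _ _

variable (σ τ : H ≃* H)

/-- Every element is uniquely a fixed element times an inverted one; relative version. -/
theorem card_split (hσ : ∀ h, σ (σ h) = h) (P : H → Prop) (hPm : ∀ a b, P a → P b → P (a * b))
    (hPi : ∀ a, P a → P a⁻¹) (hPs : ∀ a, P a → P (σ a)) (hP1 : P 1) :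
    Nat.card {h : H // P h} =
      Nat.card {c : H // P c ∧ σ c = c} * Nat.card {x : H // P x ∧ σ x = x⁻¹} := by
  rw [← Nat.card_prod]
  have hPp : ∀ a, P a → ∀ k : ℕ, P (a ^ k) := by
    intro a ha k
    induction k with
    | zero => simpa using hP1
    | succ k ih => rw [pow_succ]; exact hPm _ _ ih ha
  let f : {c : H // P c ∧ σ c = c} × {x : H // P x ∧ σ x = x⁻¹} → {h : H // P h} :=
    fun p => ⟨p.1 * p.2, hPm _ _ p.1.2.1 p.2.2.1⟩
  refine (Nat.card_eq_of_bijective f ⟨?_, ?_⟩).symm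
  · rintro ⟨⟨c, hc, hcσ⟩, x, hx, hxσ⟩ ⟨⟨c', hc', hcσ'⟩, x', hx', hxσ'⟩ e
    have e1 : c * x = c' * x' := congrArg Subtype.val e
    have key : ∀ c x : H, σ c = c → σ x = x⁻¹ → (σ (c * x))⁻¹ * (c * x) = x * x := by
      intro c x hc hx
      rw [map_mul, hc, hx]; group
    have hxx : x = x' := sq_inj hodd (by rw [← key c x hcσ hxσ, e1, key c' x' hcσ' hxσ'])
    subst hxx
    obtain rfl := mul_right_cancel e1
    rfl
  · rintro ⟨h, hh⟩
    set x := sqrt' H ((σ h)⁻¹ * h) with hx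
    have hxP : P x := hPp _ (hPm _ _ (hPi _ (hPs h hh)) hh) _
    have hxσ : σ x = x⁻¹ := by
      rw [hx, map_sqrt, map_mul, map_inv, hσ, ← sqrt_inv, mul_inv_rev, inv_inv]
    refine ⟨(⟨h * x⁻¹, hPm _ _ hh (hPi _ hxP), ?_⟩, ⟨x, hxP, hxσ⟩), Subtype.ext ?_⟩
    · rw [map_mul, map_inv, hxσ, inv_inv]
      have h2 : x * x = (σ h)⁻¹ * h := sqrt_mul_self hodd _
      calc σ h * x = σ h * (x * x) * x⁻¹ := by group
        _ = h * x⁻¹ := by rw [h2]; group
    · show h * x⁻¹ * x = h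
      group

/-- The elements inverted by `σ` split along `τ`. -/
theorem card_inverted (hσ : ∀ h, σ (σ h) = h) (hτ : ∀ h, τ (τ h) = h)
    (hc : ∀ h, σ (τ h) = τ (σ h)) :
    Nat.card {x : H // σ x = x⁻¹} =
      Nat.card {c : H // τ c = c ∧ σ c = c⁻¹} * Nat.card {t : H // τ t = t⁻¹ ∧ σ t = t⁻¹} := by
  rw [← Nat.card_prod]
  let f : {c : H // τ c = c ∧ σ c = c⁻¹} × {t : H // τ t = t⁻¹ ∧ σ t = t⁻¹} →
      {x : H // σ x = x⁻¹} := fun p => ⟨p.2 * p.1 * p.2, by
    rw [map_mul, map_mul, p.2.2.2, p.1.2.2]; group⟩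
  have huniq : ∀ x q q' : H, q * x * q = q' * x * q' → q = q' := by
    intro x q q' e
    set r := sqrt' H x with hr
    have hr2 : r * r = x := sqrt_mul_self hodd x
    refine mul_left_cancel (a := r) (mul_right_cancel (b := r) (sq_inj hodd ?_))
    calc r * q * r * (r * q * r) = r * (q * (r * r) * q) * r := by group
      _ = r * (q' * (r * r) * q') * r := by rw [hr2, e]
      _ = r * q' * r * (r * q' * r) := by group
  refine (Nat.card_eq_of_bijective f ⟨?_, ?_⟩).symm
  · rintro ⟨⟨c, hcτ, hcσ⟩, t, htτ, htσ⟩ ⟨⟨c', hcτ', hcσ'⟩, t', htτ', htσ'⟩ e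
    have e1 : t * c * t = t' * c' * t' := congrArg Subtype.val e
    have key : ∀ c t : H, τ c = c → τ t = t⁻¹ →
        (t * t)⁻¹ * (t * c * t) * (t * t)⁻¹ = τ (t * c * t) := by
      intro c t hc ht
      rw [map_mul, map_mul, hc, ht]; group
    have h1 := huniq (t * c * t) (t * t)⁻¹ (t' * t')⁻¹
      ((key c t hcτ htτ).trans (by rw [e1, key c' t' hcτ' htτ']))
    obtain rfl := sq_inj hodd (inv_injective h1)
    obtain rfl := mul_left_cancel (mul_right_cancel e1)
    rfl
  · rintro ⟨x, hx⟩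
    set r := sqrt' H x with hr
    have hr2 : r * r = x := sqrt_mul_self hodd x
    set q := r⁻¹ * sqrt' H (r * τ x * r) * r⁻¹ with hq
    have hqx : q * x * q = τ x := by
      rw [hq, ← hr2]
      calc r⁻¹ * sqrt' H (r * τ (r * r) * r) * r⁻¹ * (r * r) *
            (r⁻¹ * sqrt' H (r * τ (r * r) * r) * r⁻¹)
          = r⁻¹ * (sqrt' H (r * τ (r * r) * r) * sqrt' H (r * τ (r * r) * r)) * r⁻¹ := by group
        _ = τ (r * r) := by rw [sqrt_mul_self hodd]; group
    have hqσ : σ q = q⁻¹ := by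
      refine inv_injective ?_
      rw [inv_inv]
      refine huniq x _ _ ?_
      have h := congrArg (fun g => (σ g)⁻¹) hqx
      simp only [map_mul, hx, mul_inv_rev, inv_inv, hc, map_inv] at h
      rw [hqx, ← h]
      group
    have hqτ : τ q = q⁻¹ := by
      refine inv_injective ?_
      rw [inv_inv]
      refine huniq x _ _ ?_
      have h := congrArg τ hqx
      rw [map_mul, map_mul, hτ] at h
      rw [hqx]
      calc (τ q)⁻¹ * x * (τ q)⁻¹ = (τ q)⁻¹ * (τ q * τ x * τ q) * (τ q)⁻¹ := by rw [h]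
        _ = τ x := by group
    set t := (sqrt' H q)⁻¹ with ht
    have htt : t * t = q⁻¹ := by rw [ht, ← mul_inv_rev, sqrt_mul_self hodd]
    have htτ : τ t = t⁻¹ := by rw [ht, map_inv, map_sqrt, hqτ, sqrt_inv]
    have htσ : σ t = t⁻¹ := by rw [ht, map_inv, map_sqrt, hqσ, sqrt_inv]
    refine ⟨(⟨t⁻¹ * x * t⁻¹, ?_, ?_⟩, ⟨t, htτ, htσ⟩), Subtype.ext ?_⟩
    · rw [map_mul, map_mul, map_inv, htτ, inv_inv, ← hqx]
      calc t * (q * x * q) * t = t⁻¹ * ((t * t) * q) * x * (q * (t * t)) * t⁻¹ := by group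
        _ = t⁻¹ * x * t⁻¹ := by rw [htt]; group
    · rw [map_mul, map_mul, map_inv, htσ, hx]; group
    · show t * (t⁻¹ * x * t⁻¹) * t = x
      group

/-- **Brauer's formula** for a four-group acting on a group of odd order. -/
theorem card_formula (hσ : ∀ h, σ (σ h) = h) (hτ : ∀ h, τ (τ h) = h)
    (hc : ∀ h, σ (τ h) = τ (σ h)) :
    Nat.card H * Nat.card {h : H // σ h = h ∧ τ h = h} ^ 2 =
      Nat.card {h : H // σ h = h} * Nat.card {h : H // τ h = h} *
        Nat.card {h : H // σ (τ h) = h} := by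
  have hH := card_split hodd σ hσ (fun _ => True) (fun _ _ _ _ => trivial) (fun _ _ => trivial)
    (fun _ _ => trivial) trivial
  rw [Nat.card_congr (Equiv.subtypeUnivEquiv (α := H) (fun _ => trivial))] at hH
  have hT := card_split hodd σ hσ (fun h => τ h = h) (fun a b ha hb => by rw [map_mul, ha, hb])
    (fun a ha => by rw [map_inv, ha]) (fun a ha => by rw [← hc, ha]) (map_one τ)
  have hW := card_split hodd σ hσ (fun h => σ (τ h) = h)
    (fun a b ha hb => by rw [map_mul, map_mul, ha, hb])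
    (fun a ha => by rw [map_inv, map_inv, ha]) (fun a ha => by rw [← hc a, ha])
    (by rw [map_one, map_one])
  have e2 : Nat.card {c : H // σ (τ c) = c ∧ σ c = c} = Nat.card {h : H // σ h = h ∧ τ h = h} :=
    Nat.card_congr (Equiv.subtypeEquivRight fun h => ⟨fun ⟨h1, h2⟩ => ⟨h2, σ.injective (h1.trans h2.symm)⟩,
      fun ⟨h1, h2⟩ => ⟨by rw [h2, h1], h1⟩⟩)
  have e1 : Nat.card {c : H // τ c = c ∧ σ c = c} = Nat.card {h : H // σ h = h ∧ τ h = h} :=
    Nat.card_congr (Equiv.subtypeEquivRight fun h => and_comm)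
  have e3 : Nat.card {x : H // σ (τ x) = x ∧ σ x = x⁻¹} =
      Nat.card {t : H // τ t = t⁻¹ ∧ σ t = t⁻¹} :=
    Nat.card_congr (Equiv.subtypeEquivRight fun h => ⟨fun ⟨h1, h2⟩ =>
      ⟨σ.injective (by rw [h1, map_inv, h2, inv_inv]), h2⟩,
      fun ⟨h1, h2⟩ => ⟨by rw [h1, map_inv, h2, inv_inv], h2⟩⟩)
  have e4 : Nat.card {x : H // True ∧ σ x = x⁻¹} = Nat.card {x : H // σ x = x⁻¹} :=
    Nat.card_congr (Equiv.subtypeEquivRight fun h => by simp)
  have e5 : Nat.card {x : H // True ∧ σ x = x} = Nat.card {x : H // σ x = x} :=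
    Nat.card_congr (Equiv.subtypeEquivRight fun h => by simp)
  rw [e4, e5, card_inverted hodd σ τ hσ hτ hc] at hH
  rw [e1] at hT
  rw [e2, e3] at hW
  rw [hH, hT, hW]
  ring

end Cfsg.Agent.Perm.FourGroup
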