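import Mathlib
import Cfsg.Agent.Lib.Perm.SharplyEvenStab
import Cfsg.Agent.Lib.Perm.Coords
import Cfsg.Agent.Lib.Perm.Mobius

/-!
# Sharply 3-transitive groups of degree `q + 1`, `q = p ^ f` odd with `f` odd

The two-point stabiliser is commutative, hence cyclic, and the group is `PGL_2`.
-/

set_option autoImplicit false
set_option linter.style.haveILetI false
set_option linter.unusedSectionVars false

namespace Cfsg.Agent.Perm

open MulAction Finset

variable {G α : Type*} [Group G] [MulAction G α] [FaithfulSMul G α] [Fintype α]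
variable (h3 : IsMultiplyPretransitive G α 3) (hsharp : ∀ x : Fin 3 ↪ α, stabilizer G x = ⊥)
include h3 hsharp

/-- The orbit of a non-trivial element of the kernel under the two-point stabiliser. -/
theorem card_le_of_invariant [Finite G] {a b : α} (hab : a ≠ b) {K L : Subgroup G}
    (hKa : ∀ k ∈ K, k • a = a) (hinj : ∀ k ∈ K, ∀ k' ∈ K, k • b = k' • b → k = k') (hL : L ≤ K)
    (hne : L ≠ ⊥) {D : Subgroup G} (hD : D ≤ stabilizer G a ⊓ stabilizer G b)
    (hLinv : ∀ h ∈ D, ∀ l ∈ L, h * l * h⁻¹ ∈ L) : Nat.card D + 1 ≤ Nat.card L := by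
  obtain ⟨l, hl, hl1⟩ := L.bot_or_exists_ne_one.resolve_left hne
  have hlb : l • b ≠ b := fun e => hl1 (hinj l (hL hl) 1 K.one_mem (e.trans (one_smul G b).symm))
  have hla : l • b ≠ a := fun h => hab.symm (smul_left_cancel _ (h.trans (hKa l (hL hl)).symm))
  haveI := Fintype.ofFinite L
  haveI := Fintype.ofFinite D
  classical
  let f : D → L := fun h => ⟨(h : G) * l * (h : G)⁻¹, hLinv h h.2 l hl⟩
  have hf : Function.Injective f := by
    intro h h' e
    have e' : ((h : G) * l * (h : G)⁻¹) • b = ((h' : G) * l * (h' : G)⁻¹) • b :=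
      congrArg (fun u : L => (u : G) • b) e
    have hha : (h : G) • a = a := (hD h.2).1
    have hhb : (h : G) • b = b := (hD h.2).2
    have hha' : (h' : G) • a = a := (hD h'.2).1
    have hhb' : (h' : G) • b = b := (hD h'.2).2
    simp only [mul_smul, inv_smul_eq_iff.2 hhb.symm, inv_smul_eq_iff.2 hhb'.symm] at e'
    refine Subtype.ext (inv_mul_eq_one.1 (eq_one_of_fixes_three hsharp hab hla.symm hlb.symm ?_ ?_ ?_)).symm
    · rw [mul_smul, hha, inv_smul_eq_iff, hha']
    · rw [mul_smul, hhb, inv_smul_eq_iff, hhb']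
    · rw [mul_smul, e', inv_smul_smul]
  have hc : (insert (1 : L) (univ.image f)).card = Fintype.card D + 1 := by
    rw [card_insert_of_notMem, card_image_of_injective _ hf, card_univ]
    intro h1
    obtain ⟨h, -, hh⟩ := mem_image.1 h1
    exact hl1 (by simpa [f] using congrArg Subtype.val hh)
  rw [Nat.card_eq_fintype_card, Nat.card_eq_fintype_card, ← hc, ← card_univ]
  exact card_le_card (subset_univ _)

/-- A commutative two-point stabiliser gives `PGL_2`. -/
theorem pgl_of_sharply_three_comm (heven : Even (Fintype.card α)) {a b : α} (hab : a ≠ b)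
    (hDc : ∀ h h' : G, h • a = a → h • b = b → h' • a = a → h' • b = b → h * h' = h' * h) :
    ∃ (F : Type) (_ : Field F) (_ : Fintype F), Fintype.card α = Fintype.card F + 1 ∧
      Nonempty (G ≃* Matrix.ProjGenLinGroup (Fin 2) F) ∨ Fintype.card α < 4 := by
  classical
  by_cases h4 : 4 ≤ Fintype.card α
  swap
  · exact ⟨ZMod 2, inferInstance, inferInstance, Or.inr (by omega)⟩
  obtain ⟨e, hea, heb⟩ : ∃ e, e ≠ a ∧ e ≠ b := by
    obtain ⟨c, -, hc⟩ := exists_mem_notMem_of_card_lt_card (s := ({a, b} : Finset α)) (t := univ)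
      (by rw [card_pair hab, card_univ]; omega)
    simp at hc; exact ⟨c, hc⟩
  have : Finite G := finite_of_sharply_three h3 hsharp hab hea.symm heb.symm
  haveI := Fintype.ofFinite G
  have hcardD := card_twoStab_of_sharply h3 hsharp hab hea.symm heb.symm
  obtain ⟨K, hKa, hreg, hKc, hnorm⟩ :=
    exists_kernel_of_sharply_three h3 hsharp hab.symm hea heb.symm
  have hinj : ∀ k ∈ K, ∀ k' ∈ K, k • b = k' • b → k = k' := by
    intro k hk k' hk' e
    have hne : k' • b ≠ a := fun h => hab.symm (smul_left_cancel _ (h.trans (hKa _ hk').symm))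
    exact congrArg Subtype.val ((hreg _ hne).unique (y₁ := ⟨k, hk⟩) (y₂ := ⟨k', hk'⟩) e rfl)
  obtain ⟨F, _, _, pt, hpa, hpb, hpe, hT, hM⟩ := Coords.exists_coords hab.symm heb hea K hKa hreg hKc
    (fun h ha _ => hnorm h ha) hDc (by
      intro L hL hLinv
      refine (em (L = ⊥)).imp id fun hne => ?_
      have h1 := card_le_of_invariant h3 hsharp hab hKa hinj hL hne
        (D := stabilizer G a ⊓ stabilizer G b) le_rfl (fun h hh => hLinv h hh.1 hh.2)
      refine Subgroup.eq_of_le_of_card_ge hL ?_
      have hKcard : Nat.card K = Nat.card {x : α // x ≠ a} :=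
        Nat.card_congr (Equiv.ofBijective (fun k : K => (⟨(k : G) • b, fun h =>
          hab.symm (smul_left_cancel _ (h.trans (hKa _ k.2).symm))⟩ : {x : α // x ≠ a}))
          ⟨fun k k' h => Subtype.ext (hinj k k.2 k' k'.2 (congrArg Subtype.val h)),
            fun x => let ⟨v, hv, _⟩ := hreg x.1 x.2; ⟨v, Subtype.ext hv⟩⟩)
      rw [Nat.card_eq_fintype_card (α := {x : α // x ≠ a}), Fintype.card_subtype_compl,
        Fintype.card_subtype_eq] at hKcard
      omega)
  have hcardF : Fintype.card α = Fintype.card F + 1 := by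
    rw [← Fintype.card_option]; exact (Fintype.card_congr pt).symm
  refine ⟨F, inferInstance, inferInstance, Or.inl ⟨hcardF, ?_⟩⟩
  have hsome : ∀ {x y : F}, pt (some x) = pt (some y) → x = y := fun h =>
    Option.some_injective _ (pt.injective h)
  -- every non-zero scalar is a multiplier
  have hMall : ∀ m : F, m ≠ 0 →
      ∃ h : G, h • a = a ∧ h • b = b ∧ ∀ x, h • pt (some x) = pt (some (m * x)) := by
    intro m hm
    obtain ⟨h, hha, hhb, hhe⟩ := exists_smul_eq_three h3 hab hea.symm heb.symm hab
      (show a ≠ pt (some m) by rw [← hpa]; exact fun e => by simpa using pt.injective e)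
      (show b ≠ pt (some m) by rw [← hpb]; exact fun e => hm (hsome e).symm)
    obtain ⟨m', -, hmx⟩ := hM h hha hhb
    have h1 := hmx 1
    rw [hpe, hhe, mul_one] at h1
    rw [hsome h1]
    exact ⟨h, hha, hhb, hmx⟩
  -- the element exchanging `a` and `b` and fixing `e`
  obtain ⟨s, hsa, hsb, hse⟩ :=
    exists_smul_eq_three h3 hab hea.symm heb.symm hab.symm heb.symm hea.symm
  have hss : s * s = 1 := eq_one_of_fixes_three hsharp hab hea.symm heb.symm
    (by rw [mul_smul, hsa, hsb]) (by rw [mul_smul, hsb, hsa]) (by rw [mul_smul, hse, hse])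
  have hs1 : s ≠ 1 := fun e => hab (by rw [← hsa, e, one_smul])
  have hS : ∀ x : F, x ≠ 0 → ∃ y : F, y ≠ 0 ∧ s • pt (some x) = pt (some y) := by
    intro x hx
    rcases hy : pt.symm (s • pt (some x)) with _ | y
    · exfalso
      have h1 : s • pt (some x) = a := by rw [← hpa, ← hy, Equiv.apply_symm_apply]
      rw [← hsb, ← hpb] at h1
      exact hx (hsome (smul_left_cancel s h1))
    · refine ⟨y, fun h0 => ?_, by rw [← hy, Equiv.apply_symm_apply]⟩
      have h1 : s • pt (some x) = b := by rw [← hpb, ← h0, ← hy, Equiv.apply_symm_apply]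
      rw [← hsa, ← hpa] at h1
      exact absurd (pt.injective (smul_left_cancel s h1)) (by simp)
  choose S hS0 hSs using hS
  have hSmul : ∀ x y (hx : x ≠ 0) (hy : y ≠ 0),
      S (x * y) (mul_ne_zero hx hy) = S x hx * S y hy := by
    intro x y hx hy
    obtain ⟨h, hha, hhb, hh⟩ := hMall x hx
    have hc : ∃ m, m ≠ 0 ∧ ∀ z, (s * h * s) • pt (some z) = pt (some (m * z)) :=
      hM _ (by rw [mul_smul, mul_smul, hsa, hhb, hsb]) (by rw [mul_smul, mul_smul, hsb, hha, hsa])
    obtain ⟨m, -, hm⟩ := hc
    have key : ∀ z (hz : z ≠ 0), S (x * z) (mul_ne_zero hx hz) = m * S z hz := by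
      intro z hz
      apply hsome
      rw [← hSs _ (mul_ne_zero hx hz), ← hh, ← hm, ← hSs z hz, mul_smul, mul_smul, ← mul_smul s s,
        hss, one_smul]
    have hone : S 1 one_ne_zero = 1 := hsome (by rw [← hSs, hpe, hse])
    have h1 := key 1 one_ne_zero
    simp only [mul_one, hone] at h1
    rw [key y hy, h1]
  have hS2 : ∀ x (hx : x ≠ 0), S (S x hx) (hS0 x hx) = x := fun x hx =>
    hsome (by rw [← hSs, ← hSs, ← mul_smul, hss, one_smul])
  have hS1 : S 1 one_ne_zero = 1 := hsome (by rw [← hSs, hpe, hse])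
  have hneg1 : S (-1) (by norm_num) = -1 := by
    have h1 : S (-1) (by norm_num) * S (-1) (by norm_num) = 1 := by
      rw [← hSmul]; simp only [mul_neg, mul_one, neg_neg, hS1]
    rcases mul_self_eq_one_iff.1 h1 with h | h
    · have := hS2 (-1) (by norm_num)
      simp only [h, hS1] at this
      exact h.trans this
    · exact h
  have hfix : ∀ x (hx : x ≠ 0), S x hx = x → x = 1 ∨ x = -1 := by
    intro x hx hxS
    by_contra hcon
    rw [not_or] at hcon
    by_cases hm1 : (-1 : F) = 1
    · have : Fintype.card F % 2 = 0 := FiniteField.even_card_iff_char_two.1 (by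
        by_contra hne
        exact Ring.neg_one_ne_one_of_char_ne_two hne hm1)
      rw [hcardF, Nat.even_iff] at heven
      omega
    refine hs1 (eq_one_of_fixes_three hsharp (a := pt (some x)) (b := pt (some 1))
      (c := pt (some (-1))) ?_ ?_ ?_ ?_ ?_ ?_)
    · exact fun e => hcon.1 (hsome e)
    · exact fun e => hcon.2 (hsome e)
    · exact fun e => hm1 (hsome e).symm
    · rw [hSs x hx, hxS]
    · rw [hSs 1 one_ne_zero, hS1]
    · rw [hSs (-1) (by norm_num), hneg1]
  -- `x * S x` is `1` or `-1`
  let T : F → F := fun x => if hx : x = 0 then 0 else x * S x hx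
  have hTval : ∀ x (hx : x ≠ 0), T x = x * S x hx := fun x hx => dif_neg hx
  have hTmul : ∀ x y, x ≠ 0 → y ≠ 0 → T (x * y) = T x * T y := by
    intro x y hx hy
    rw [hTval _ (mul_ne_zero hx hy), hTval x hx, hTval y hy, hSmul x y hx hy]
    ring
  have hTpm : ∀ x, x ≠ 0 → T x = 1 ∨ T x = -1 := by
    intro x hx
    rw [hTval x hx]
    refine hfix _ (mul_ne_zero hx (hS0 x hx)) ?_
    rw [hSmul x _ hx (hS0 x hx), hS2 x hx, mul_comm]
  have hSform : ∀ x (hx : x ≠ 0), s • pt (some x) = pt (some (T x / x)) := fun x hx => by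
    rw [hTval x hx, mul_div_cancel_left₀ _ hx, hSs]
  have hT1 : ∀ x, x ≠ 0 → T x = 1 := by
    by_contra hcon
    push Not at hcon
    obtain ⟨ν, hν0, hν⟩ := hcon
    have h2F : (-1 : F) ≠ 1 := fun h => hν (by
      rcases hTpm ν hν0 with h' | h'
      · exact h'
      · rw [h', h])
    have hTm1 : T (-1) = 1 := by
      rw [hTval _ (by norm_num), hneg1]; norm_num
    let M : Finset F := univ.filter fun x => x ≠ 0 ∧ T x = 1
    -- there is `y` with `T y = 1` and `T (y + 1) = -1`
    obtain ⟨y, hy0, hy, hy10, hy1⟩ : ∃ y, y ≠ 0 ∧ T y = 1 ∧ y + 1 ≠ 0 ∧ T (y + 1) = -1 := by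
      by_contra hno
      push Not at hno
      have hstep : ∀ y, y ≠ 0 → T y = 1 → y + 1 ≠ 0 → T (y + 1) = 1 := fun y h1 h2 h3 =>
        (hTpm _ h3).resolve_right (hno y h1 h2 h3)
      let L : AddSubgroup F :=
        { carrier := {x | x = 0 ∨ T x = 1}
          zero_mem' := Or.inl rfl
          add_mem' := by
            intro x y hx hy
            rcases eq_or_ne x 0 with rfl | hx0
            · rwa [zero_add]
            rcases eq_or_ne y 0 with rfl | hy0
            · rwa [add_zero]
            rcases eq_or_ne (x + y) 0 with h0 | h0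
            · exact Or.inl h0
            refine Or.inr ?_
            have hTx := hx.resolve_left hx0
            have hTy := hy.resolve_left hy0
            have hxy : T (x * y⁻¹) = 1 := by
              have h := hTmul (x * y⁻¹) y (mul_ne_zero hx0 (inv_ne_zero hy0)) hy0
              rw [inv_mul_cancel_right₀ hy0, hTx, hTy, mul_one] at h
              exact h.symm
            have h1 : x * y⁻¹ + 1 ≠ 0 := by
              intro e
              exact h0 (by rw [show x + y = (x * y⁻¹ + 1) * y by field_simp, e, zero_mul])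
            rw [show x + y = (x * y⁻¹ + 1) * y by field_simp, hTmul _ _ h1 hy0,
              hstep _ (mul_ne_zero hx0 (inv_ne_zero hy0)) hxy h1, hTy, mul_one]
          neg_mem' := by
            intro x hx
            rcases eq_or_ne x 0 with rfl | hx0
            · exact Or.inl neg_zero
            refine Or.inr ?_
            rw [neg_eq_neg_one_mul, hTmul _ _ (by norm_num) hx0, hTm1, hx.resolve_left hx0, mul_one] }
      have hL : Nat.card L = M.card + 1 := by
        rw [← card_insert_of_notMem (show (0 : F) ∉ M by simp [M]), ← Nat.card_eq_finsetCard]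
        refine Nat.card_congr (Equiv.subtypeEquivRight fun x => ?_)
        change (x = 0 ∨ T x = 1) ↔ x ∈ insert 0 M
        rw [mem_insert, mem_filter]
        exact ⟨fun h => (em (x = 0)).imp id fun h0 => ⟨mem_univ _, h0, h.resolve_left h0⟩,
          fun h => h.imp id fun h => h.2.2⟩
      have hMc : 2 * M.card + 1 = Fintype.card F := by
        have hc : (univ.erase (0 : F)) \ M = M.image fun m => ν * m := by
          ext x
          simp only [mem_sdiff, mem_erase, mem_univ, and_true, mem_image, M, mem_filter, true_and,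
            not_and]
          constructor
          · rintro ⟨hx, hTx⟩
            refine ⟨x / ν, ⟨div_ne_zero hx hν0, ?_⟩, mul_div_cancel₀ _ hν0⟩
            have h := hTmul (x / ν) ν (div_ne_zero hx hν0) hν0
            rw [div_mul_cancel₀ _ hν0, (hTpm x hx).resolve_left (hTx hx),
              (hTpm ν hν0).resolve_left hν] at h
            linear_combination h
          · rintro ⟨m, ⟨hm, hTm⟩, rfl⟩
            exact ⟨mul_ne_zero hν0 hm, fun _ => by rwa [hTmul _ _ hν0 hm, hTm, mul_one]⟩
        have hsub : M ⊆ univ.erase (0 : F) := fun m hm =>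
          mem_erase.2 ⟨(mem_filter.1 hm).2.1, mem_univ _⟩
        have h1 := card_sdiff_of_subset hsub
        rw [hc, card_image_of_injective _ (mul_right_injective₀ hν0),
          card_erase_of_mem (mem_univ _), card_univ] at h1
        have : 0 < Fintype.card F := Fintype.card_pos
        have hle := card_le_card hsub
        rw [card_erase_of_mem (mem_univ _), card_univ] at hle
        omega
      have h := AddSubgroup.card_addSubgroup_dvd_card L
      rw [hL, Nat.card_eq_fintype_card, ← hMc, show 2 * M.card + 1 = (M.card + 1) + M.card by ring,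
        Nat.dvd_add_right dvd_rfl] at h
      have hpos : 0 < M.card := card_pos.2 ⟨1, mem_filter.2 ⟨mem_univ _, one_ne_zero, by
        rw [hTval 1 one_ne_zero, hS1, mul_one]⟩⟩
      have := Nat.le_of_dvd hpos h
      omega
    obtain ⟨σ₁, hσ₁a, hσ₁⟩ := hT 1
    obtain ⟨σ₂, hσ₂a, hσ₂⟩ := hT (-1)
    simp only [one_mul] at hσ₁ hσ₂
    have hm1 : s • pt (some (-1)) = pt (some (-1)) := by
      rw [hSs (-1) (by norm_num), hneg1]
    let g := σ₂ * s * σ₁ * s * σ₂ * s
    have hga : g • a = a := by
      simp only [g, mul_smul]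
      rw [hsa, ← hpb, hσ₂, zero_add, hm1, hσ₁, neg_add_cancel, hpb, hsb, hσ₂a]
    have hgb : g • b = b := by
      simp only [g, mul_smul]
      rw [hsb, hσ₂a, hsa, ← hpb, hσ₁, zero_add, hpe, hse, ← hpe, hσ₂, add_neg_cancel]
    obtain ⟨m, -, hmx⟩ := hM g hga hgb
    have hgval : g • pt (some (1 : F)) = pt (some (-1)) := by
      simp only [g, mul_smul]
      rw [show s • pt (some (1 : F)) = pt (some 1) by rw [hpe, hse], hσ₂, add_neg_cancel, hpb, hsb,
        hσ₁a, hsa, ← hpb, hσ₂, zero_add]
    rw [hmx, mul_one] at hgval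
    obtain rfl : m = -1 := hsome hgval
    have hx := hmx (-1 / (y + 1))
    have hsx : s • pt (some (-1 / (y + 1))) = pt (some (y + 1)) := by
      rw [← hy1, ← hSform _ hy10, ← mul_smul, hss, one_smul]
    simp only [g, mul_smul] at hx
    rw [hsx, hσ₂, show y + 1 + -1 = y by ring, hSform y hy0, hy, hσ₁] at hx
    have hne : (1 / y + 1 : F) ≠ 0 := by
      rw [div_add_one hy0, add_comm]; exact div_ne_zero hy10 hy0
    have hTn : T (1 / y + 1) = -1 := by
      have h := hTmul (1 / y + 1) y hne hy0
      rw [show (1 / y + 1) * y = y + 1 by field_simp; ring, hy1, hy, mul_one] at h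
      exact h.symm
    rw [hSform _ hne, hTn, hσ₂] at hx
    have := hsome hx
    rw [div_add_one hy0, add_comm 1 y] at this
    field_simp at this
    have h2 : (2 : F) * (y + 1) = 0 := by linear_combination -this
    exact (mul_ne_zero (fun h => h2F (by linear_combination -h)) hy10) h2
  refine Mobius.nonempty_mulEquiv_PGL (pt := pt) pt.bijective (fun c => ?_) (fun m hm => ?_) ⟨s, ?_⟩ ?_
  · obtain ⟨σ, hσ, hσx⟩ := hT c
    exact ⟨σ, Coords.realises_affine (by rw [hpa, hσ]) hσx⟩
  · obtain ⟨h, hha, hhb, hh⟩ := hMall m hm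
    exact ⟨h, Coords.realises_affine (by rw [hpa, hha]) fun x => by rw [hh, add_zero]⟩
  · exact Coords.realises_inversion (by rw [hpa, hsa, hpb]) (by rw [hpb, hsb, hpa])
      fun x hx => by rw [hSform x hx, hT1 x hx]
  · obtain ⟨x⟩ : Nonempty (Fin 3 ↪ α) :=
      Function.Embedding.nonempty_of_card_le (by simp; omega)
    rw [card_eq_of_sharply (hsharp x), Nat.card_eq_fintype_card, hcardF]
    simp only [Nat.descFactorial_succ, Nat.descFactorial_zero, Nat.sub_zero, mul_one,
      Nat.add_sub_cancel]
    rw [show Fintype.card F + 1 - 2 = Fintype.card F - 1 by omega,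
      show Fintype.card F ^ 2 - 1 = (Fintype.card F + 1) * (Fintype.card F - 1) by
        rw [← Nat.sq_sub_sq, one_pow]]
    ring

/-- Degree `p ^ f + 1` with `p` odd, `f` odd: a two-point stabiliser is commutative. -/
theorem twoStab_comm {p f : ℕ} (hp : p.Prime) (hp2 : p ≠ 2) (hfo : Odd f)
    (hα : Fintype.card α = p ^ f + 1) {a b : α} (hab : a ≠ b) :
    ∀ h h' : G, h • a = a → h • b = b → h' • a = a → h' • b = b → h * h' = h' * h := by
  classical
  have hq3 : 3 ≤ p ^ f :=
    le_trans (show 3 ≤ p by have := hp.two_le; omega) (Nat.le_self_pow (by intro e; simp [e] at hfo) p)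
  obtain ⟨c, hca, hcb⟩ : ∃ c, c ≠ a ∧ c ≠ b := by
    obtain ⟨c, -, hc⟩ := exists_mem_notMem_of_card_lt_card (s := ({a, b} : Finset α)) (t := univ)
      (by rw [card_pair hab, card_univ]; omega)
    simp at hc; exact ⟨c, hc⟩
  have : Finite G := finite_of_sharply_three h3 hsharp hab hca.symm hcb.symm
  haveI := Fintype.ofFinite G
  set H := stabilizer G a ⊓ stabilizer G b with hH
  have hcardH : Nat.card H + 2 = Fintype.card α := card_twoStab_of_sharply h3 hsharp hab hca.symm hcb.symm
  suffices hcomm : ∀ x y : H, x * y = y * x by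
    intro h h' ha hb ha' hb'
    exact congrArg Subtype.val (hcomm ⟨h, ha, hb⟩ ⟨h', ha', hb'⟩)
  have heven : Even (Fintype.card α) := by
    rw [hα, Nat.even_add_one, Nat.not_even_iff_odd]; exact (hp.odd_of_ne_two hp2).pow
  by_cases h6 : 6 ≤ Fintype.card α
  swap
  · have hH2 : Nat.card H = 2 := by
      rw [Nat.even_iff] at heven; omega
    haveI : Fact (Nat.Prime 2) := ⟨Nat.prime_two⟩
    haveI : IsCyclic H := isCyclic_of_prime_card hH2
    intro x y
    exact IsCyclic.commGroup.mul_comm x y
  obtain ⟨K, hKa, hreg, hKc, hnorm⟩ :=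
    exists_kernel_of_sharply_three h3 hsharp hab.symm hca hcb.symm
  have hinj : ∀ k ∈ K, ∀ k' ∈ K, k • b = k' • b → k = k' := by
    intro k hk k' hk' e
    have hne : k' • b ≠ a := fun h => hab.symm (smul_left_cancel _ (h.trans (hKa _ hk').symm))
    exact congrArg Subtype.val ((hreg _ hne).unique (y₁ := ⟨k, hk⟩) (y₂ := ⟨k', hk'⟩) e rfl)
  have hKcard : Nat.card K + 1 = Fintype.card α := by
    rw [Nat.card_congr (Equiv.ofBijective (fun k : K => (⟨(k : G) • b, fun h =>
          hab.symm (smul_left_cancel _ (h.trans (hKa _ k.2).symm))⟩ : {x : α // x ≠ a}))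
          ⟨fun k k' h => Subtype.ext (hinj k k.2 k' k'.2 (congrArg Subtype.val h)),
            fun x => let ⟨v, hv, _⟩ := hreg x.1 x.2; ⟨v, Subtype.ext hv⟩⟩),
      Nat.card_eq_fintype_card, Fintype.card_subtype_compl, Fintype.card_subtype_eq]
    omega
  obtain ⟨s, hsa, hsb, hsc⟩ :=
    exists_smul_eq_three h3 hab hca.symm hcb.symm hab.symm hcb.symm hca.symm
  have hss : s * s = 1 := eq_one_of_fixes_three hsharp hab hca.symm hcb.symm
    (by rw [mul_smul, hsa, hsb]) (by rw [mul_smul, hsb, hsa]) (by rw [mul_smul, hsc, hsc])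
  have hs1 : s ≠ 1 := fun e => hab (by rw [← hsa, e, one_smul])
  obtain ⟨χ, hχ, hχs⟩ : ∃ χ : H →* Multiplicative (ZMod 2), χ ≠ 1 ∧
      ∀ x y : H, (y : G) = s * x * s⁻¹ → χ y = χ x :=
    exists_invariant_quotient_twoStab h3 hsharp heven h6 hab hca.symm hcb.symm hsa hsb hsc
  set N : Subgroup H := χ.ker with hN
  have hNcard : 2 * Nat.card N = Nat.card H := by
    have h1 := Subgroup.card_subgroup_dvd_card χ.range
    rw [show Nat.card (Multiplicative (ZMod 2)) = 2 by simp] at h1
    have h2 : Nat.card χ.range = 2 := ((Nat.dvd_prime Nat.prime_two).1 h1).resolve_left fun h => hχ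
      (MonoidHom.range_eq_bot_iff.1 (Subgroup.card_eq_one.1 h))
    have h3' : Nat.card N * N.index = Nat.card H := N.card_mul_index
    rw [show N.index = 2 by rw [hN, Subgroup.index_ker, h2]] at h3'
    omega
  have hsinv : s⁻¹ = s := inv_eq_of_mul_eq_one_right hss
  let σ : H → H := fun x => ⟨s * (x : G) * s, by
    refine ⟨?_, ?_⟩
    · show (s * (x : G) * s) • a = a
      rw [mul_smul, mul_smul, hsa, (show (x : G) • b = b from x.2.2), hsb]
    · show (s * (x : G) * s) • b = b
      rw [mul_smul, mul_smul, hsb, (show (x : G) • a = a from x.2.1), hsa]⟩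
  have hσmul : ∀ x y : H, σ (x * y) = σ x * σ y := fun x y => Subtype.ext <| by
    show s * ((x : G) * y) * s = s * x * s * (s * y * s)
    calc s * ((x : G) * y) * s = s * x * 1 * y * s := by group
      _ = _ := by rw [← hss]; group
  have hσσ : ∀ x : H, σ (σ x) = x := fun x => Subtype.ext <| by
    show s * (s * (x : G) * s) * s = x
    calc s * (s * (x : G) * s) * s = (s * s) * x * (s * s) := by group
      _ = x := by rw [hss, one_mul, mul_one]
  -- every element of `N` is inverted by `s`
  have hNinv : ∀ n : H, n ∈ N → σ n = n⁻¹ := by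
    haveI := Fintype.ofFinite H
    let ψ : H → H := fun x => x⁻¹ * σ x
    have hfib : ∀ y ∈ univ.image ψ, (univ.filter fun x => ψ x = y).card ≤ 2 := by
      intro y hy
      obtain ⟨x₀, -, rfl⟩ := mem_image.1 hy
      let f : H → α := fun x => ((x * x₀⁻¹ : H) : G) • c
      have hfinj : Function.Injective f := by
        intro x x' e
        have h1 : ((x' * x₀⁻¹ : H) : G)⁻¹ * ((x * x₀⁻¹ : H) : G) = 1 :=
          eq_one_of_fixes_three hsharp hab hca.symm hcb.symm
            (by rw [mul_smul, show ((x * x₀⁻¹ : H) : G) • a = a from (x * x₀⁻¹).2.1, inv_smul_eq_iff,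
              show ((x' * x₀⁻¹ : H) : G) • a = a from (x' * x₀⁻¹).2.1])
            (by rw [mul_smul, show ((x * x₀⁻¹ : H) : G) • b = b from (x * x₀⁻¹).2.2, inv_smul_eq_iff,
              show ((x' * x₀⁻¹ : H) : G) • b = b from (x' * x₀⁻¹).2.2])
            (by rw [mul_smul, show ((x * x₀⁻¹ : H) : G) • c = _ from e, inv_smul_smul])
        exact mul_right_cancel (Subtype.ext (inv_mul_eq_one.1 h1)).symm
      have hsub : ((univ.filter fun x => ψ x = ψ x₀).image f) ⊆ univ.filter fun w : α => s • w = w := by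
        intro w hw
        obtain ⟨x, hx, rfl⟩ := mem_image.1 hw
        have hx' : x⁻¹ * σ x = x₀⁻¹ * σ x₀ := (mem_filter.1 hx).2
        refine mem_filter.2 ⟨mem_univ _, ?_⟩
        have hfix : σ (x * x₀⁻¹) = x * x₀⁻¹ := by
          have h0 : σ x₀⁻¹ = (σ x₀)⁻¹ := by
            refine eq_inv_of_mul_eq_one_left ?_
            rw [← hσmul, inv_mul_cancel]
            exact Subtype.ext (by show s * (1 : G) * s = 1; rw [mul_one, hss])
          rw [hσmul, h0, ← mul_inv_cancel_left x (σ x), hx']
          group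
        show s • ((x * x₀⁻¹ : H) : G) • c = ((x * x₀⁻¹ : H) : G) • c
        conv_rhs => rw [← hfix]
        show s • _ = (s * ((x * x₀⁻¹ : H) : G) * s) • c
        rw [mul_smul, mul_smul, hsc]
      have h2 : (univ.filter fun w : α => s • w = w).card ≤ 2 := by
        by_contra h
        obtain ⟨u, v, w, hu, hv, hw, huv, huw, hvw⟩ := two_lt_card_iff.1 (not_le.1 h)
        simp only [mem_filter, mem_univ, true_and] at hu hv hw
        exact hs1 (eq_one_of_fixes_three hsharp huv huw hvw hu hv hw)
      rw [← card_image_of_injective _ hfinj]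
      exact (card_le_card hsub).trans h2
    have hle := card_le_mul_card_image (univ : Finset H) 2 hfib
    have hχσ : ∀ x : H, χ (σ x) = χ x := fun x => hχs x (σ x) (by rw [hsinv])
    have hsubN : univ.image ψ ⊆ univ.filter fun n => n ∈ N := by
      intro n hn
      obtain ⟨x, -, rfl⟩ := mem_image.1 hn
      refine mem_filter.2 ⟨mem_univ _, ?_⟩
      show χ (x⁻¹ * σ x) = 1
      rw [map_mul, map_inv, hχσ, inv_mul_cancel]
    have hNc : (univ.filter fun n : H => n ∈ N).card = Nat.card N :=
      (Nat.subtype_card _ fun x => by simp).symm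
    have heq := eq_of_subset_of_card_le hsubN (by
      rw [hNc]; rw [card_univ, ← Nat.card_eq_fintype_card] at hle; omega)
    intro n hn
    obtain ⟨x, -, rfl⟩ := mem_image.1 (heq.symm ▸ mem_filter.2 ⟨mem_univ n, hn⟩)
    show σ (x⁻¹ * σ x) = (x⁻¹ * σ x)⁻¹
    have h0 : σ x⁻¹ = (σ x)⁻¹ := by
      refine eq_inv_of_mul_eq_one_left ?_
      rw [← hσmul, inv_mul_cancel]
      exact Subtype.ext (by show s * (1 : G) * s = 1; rw [mul_one, hss])
    rw [hσmul, hσσ, h0, mul_inv_rev, inv_inv]
  have hNc : ∀ x y : H, x ∈ N → y ∈ N → x * y = y * x := by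
    intro x y hx hy
    have := hNinv _ (N.mul_mem hx hy)
    rw [hσmul, hNinv x hx, hNinv y hy, ← mul_inv_rev] at this
    exact (inv_injective this).symm
  -- the action on the kernel
  have hle : H ≤ Subgroup.normalizer (K : Set G) := by
    intro h hh
    rw [Subgroup.mem_normalizer_iff]
    intro k
    refine ⟨fun hk => hnorm h hh.1 k hk, fun hk => ?_⟩
    have := hnorm h⁻¹ (inv_smul_eq_iff.2 (show h • a = a from hh.1).symm) _ hk
    simpa [mul_assoc] using this
  letI : CommGroup K := { (inferInstance : Group K) with mul_comm := hKc.is_comm.comm }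
  let act : H →* MulAut K := K.normalizerMonoidHom.comp (Subgroup.inclusion hle)
  have hact : ∀ (h : H) (k : K), ((act h k : K) : G) • b = (h : G) • (k : G) • b := by
    intro h k
    show ((h : G) * k * (h : G)⁻¹) • b = _
    rw [mul_smul, inv_smul_eq_iff.2 (show (h : G) • b = b from h.2.2).symm, mul_smul]
  obtain ⟨kc, hkc, -⟩ := hreg c hca
  have hkc1 : kc ≠ 1 := fun e => hcb (by rw [← hkc, e, Subgroup.coe_one, one_smul])
  have hfree : ∀ h h' : H, act h kc = act h' kc → h = h' := by
    intro h h' e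
    have e' : (h : G) • c = (h' : G) • c := by rw [← hkc, ← hact, ← hact, e]
    refine Subtype.ext (inv_mul_eq_one.1 (eq_one_of_fixes_three hsharp hab hca.symm hcb.symm
      ?_ ?_ ?_)).symm
    · rw [mul_smul, show (h : G) • a = a from h.2.1, inv_smul_eq_iff]; exact (show (h' : G) • a = a from h'.2.1).symm
    · rw [mul_smul, show (h : G) • b = b from h.2.2, inv_smul_eq_iff]; exact (show (h' : G) • b = b from h'.2.2).symm
    · rw [mul_smul, e', inv_smul_smul]
  obtain ⟨F, _, _, θ, hθ0, hθ1, hθadd, hθS⟩ :=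
    exists_field_of_irreducible (Set.range fun n : N => act (n : H))
      (by
        rintro _ ⟨n, rfl⟩ _ ⟨n', rfl⟩ x
        show act (n : H) (act (n' : H) x) = act (n' : H) (act (n : H) x)
        rw [← MulAut.mul_apply, ← MulAut.mul_apply, ← map_mul, ← map_mul, hNc _ _ n.2 n'.2])
      (by
        intro L hL
        refine (em (L = ⊥)).imp id fun hne => ?_
        have h1 := card_le_of_invariant h3 hsharp hab hKa hinj (L := L.map K.subtype)
          (Subgroup.map_subtype_le L)
          (fun h => hne ((Subgroup.map_eq_bot_iff_of_injective L K.subtype_injective).1 h))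
          (D := N.map H.subtype) (Subgroup.map_subtype_le N) (by
            rintro _ ⟨n, hn, rfl⟩ _ ⟨l, hl, rfl⟩
            exact ⟨act n l, hL _ ⟨⟨n, hn⟩, rfl⟩ l hl, rfl⟩)
        rw [Subgroup.card_map_of_injective H.subtype_injective,
          Subgroup.card_map_of_injective K.subtype_injective] at h1
        refine Subgroup.eq_top_of_card_eq L ?_
        obtain ⟨r, hr⟩ := L.card_subgroup_dvd_card
        rcases r with _ | _ | r
        · rw [Nat.mul_zero] at hr; exact absurd hr Nat.card_pos.ne'
        · rw [Nat.zero_add, Nat.mul_one] at hr; exact hr.symm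
        · exfalso
          have h2 : Nat.card L * 2 ≤ Nat.card K := by
            rw [hr]; exact Nat.mul_le_mul_left _ (by omega)
          omega) hkc1
  haveI := Fintype.ofFinite K
  have hqF : Fintype.card F = p ^ f := by
    rw [Fintype.card_congr θ, ← Nat.card_eq_fintype_card]; omega
  -- each element of `H` is multiplication by a scalar
  have hlin : ∀ δ : H, ∃ u : F, ∀ x, act δ (θ x) = θ (u * x) := by
    intro δ
    obtain ⟨ψ, hψ⟩ : ∃ ψ : F → F, ψ = fun x => θ.symm (act δ (θ x)) := ⟨_, rfl⟩
    have hψθ : ∀ x, θ (ψ x) = act δ (θ x) := fun x => by rw [hψ, Equiv.apply_symm_apply]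
    have hψadd : ∀ x y, ψ (x + y) = ψ x + ψ y := fun x y => θ.injective (by
      rw [hθadd, hψθ, hψθ, hψθ, hθadd, map_mul])
    have hψ0 : ψ 0 = 0 := θ.injective (by rw [hψθ, hθ0, map_one])
    set c0 := ψ 1 with hc0
    have hc00 : c0 ≠ 0 := fun e => hkc1 <| (act δ).injective (by
      rw [← hθ1, ← hψθ, ← hc0, e, hθ0, map_one])
    let Y : AddSubgroup F :=
      { carrier := {y | ∀ x, ψ (y * x) * c0 = ψ y * ψ x}
        zero_mem' := fun x => by simp [hψ0]
        add_mem' := fun {y y'} hy hy' x => by
          simp only [add_mul, hψadd, hy x, hy' x]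
        neg_mem' := fun {y} hy x => by
          have e : ∀ z, ψ (-z) = -ψ z := fun z => by
            rw [eq_neg_iff_add_eq_zero, ← hψadd, neg_add_cancel, hψ0]
          simp only [neg_mul, e, hy x] }
    have hmY : ∀ n : N, θ.symm (act (n : H) kc) ∈ Y := by
      intro n x
      obtain ⟨m, -, hm⟩ := hθS _ ⟨n, rfl⟩
      have hmv : θ.symm (act (n : H) kc) = m := by
        rw [← hθ1, hm, mul_one, Equiv.symm_apply_apply]
      have hn' : δ * (n : H) * δ⁻¹ ∈ N := (inferInstance : χ.ker.Normal).conj_mem _ n.2 δ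
      obtain ⟨m', -, hm'⟩ := hθS _ ⟨⟨_, hn'⟩, rfl⟩
      have key : ∀ z, ψ (m * z) = m' * ψ z := fun z => θ.injective (by
        rw [← hm', hψθ, hψθ, ← hm]
        show act δ (act (n : H) (θ z)) = act (δ * (n : H) * δ⁻¹) (act δ (θ z))
        rw [← MulAut.mul_apply, ← MulAut.mul_apply, ← map_mul, ← map_mul, inv_mul_cancel_right])
      rw [hmv, key, show ψ m = m' * c0 by rw [hc0, ← key, mul_one]]
      ring
    have hYtop : ∀ y, y ∈ Y := by
      have hcard : Nat.card N + 1 ≤ Nat.card Y := by
        let g : Option N → Y := fun o => o.elim 0 fun n => ⟨_, hmY n⟩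
        have hg : Function.Injective g := by
          have hne : ∀ n : N, g (some n) ≠ 0 := fun n h => hkc1 (by
            have h' : θ.symm (act (n : H) kc) = 0 := congrArg Subtype.val h
            rw [Equiv.symm_apply_eq, hθ0] at h'
            exact (act (n : H)).map_eq_one_iff.1 h')
          rintro (_ | n) (_ | n') h
          · rfl
          · exact absurd h.symm (hne n')
          · exact absurd h (hne n)
          · exact congrArg some (Subtype.ext (hfree _ _ (θ.symm.injective (congrArg Subtype.val h))))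
        have := Nat.card_le_card_of_injective g hg
        rwa [Finite.card_option] at this
      obtain ⟨r, hr⟩ := AddSubgroup.card_addSubgroup_dvd_card Y
      intro y
      have : Y = ⊤ := by
        refine AddSubgroup.eq_top_of_card_eq Y ?_
        rcases r with _ | _ | r
        · rw [Nat.mul_zero] at hr; exact absurd hr Nat.card_pos.ne'
        · simp at hr ⊢; omega
        · exfalso
          have h2 : Nat.card Y * 2 ≤ Nat.card F := by
            rw [hr]; exact Nat.mul_le_mul_left _ (by omega)
          rw [Nat.card_eq_fintype_card (α := F), hqF] at h2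
          omega
      rw [this]; exact AddSubgroup.mem_top y
    obtain ⟨φ, hφ⟩ : ∃ φ : F → F, φ = fun x => ψ x / c0 := ⟨_, rfl⟩
    have hψφ : ∀ x, ψ x = c0 * φ x := fun x => by rw [hφ]; exact (mul_div_cancel₀ _ hc00).symm
    have hφmul : ∀ x y, φ (x * y) = φ x * φ y := fun x y => by
      have := hYtop x y
      rw [hψφ, hψφ x, hψφ y] at this
      exact mul_left_cancel₀ (mul_ne_zero hc00 hc00) (by linear_combination this)
    have hφadd : ∀ x y, φ (x + y) = φ x + φ y := fun x y => by rw [hφ]; simp only; rw [hψadd, add_div]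
    have hφ1 : φ 1 = 1 := by rw [hφ]; exact div_self hc00
    -- `φ` is an involutive automorphism
    have hδ2 : δ * δ ∈ N := by
      rw [hN, MonoidHom.mem_ker, map_mul]
      generalize χ δ = w
      revert w; decide
    obtain ⟨m, -, hm⟩ := hθS _ ⟨⟨_, hδ2⟩, rfl⟩
    have hψψ : ∀ x, ψ (ψ x) = m * x := fun x => θ.injective (by
      rw [hψθ, hψθ, ← hm, ← MulAut.mul_apply, ← map_mul])
    have hm0 : c0 * φ c0 = m := by
      have := hψψ 1
      rwa [mul_one, ← hc0, hψφ] at this
    have hm00 : m ≠ 0 := by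
      rw [← hm0]
      refine mul_ne_zero hc00 fun h => hc00 ?_
      have h1 : φ (c0 * c0⁻¹) = φ c0 * φ c0⁻¹ := hφmul _ _
      rw [mul_inv_cancel₀ hc00, hφ1, h, zero_mul] at h1
      exact absurd h1 one_ne_zero
    have hφφ : ∀ x, φ (φ x) = x := fun x => by
      have h := hψψ x
      rw [hψφ, hψφ x, hφmul, ← mul_assoc, hm0] at h
      exact mul_left_cancel₀ hm00 h
    refine ⟨c0, fun x => ?_⟩
    suffices hid : φ x = x by rw [← hψθ, hψφ, hid]
    by_contra hne
    -- otherwise the field is the square of the fixed field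
    have hneg : ∀ z, φ (-z) = -φ z := fun z => by
      rw [eq_neg_iff_add_eq_zero, ← hφadd, neg_add_cancel]
      have := hφadd 0 0
      simpa using this
    have hφ0 : φ 0 = 0 := by simpa using hφadd 0 0
    obtain ⟨w, hw⟩ : ∃ w, w = x - φ x := ⟨_, rfl⟩
    have hw0 : w ≠ 0 := by rw [hw]; exact sub_ne_zero.2 (Ne.symm hne)
    have hφw : φ w = -w := by
      rw [hw, sub_eq_add_neg, hφadd, hneg, hφφ]; ring
    have h2F : (2 : F) ≠ 0 := by
      refine Ring.two_ne_zero fun h => ?_
      have := FiniteField.even_card_iff_char_two.1 h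
      rw [hqF] at this
      exact Nat.not_even_iff_odd.2 ((hp.odd_of_ne_two hp2).pow) (Nat.even_iff.2 this)
    have hφ2 : φ 2 = 2 := by rw [show (2 : F) = 1 + 1 by norm_num, hφadd, hφ1]
    let E := {z : F // φ z = z}
    let pr : E × E → F := fun z => z.1.1 + w * z.2.1
    have hbij : Function.Bijective pr := by
      constructor
      · rintro ⟨⟨u, hu⟩, ⟨v, hv⟩⟩ ⟨⟨u', hu'⟩, ⟨v', hv'⟩⟩ h
        simp only [pr] at h
        have h' := congrArg φ h
        rw [hφadd, hφmul, hu, hv, hφw, hφadd, hφmul, hu', hv', hφw] at h'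
        have e1 : u = u' := mul_left_cancel₀ h2F (by linear_combination h + h')
        have e2 : v = v' := mul_left_cancel₀ (mul_ne_zero h2F hw0) (by linear_combination h - h')
        subst e1 e2
        rfl
      · intro z
        refine ⟨(⟨(z + φ z) / 2, ?_⟩, ⟨(z - φ z) / (2 * w), ?_⟩), ?_⟩
        · have : φ ((z + φ z) / 2) * φ 2 = φ (z + φ z) := by rw [← hφmul, div_mul_cancel₀ _ h2F]
          rw [hφ2, hφadd, hφφ] at this
          rw [eq_div_iff h2F, this]; ring
        · have : φ ((z - φ z) / (2 * w)) * φ (2 * w) = φ (z - φ z) := by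
            rw [← hφmul, div_mul_cancel₀ _ (mul_ne_zero h2F hw0)]
          rw [hφmul 2 w, hφ2, hφw, sub_eq_add_neg z, hφadd z, hneg, hφφ, ← sub_eq_add_neg z] at this
          rw [eq_div_iff (mul_ne_zero h2F hw0)]
          generalize φ ((z - φ z) / (2 * w)) = v at this ⊢
          linear_combination -this
        · simp only [pr]
          field_simp
          ring
    have hsq : Nat.card E * Nat.card E = p ^ f := by
      rw [← Nat.card_prod, Nat.card_congr (Equiv.ofBijective pr hbij), Nat.card_eq_fintype_card, hqF]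
    obtain ⟨i, -, hi⟩ := (Nat.dvd_prime_pow hp).1 (Dvd.intro _ hsq)
    rw [hi, ← pow_add] at hsq
    have := Nat.pow_right_injective hp.two_le hsq
    exact Nat.not_even_iff_odd.2 hfo ⟨i, this.symm⟩
  intro x y
  apply hfree
  obtain ⟨u, hu⟩ := hlin x
  obtain ⟨v, hv⟩ := hlin y
  rw [map_mul, map_mul, MulAut.mul_apply, MulAut.mul_apply, ← hθ1, hv, hu, hu, hv, mul_left_comm]

/-- A sharply 3-transitive group of degree `p ^ f + 1`, `p` odd and `f` odd, is `PGL_2`. -/
theorem pgl_of_sharply_three {p f : ℕ} (hp : p.Prime) (hp2 : p ≠ 2) (hfo : Odd f)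
    (hα : Fintype.card α = p ^ f + 1) :
    ∃ (F : Type) (_ : Field F) (_ : Fintype F), Fintype.card F = p ^ f ∧
      Nonempty (G ≃* Matrix.ProjGenLinGroup (Fin 2) F) := by
  classical
  have hq3 : 3 ≤ p ^ f :=
    le_trans (show 3 ≤ p by have := hp.two_le; omega) (Nat.le_self_pow (by intro e; simp [e] at hfo) p)
  obtain ⟨a, b, hab⟩ := Fintype.exists_pair_of_one_lt_card (α := α) (by omega)
  have heven : Even (Fintype.card α) := by
    rw [hα, Nat.even_add_one, Nat.not_even_iff_odd]; exact (hp.odd_of_ne_two hp2).pow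
  obtain ⟨F, _, _, ⟨hc, hiso⟩ | hlt⟩ := pgl_of_sharply_three_comm h3 hsharp heven hab
    (twoStab_comm h3 hsharp hp hp2 hfo hα hab)
  · exact ⟨F, inferInstance, inferInstance, by omega, hiso⟩
  · omega

end Cfsg.Agent.Perm
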