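import Mathlib

/-! Orders of abelian permutation groups: the product-of-orbit-sizes bound, and examples attaining it. -/

set_option autoImplicit false
set_option linter.style.haveILetI false

namespace Cfsg.Agent.Perm.AbelianBound

open MulAction

variable {α : Type*} [Fintype α] [DecidableEq α]

/-- The largest product of positive integers with sum `n`. -/
def maxProd : ℕ → ℕ
  | 0 => 1
  | 1 => 1
  | 2 => 2
  | 3 => 3
  | 4 => 4
  | n + 5 => 3 * maxProd (n + 2)

/-- The largest product of positive integers other than `2` with sum `n`. -/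
def maxProdNoTwo : ℕ → ℕ
  | 0 => 1
  | 1 => 1
  | 2 => 1
  | 3 => 3
  | 4 => 4
  | 5 => 5
  | 6 => 9
  | 7 => 12
  | 8 => 16
  | n + 9 => 3 * maxProdNoTwo (n + 6)

theorem maxProd_mul : ∀ m n : ℕ, maxProd m * maxProd n ≤ maxProd (m + n) := by
  have base : ∀ m ∈ Finset.range 5, ∀ n ∈ Finset.range 5, maxProd m * maxProd n ≤ maxProd (m + n) := by decide
  intro m n
  induction hs : m + n using Nat.strong_induction_on generalizing m n with
  | _ t ih =>
    subst hs
    by_cases hm : 5 ≤ m
    · obtain ⟨j, rfl⟩ := Nat.exists_eq_add_of_le' hm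
      rw [show j + 5 + n = j + n + 5 by omega]
      show 3 * maxProd (j + 2) * maxProd n ≤ 3 * maxProd (j + n + 2)
      have := ih (j + 2 + n) (by omega) (j + 2) n rfl
      rw [show j + 2 + n = j + n + 2 by omega] at this
      rw [mul_assoc]; exact Nat.mul_le_mul_left 3 this
    by_cases hn : 5 ≤ n
    · obtain ⟨j, rfl⟩ := Nat.exists_eq_add_of_le' hn
      rw [← add_assoc]
      show maxProd m * (3 * maxProd (j + 2)) ≤ 3 * maxProd (m + j + 2)
      have := ih (m + (j + 2)) (by omega) m (j + 2) rfl
      rw [← add_assoc] at this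
      rw [mul_left_comm]; exact Nat.mul_le_mul_left 3 this
    exact base m (Finset.mem_range.mpr (by omega)) n (Finset.mem_range.mpr (by omega))

theorem maxProdNoTwo_mul : ∀ m n : ℕ, maxProdNoTwo m * maxProdNoTwo n ≤ maxProdNoTwo (m + n) := by
  have base : ∀ m ∈ Finset.range 9, ∀ n ∈ Finset.range 9,
      maxProdNoTwo m * maxProdNoTwo n ≤ maxProdNoTwo (m + n) := by decide
  intro m n
  induction hs : m + n using Nat.strong_induction_on generalizing m n with
  | _ t ih =>
    subst hs
    by_cases hm : 9 ≤ m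
    · obtain ⟨j, rfl⟩ := Nat.exists_eq_add_of_le' hm
      rw [show j + 9 + n = j + n + 9 by omega]
      show 3 * maxProdNoTwo (j + 6) * maxProdNoTwo n ≤ 3 * maxProdNoTwo (j + n + 6)
      have := ih (j + 6 + n) (by omega) (j + 6) n rfl
      rw [show j + 6 + n = j + n + 6 by omega] at this
      rw [mul_assoc]; exact Nat.mul_le_mul_left 3 this
    by_cases hn : 9 ≤ n
    · obtain ⟨j, rfl⟩ := Nat.exists_eq_add_of_le' hn
      rw [← add_assoc]
      show maxProdNoTwo m * (3 * maxProdNoTwo (j + 6)) ≤ 3 * maxProdNoTwo (m + j + 6)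
      have := ih (m + (j + 6)) (by omega) m (j + 6) rfl
      rw [← add_assoc] at this
      rw [mul_left_comm]; exact Nat.mul_le_mul_left 3 this
    exact base m (Finset.mem_range.mpr (by omega)) n (Finset.mem_range.mpr (by omega))

theorem le_maxProd (n : ℕ) : n ≤ maxProd n := by
  induction n using Nat.strong_induction_on with
  | _ n ih =>
    by_cases h : 5 ≤ n
    · obtain ⟨j, rfl⟩ := Nat.exists_eq_add_of_le' h
      show j + 5 ≤ 3 * maxProd (j + 2)
      have := ih (j + 2) (by omega)
      omega
    · interval_cases n <;> decide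

theorem le_maxProdNoTwo (n : ℕ) (h2 : n ≠ 2) : n ≤ maxProdNoTwo n := by
  induction n using Nat.strong_induction_on with
  | _ n ih =>
    by_cases h : 9 ≤ n
    · obtain ⟨j, rfl⟩ := Nat.exists_eq_add_of_le' h
      show j + 9 ≤ 3 * maxProdNoTwo (j + 6)
      have := ih (j + 6) (by omega) (by omega)
      omega
    · interval_cases n <;> first | decide | omega

theorem prod_le {ι : Type*} (s : Finset ι) (f : ι → ℕ) : ∏ i ∈ s, f i ≤ maxProd (∑ i ∈ s, f i) := by
  classical
  induction s using Finset.induction_on with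
  | empty => simp [maxProd]
  | insert a s ha ih =>
    rw [Finset.prod_insert ha, Finset.sum_insert ha]
    exact (Nat.mul_le_mul (le_maxProd _) ih).trans (maxProd_mul _ _)

theorem prod_le_noTwo {ι : Type*} (s : Finset ι) (f : ι → ℕ) (h : ∀ i ∈ s, f i ≠ 2) :
    ∏ i ∈ s, f i ≤ maxProdNoTwo (∑ i ∈ s, f i) := by
  classical
  induction s using Finset.induction_on with
  | empty => simp [maxProdNoTwo]
  | insert a s ha ih =>
    rw [Finset.prod_insert ha, Finset.sum_insert ha]
    exact (Nat.mul_le_mul (le_maxProdNoTwo _ (h a (Finset.mem_insert_self a s)))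
      (ih fun i hi => h i (Finset.mem_insert_of_mem hi))).trans (maxProdNoTwo_mul _ _)

variable (A : Subgroup (Equiv.Perm α))

/-- The size of the orbit named by a point of the orbit space. -/
noncomputable def orbitSize (q : Quotient (orbitRel A α)) : ℕ := Nat.card (orbit A q.out)

theorem sum_orbitSize [Fintype (Quotient (orbitRel A α))] :
    ∑ q, orbitSize A q = Fintype.card α := by
  rw [← Nat.card_eq_fintype_card, Nat.card_congr (selfEquivSigmaOrbits A α), Nat.card_sigma]
  rfl

theorem mem_orbit_out (x : α) : x ∈ orbit A (Quotient.mk'' x : Quotient (orbitRel A α)).out :=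
  orbitRel_apply.mp ((orbitRel A α).iseqv.symm (@Quotient.mk_out _ (orbitRel A α) x))

/-- An element of an abelian permutation group is determined by the images of orbit representatives. -/
theorem eq_of_smul_out [IsMulCommutative A] {a b : A}
    (h : ∀ q : Quotient (orbitRel A α), a • q.out = b • q.out) : a = b := by
  refine Subtype.ext (Equiv.ext fun x => ?_)
  obtain ⟨c, hc⟩ : ∃ c : A, c • (Quotient.mk'' x : Quotient (orbitRel A α)).out = x :=
    MulAction.mem_orbit_iff.mp (mem_orbit_out A x)
  show a • x = b • x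
  rw [← hc, ← mul_smul, ← mul_smul, mul_comm' a c, mul_comm' b c, mul_smul, mul_smul, h]

theorem card_le_maxProd [IsMulCommutative A] : Nat.card A ≤ maxProd (Fintype.card α) := by
  classical
  haveI := Fintype.ofFinite (Quotient (orbitRel A α))
  rw [← sum_orbitSize A]
  refine le_trans ?_ (prod_le _ _)
  refine (Nat.card_le_card_of_injective
    (fun a : A => fun q : Quotient (orbitRel A α) => (⟨a • q.out, mem_orbit _ _⟩ : orbit A q.out)) ?_).trans
      (le_of_eq Nat.card_pi)
  exact fun a b h => eq_of_smul_out A fun q => congrArg Subtype.val (congrFun h q)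

/-- For groups of even permutations an orbit of size two can be dropped. -/
theorem card_le_of_sign [IsMulCommutative A] (hsign : ∀ a ∈ A, Equiv.Perm.sign a = 1) :
    Nat.card A ≤ max (maxProdNoTwo (Fintype.card α)) (maxProd (Fintype.card α - 2)) := by
  classical
  haveI := Fintype.ofFinite (Quotient (orbitRel A α))
  by_cases h2 : ∀ q, orbitSize A q ≠ 2
  · refine le_max_of_le_left ?_
    rw [← sum_orbitSize A]
    refine le_trans ?_ (prod_le_noTwo _ _ fun q _ => h2 q)
    refine (Nat.card_le_card_of_injective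
      (fun a : A => fun q : Quotient (orbitRel A α) => (⟨a • q.out, mem_orbit _ _⟩ : orbit A q.out)) ?_).trans
        (le_of_eq Nat.card_pi)
    exact fun a b h => eq_of_smul_out A fun q => congrArg Subtype.val (congrFun h q)
  · push Not at h2
    obtain ⟨q₀, hq₀⟩ := h2
    refine le_max_of_le_right ?_
    have hsum : ∑ q ∈ Finset.univ.erase q₀, orbitSize A q = Fintype.card α - 2 := by
      have := Finset.sum_erase_add Finset.univ (orbitSize A) (Finset.mem_univ q₀)
      rw [sum_orbitSize, hq₀] at this
      omega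
    rw [← hsum]
    refine le_trans ?_ (prod_le _ _)
    rw [← Finset.prod_coe_sort]
    refine (Nat.card_le_card_of_injective (fun a : A => fun q : ↥(Finset.univ.erase q₀) =>
      (⟨a • (q : Quotient (orbitRel A α)).out, mem_orbit _ _⟩ : orbit A (q : Quotient (orbitRel A α)).out)) ?_).trans
        (le_of_eq Nat.card_pi)
    intro a b h
    -- `b⁻¹ a` fixes every point outside the orbit of size two
    have hfix : ∀ x : α, x ∉ orbit A q₀.out → (b⁻¹ * a) • x = x := by
      intro x hx
      have hq : (Quotient.mk'' x : Quotient (orbitRel A α)) ≠ q₀ := fun e =>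
        hx (e ▸ mem_orbit_out A x)
      obtain ⟨c, hc⟩ : ∃ c : A, c • (Quotient.mk'' x : Quotient (orbitRel A α)).out = x :=
        MulAction.mem_orbit_iff.mp (mem_orbit_out A x)
      have hh : a • (Quotient.mk'' x : Quotient (orbitRel A α)).out =
          b • (Quotient.mk'' x : Quotient (orbitRel A α)).out :=
        congrArg Subtype.val (congrFun h ⟨_, Finset.mem_erase.mpr ⟨hq, Finset.mem_univ _⟩⟩)
      rw [← hc, ← mul_smul, mul_comm' (b⁻¹ * a) c, mul_smul, mul_smul b⁻¹ a, hh, inv_smul_smul]
    by_contra hne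
    set σ : Equiv.Perm α := ((b⁻¹ * a : A) : Equiv.Perm α)
    have hσ : σ ≠ 1 := fun e => hne (inv_mul_eq_one.mp (Subtype.ext e : b⁻¹ * a = 1)).symm
    have hsupp : σ.support.card ≤ 2 := by
      refine le_trans (Finset.card_le_card (t := (orbit A q₀.out).toFinset) fun x hx => ?_) ?_
      · rw [Set.mem_toFinset]
        by_contra hx'
        exact Equiv.Perm.mem_support.mp hx (hfix x hx')
      · rw [Set.toFinset_card, ← Nat.card_eq_fintype_card]
        exact hq₀.le
    have hswap : σ.IsSwap := Equiv.Perm.card_support_eq_two.mp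
      (le_antisymm hsupp (Equiv.Perm.two_le_card_support_of_ne_one hσ))
    have := hsign σ (b⁻¹ * a : A).2
    rw [hswap.sign_eq] at this
    exact absurd this (by decide)

/-- There is an abelian group of order `c` of even (if `ev`) permutations of `n` points. -/
def Attained (ev : Bool) (n c : ℕ) : Prop :=
  ∃ A : Subgroup (Equiv.Perm (Fin n)), IsMulCommutative A ∧ Nat.card A = c ∧
    (ev = true → ∀ a ∈ A, Equiv.Perm.sign a = 1)

theorem attained_add {ev : Bool} {m n a b : ℕ} (hm : Attained ev m a) (hn : Attained ev n b) :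
    Attained ev (m + n) (a * b) := by
  obtain ⟨A, hA, hAc, hAs⟩ := hm
  obtain ⟨B, hB, hBc, hBs⟩ := hn
  let φ : A × B →* Equiv.Perm (Fin (m + n)) :=
    { toFun := fun x => finSumFinEquiv.permCongr (Equiv.Perm.sumCongr (x.1 : Equiv.Perm (Fin m)) x.2)
      map_one' := by
        ext i
        obtain ⟨j, rfl⟩ := finSumFinEquiv.surjective i
        rcases j with j | j <;> simp
      map_mul' := fun x y => by
        ext i
        obtain ⟨j, rfl⟩ := finSumFinEquiv.surjective i
        rcases j with j | j <;> simp [Equiv.Perm.mul_apply] }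
  have hφ : Function.Injective φ := by
    intro x y h
    have h' : ∀ j, Equiv.Perm.sumCongr (x.1 : Equiv.Perm (Fin m)) (x.2 : Equiv.Perm (Fin n)) j =
        Equiv.Perm.sumCongr (y.1 : Equiv.Perm (Fin m)) (y.2 : Equiv.Perm (Fin n)) j := fun j => by
      have := DFunLike.congr_fun h (finSumFinEquiv j)
      simpa [φ] using this
    refine Prod.ext (Subtype.ext (Equiv.ext fun i => ?_)) (Subtype.ext (Equiv.ext fun i => ?_))
    · simpa using h' (Sum.inl i)
    · simpa using h' (Sum.inr i)
  refine ⟨φ.range, inferInstance, ?_, fun hev s hs => ?_⟩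
  · rw [← Nat.card_congr (MonoidHom.ofInjective hφ).toEquiv, Nat.card_prod, hAc, hBc]
  · obtain ⟨x, rfl⟩ := hs
    show Equiv.Perm.sign (finSumFinEquiv.permCongr _) = 1
    rw [Equiv.Perm.sign_permCongr, Equiv.Perm.sign_sumCongr, hAs hev _ x.1.2, hBs hev _ x.2.2, mul_one]

theorem attained_mono {n c : ℕ} (h : Attained true n c) : Attained false n c := by
  obtain ⟨A, hA, hAc, -⟩ := h
  exact ⟨A, hA, hAc, fun e => absurd e (by decide)⟩

theorem attained_zero : Attained true 0 1 :=
  ⟨⊥, inferInstance, Subgroup.card_bot, fun _ a ha => by rw [Subgroup.mem_bot] at ha; simp [ha]⟩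

theorem attained_of_zpowers {n : ℕ} (σ : Equiv.Perm (Fin n)) (h : Equiv.Perm.sign σ = 1) :
    Attained true n (orderOf σ) :=
  ⟨Subgroup.zpowers σ, inferInstance, Nat.card_zpowers σ, fun _ a ha => by
    obtain ⟨i, rfl⟩ := ha
    simp [map_zpow, h]⟩

theorem attained_three : Attained true 3 3 := by
  have h := attained_of_zpowers (finRotate 3) (by decide)
  rwa [orderOf_eq_prime (p := 3) (by decide) (by decide)] at h

theorem attained_two : Attained false 2 2 :=
  ⟨⊤, ⟨⟨fun a b => Subtype.ext (by
    have : ∀ x y : Equiv.Perm (Fin 2), x * y = y * x := by decide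
    exact this a b)⟩⟩, by rw [Subgroup.card_top, Nat.card_perm, Nat.card_fin]; rfl, fun e => absurd e (by decide)⟩

theorem attained_four : Attained true 4 4 := by
  let a : Equiv.Perm (Fin 4) := Equiv.swap 0 1 * Equiv.swap 2 3
  let b : Equiv.Perm (Fin 4) := Equiv.swap 0 2 * Equiv.swap 1 3
  let V : Finset (Equiv.Perm (Fin 4)) := {1, a, b, a * b}
  have hmul : ∀ x ∈ V, ∀ y ∈ V, x * y ∈ V ∧ x * y = y * x := by decide +kernel
  have hinv : ∀ x ∈ V, x⁻¹ ∈ V ∧ Equiv.Perm.sign x = 1 := by decide +kernel
  refine ⟨{ carrier := (V : Set (Equiv.Perm (Fin 4))), one_mem' := by decide +kernel,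
            mul_mem' := fun {x y} hx hy => (hmul x hx y hy).1, inv_mem' := fun {x} hx => (hinv x hx).1 },
    ⟨⟨fun x y => Subtype.ext (hmul x x.2 y y.2).2⟩⟩, ?_, fun _ x hx => (hinv x hx).2⟩
  show Nat.card (V : Set (Equiv.Perm (Fin 4))) = 4
  rw [Nat.card_coe_set_eq, Set.ncard_coe_finset]
  decide +kernel

theorem attained_threes (k : ℕ) : Attained true (3 * k) (3 ^ k) := by
  induction k with
  | zero => exact attained_zero
  | succ k ih =>
    rw [Nat.mul_succ, pow_succ]
    exact attained_add ih attained_three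

theorem maxProd_values (k : ℕ) :
    maxProd (3 * k) = 3 ^ k ∧ maxProd (3 * (k + 1) + 1) = 4 * 3 ^ k ∧ maxProd (3 * k + 2) = 2 * 3 ^ k := by
  induction k with
  | zero => decide
  | succ k ih =>
    refine ⟨?_, ?_, ?_⟩
    · rcases k with _ | k
      · decide
      · rw [show 3 * (k + 1 + 1) = 3 * k + 1 + 5 by ring]
        show 3 * maxProd (3 * k + 1 + 2) = _
        rw [show 3 * k + 1 + 2 = 3 * (k + 1) by ring, ih.1]; ring
    · rw [show 3 * (k + 1 + 1) + 1 = 3 * k + 2 + 5 by ring]
      show 3 * maxProd (3 * k + 2 + 2) = _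
      rw [show 3 * k + 2 + 2 = 3 * (k + 1) + 1 by ring, ih.2.1]; ring
    · rw [show 3 * (k + 1) + 2 = 3 * k + 5 by ring]
      show 3 * maxProd (3 * k + 2) = _
      rw [ih.2.2]; ring

theorem maxProdNoTwo_value (j : ℕ) : maxProdNoTwo (3 * j + 8) = 16 * 3 ^ j := by
  induction j with
  | zero => decide
  | succ j ih =>
    rw [show 3 * (j + 1) + 8 = 3 * j + 2 + 9 by ring]
    show 3 * maxProdNoTwo (3 * j + 2 + 6) = _
    rw [show 3 * j + 2 + 6 = 3 * j + 8 by ring, ih]; ring

end Cfsg.Agent.Perm.AbelianBound
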