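import Cfsg.Agent.Lib.Perm.TreeSylow

/-!
A Sylow 2-subgroup of the alternating group is the even part of a product of trees over the binary
digits of the degree; when such a group is a direct product.
-/
set_option autoImplicit false

namespace Cfsg.Agent.Perm

open Equiv Equiv.Perm

variable (S : Finset ℕ)

/-- The product of the trees of heights in `S`. -/
def binTree : Subgroup (∀ i : S, Equiv.Perm (Leaf i)) := Subgroup.pi Set.univ fun i => tree i

theorem mem_binTree {f : ∀ i : S, Equiv.Perm (Leaf i)} : f ∈ binTree S ↔ ∀ i : S, f i ∈ tree i := by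
  simp [binTree, Subgroup.mem_pi]

/-- The product of the signs. -/
def binSign : (∀ i : S, Equiv.Perm (Leaf i)) →* ℤˣ where
  toFun f := ∏ i, sign (f i)
  map_one' := by simp
  map_mul' f g := by simp [Finset.prod_mul_distrib]

theorem binSign_apply (f : ∀ i : S, Equiv.Perm (Leaf i)) : binSign S f = ∏ i : S, sign (f i) := rfl

theorem binSign_mulSingle (i : S) (σ : Equiv.Perm (Leaf i)) : binSign S (Pi.mulSingle i σ) = sign σ := by
  rw [binSign_apply, Finset.prod_eq_single i (fun j _ h => by rw [Pi.mulSingle_eq_of_ne h, map_one])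
    (fun h => absurd (Finset.mem_univ i) h), Pi.mulSingle_eq_same]

/-- The even part. -/
def binEven : Subgroup (∀ i : S, Equiv.Perm (Leaf i)) := binTree S ⊓ (binSign S).ker

theorem mem_binEven {f : ∀ i : S, Equiv.Perm (Leaf i)} :
    f ∈ binEven S ↔ (∀ i : S, f i ∈ tree i) ∧ ∏ i : S, sign (f i) = 1 := by
  rw [binEven, Subgroup.mem_inf, mem_binTree, MonoidHom.mem_ker, binSign_apply]

theorem card_binTree : Nat.card (binTree S) = 2 ^ (∑ i ∈ S, (2 ^ i - 1)) := by
  have e : binTree S ≃ ∀ i : S, tree i :=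
    { toFun := fun f i => ⟨f.1 i, (mem_binTree S).1 f.2 i⟩
      invFun := fun f => ⟨fun i => f i, (mem_binTree S).2 fun i => (f i).2⟩
      left_inv := fun f => rfl
      right_inv := fun f => rfl }
  rw [Nat.card_congr e, Nat.card_pi]
  simp only [card_tree]
  rw [Finset.prod_pow_eq_pow_sum, Finset.sum_coe_sort S fun i => 2 ^ i - 1]

/-- The sign of a permutation acting componentwise. -/
theorem sign_sigmaCongrRight (f : ∀ i : S, Equiv.Perm (Leaf i)) :
    sign (Equiv.Perm.sigmaCongrRightHom (fun i : S => Leaf i) f) = binSign S f := by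
  suffices key : f ∈ (sign.comp (Equiv.Perm.sigmaCongrRightHom fun i : S => Leaf i)).eqLocus (binSign S) from key
  refine Subgroup.pi_mem_of_mulSingle_mem f fun i => ?_
  generalize f i = σ
  show sign (Equiv.Perm.sigmaCongrRightHom (fun i : S => Leaf i) (Pi.mulSingle i σ)) = binSign S (Pi.mulSingle i σ)
  rw [binSign_mulSingle]
  let e : Leaf i ≃ {x : (Σ j : S, Leaf j) // x.1 = i} :=
    { toFun := fun a => ⟨⟨i, a⟩, rfl⟩
      invFun := fun x => x.2 ▸ x.1.2
      left_inv := fun a => rfl
      right_inv := by rintro ⟨⟨j, b⟩, rfl⟩; rfl }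
  rw [← Equiv.Perm.sign_extendDomain σ e]
  congr 1
  refine Equiv.ext fun ⟨j, b⟩ => ?_
  rcases eq_or_ne j i with rfl | h
  · rw [show (⟨j, b⟩ : Σ k : S, Leaf k) = ↑(e b) from rfl, Equiv.Perm.extendDomain_apply_image]
    simp [Equiv.Perm.sigmaCongrRightHom, e]
  · rw [Equiv.Perm.extendDomain_apply_not_subtype σ e (b := ⟨j, b⟩) h]
    simp [Equiv.Perm.sigmaCongrRightHom, Pi.mulSingle_eq_of_ne h]

/-- The 2-part of a factorial. -/
theorem padicValNat_factorial_add : ∀ n : ℕ,
    padicValNat 2 n.factorial + n.bitIndices.length = n := by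
  intro n
  induction n using Nat.strong_induction_on with
  | _ n ih =>
    rcases Nat.eq_zero_or_pos n with rfl | hn
    · simp
    have h := ih (n / 2) (by omega)
    rcases Nat.even_or_odd' n with ⟨m, rfl | rfl⟩
    · rw [show 2 * m / 2 = m by omega] at h
      rw [padicValNat_factorial_mul, Nat.bitIndices_two_mul, List.length_map]
      omega
    · rw [show (2 * m + 1) / 2 = m by omega] at h
      rw [padicValNat_factorial_mul_add m (by norm_num), padicValNat_factorial_mul, Nat.bitIndices_two_mul_add_one,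
        List.length_cons, List.length_map]
      omega

/-- A Sylow 2-subgroup of the alternating group as an even part. -/
theorem nonempty_equiv_sylow_alternating {n : ℕ} (hn : 2 ≤ n) (P : Sylow 2 (alternatingGroup (Fin n))) :
    Nonempty (↥(binEven n.bitIndices.toFinset) ≃* ↥(P : Subgroup (alternatingGroup (Fin n)))) := by
  classical
  set S := n.bitIndices.toFinset with hS
  have hcard : Fintype.card (Σ i : S, Leaf i) = n := by
    rw [Fintype.card_sigma]
    simp only [card_leaf]
    rw [Finset.sum_coe_sort S fun i => 2 ^ i, hS, Finset.sum_toFinset_bitIndices_two_pow]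
  let e : (Σ i : S, Leaf i) ≃ Fin n := Fintype.equivFinOfCardEq hcard
  let ψ : (∀ i : S, Equiv.Perm (Leaf i)) →* Equiv.Perm (Fin n) :=
    e.permCongrHom.toMonoidHom.comp (Equiv.Perm.sigmaCongrRightHom fun i : S => Leaf i)
  have hψ : Function.Injective ψ :=
    e.permCongrHom.injective.comp Equiv.Perm.sigmaCongrRightHom_injective
  have hsign : ∀ f, sign (ψ f) = binSign S f := fun f => by
    rw [← sign_sigmaCongrRight]
    exact Equiv.Perm.sign_permCongr e _
  let φ : ↥(binEven S) →* alternatingGroup (Fin n) :=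
    (ψ.comp (binEven S).subtype).codRestrict _ fun f => by
      rw [Equiv.Perm.mem_alternatingGroup, MonoidHom.comp_apply, hsign]
      exact (Subgroup.mem_inf.1 f.2).2
  have hφ : Function.Injective φ := fun a b h =>
    Subtype.ext (hψ (congrArg (fun x : alternatingGroup (Fin n) => (x : Equiv.Perm (Fin n))) h))
  -- the order
  have hlen : ∀ L : List ℕ, L.Nodup → ∑ i ∈ L.toFinset, (2 ^ i - 1) + L.length = ∑ i ∈ L.toFinset, 2 ^ i := by
    intro L hL
    rw [← List.toFinset_card_of_nodup hL, Finset.card_eq_sum_ones, ← Finset.sum_add_distrib]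
    exact Finset.sum_congr rfl fun i _ => Nat.sub_add_cancel Nat.one_le_two_pow
  have hv := padicValNat_factorial_add n
  have hl := hlen n.bitIndices Nat.bitIndices_nodup
  rw [Finset.sum_toFinset_bitIndices_two_pow, ← hS] at hl
  haveI : Nontrivial (Fin n) := Fin.nontrivial_iff_two_le.2 hn
  -- an odd element
  obtain ⟨i₀, hi₀⟩ : ∃ i : S, 1 ≤ (i : ℕ) := by
    by_contra h
    push Not at h
    have hsub : S ⊆ {0} := fun i hi => by
      have := h ⟨i, hi⟩
      simp only [Finset.mem_singleton]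
      simpa using this
    have h1 := Finset.sum_toFinset_bitIndices_two_pow n
    rw [← hS] at h1
    have h2 := Finset.sum_le_sum_of_subset (f := fun i => 2 ^ i) hsub
    simp at h2
    omega
  obtain ⟨j, hj⟩ : ∃ j, (i₀ : ℕ) = j + 1 := ⟨(i₀ : ℕ) - 1, by omega⟩
  obtain ⟨σ, hσ, hσs⟩ : ∃ σ ∈ tree (i₀ : ℕ), sign σ = -1 := by
    rw [hj]
    obtain ⟨σ, hσ, h1, -⟩ := exists_odd_involution j
    exact ⟨σ, hσ, h1⟩
  have hodd : Pi.mulSingle i₀ σ ∈ binTree S := (mem_binTree S).2 fun i => by
    rcases eq_or_ne i i₀ with rfl | h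
    · simpa using hσ
    · rw [Pi.mulSingle_eq_of_ne h]; exact one_mem _
  have hidx : ((binSign S).comp (binTree S).subtype).ker.index = 2 := by
    rw [Subgroup.index_ker, show ((binSign S).comp (binTree S).subtype).range = ⊤ from ?_,
      Subgroup.card_top, Nat.card_eq_fintype_card, Fintype.card_units_int]
    rw [eq_top_iff]
    intro u _
    rcases Int.units_eq_one_or u with rfl | rfl
    · exact one_mem _
    · exact ⟨⟨_, hodd⟩, (binSign_mulSingle S i₀ σ).trans hσs⟩
  have hcardE : Nat.card (binEven S) * 2 = 2 ^ (∑ i ∈ S, (2 ^ i - 1)) := by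
    rw [← card_binTree, ← Subgroup.card_mul_index ((binSign S).comp (binTree S).subtype).ker, hidx]
    congr 1
    refine Nat.card_congr
      { toFun := fun f => ⟨⟨f.1, (Subgroup.mem_inf.1 f.2).1⟩, (Subgroup.mem_inf.1 f.2).2⟩
        invFun := fun f => ⟨f.1.1, Subgroup.mem_inf.2 ⟨f.1.2, f.2⟩⟩
        left_inv := fun f => rfl
        right_inv := fun f => rfl }
  have hfac : (Nat.card (alternatingGroup (Fin n))).factorization 2 + 1 = padicValNat 2 n.factorial := by
    have h := two_mul_card_alternatingGroup (α := Fin n)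
    rw [Fintype.card_perm, Fintype.card_fin, ← Nat.card_eq_fintype_card] at h
    rw [← h, padicValNat.mul (by norm_num) Nat.card_pos.ne', padicValNat.self (by norm_num),
      Nat.factorization_def _ Nat.prime_two, add_comm]
  have hE : Nat.card φ.range = 2 ^ (Nat.card (alternatingGroup (Fin n))).factorization 2 := by
    rw [← Nat.card_congr (MonoidHom.ofInjective hφ).toEquiv]
    refine Nat.eq_of_mul_eq_mul_right two_pos ?_
    rw [hcardE, ← pow_succ]
    congr 1
    omega
  let Q : Sylow 2 (alternatingGroup (Fin n)) := Sylow.ofCard φ.range hE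
  refine ⟨(MonoidHom.ofInjective hφ).trans ?_⟩
  exact (Sylow.equiv Q P : ↥(Q : Subgroup (alternatingGroup (Fin n))) ≃* _)

variable {S}

/-- Decompositions of a group into two nontrivial commuting disjoint parts. -/
def Decomposable (G : Type*) [Group G] : Prop :=
  ∃ A B : Subgroup G, A ≠ ⊥ ∧ B ≠ ⊥ ∧ (∀ a ∈ A, ∀ b ∈ B, a * b = b * a) ∧ A ⊓ B = ⊥ ∧ A ⊔ B = ⊤

theorem Decomposable.of_equiv {G H : Type*} [Group G] [Group H] (e : G ≃* H) (h : Decomposable G) :
    Decomposable H := by
  obtain ⟨A, B, hA, hB, hc, hi, hs⟩ := h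
  refine ⟨A.map e.toMonoidHom, B.map e.toMonoidHom, ?_, ?_, ?_, ?_, ?_⟩
  · rwa [Ne, Subgroup.map_eq_bot_iff_of_injective _ e.injective]
  · rwa [Ne, Subgroup.map_eq_bot_iff_of_injective _ e.injective]
  · rintro _ ⟨a, ha, rfl⟩ _ ⟨b, hb, rfl⟩
    rw [← map_mul, ← map_mul, hc a ha b hb]
  · rw [← Subgroup.map_inf _ _ _ e.injective, hi, Subgroup.map_bot]
  · rw [← Subgroup.map_sup, hs, ← MonoidHom.range_eq_map, MonoidHom.range_eq_top.2 e.surjective]

/-- A 2-group whose centre lies in `{1, z}` is indecomposable. -/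
theorem not_decomposable_of_centre {G : Type*} [Group G] [Finite G] (hG : IsPGroup 2 G) (z : G)
    (hz : ∀ c ∈ Subgroup.center G, c = 1 ∨ c = z) : ¬Decomposable G := by
  rintro ⟨A, B, hA, hB, hc, hi, hs⟩
  have hcen : ∀ (C C' : Subgroup G), C ⊔ C' = ⊤ → (∀ a ∈ C, ∀ b ∈ C', a * b = b * a) → C ≠ ⊥ →
      z ∈ C := by
    intro C C' hs hc hC
    haveI : Nontrivial C := (Subgroup.nontrivial_iff_ne_bot C).2 hC
    haveI := (hG.to_subgroup C).center_nontrivial
    obtain ⟨⟨⟨c, hcC⟩, hcc⟩, hne⟩ := exists_ne (1 : Subgroup.center C)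
    have hmem : c ∈ Subgroup.center G := by
      rw [Subgroup.mem_center_iff]
      intro g
      have : C ⊔ C' ≤ Subgroup.centralizer {c} := by
        refine sup_le (fun y hy => ?_) (fun y hy => ?_)
        · rw [Subgroup.mem_centralizer_singleton_iff]
          exact congrArg Subtype.val (Subgroup.mem_center_iff.1 hcc ⟨y, hy⟩)
        · rw [Subgroup.mem_centralizer_singleton_iff]
          exact (hc c hcC y hy).symm
      rw [hs] at this
      exact Subgroup.mem_centralizer_singleton_iff.1 (this (Subgroup.mem_top g))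
    rcases hz c hmem with rfl | rfl
    · exact absurd rfl hne
    · exact hcC
  have h1 := hcen A B hs hc hA
  have h2 := hcen B A (by rw [sup_comm, hs]) (fun a ha b hb => (hc b hb a ha).symm) hB
  have hz1 : z = 1 := Subgroup.mem_bot.1 (hi ▸ Subgroup.mem_inf.2 ⟨h1, h2⟩)
  -- then the centre is trivial
  have : Nontrivial G := by
    obtain ⟨⟨a, ha⟩, hne⟩ := (Subgroup.ne_bot_iff_exists_ne_one.1 hA)
    exact ⟨a, 1, fun h => hne (Subtype.ext h)⟩
  haveI := hG.center_nontrivial
  obtain ⟨⟨c, hcc⟩, hne⟩ := exists_ne (1 : Subgroup.center G)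
  exact hne (Subtype.ext (by rcases hz c hcc with h | h <;> simp [h, hz1]))

theorem treeCentre_sq : ∀ k, treeCentre k * treeCentre k = 1
  | 0 => one_mul 1
  | 1 => by
    show tnode true (fun _ => 1) * tnode true (fun _ => 1) = _
    rw [tnode_mul]
    simpa using tnode_one (k := 0)
  | k + 2 => by
    show tnode false (fun _ => treeCentre (k + 1)) * tnode false (fun _ => treeCentre (k + 1)) = _
    rw [tnode_mul]
    simp only [treeCentre_sq (k + 1)]
    exact tnode_one

theorem treeCentre_ne_one : ∀ {k : ℕ}, 1 ≤ k → treeCentre k ≠ 1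
  | 1, _ => fun h => by
    rw [show treeCentre 1 = tnode true fun _ => 1 from rfl, ← tnode_one] at h
    exact absurd (tnode_injective h).1 (by decide)
  | k + 2, _ => fun h => by
    rw [show treeCentre (k + 2) = tnode false fun _ => treeCentre (k + 1) from rfl, ← tnode_one] at h
    exact treeCentre_ne_one (k := k + 1) (by omega) (congrFun (tnode_injective h).2 true)

theorem tree_small : ∀ {k : ℕ}, k < 2 → ∀ σ ∈ tree k, σ = 1 ∨ (k = 1 ∧ σ = treeCentre k)
  | 0, _ => fun σ _ => by
    haveI : Subsingleton (Leaf 0) := inferInstanceAs (Subsingleton Unit)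
    exact Or.inl (Equiv.ext fun x => Subsingleton.elim _ _)
  | 1, _ => by
    rintro σ ⟨f, g, -, rfl⟩
    haveI : Subsingleton (Leaf 0) := inferInstanceAs (Subsingleton Unit)
    rw [show g = fun _ => 1 from funext fun b => Equiv.ext fun x => Subsingleton.elim _ _]
    cases f
    · exact Or.inl tnode_one
    · exact Or.inr ⟨rfl, rfl⟩

theorem sign_treeCentre_one : sign (treeCentre 1) = -1 := by
  rw [show treeCentre 1 = tnode true fun _ => 1 from rfl, sign_tnode]
  simp

/-- An odd involution in a tree of positive height, or one. -/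
theorem exists_fix {k : ℕ} (hk : 1 ≤ k) (u : ℤˣ) : ∃ σ ∈ tree k, sign σ = u ∧ σ * σ = 1 := by
  rcases Int.units_eq_one_or u with rfl | rfl
  · exact ⟨1, one_mem _, map_one _, one_mul 1⟩
  · obtain ⟨j, rfl⟩ : ∃ j, k = j + 1 := ⟨k - 1, by omega⟩
    exact exists_odd_involution j

theorem mulSingle_mem_binTree {i : S} {σ : Equiv.Perm (Leaf i)} (h : σ ∈ tree (i : ℕ)) :
    Pi.mulSingle i σ ∈ binTree S := (mem_binTree S).2 fun j => by
  rcases eq_or_ne j i with rfl | h'
  · simpa using h
  · rw [Pi.mulSingle_eq_of_ne h']; exact one_mem _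

/-- A component can be prescribed, compensating the sign elsewhere. -/
theorem exists_binEven_component {i j : S} (hij : i ≠ j) (hj : 1 ≤ (j : ℕ)) {σ : Equiv.Perm (Leaf i)}
    (hσ : σ ∈ tree (i : ℕ)) :
    ∃ e : ∀ k : S, Equiv.Perm (Leaf k), e ∈ binEven S ∧ e i = σ ∧ (∀ k, k ≠ i → k ≠ j → e k = 1) ∧
      e j * e j = 1 ∧ sign (e j) = sign σ := by
  obtain ⟨τ, hτ, hs, h2⟩ := exists_fix hj (sign σ)
  refine ⟨Pi.mulSingle i σ * Pi.mulSingle j τ, Subgroup.mem_inf.2 ⟨mul_mem (mulSingle_mem_binTree hσ)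
    (mulSingle_mem_binTree hτ), ?_⟩, by simp [Pi.mulSingle_eq_of_ne hij], fun k hki hkj => by
      simp [Pi.mulSingle_eq_of_ne hki, Pi.mulSingle_eq_of_ne hkj], by simp [Pi.mulSingle_eq_of_ne hij.symm, h2],
    by simp [Pi.mulSingle_eq_of_ne hij.symm, hs]⟩
  rw [MonoidHom.mem_ker, map_mul, binSign_mulSingle, binSign_mulSingle, hs, Int.units_mul_self]

theorem isPGroup_binEven : IsPGroup 2 ↥(binEven S) :=
  (IsPGroup.of_card (p := 2) (card_binTree S)).to_le inf_le_left

/-- With a part of height one and two larger parts the even part decomposes. -/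
theorem decomposable_binEven {k₀ k₁ one : S} (h₀ : 2 ≤ (k₀ : ℕ)) (h₁ : 2 ≤ (k₁ : ℕ)) (hne : k₀ ≠ k₁)
    (hone : (one : ℕ) = 1) : Decomposable ↥(binEven S) := by
  have hk0one : k₀ ≠ one := fun h => by rw [h] at h₀; omega
  have hcomm : ∀ i : S, (i : ℕ) < 2 → ∀ a b : Equiv.Perm (Leaf i), a ∈ tree (i : ℕ) → b ∈ tree (i : ℕ) →
      a * b = b * a := by
    intro i hi a b ha hb
    rcases tree_small hi a ha with rfl | ⟨-, rfl⟩
    · simp
    · exact treeCentre_comm _ b hb
  let A : Subgroup ↥(binEven S) :=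
    { carrier := {f | ∀ i : S, 2 ≤ (i : ℕ) → i ≠ k₀ → f.1 i = 1}
      one_mem' := fun i _ _ => rfl
      mul_mem' := fun {a b} ha hb i h h' => by simp [ha i h h', hb i h h']
      inv_mem' := fun {a} ha i h h' => by simp [ha i h h'] }
  let B : Subgroup ↥(binEven S) :=
    { carrier := {f | f.1 k₀ = 1}
      one_mem' := rfl
      mul_mem' := fun {a b} (ha : a.1 k₀ = 1) (hb : b.1 k₀ = 1) => by simp [ha, hb]
      inv_mem' := fun {a} (ha : a.1 k₀ = 1) => by simp [ha] }
  have hz : ∀ k : S, 2 ≤ (k : ℕ) → Pi.mulSingle k (treeCentre (k : ℕ)) ∈ binEven S := fun k hk =>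
    Subgroup.mem_inf.2 ⟨mulSingle_mem_binTree (treeCentre_mem _), by
      rw [MonoidHom.mem_ker, binSign_mulSingle, sign_treeCentre hk]⟩
  refine ⟨A, B, ?_, ?_, ?_, ?_, ?_⟩
  · intro h
    have hmem : (⟨_, hz k₀ h₀⟩ : ↥(binEven S)) ∈ A := fun i _ hi => Pi.mulSingle_eq_of_ne hi _
    rw [h, Subgroup.mem_bot] at hmem
    have := congrFun (congrArg Subtype.val hmem) k₀
    simp at this
    exact treeCentre_ne_one (by omega) this
  · intro h
    have hmem : (⟨_, hz k₁ h₁⟩ : ↥(binEven S)) ∈ B := Pi.mulSingle_eq_of_ne hne _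
    rw [h, Subgroup.mem_bot] at hmem
    have := congrFun (congrArg Subtype.val hmem) k₁
    simp at this
    exact treeCentre_ne_one (by omega) this
  · intro a ha b hb
    refine Subtype.ext (funext fun i => ?_)
    show a.1 i * b.1 i = b.1 i * a.1 i
    rcases eq_or_ne i k₀ with rfl | hi
    · rw [show b.1 i = 1 from hb]; simp
    · rcases Nat.lt_or_ge (i : ℕ) 2 with h | h
      · exact hcomm i h _ _ (((mem_binEven S).1 a.2).1 i) (((mem_binEven S).1 b.2).1 i)
      · rw [ha i h hi]; simp
  · rw [Subgroup.eq_bot_iff_forall]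
    rintro f ⟨hfA, hfB⟩
    have hbig : ∀ i : S, i ≠ one → f.1 i = 1 := by
      intro i hi
      rcases Nat.lt_or_ge (i : ℕ) 2 with h | h
      · rcases tree_small h (f.1 i) (((mem_binEven S).1 f.2).1 i) with h' | ⟨h', -⟩
        · exact h'
        · exact absurd (Subtype.ext (h'.trans hone.symm)) hi
      · rcases eq_or_ne i k₀ with rfl | hi'
        · exact hfB
        · exact hfA i h hi'
    refine Subtype.ext (funext fun i => ?_)
    rcases eq_or_ne i one with rfl | hi
    · have hs := ((mem_binEven S).1 f.2).2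
      rw [Finset.prod_eq_single i (fun j _ hj => by rw [hbig j hj, map_one])
        (fun h => absurd (Finset.mem_univ i) h)] at hs
      rcases tree_small (by omega) (f.1 i) (((mem_binEven S).1 f.2).1 i) with h' | ⟨-, h'⟩
      · exact h'
      · rw [h', hone, sign_treeCentre_one] at hs
        exact absurd hs (by decide)
    · exact hbig i hi
  · rw [eq_top_iff]
    intro f _
    obtain ⟨e, he, hei, hrest, -, -⟩ :=
      exists_binEven_component hk0one (by omega) (((mem_binEven S).1 f.2).1 k₀)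
    have hA : (⟨e, he⟩ : ↥(binEven S)) ∈ A := fun i h hi => hrest i hi fun h' => by rw [h'] at h; omega
    have hB : (⟨e, he⟩ : ↥(binEven S))⁻¹ * f ∈ B := by
      show (e k₀)⁻¹ * f.1 k₀ = 1
      rw [hei, inv_mul_cancel]
    simpa using mul_mem (Subgroup.mem_sup_left hA) (Subgroup.mem_sup_right (S := A) hB)

/-- With a single part of height at least two, and a part of height one or height at least three, the even
part is indecomposable. -/
theorem not_decomposable_single {k : S} (hk : 2 ≤ (k : ℕ)) (huniq : ∀ i : S, 2 ≤ (i : ℕ) → i = k)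
    (h : (∃ one : S, (one : ℕ) = 1) ∨ 3 ≤ (k : ℕ)) : ¬Decomposable ↥(binEven S) := by
  have hzmem : Pi.mulSingle k (treeCentre (k : ℕ)) ∈ binEven S :=
    Subgroup.mem_inf.2 ⟨mulSingle_mem_binTree (treeCentre_mem _), by
      rw [MonoidHom.mem_ker, binSign_mulSingle, sign_treeCentre hk]⟩
  refine not_decomposable_of_centre isPGroup_binEven ⟨_, hzmem⟩ fun c hc => ?_
  have hc' : ∀ e, e ∈ binEven S → ∀ i, c.1 i * e i = e i * c.1 i := fun e he i =>
    congrFun (congrArg Subtype.val (Subgroup.mem_center_iff.1 hc ⟨e, he⟩).symm) i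
  have hck : c.1 k = 1 ∨ c.1 k = treeCentre (k : ℕ) := by
    have hmem := ((mem_binEven S).1 c.2).1 k
    by_cases h1 : ∃ one : S, (one : ℕ) = 1
    · obtain ⟨one, hone⟩ := h1
      refine tree_centre _ _ hmem fun τ hτ => ?_
      obtain ⟨e, he, hek, -, -, -⟩ :=
        exists_binEven_component (j := one) (fun h => by rw [h] at hk; omega) (by omega) hτ
      simpa [hek] using hc' e he k
    · have h3 := h.resolve_left h1
      have hall : ∀ τ ∈ tree (k : ℕ), sign τ = 1 → c.1 k * τ = τ * c.1 k := fun τ hτ hs => by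
        have := hc' _ (Subgroup.mem_inf.2 ⟨mulSingle_mem_binTree hτ, by
          rw [MonoidHom.mem_ker, binSign_mulSingle, hs]⟩ : Pi.mulSingle k τ ∈ binEven S) k
        simpa using this
      revert hmem hall h3
      generalize c.1 k = σ
      generalize (k : ℕ) = m at σ ⊢
      intro hmem h3 hall
      obtain ⟨j, rfl⟩ : ∃ j, m = j + 1 := ⟨m - 1, by omega⟩
      obtain ⟨f, g, hg, rfl⟩ := hmem
      have hf : f = false := by
        by_contra hf
        obtain rfl : f = true := by simpa using hf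
        have := hall (tnode false fun b => bif b then treeCentre j else 1)
          (tnode_mem_tree _ fun b => by cases b <;> simp [treeCentre_mem, one_mem])
          (by simp [sign_tnode, sign_treeCentre (k := j) (by omega)])
        rw [tnode_mul, tnode_mul] at this
        have := congrFun (tnode_injective this).2 true
        simp at this
        exact treeCentre_ne_one (by omega) this
      subst hf
      rcases diag_centralizer (tree_centre j) hg
        (fun τ hτ => hall _ (tnode_mem_tree _ fun _ => hτ) (by simp [sign_tnode, Int.units_mul_self]))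
        (hall _ (tnode_mem_tree _ fun _ => one_mem _)
          (by rw [sign_tnode]; simp [(Nat.even_pow.2 ⟨even_two, by omega⟩ : Even (2 ^ j)).neg_one_pow])) with
        h' | h'
      · exact Or.inl h'
      · right
        obtain ⟨i, rfl⟩ : ∃ i, j = i + 1 := ⟨j - 1, by omega⟩
        exact h'
  have hsmall : ∀ i : S, i ≠ k → c.1 i = 1 := by
    intro i hi
    have hi2 : (i : ℕ) < 2 := by
      by_contra hge
      exact hi (huniq i (by omega))
    rcases tree_small hi2 (c.1 i) (((mem_binEven S).1 c.2).1 i) with h' | ⟨h1, h'⟩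
    · exact h'
    exfalso
    have hs := ((mem_binEven S).1 c.2).2
    rw [← Finset.mul_prod_erase _ _ (Finset.mem_univ i), Finset.prod_eq_one (fun j hj => ?_), mul_one, h', h1,
      sign_treeCentre_one] at hs
    · exact absurd hs (by decide)
    rcases eq_or_ne j k with rfl | hj'
    · rcases hck with e | e <;> rw [e]
      · exact map_one _
      · exact sign_treeCentre hk
    · have hj2 : (j : ℕ) < 2 := by
        by_contra hge
        exact hj' (huniq j (by omega))
      rcases tree_small hj2 (c.1 j) (((mem_binEven S).1 c.2).1 j) with e | ⟨e, -⟩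
      · rw [e, map_one]
      · exact absurd (Subtype.ext (e.trans h1.symm)) (Finset.ne_of_mem_erase hj)
  rcases hck with h' | h'
  · refine Or.inl (Subtype.ext (funext fun i => ?_))
    rcases eq_or_ne i k with rfl | hi
    · exact h'
    · exact hsmall i hi
  · refine Or.inr (Subtype.ext (funext fun i => ?_))
    rcases eq_or_ne i k with rfl | hi
    · simpa using h'
    · simpa [Pi.mulSingle_eq_of_ne hi] using hsmall i hi

/-- With two large parts and no part of height one, no factor is central. -/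
theorem not_central_factor {k₀ k₁ : S} (h₀ : 2 ≤ (k₀ : ℕ)) (h₁ : 2 ≤ (k₁ : ℕ)) (hne : k₀ ≠ k₁)
    (A B : Subgroup ↥(binEven S)) (hA : B ≠ ⊥) (hc : ∀ a ∈ A, ∀ b ∈ B, a * b = b * a) (hi : A ⊓ B = ⊥)
    (hs : A ⊔ B = ⊤) (hno : ∀ i : S, (i : ℕ) ≠ 1)
    (hB : ∀ i : S, ∀ b ∈ B, b.1 i = 1 ∨ b.1 i = treeCentre (i : ℕ)) : False := by
  have hsq : ∀ b ∈ B, b * b = 1 := fun b hb => Subtype.ext (funext fun i => by
    show b.1 i * b.1 i = 1
    rcases hB i b hb with h | h <;> rw [h]
    · exact one_mul 1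
    · exact treeCentre_sq _)
  have hsquare : ∀ x : ↥(binEven S), x * x ∈ A := by
    intro x
    have hx : x ∈ A ⊔ B := hs ▸ Subgroup.mem_top x
    rw [← SetLike.mem_coe, Subgroup.coe_mul_of_right_le_normalizer_left A B (fun b hb => ?_), Set.mem_mul] at hx
    · obtain ⟨a, ha, b, hb, rfl⟩ := hx
      have : a * b * (a * b) = a * a * (b * b) := by
        rw [mul_assoc, ← mul_assoc b, ← hc a ha b hb]; group
      rw [this, hsq b hb, mul_one]
      exact mul_mem ha ha
    · refine Subgroup.mem_normalizer_iff.2 fun a => ⟨fun ha => ?_, fun ha => ?_⟩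
      · rw [← hc a ha b hb, mul_inv_cancel_right]; exact ha
      · have e := hc _ ha b hb
        rw [inv_mul_cancel_right] at e
        have : b * a * b⁻¹ = a := by
          rw [← mul_right_inj b, ← e]
        rwa [this] at ha
  have hsingle : ∀ i : S, Pi.mulSingle i (treeCentre (i : ℕ)) ∈ A.map (binEven S).subtype := by
    intro i
    rcases Nat.lt_or_ge (i : ℕ) 2 with h | h
    · have h0 : (i : ℕ) = 0 := by have := hno i; omega
      have : treeCentre (i : ℕ) = 1 := by rw [h0]; rfl
      rw [this, Pi.mulSingle_one]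
      exact one_mem _
    · obtain ⟨y, hy, hyy⟩ := exists_sq_centre h
      obtain ⟨j, hij, hj⟩ : ∃ j : S, i ≠ j ∧ 1 ≤ (j : ℕ) := by
        rcases eq_or_ne i k₀ with rfl | hi'
        · exact ⟨k₁, hne, by omega⟩
        · exact ⟨k₀, hi', by omega⟩
      obtain ⟨e, he, hei, hrest, hej, -⟩ := exists_binEven_component hij hj hy
      refine ⟨⟨e, he⟩ * ⟨e, he⟩, hsquare _, funext fun l => ?_⟩
      show e l * e l = _
      rcases eq_or_ne l i with rfl | hl
      · simp [hei, hyy]
      · rcases eq_or_ne l j with rfl | hl'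
        · rw [hej, Pi.mulSingle_eq_of_ne hl]
        · rw [hrest l hl hl', one_mul, Pi.mulSingle_eq_of_ne hl]
  apply hA
  rw [Subgroup.eq_bot_iff_forall]
  intro b hb
  have hbA : (b : ∀ i : S, Equiv.Perm (Leaf i)) ∈ A.map (binEven S).subtype := by
    refine Subgroup.pi_mem_of_mulSingle_mem _ fun i => ?_
    rcases hB i b hb with h | h <;> rw [h]
    · rw [Pi.mulSingle_one]; exact one_mem _
    · exact hsingle i
  obtain ⟨a, ha, e⟩ := hbA
  obtain rfl : a = b := Subtype.ext e
  exact Subgroup.mem_bot.1 (hi ▸ Subgroup.mem_inf.2 ⟨ha, hb⟩)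

/-- With two large parts and no part of height one the even part is indecomposable. -/
theorem not_decomposable_many {k₀ k₁ : S} (h₀ : 2 ≤ (k₀ : ℕ)) (h₁ : 2 ≤ (k₁ : ℕ)) (hne : k₀ ≠ k₁)
    (hno : ∀ i : S, (i : ℕ) ≠ 1) : ¬Decomposable ↥(binEven S) := by
  classical
  rintro ⟨A, B, hA, hB, hc, hi, hs⟩
  let pr : ∀ i : S, ↥(binEven S) →* Equiv.Perm (Leaf i) := fun i =>
    (Pi.evalMonoidHom (fun i : S => Equiv.Perm (Leaf i)) i).comp (binEven S).subtype
  have hrange : ∀ i : S, 2 ≤ (i : ℕ) → A.map (pr i) ⊔ B.map (pr i) = tree (i : ℕ) := by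
    intro i hi2
    rw [← Subgroup.map_sup, hs]
    refine le_antisymm ?_ fun σ hσ => ?_
    · rintro _ ⟨f, -, rfl⟩
      exact ((mem_binEven S).1 f.2).1 i
    · obtain ⟨j, hij, hj⟩ : ∃ j : S, i ≠ j ∧ 1 ≤ (j : ℕ) := by
        rcases eq_or_ne i k₀ with rfl | hi'
        · exact ⟨k₁, hne, by omega⟩
        · exact ⟨k₀, hi', by omega⟩
      obtain ⟨e, he, hei, -, -, -⟩ := exists_binEven_component hij hj hσ
      exact ⟨⟨e, he⟩, Subgroup.mem_top _, hei⟩
  have hnorm : ∀ (C C' : Subgroup ↥(binEven S)), C ⊔ C' = ⊤ → (∀ a ∈ C, ∀ b ∈ C', a * b = b * a) →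
      ∀ i : S, 2 ≤ (i : ℕ) → ∀ τ ∈ tree (i : ℕ), ∀ a ∈ C.map (pr i), τ * a * τ⁻¹ ∈ C.map (pr i) := by
    rintro C C' hs' hc' i hi2 τ hτ _ ⟨a, ha, rfl⟩
    have hnC : (⊤ : Subgroup ↥(binEven S)) ≤ Subgroup.normalizer (C : Set ↥(binEven S)) := by
      rw [← hs']
      refine sup_le Subgroup.le_normalizer fun b hb => Subgroup.mem_normalizer_iff.2 fun x => ⟨fun hx => ?_, fun hx => ?_⟩
      · rw [← hc' x hx b hb, mul_inv_cancel_right]; exact hx
      · have e := hc' _ hx b hb
        rw [inv_mul_cancel_right] at e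
        have : b * x * b⁻¹ = x := by rw [← mul_right_inj b, ← e]
        rwa [this] at hx
    obtain ⟨j, hij, hj⟩ : ∃ j : S, i ≠ j ∧ 1 ≤ (j : ℕ) := by
      rcases eq_or_ne i k₀ with rfl | hi'
      · exact ⟨k₁, hne, by omega⟩
      · exact ⟨k₀, hi', by omega⟩
    obtain ⟨e, he, hei, -, -, -⟩ := exists_binEven_component hij hj hτ
    refine ⟨⟨e, he⟩ * a * ⟨e, he⟩⁻¹, (Subgroup.mem_normalizer_iff.1 (hnC (Subgroup.mem_top _)) a).1 ha, ?_⟩
    show e i * a.1 i * (e i)⁻¹ = _
    rw [hei]
    rfl
  let cA : S → Prop := fun i => ∀ a ∈ A, a.1 i = 1 ∨ a.1 i = treeCentre (i : ℕ)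
  let cB : S → Prop := fun i => ∀ b ∈ B, b.1 i = 1 ∨ b.1 i = treeCentre (i : ℕ)
  have hAB : ∀ i : S, cA i ∨ cB i := by
    intro i
    rcases Nat.lt_or_ge (i : ℕ) 2 with h | h
    · refine Or.inl fun a _ => ?_
      rcases tree_small h (a.1 i) (((mem_binEven S).1 a.2).1 i) with e | ⟨-, e⟩
      exacts [Or.inl e, Or.inr e]
    · rcases tree_central_product h (hrange i h) (hnorm A B hs hc i h)
        (hnorm B A (by rw [sup_comm, hs]) (fun b hb a ha => (hc a ha b hb).symm) i h)
        (by rintro _ ⟨a, ha, rfl⟩ _ ⟨b, hb, rfl⟩; rw [← map_mul, ← map_mul, hc a ha b hb]) with hcen | hcen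
      · exact Or.inl fun a ha => hcen _ ⟨a, ha, rfl⟩
      · exact Or.inr fun b hb => hcen _ ⟨b, hb, rfl⟩
  -- the parts on which `A` is not central carry an even sign
  let χ : ↥(binEven S) →* ℤˣ :=
    { toFun := fun f => ∏ i ∈ Finset.univ.filter (fun i => ¬cA i), sign (f.1 i)
      map_one' := by simp
      map_mul' := fun f g => by simp [Finset.prod_mul_distrib] }
  have heven : ∀ i : S, ∀ σ : Equiv.Perm (Leaf i), σ = 1 ∨ σ = treeCentre (i : ℕ) → sign σ = 1 := by
    rintro i σ (rfl | rfl)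
    · exact map_one _
    · rcases Nat.lt_or_ge (i : ℕ) 2 with h | h
      · have h0 : (i : ℕ) = 0 := by have := hno i; omega
        rw [h0]; exact map_one _
      · exact sign_treeCentre h
  have hχ : ∀ f, χ f = 1 := by
    intro f
    have : (⊤ : Subgroup ↥(binEven S)) ≤ χ.ker := by
      rw [← hs]
      refine sup_le (fun a ha => ?_) (fun b hb => ?_)
      · show ∏ i ∈ _, sign (a.1 i) = 1
        have h := ((mem_binEven S).1 a.2).2
        rw [← Finset.prod_filter_mul_prod_filter_not Finset.univ cA] at h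
        rwa [Finset.prod_eq_one (s := Finset.univ.filter cA) (fun i hi' => heven i _ ((Finset.mem_filter.1 hi').2 a ha)), one_mul] at h
      · exact Finset.prod_eq_one fun i hi' =>
          heven i _ ((hAB i).resolve_left (Finset.mem_filter.1 hi').2 b hb)
    exact this (Subgroup.mem_top f)
  by_cases hall : ∀ i : S, cA i
  · exact not_central_factor h₀ h₁ hne B A hA (fun b hb a ha => (hc a ha b hb).symm) (by rw [inf_comm, hi])
      (by rw [sup_comm, hs]) hno hall
  · push Not at hall
    obtain ⟨i₁, hi₁⟩ := hall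
    refine not_central_factor h₀ h₁ hne A B hB hc hi hs hno fun i => ?_
    intro b hb
    rcases Nat.lt_or_ge (i : ℕ) 2 with hi2 | hi2
    · rcases tree_small hi2 (b.1 i) (((mem_binEven S).1 b.2).1 i) with e | ⟨-, e⟩
      exacts [Or.inl e, Or.inr e]
    refine (hAB i).resolve_left (fun hAi => ?_) b hb
    have hi₁2 : 2 ≤ (i₁ : ℕ) := by
      by_contra h
      exact hi₁ fun a _ => by
        rcases tree_small (by omega) (a.1 i₁) (((mem_binEven S).1 a.2).1 i₁) with e | ⟨-, e⟩
        exacts [Or.inl e, Or.inr e]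
    obtain ⟨σ, hσ, hσs, -⟩ := exists_fix (k := (i₁ : ℕ)) (by omega) (-1)
    obtain ⟨e, he, hei, hrest, -, -⟩ :=
      exists_binEven_component (i := i₁) (j := i) (fun h => hi₁ (h ▸ hAi)) (by omega) hσ
    have h1 := hχ ⟨e, he⟩
    change ∏ l ∈ Finset.univ.filter (fun l => ¬cA l), sign (e l) = 1 at h1
    rw [Finset.prod_eq_single i₁ (fun l hl hne' => by
      rw [hrest l hne' (fun h => (Finset.mem_filter.1 hl).2 (h ▸ hAi)), map_one])
      (fun h => absurd (Finset.mem_filter.2 ⟨Finset.mem_univ i₁, hi₁⟩ : i₁ ∈ Finset.univ.filter fun l => ¬cA l) h), hei, hσs] at h1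
    exact absurd h1 (by decide)

end Cfsg.Agent.Perm
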