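import Mathlib

set_option autoImplicit false

/-!
# Stabilisers of partitions into parts of equal size

For a labelling `f : Ω → ι` the group `stab f` of permutations preserving the fibres of `f`.
-/

namespace Cfsg.Agent.Perm.BlockPartition

open scoped Pointwise

variable {Ω : Type*} {ι : Type*}

/-- The permutations preserving the partition into fibres of `f`. -/
def stab (f : Ω → ι) : Subgroup (Equiv.Perm Ω) where
  carrier := {g | ∀ x y, f x = f y ↔ f (g x) = f (g y)}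
  mul_mem' := fun {a b} ha hb x y => (hb x y).trans (ha (b x) (b y))
  one_mem' := fun x y => Iff.rfl
  inv_mem' := fun {a} ha x y => by
    have := ha (a⁻¹ x) (a⁻¹ y)
    simp at this ⊢
    exact this.symm

theorem mem_stab {f : Ω → ι} {g : Equiv.Perm Ω} :
    g ∈ stab f ↔ ∀ x y, f x = f y ↔ f (g x) = f (g y) := Iff.rfl

theorem closure_eq (f : Ω → ι) :
    Subgroup.closure {g : Equiv.Perm Ω | ∀ x y : Ω, f x = f y ↔ f (g x) = f (g y)} = stab f :=
  Subgroup.closure_eq (stab f)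

theorem label_swap [DecidableEq Ω] {f : Ω → ι} {u v : Ω} (h : f u = f v) (z : Ω) :
    f (Equiv.swap u v z) = f z := by
  rcases eq_or_ne z u with rfl | h1
  · simp [h]
  rcases eq_or_ne z v with rfl | h2
  · simp [h]
  · rw [Equiv.swap_apply_of_ne_of_ne h1 h2]

theorem swap_mem [DecidableEq Ω] {f : Ω → ι} {u v : Ω} (h : f u = f v) : Equiv.swap u v ∈ stab f :=
  fun x y => by rw [label_swap h, label_swap h]

theorem exists_other [Finite Ω] {a : ℕ} (ha : 2 ≤ a) {f : Ω → ι}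
    (hf : ∀ i, Nat.card {x : Ω // f x = i} = a) (x : Ω) : ∃ y, y ≠ x ∧ f y = f x := by
  have h2 : 1 < Nat.card {y : Ω // f y = f x} := by rw [hf]; omega
  haveI := Finite.one_lt_card_iff_nontrivial.1 h2
  obtain ⟨y, hy⟩ := exists_ne (⟨x, rfl⟩ : {y : Ω // f y = f x})
  exact ⟨y.1, fun h => hy (Subtype.ext h), y.2⟩

theorem exists_of_label [Finite Ω] {a : ℕ} (ha : 1 ≤ a) {f : Ω → ι}
    (hf : ∀ i, Nat.card {x : Ω // f x = i} = a) (i : ι) : ∃ x, f x = i := by
  have h2 : 0 < Nat.card {y : Ω // f y = i} := by rw [hf]; omega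
  obtain ⟨⟨x, hx⟩⟩ := (Nat.card_pos_iff.1 h2).1
  exact ⟨x, hx⟩

/-- every permutation of the labels lifts, with prescribed value at one point -/
theorem exists_lift [Finite Ω] [DecidableEq Ω] {a : ℕ} {f : Ω → ι}
    (hf : ∀ i, Nat.card {x : Ω // f x = i} = a) (σ : Equiv.Perm ι) (x y : Ω) (hxy : σ (f x) = f y) :
    ∃ g ∈ stab f, g x = y ∧ ∀ z, f (g z) = σ (f z) := by
  have he : ∀ i, Nonempty ({z : Ω // f z = i} ≃ {z : Ω // f z = σ i}) := fun i =>
    Finite.card_eq.1 ((hf i).trans (hf (σ i)).symm) |> fun h => by exact h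
  let g₀ : Equiv.Perm Ω := (Equiv.sigmaFiberEquiv f).symm.trans
    ((Equiv.sigmaCongr σ (fun i => (he i).some)).trans (Equiv.sigmaFiberEquiv f))
  have hg₀ : ∀ z, f (g₀ z) = σ (f z) := fun z => ((he (f z)).some ⟨z, rfl⟩).2
  have hs : f (g₀ x) = f y := by rw [hg₀, hxy]
  refine ⟨Equiv.swap (g₀ x) y * g₀, mul_mem (swap_mem hs) ?_, Equiv.swap_apply_left _ _, fun z => ?_⟩
  · intro z w
    rw [hg₀, hg₀, σ.injective.eq_iff]
  · rw [Equiv.Perm.mul_apply, label_swap hs, hg₀]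

/-- a permutation outside `stab f` separates two points with the same label -/
theorem exists_separated [Finite Ω] {a : ℕ} {f : Ω → ι}
    (hf : ∀ i, Nat.card {x : Ω // f x = i} = a) {g : Equiv.Perm Ω} (hg : g ∉ stab f) :
    ∃ x y, f x = f y ∧ f (g x) ≠ f (g y) := by
  by_contra hc
  push_neg at hc
  refine hg fun x y => ⟨hc x y, fun h => ?_⟩
  let φ : {z : Ω // f z = f x} → {z : Ω // f z = f (g x)} := fun z => ⟨g z.1, hc z.1 x z.2⟩
  have hinj : Function.Injective φ := fun z w e => Subtype.ext (g.injective (congrArg Subtype.val e))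
  have hbij := (Nat.bijective_iff_injective_and_card φ).2 ⟨hinj, (hf _).trans (hf _).symm⟩
  obtain ⟨z, hz⟩ := hbij.2 ⟨g y, h.symm⟩
  have : z.1 = y := g.injective (congrArg Subtype.val hz)
  rw [← this]
  exact z.2.symm

theorem ne_top [Finite Ω] [DecidableEq Ω] {a b : ℕ} (ha : 2 ≤ a) (hb : 2 ≤ b) {f : Ω → Fin b}
    (hf : ∀ i, Nat.card {x : Ω // f x = i} = a) : stab f ≠ ⊤ := by
  intro h
  obtain ⟨x, hx⟩ := exists_of_label (by omega) hf ⟨0, by omega⟩
  obtain ⟨y, hy⟩ := exists_of_label (by omega) hf ⟨1, by omega⟩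
  obtain ⟨x', hne, hx'⟩ := exists_other ha hf x
  have hxy : f x ≠ f y := by rw [hx, hy]; simp [Fin.ext_iff]
  have hne' : x' ≠ y := fun e => hxy (e ▸ hx'.symm)
  have hmem : Equiv.swap x y ∈ stab f := h ▸ Subgroup.mem_top _
  have := (hmem x x').1 hx'.symm
  rw [Equiv.swap_apply_left, Equiv.swap_apply_of_ne_of_ne hne hne'] at this
  exact hxy (hx'.symm.trans this.symm)

/-- The stabiliser of a partition into `b ≥ 2` parts of size `a ≥ 2` is maximal in the symmetric group. -/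
theorem isCoatom_stab [Finite Ω] [DecidableEq Ω] {a b : ℕ} (ha : 2 ≤ a) (hb : 2 ≤ b) {f : Ω → Fin b}
    (hf : ∀ i, Nat.card {x : Ω // f x = i} = a) : IsCoatom (stab f) := by
  refine ⟨ne_top ha hb hf, fun T hT => ?_⟩
  obtain ⟨g, hg, hgn⟩ := SetLike.exists_of_lt hT
  obtain ⟨x, y, hxy, hne⟩ := exists_separated hf hgn
  have hconj : ∀ s ∈ T, ∀ u v : Ω, Equiv.swap u v ∈ T → Equiv.swap (s u) (s v) ∈ T := by
    intro s hs u v h
    rw [Equiv.swap_apply_apply]
    exact mul_mem (mul_mem hs h) (inv_mem hs)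
  have hcross : Equiv.swap (g x) (g y) ∈ T := hconj g hg x y (hT.le (swap_mem hxy))
  refine eq_top_iff.2 ?_
  rw [← Equiv.Perm.closure_isSwap, Subgroup.closure_le]
  rintro _ ⟨u, v, huv, rfl⟩
  by_cases h : f u = f v
  · exact hT.le (swap_mem h)
  obtain ⟨σ, hσ1, hσ2⟩ : ∃ σ : Equiv.Perm (Fin b), σ (f (g x)) = f u ∧ σ (f (g y)) = f v := by
    refine ⟨Equiv.swap (Equiv.swap (f (g x)) (f u) (f (g y))) (f v) * Equiv.swap (f (g x)) (f u), ?_, ?_⟩
    · rw [Equiv.Perm.mul_apply, Equiv.swap_apply_left]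
      refine Equiv.swap_apply_of_ne_of_ne (fun e => hne ?_) h
      exact (Equiv.swap (f (g x)) (f u)).injective ((Equiv.swap_apply_left _ _).trans e)
    · rw [Equiv.Perm.mul_apply, Equiv.swap_apply_left]
  obtain ⟨p, hp, hpx, hpl⟩ := exists_lift hf σ (g x) u hσ1
  have h1 : Equiv.swap u (p (g y)) ∈ T := by
    have := hconj p (hT.le hp) _ _ hcross
    rwa [hpx] at this
  have hw : f (p (g y)) = f v := by rw [hpl, hσ2]
  have h2 := hconj _ (hT.le (swap_mem hw)) _ _ h1
  rwa [Equiv.swap_apply_left, Equiv.swap_apply_of_ne_of_ne (fun (e : u = p (g y)) => h (e ▸ hw)) huv] at h2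

end Cfsg.Agent.Perm.BlockPartition
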