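import Cfsg.Agent.Lib.Perm.NormalMultTrans
import Cfsg.Agent.Lib.CharInt.FrobeniusKernel

/-!
# Burnside: minimal normal subgroups of 2-transitive groups
-/

namespace Cfsg.Agent.Perm

open MulAction Pointwise

universe u v

variable {G : Type u} {α : Type v} [Group G] [MulAction G α]

/-- A translate of a block of a normal subgroup is a block of that subgroup. -/
theorem isBlock_smul_of_normal {N : Subgroup G} [hN : N.Normal] {B : Set α} (hB : IsBlock N B)
    (g : G) : IsBlock N (g • B) := by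
  refine isBlock_iff_smul_eq_of_mem.2 fun n a ha hna => ?_
  obtain ⟨b, hb, rfl⟩ := Set.mem_smul_set.1 ha
  have h1 : (⟨g⁻¹ * n * g, hN.conj_mem' n n.2 g⟩ : N) • b ∈ B := by
    change (g⁻¹ * (n : G) * g) • b ∈ B
    rw [mul_smul, mul_smul]
    exact Set.mem_smul_set_iff_inv_smul_mem.1 hna
  have h2 : (g⁻¹ * (n : G) * g) • B = B := hB.smul_eq_of_mem hb h1
  change (n : G) • g • B = g • B
  conv_rhs => rw [← h2]
  rw [smul_smul, smul_smul]
  congr 1
  group

/-- An imprimitive normal subgroup of a 2-transitive group has trivial two-point stabilisers. -/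
theorem eq_one_of_imprimitive_normal [Finite α] [FaithfulSMul G α]
    (hG : IsMultiplyPretransitive G α 2) {N : Subgroup G} [N.Normal] [IsPretransitive N α]
    (hprim : ¬ IsPreprimitive N α) {g : G} (hg : g ∈ N) {a b : α} (hab : a ≠ b) (ha : g • a = a)
    (hb : g • b = b) : g = 1 := by
  classical
  -- a smallest non-trivial block
  have hex : ∃ k, ∃ B : Set α, IsBlock N B ∧ ¬ IsTrivialBlock B ∧ B.ncard = k := by
    by_contra h
    refine hprim ⟨fun {B} hB => ?_⟩
    by_contra hB'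
    exact h ⟨_, B, hB, hB', rfl⟩
  obtain ⟨B₀, hB₀, hB₀t, hB₀c⟩ := Nat.find_spec hex
  set k := Nat.find hex
  rw [IsTrivialBlock, not_or] at hB₀t
  obtain ⟨hB₀s, hB₀u⟩ := hB₀t
  have hk1 : 1 < k := hB₀c ▸ (Set.one_lt_ncard_iff_nontrivial).2 (Set.not_subsingleton_iff.1 hB₀s)
  have hkn : k < Nat.card α := by
    rw [← hB₀c, ← Set.ncard_univ]
    exact Set.ncard_lt_ncard (Set.ssubset_univ_iff.2 hB₀u)
  let Line : Set α → Prop := fun B => IsBlock N B ∧ B.ncard = k
  have huniq : ∀ B C, Line B → Line C → ∀ x y, x ≠ y → x ∈ B → x ∈ C → y ∈ B → y ∈ C → B = C := by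
    intro B C hB hC x y hxy hxB hxC hyB hyC
    have h1 : 1 < (B ∩ C).ncard := Set.one_lt_ncard_iff_nontrivial.2 ⟨x, ⟨hxB, hxC⟩, y, ⟨hyB, hyC⟩, hxy⟩
    have h2 : (B ∩ C).ncard ≤ k := hB.2 ▸ Set.ncard_le_ncard Set.inter_subset_left
    have h3 : k ≤ (B ∩ C).ncard := by
      refine Nat.find_min' hex ⟨B ∩ C, hB.1.inter hC.1, ?_, rfl⟩
      rintro (h | h)
      · have := Set.ncard_le_one_iff_subsingleton.2 h
        omega
      · rw [h, Set.ncard_univ] at h2
        omega
    exact (Set.eq_of_subset_of_ncard_le Set.inter_subset_left (hB.2.le.trans h3)).symm.trans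
      (Set.eq_of_subset_of_ncard_le Set.inter_subset_right (hC.2.le.trans h3))
  have hline : ∀ x y, x ≠ y → ∃ B, Line B ∧ x ∈ B ∧ y ∈ B := by
    intro x y hxy
    obtain ⟨u, hu, w, hw, huw⟩ := Set.not_subsingleton_iff.1 hB₀s
    obtain ⟨t, htu, htw⟩ := exists_smul_eq_two hG huw hxy
    refine ⟨t • B₀, ⟨isBlock_smul_of_normal hB₀ t, ?_⟩, htu ▸ Set.smul_mem_smul_set hu,
      htw ▸ Set.smul_mem_smul_set hw⟩
    rw [← hB₀c]
    exact Set.ncard_image_of_injective _ (MulAction.injective t)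
  have hfix : ∀ B, Line B → ∀ x ∈ B, g • x = x → g • B = B := fun B hB x hx hgx =>
    hB.1.smul_eq_of_mem (g := (⟨g, hg⟩ : N)) hx (by change g • x ∈ B; rwa [hgx])
  have key : ∀ x y, x ≠ y → g • x = x → g • y = y → ∀ L, Line L → x ∈ L → y ∈ L →
      ∀ c, c ∉ L → g • c = c := by
    intro x y hxy hx hy L hL hxL hyL c hc
    by_contra hgc
    obtain ⟨B, hB, hxB, hcB⟩ := hline x c (fun e => hc (e ▸ hxL))
    obtain ⟨C, hC, hyC, hcC⟩ := hline y c (fun e => hc (e ▸ hyL))
    have h1 : g • c ∈ B := (hfix B hB x hxB hx) ▸ Set.smul_mem_smul_set hcB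
    have h2 : g • c ∈ C := (hfix C hC y hyC hy) ▸ Set.smul_mem_smul_set hcC
    have hBC := huniq B C hB hC c (g • c) (Ne.symm hgc) hcB hcC h1 h2
    rw [← huniq B L hB hL x y hxy hxB hxL (hBC ▸ hyC) hyL] at hc
    exact hc hcB
  obtain ⟨L, hL, haL, hbL⟩ := hline a b hab
  obtain ⟨c, hc⟩ : ∃ c, c ∉ L := by
    by_contra h
    simp only [not_exists, not_not] at h
    rw [show L = Set.univ from Set.eq_univ_of_forall h] at hL
    have := hL.2
    rw [Set.ncard_univ] at this
    omega
  have hgc : g • c = c := key a b hab ha hb L hL haL hbL c hc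
  obtain ⟨M, hM, haM, hcM⟩ := hline a c (fun e => hc (e ▸ haL))
  refine eq_one_of_forall_smul_eq fun d : α => ?_
  by_cases hd : d ∈ L
  · rcases eq_or_ne d a with rfl | hda
    · exact ha
    · refine key a c (fun e => hc (e ▸ haL)) ha hgc M hM haM hcM d fun hdM => hc ?_
      rw [huniq L M hL hM a d (Ne.symm hda) haL haM hd hdM]
      exact hcM
  · exact key a b hab ha hb L hL haL hbL d hd

/-- Burnside: a minimal normal subgroup of a finite 2-transitive group is regular elementary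
abelian, or simple and primitive. -/
theorem burnside_two_transitive [Finite G] [Finite α] [FaithfulSMul G α]
    (hG : IsMultiplyPretransitive G α 2) (N : Subgroup G) [hNn : N.Normal] (hN : N ≠ ⊥)
    (hmin : ∀ M : Subgroup G, M.Normal → M ≤ N → M = ⊥ ∨ M = N) :
    (IsMulCommutative N ∧ (∃ p : ℕ, p.Prime ∧ ∀ n ∈ N, n ^ p = 1) ∧
        ∀ a : α, stabilizer N a = ⊥) ∨
      (IsSimpleGroup N ∧ IsPreprimitive N α) := by
  have hnt : Nontrivial α := by
    by_contra h
    rw [not_nontrivial_iff_subsingleton] at h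
    exact hN ((Subgroup.eq_bot_iff_forall N).2 fun g _ =>
      eq_one_of_forall_smul_eq (α := α) fun x => Subsingleton.elim _ _)
  have hprimG : IsPreprimitive G α := isPreprimitive_of_is_two_pretransitive hG
  have hNt : IsPretransitive N α := isPretransitive_of_normal hN
  by_cases hreg : ∀ a : α, stabilizer N a = ⊥
  · obtain ⟨p, m, hp, -, -, -, hc, he⟩ := regular_normal_elementary_abelian hG hreg
    exact Or.inl ⟨hc, ⟨p, hp, he⟩, hreg⟩
  by_cases hprim : IsPreprimitive N α
  · exact Or.inr ⟨isSimpleGroup_of_primitive_minimal_normal hG hN hmin hprim, hprim⟩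
  exfalso
  obtain ⟨a, ha⟩ := not_forall.1 hreg
  obtain ⟨b, hba⟩ := exists_ne a
  have hcs : ∀ g : N, MulAut.conj g • stabilizer N a = stabilizer N (g • a) := fun g =>
    (stabilizer_smul_eq_stabilizer_map_conj g a).symm
  have hFr : Cfsg.IsFrobeniusComplement (stabilizer N a) := by
    refine ⟨ha, fun h => ?_, fun g hg => (Subgroup.eq_bot_iff_forall _).2 fun x hx => ?_⟩
    · obtain ⟨n, hn⟩ := exists_smul_eq N a b
      exact hba (hn.symm.trans (h.ge (Subgroup.mem_top n)))
    · rw [hcs g] at hx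
      exact Subtype.ext (eq_one_of_imprimitive_normal hG hprim x.2
        (fun e => hg (e.symm : g • a = a)) hx.1 hx.2)
  obtain ⟨K, hKset, hKn, hKc⟩ := CharInt.exists_frobeniusKernel hFr
  have hmemK : ∀ x : N, x ∈ K ↔ x = 1 ∨ ∀ c : α, (x : G) • c ≠ c := by
    intro x
    rw [← SetLike.mem_coe, hKset]
    refine or_congr Iff.rfl ⟨fun h c hc => ?_, fun h g hg => ?_⟩
    · obtain ⟨g, rfl⟩ := exists_smul_eq N a c
      exact h g ((hcs g).ge hc)
    · exact h (g • a) ((hcs g).le hg)
  have hKG : (K.map N.subtype).Normal := ⟨by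
    rintro _ ⟨n, hn, rfl⟩ g
    refine ⟨⟨g * n * g⁻¹, hNn.conj_mem n n.2 g⟩, (hmemK _).2 ?_, rfl⟩
    rcases (hmemK n).1 hn with h | h
    · exact Or.inl (Subtype.ext (by simp [h]))
    · refine Or.inr fun c hc => h (g⁻¹ • c) ?_
      change (g * (n : G) * g⁻¹) • c = c at hc
      rwa [mul_smul, mul_smul, smul_eq_iff_eq_inv_smul] at hc⟩
  rcases hmin _ hKG (Subgroup.map_subtype_le K) with h | h
  · have hK : K = ⊥ := (Subgroup.map_eq_bot_iff_of_injective K N.subtype_injective).1 h
    have := hKc.card_mul_card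
    rw [hK, Subgroup.card_bot, one_mul] at this
    exact hFr.2.1 (Subgroup.eq_top_of_card_eq _ this)
  · have hK : K = ⊤ := Subgroup.map_injective N.subtype_injective (h.trans (by
      rw [← MonoidHom.range_eq_map, Subgroup.range_subtype]))
    refine ha (stabilizer_subgroup_eq_bot_iff.2 fun g hg hga => ?_)
    rcases (hmemK ⟨g, hg⟩).1 (hK ▸ Subgroup.mem_top _) with h' | h'
    · exact congrArg Subtype.val h'
    · exact absurd hga (h' a)

end Cfsg.Agent.Perm
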