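import Mathlib
import Cfsg.Agent.Lib.Perm.Jordan
import Cfsg.Agent.Lib.Perm.PrimeDegree
import Cfsg.Agent.Lib.Perm.PrimeDegreeSimple

/-!
Even doubly transitive groups of degree 11 not containing `A₁₁`: the elements of prime order
move 8, 6 or 9, 10 or 11 points and the order is 660 or 7920.
-/

set_option autoImplicit false
set_option linter.unusedSectionVars false
set_option linter.style.haveILetI false

namespace Cfsg.Agent.Perm.DegreeEleven

open Equiv MulAction
open scoped Pointwise

variable {α : Type*} [Fintype α] [DecidableEq α]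

/-! ### Generalities -/

/-- The fixed points. -/
def fix (g : Perm α) : Finset α := Finset.univ.filter fun x => g x = x

theorem mem_fix {g : Perm α} {x : α} : x ∈ fix g ↔ g x = x := by simp [fix]

theorem card_fix (g : Perm α) : (fix g).card + g.support.card = Fintype.card α := by
  rw [← Finset.card_univ]
  exact Finset.card_filter_add_card_filter_not _

theorem fix_mono_pow (g : Perm α) (n : ℕ) : fix g ⊆ fix (g ^ n) := fun x hx =>
  mem_fix.2 (Perm.pow_apply_eq_self_of_apply_eq_self (mem_fix.1 hx) n)

theorem apply_mem_fix {g h : Perm α} (hc : Commute g h) {x : α} (hx : x ∈ fix g) : h x ∈ fix g := by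
  rw [mem_fix] at hx ⊢
  show g (h x) = h x
  rw [← Perm.mul_apply, hc.eq, Perm.mul_apply, hx]

theorem exists_prime_pow {g : Perm α} (hg : g ≠ 1) : ∃ n p : ℕ, p.Prime ∧ orderOf (g ^ n) = p := by
  obtain ⟨p, hp, hpd⟩ := Nat.exists_prime_and_dvd (mt orderOf_eq_one_iff.1 hg)
  exact ⟨orderOf g / p, p, hp, orderOf_pow_orderOf_div (orderOf_pos g).ne' hpd⟩

/-- A permutation of prime order `p` has some `k ≥ 1` cycles of length `p`. -/
theorem prime_order {g : Perm α} {p : ℕ} (hp : p.Prime) (h : orderOf g = p) :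
    ∃ k, 1 ≤ k ∧ g.support.card = k * p ∧ Perm.sign g = (-1) ^ (k * p + k) ∧ (k = 1 → g.IsCycle) := by
  obtain ⟨n, hn⟩ := Perm.cycleType_prime_order (by rw [h]; exact hp)
  rw [h] at hn
  refine ⟨n + 1, by omega, ?_, ?_, fun h1 => ?_⟩
  · rw [← Perm.sum_cycleType, hn, Multiset.sum_replicate, smul_eq_mul]
  · rw [Perm.sign_of_cycleType, hn, Multiset.sum_replicate, Multiset.card_replicate, smul_eq_mul]
  · rw [← Perm.card_cycleType_eq_one, hn, Multiset.card_replicate]
    exact h1

theorem card_orbit_mul (H : Subgroup (Perm α)) (b : α) :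
    Nat.card H = (orbit H b).ncard * Nat.card ↥(H ⊓ stabilizer (Perm α) b) := by
  have h := Subgroup.index_mul_card (stabilizer H b)
  rw [index_stabilizer] at h
  rw [← h]
  congr 1
  exact Nat.card_congr
    { toFun := fun g => ⟨(g.1 : Perm α), g.1.2, g.2⟩
      invFun := fun g => ⟨⟨g.1, g.2.1⟩, g.2.2⟩ }

/-- In a doubly transitive group some translate of a small set meets it in exactly one point. -/
theorem exists_meet_one (H : Subgroup (Perm α)) [IsMultiplyPretransitive H α 2] (S : Finset α)
    (hS : S.Nonempty) (hlt : (S.card - 1) ^ 2 + 1 < Fintype.card α) :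
    ∃ g ∈ H, (S.filter fun x => g x ∈ S).card = 1 := by
  classical
  by_contra hcon
  push Not at hcon
  haveI : IsPretransitive H α := isPretransitive_of_is_two_pretransitive
  set i : H → ℕ := fun g => (S.filter fun x => (g : Perm α) x ∈ S).card with hi
  -- the number of elements with `x ↦ y` is the same for all `x` and `y`
  have key1 : ∀ x y : α, Fintype.card α * (Finset.univ.filter fun g : H => (g : Perm α) x = y).card
      = Fintype.card H := by
    intro x y
    obtain ⟨g0, hg0⟩ := exists_smul_eq H x y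
    have e : ∀ z, (Finset.univ.filter fun g : H => (g : Perm α) x = z).card =
        (Finset.univ.filter fun g : H => (g : Perm α) x = y).card := by
      intro z
      obtain ⟨g1, hg1⟩ := exists_smul_eq H y z
      refine (Finset.card_bij (fun g _ => g1 * g) (fun g hg => ?_) (fun a _ b _ h => mul_left_cancel h)
        fun g hg => ⟨g1⁻¹ * g, ?_, mul_inv_cancel_left _ _⟩).symm
      · simp only [Finset.mem_filter, Finset.mem_univ, true_and] at hg ⊢
        show (g1 : Perm α) ((g : Perm α) x) = z
        rw [hg]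
        exact hg1
      · simp only [Finset.mem_filter, Finset.mem_univ, true_and] at hg ⊢
        show (g1 : Perm α).symm ((g : Perm α) x) = y
        rw [hg, Equiv.symm_apply_eq]
        exact hg1.symm
    rw [← Finset.card_univ (α := H),
      Finset.card_eq_sum_card_fiberwise (s := (Finset.univ : Finset H))
        (f := fun g : H => (g : Perm α) x) (t := Finset.univ) (fun g _ => Finset.mem_univ _)]
    rw [Finset.sum_congr rfl fun z _ => e z, Finset.sum_const, Finset.card_univ, smul_eq_mul]
  have key2 : ∀ p : α × α, p.1 ≠ p.2 → ∀ q : α × α, q.1 ≠ q.2 →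
      (Fintype.card α * (Fintype.card α - 1)) *
        (Finset.univ.filter fun g : H => ((g : Perm α) p.1, (g : Perm α) p.2) = q).card
      = Fintype.card H := by
    intro p hp q hq
    have e : ∀ z ∈ (Finset.univ : Finset α).offDiag,
        (Finset.univ.filter fun g : H => ((g : Perm α) p.1, (g : Perm α) p.2) = z).card =
          (Finset.univ.filter fun g : H => ((g : Perm α) p.1, (g : Perm α) p.2) = q).card := by
      intro z hz
      obtain ⟨g1, h1, h2⟩ := (is_two_pretransitive_iff.1 ‹IsMultiplyPretransitive H α 2›) hq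
        (Finset.mem_offDiag.1 hz).2.2
      refine (Finset.card_bij (fun g _ => g1 * g) (fun g hg => ?_) (fun a _ b _ h => mul_left_cancel h)
        fun g hg => ⟨g1⁻¹ * g, ?_, mul_inv_cancel_left _ _⟩).symm
      · simp only [Finset.mem_filter, Finset.mem_univ, true_and] at hg ⊢
        show ((g1 : Perm α) ((g : Perm α) p.1), (g1 : Perm α) ((g : Perm α) p.2)) = z
        rw [← hg] at h1 h2
        exact Prod.ext h1 h2
      · simp only [Finset.mem_filter, Finset.mem_univ, true_and] at hg ⊢
        show ((g1 : Perm α).symm ((g : Perm α) p.1), (g1 : Perm α).symm ((g : Perm α) p.2)) = q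
        rw [← hg] at h1 h2
        refine Prod.ext ((Equiv.symm_apply_eq _).2 h1.symm) ((Equiv.symm_apply_eq _).2 h2.symm)
    rw [← Finset.card_univ (α := H),
      Finset.card_eq_sum_card_fiberwise (s := (Finset.univ : Finset H))
        (f := fun g : H => ((g : Perm α) p.1, (g : Perm α) p.2)) (t := (Finset.univ : Finset α).offDiag)
        (fun g _ => Finset.mem_offDiag.2
          ⟨Finset.mem_univ _, Finset.mem_univ _, (g : Perm α).injective.ne hp⟩)]
    rw [Finset.sum_congr rfl e, Finset.sum_const, Finset.offDiag_card, Finset.card_univ, smul_eq_mul,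
      Nat.mul_sub, mul_one]
  -- first moment
  have h1 : Fintype.card α * ∑ g, i g = S.card * S.card * Fintype.card H := by
    have e : ∑ g, i g =
        ∑ x ∈ S, ∑ y ∈ S, (Finset.univ.filter fun g : H => (g : Perm α) x = y).card := by
      simp only [hi, Finset.card_filter]
      rw [Finset.sum_comm]
      refine Finset.sum_congr rfl fun x _ => ?_
      rw [Finset.sum_comm]
      refine Finset.sum_congr rfl fun g _ => ?_
      rw [Finset.sum_ite_eq]
    rw [e, Finset.mul_sum]
    simp only [Finset.mul_sum, key1, Finset.sum_const, smul_eq_mul]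
    ring
  -- second moment
  have h2 : (Fintype.card α * (Fintype.card α - 1)) * ∑ g, (i g * i g - i g) =
      (S.card * S.card - S.card) * (S.card * S.card - S.card) * Fintype.card H := by
    have e : ∑ g, (i g * i g - i g) = ∑ p ∈ S.offDiag, ∑ q ∈ S.offDiag,
        (Finset.univ.filter fun g : H => ((g : Perm α) p.1, (g : Perm α) p.2) = q).card := by
      simp only [Finset.card_filter]
      rw [Finset.sum_congr rfl (fun p (_ : p ∈ S.offDiag) =>
        Finset.sum_comm (s := S.offDiag) (t := Finset.univ))]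
      rw [Finset.sum_comm]
      refine Finset.sum_congr rfl fun g _ => ?_
      simp only [Finset.sum_ite_eq, hi]
      rw [← Finset.offDiag_card, ← Finset.card_filter]
      congr 1
      ext ⟨x, y⟩
      simp only [Finset.mem_filter, Finset.mem_offDiag]
      refine ⟨fun h => ⟨⟨h.1.1, h.2.1.1, h.2.2⟩, h.1.2, h.2.1.2, (g : Perm α).injective.ne h.2.2⟩,
        fun h => ⟨⟨h.1.1, h.2.1⟩, ⟨h.1.2.1, h.2.2.1⟩, h.1.2.2⟩⟩
    rw [e, Finset.mul_sum, Finset.sum_congr rfl fun p hp => by
      rw [Finset.mul_sum, Finset.sum_congr rfl fun q hq => key2 p (Finset.mem_offDiag.1 hp).2.2 q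
        (Finset.mem_offDiag.1 hq).2.2]]
    simp only [Finset.sum_const, Finset.offDiag_card, smul_eq_mul]
    ring
  have h3 : ∑ g, i g ≤ ∑ g, (i g * i g - i g) := by
    refine Finset.sum_le_sum fun g _ => ?_
    have h1' : i g ≠ 1 := hcon g g.2
    rcases Nat.eq_zero_or_pos (i g) with h | h
    · omega
    · have : i g * 2 ≤ i g * i g := Nat.mul_le_mul_left _ (by omega)
      omega
  have hs : 1 ≤ S.card := hS.card_pos
  obtain ⟨t, ht⟩ : ∃ t, S.card = t + 1 := ⟨S.card - 1, by omega⟩
  obtain ⟨m, hm⟩ : ∃ m, Fintype.card α = m + 1 := ⟨Fintype.card α - 1, by omega⟩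
  have hH : 0 < Fintype.card H := Fintype.card_pos
  rw [ht, show (t + 1) * (t + 1) - (t + 1) = (t + 1) * t by
    rw [← Nat.mul_sub_one, Nat.add_sub_cancel]] at h2
  rw [ht] at h1
  rw [ht, Nat.add_sub_cancel, hm] at hlt
  rw [hm, Nat.add_sub_cancel] at h2
  rw [hm] at h1
  have h4 : (m + 1) * m * ∑ g, i g ≤ (m + 1) * m * ∑ g, (i g * i g - i g) :=
    Nat.mul_le_mul_left _ h3
  rw [h2, mul_right_comm, h1] at h4
  have h5 : t ^ 2 < m := by omega
  have h6 : (t + 1) * t * ((t + 1) * t) * Fintype.card H < (t + 1) * (t + 1) * Fintype.card H * m := by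
    have hpos : 0 < (t + 1) * (t + 1) * Fintype.card H := by positivity
    calc (t + 1) * t * ((t + 1) * t) * Fintype.card H
        = (t + 1) * (t + 1) * Fintype.card H * t ^ 2 := by ring
      _ < _ := by gcongr
  omega

/-- A prime power order subgroup filling the Sylow order contains conjugates of all `p`-elements. -/
theorem exists_conj_mem_of_card {G : Type*} [Group G] [Finite G] {p : ℕ} [Fact p.Prime]
    (P : Subgroup G) (hP : Nat.card P = p ^ (Nat.card G).factorization p) {x : G} {k : ℕ}
    (hx : orderOf x = p ^ k) : ∃ g : G, g * x * g⁻¹ ∈ P := by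
  have hz : IsPGroup p (Subgroup.zpowers x) :=
    IsPGroup.of_card (n := k) (by rw [Nat.card_zpowers, hx])
  obtain ⟨R, hR⟩ := hz.exists_le_sylow
  obtain ⟨g, hg⟩ := exists_smul_eq G R (Sylow.ofCard P hP)
  refine ⟨g, ?_⟩
  have h : g * x * g⁻¹ ∈ ((g • R : Sylow p G) : Subgroup G) := by
    rw [Sylow.coe_subgroup_smul]
    exact ⟨x, hR (Subgroup.mem_zpowers x), rfl⟩
  rw [hg] at h
  exact h

/-! ### The setting -/

/-- An even doubly transitive group of degree 11 without `A₁₁`. -/
structure Setup (T : Subgroup (Perm α)) : Prop where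
  hα : Fintype.card α = 11
  even : ∀ g ∈ T, Perm.sign g = 1
  two : IsMultiplyPretransitive T α 2
  hA : ¬ alternatingGroup α ≤ T

/-- Five disjoint transpositions of `Fin 11`, one for each index with `v i`. -/
def pairs5 (v : Fin 5 → Bool) : Perm (Fin 11) :=
  (bif v 0 then swap 0 1 else 1) * (bif v 1 then swap 2 3 else 1) * (bif v 2 then swap 4 5 else 1) *
    (bif v 3 then swap 6 7 else 1) * (bif v 4 then swap 8 9 else 1)

theorem pairs5_mul : ∀ v w : Fin 5 → Bool, pairs5 v * pairs5 w = pairs5 fun i => xor (v i) (w i) := by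
  decide +kernel

theorem pairs5_few : (Finset.univ.filter fun v : Fin 5 → Bool =>
    Perm.sign (pairs5 v) = 1 ∧ (pairs5 v).support.card ≠ 4).card ≤ 6 := by decide +kernel

theorem pairs5_injective : Function.Injective pairs5 := by decide +kernel

namespace Setup

variable {T : Subgroup (Perm α)}

theorem trans (S : Setup T) : IsPretransitive T α := by
  haveI := S.two
  exact isPretransitive_of_is_two_pretransitive

theorem prim (S : Setup T) : IsPreprimitive T α :=
  isPreprimitive_of_is_two_pretransitive S.two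

/-- No element moves exactly four points. -/
theorem support_ne_four (S : Setup T) {g : Perm α} (hg : g ∈ T) (hord : orderOf g = 2) :
    g.support.card ≠ 4 := by
  intro h4
  haveI := S.two
  obtain ⟨h, hh, h1⟩ := exists_meet_one T g.support (Finset.card_pos.1 (by omega))
    (by rw [h4, S.hα]; norm_num)
  -- the conjugate `g'` meets `g` in one point, and `(g * g')²` is a 3-cycle
  set g' := h⁻¹ * g * h with hg'
  have hg'T : g' ∈ T := mul_mem (mul_mem (inv_mem hh) hg) hh
  have hs' : g'.support = g.support.map h⁻¹.toEmbedding := by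
    rw [hg', show h⁻¹ * g * h = h⁻¹ * g * h⁻¹⁻¹ by rw [inv_inv], Perm.support_conj]
  have hmem : ∀ x, x ∈ g'.support ↔ h x ∈ g.support := fun x => by
    rw [hs', Finset.mem_map_equiv]
    rfl
  obtain ⟨x, hx⟩ := Finset.card_eq_one.1 h1
  have hx' : ∀ y, y ∈ g.support → y ∈ g'.support → y = x := fun y hy hy' => by
    have : y ∈ g.support.filter fun y => h y ∈ g.support :=
      Finset.mem_filter.2 ⟨hy, (hmem y).1 hy'⟩
    rwa [hx, Finset.mem_singleton] at this
  obtain ⟨hxg, hxg'⟩ : x ∈ g.support ∧ x ∈ g'.support := by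
    have : x ∈ g.support.filter fun y => h y ∈ g.support := hx ▸ Finset.mem_singleton_self x
    exact ⟨(Finset.mem_filter.1 this).1, (hmem x).2 (Finset.mem_filter.1 this).2⟩
  have hgg : ∀ y, g (g y) = y := fun y => by
    rw [← Perm.mul_apply, ← pow_two, ← hord, pow_orderOf_eq_one, Perm.one_apply]
  have hgg' : ∀ y, g' (g' y) = y := fun y => by
    simp [hg', hgg]
  set c := g * g' * (g * g') with hc
  have hcT : c ∈ T := mul_mem (mul_mem hg hg'T) (mul_mem hg hg'T)
  have hb : ∀ {k : Perm α} {y : α}, y ∉ k.support → k y = y := fun {k y} h =>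
    Perm.notMem_support.1 h
  -- `c` fixes every point other than `x`, `g x` and `g' x`
  have hcs : c.support ⊆ {x, g x, g' x} := by
    intro y hy
    by_contra hne
    simp only [Finset.mem_insert, Finset.mem_singleton, not_or] at hne
    obtain ⟨hy1, hy2, hy3⟩ := hne
    apply Perm.mem_support.1 hy
    show g (g' (g (g' y))) = y
    by_cases ha : y ∈ g.support
    · have hyn : y ∉ g'.support := fun h => hy1 (hx' y ha h)
      have hgy : g y ∈ g.support := Perm.apply_mem_support.2 ha
      have hgyn : g y ∉ g'.support := fun h =>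
        hy2 (by rw [← hx' (g y) hgy h, hgg])
      rw [hb hyn, hb hgyn, hgg]
    · by_cases hb' : y ∈ g'.support
      · have hy' : g' y ∈ g'.support := Perm.apply_mem_support.2 hb'
        have hyn : g' y ∉ g.support := fun h => hy3 (by rw [← hx' (g' y) h hy', hgg'])
        rw [hb hyn, hgg', hb ha]
      · rw [hb hb', hb ha, hb hb', hb ha]
  have hc1 : c ≠ 1 := by
    intro e
    have e' := Equiv.congr_fun e (g' x)
    have hgx : g x ≠ x := Perm.mem_support.1 hxg
    have hgxn : g x ∉ g'.support := fun h => hgx (hx' _ (Perm.apply_mem_support.2 hxg) h)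
    have e1 : g (g' (g (g' (g' x)))) = g' x := e'
    rw [hgg', hb hgxn, hgg] at e1
    exact Perm.mem_support.1 hxg' e1.symm
  exact S.hA (alternatingGroup_le_of_support_le_three T S.prim hcT hc1
    ((Finset.card_le_card hcs).trans Finset.card_le_three))

theorem no_cycle (S : Setup T) {p : ℕ} (hp : p.Prime) (hpn : p + 3 ≤ 11) {g : Perm α} (hg : g ∈ T)
    (hc : g.IsCycle) (hgp : g.support.card = p) : False :=
  S.hA (alternatingGroup_le_of_prime_cycle T S.prim hp (by rw [S.hα]; exact hpn) hc hgp hg)

/-- The possible numbers of moved points of elements of prime order. -/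
theorem prime_cases (S : Setup T) {g : Perm α} (hg : g ∈ T) {p : ℕ} (hp : p.Prime)
    (h : orderOf g = p) : (p = 2 ∧ g.support.card = 8) ∨
      (p = 3 ∧ (g.support.card = 6 ∨ g.support.card = 9)) ∨ (p = 5 ∧ g.support.card = 10) ∨
      (p = 11 ∧ g.support.card = 11) := by
  obtain ⟨k, hk, hs, hsign, hcyc⟩ := prime_order hp h
  have hle : k * p ≤ 11 := by rw [← hs, ← S.hα]; exact Finset.card_le_univ _
  have hp11 : p ≤ 11 := (Nat.le_mul_of_pos_left p hk).trans hle
  rw [S.even g hg] at hsign
  have h1 : k = 1 → p + 3 ≤ 11 → False := fun hk1 hp3 =>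
    S.no_cycle hp hp3 hg (hcyc hk1) (by rw [hs, hk1, one_mul])
  interval_cases p
  all_goals first
    | (exfalso; norm_num at hp; done)
    | skip
  · -- involutions
    refine Or.inl ⟨rfl, ?_⟩
    have h4 := S.support_ne_four hg h
    have h2 : k ≠ 1 := fun e => h1 e (by norm_num)
    have hodd : ∀ k ≤ 5, ((-1 : ℤˣ)) ^ (k * 2 + k) = 1 → k = 0 ∨ k = 2 ∨ k = 4 := by decide
    rcases hodd k (by omega) hsign.symm with e | e | e <;> subst e <;> omega
  · refine Or.inr (Or.inl ⟨rfl, ?_⟩)
    have h2 : k ≠ 1 := fun e => h1 e (by norm_num)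
    omega
  · refine Or.inr (Or.inr (Or.inl ⟨rfl, ?_⟩))
    have h2 : k ≠ 1 := fun e => h1 e (by norm_num)
    omega
  · exact (h1 (by omega) (by norm_num)).elim
  · exact Or.inr (Or.inr (Or.inr ⟨rfl, by omega⟩))

theorem fix_card (S : Setup T) {g : Perm α} {m : ℕ} (h : g.support.card = m) :
    (fix g).card = 11 - m := by
  have := card_fix g
  rw [S.hα, h] at this
  omega

/-- An element of order 5 fixes exactly one point. -/
theorem fix_five (S : Setup T) {y : Perm α} (hy : y ∈ T) (h : orderOf y = 5) : (fix y).card = 1 := by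
  rcases S.prime_cases hy (by norm_num) h with h' | h' | h' | h'
  · omega
  · omega
  · rw [S.fix_card h'.2]
  · omega

/-- No element of order 5 commutes with a permutation fixing exactly five points. -/
theorem not_commute_five (S : Setup T) {k y : Perm α} (hk : (fix k).card = 5) (hy : y ∈ T)
    (h5 : orderOf y = 5) : ¬ Commute k y := by
  intro hc
  obtain ⟨o, ho⟩ := Finset.card_eq_one.1 (S.fix_five hy h5)
  have hoy : y o = o := mem_fix.1 (ho ▸ Finset.mem_singleton_self o)
  have hok : o ∈ fix k := by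
    rw [mem_fix]
    have := apply_mem_fix hc.symm (mem_fix.2 hoy)
    rwa [ho, Finset.mem_singleton] at this
  -- `y` acts on the five points of `fix k` and fixes one of them, hence all
  have hall : ∀ f ∈ fix k, y f = f := by
    intro f hf
    by_contra hne
    have horb : ∀ i : ℕ, (y ^ i) f ∈ fix k := fun i => apply_mem_fix (hc.pow_right i) hf
    have hsub : (Finset.range 5).image (fun i => (y ^ i) f) ⊆ (fix k).erase o := by
      intro z hz
      obtain ⟨i, -, rfl⟩ := Finset.mem_image.1 hz
      refine Finset.mem_erase.2 ⟨fun e => hne ?_, horb i⟩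
      have : f = o := (y ^ i).injective (e.trans (mem_fix.1 (fix_mono_pow y i (mem_fix.2 hoy))).symm)
      rw [this, hoy]
    have hinj : Set.InjOn (fun i => (y ^ i) f) (Finset.range 5 : Set ℕ) := by
      intro i hi j hj e
      simp only [Finset.coe_range, Set.mem_Iio] at hi hj
      by_contra hij
      have h5' : Nat.Prime 5 := by norm_num
      -- some non-zero power below five fixes `f`, hence `y` does
      have key : ∀ i j : ℕ, i < j → j < 5 → (y ^ i) f = (y ^ j) f → False := by
        intro i j hlt hj5 e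
        have hd : (y ^ (j - i)) f = f := by
          apply (y ^ i).injective
          rw [← Perm.mul_apply, ← pow_add, show i + (j - i) = j by omega, e]
        obtain ⟨m, hm⟩ := exists_pow_eq_self_of_coprime (x := y) (n := j - i) (by
          rw [h5]
          exact ((h5'.coprime_iff_not_dvd).2 (Nat.not_dvd_of_pos_of_lt (by omega) (by omega))).symm)
        exact hne (hm ▸ Perm.pow_apply_eq_self_of_apply_eq_self hd m)
      rcases Nat.lt_or_gt_of_ne hij with h | h
      · exact key i j h hj e
      · exact key j i h hi e.symm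
    have := Finset.card_le_card hsub
    rw [Finset.card_image_of_injOn hinj, Finset.card_erase_of_mem hok, hk, Finset.card_range] at this
    omega
  have hsub : fix k ⊆ fix y := fun f hf => mem_fix.2 (hall f hf)
  have := Finset.card_le_card hsub
  rw [hk, S.fix_five hy h5] at this
  omega

theorem dvd_perm (S : Setup T) : Nat.card T ∣ 39916800 := by
  have h := Subgroup.card_subgroup_dvd_card T
  rwa [Nat.card_perm, Nat.card_eq_fintype_card (α := α), S.hα,
    show Nat.factorial 11 = 39916800 by rfl] at h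

theorem factorization_perm (S : Setup T) {p e m : ℕ} (hp : p.Prime) (hm : ¬ p ∣ m)
    (h : 39916800 = p ^ e * m) : (Nat.card (Perm α)).factorization p = e := by
  haveI := Fact.mk hp
  rw [Nat.card_perm, Nat.card_eq_fintype_card, S.hα, show Nat.factorial 11 = 39916800 by rfl, h,
    Nat.factorization_def _ hp,
    padicValNat.mul (pow_ne_zero _ hp.ne_zero) (by rintro rfl; exact hm (dvd_zero p)),
    padicValNat.prime_pow, padicValNat.eq_zero_of_not_dvd hm, add_zero]

theorem not_dvd_of_cycle (S : Setup T) {p e m : ℕ} [hp : Fact p.Prime] (hp3 : p + 3 ≤ 11)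
    (hm : ¬ p ∣ m) (h : 39916800 = p ^ e * m) : ¬ p ^ e ∣ Nat.card T := by
  intro hd
  obtain ⟨K, hK⟩ := Sylow.exists_subgroup_card_pow_prime p hd
  obtain ⟨c, hc, hcp⟩ : ∃ c : Perm α, c.IsCycle ∧ c.support.card = p := by
    obtain ⟨s, -, hs⟩ := Finset.exists_subset_card_eq (s := (Finset.univ : Finset α)) (n := p)
      (by rw [Finset.card_univ, S.hα]; omega)
    obtain ⟨σ, hσ, hσs⟩ := s.exists_cycleOn
    refine ⟨σ, ?_, ?_⟩
    · exact Perm.isCycle_iff_exists_isCycleOn.2 ⟨s,
        Finset.one_lt_card_iff_nontrivial.1 (by rw [hs]; exact hp.out.one_lt), hσ,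
        fun x hx => hσs (Perm.mem_support.2 hx)⟩
    · rw [← hs]
      congr 1
      refine Finset.Subset.antisymm hσs fun x hx => Perm.mem_support.2 ?_
      exact hσ.apply_ne (Finset.one_lt_card_iff_nontrivial.1 (by rw [hs]; exact hp.out.one_lt)) hx
  obtain ⟨g, hg⟩ := exists_conj_mem_of_card (K.map T.subtype) (x := c) (k := 1)
    (by rw [Subgroup.card_map_of_injective T.subtype_injective, hK,
      S.factorization_perm hp.out hm h])
    (by rw [hc.orderOf, hcp, pow_one])
  exact S.no_cycle hp.out hp3 (Subgroup.map_subtype_le _ hg) (hc.conj)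
    (by rw [Perm.support_conj, Finset.card_map, hcp])

theorem not_dvd_sixty_four (S : Setup T) : ¬ 2 ^ 6 ∣ Nat.card T := by
  classical
  intro hd
  haveI : Fact (Nat.Prime 2) := ⟨Nat.prime_two⟩
  obtain ⟨K, hK⟩ := Sylow.exists_subgroup_card_pow_prime 2 hd
  set K' : Subgroup (Perm α) := K.map T.subtype with hK'def
  have hK' : Nat.card K' = 2 ^ 6 := by rw [hK'def, Subgroup.card_map_of_injective T.subtype_injective, hK]
  obtain ⟨Q, hQ⟩ := (IsPGroup.of_card (p := 2) (n := 6) hK').exists_le_sylow
  have hQc : Nat.card Q = 256 := by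
    rw [Q.card_eq_multiplicity, S.factorization_perm (p := 2) (e := 8) (m := 155925) Nat.prime_two
      (by norm_num) (by norm_num)]
    norm_num
  set e := Fintype.equivFinOfCardEq S.hα with he
  let ψ : (Fin 5 → Bool) → Perm α := fun v => e.symm.permCongr (pairs5 v)
  have hψmul : ∀ v w, ψ v * ψ w = ψ fun i => xor (v i) (w i) := fun v w => by
    rw [show ψ v * ψ w = e.symm.permCongr (pairs5 v) * e.symm.permCongr (pairs5 w) from rfl,
      ← Equiv.permCongr_mul, pairs5_mul]
  have hψone : ψ (fun _ => false) = 1 := by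
    ext x
    simp [ψ, pairs5]
  let A : Subgroup (Perm α) :=
    { carrier := Set.range ψ
      one_mem' := ⟨_, hψone⟩
      mul_mem' := by rintro _ _ ⟨v, rfl⟩ ⟨w, rfl⟩; exact ⟨_, (hψmul v w).symm⟩
      inv_mem' := by
        rintro _ ⟨v, rfl⟩
        exact ⟨v, (inv_eq_of_mul_eq_one_left (by rw [hψmul]; simp [hψone])).symm⟩ }
  have hψinj : Function.Injective ψ := fun v w h =>
    pairs5_injective (e.symm.permCongr.injective h)
  have hAc : Nat.card A = 2 ^ 5 := by
    show Nat.card (Set.range ψ) = _
    rw [Nat.card_range_of_injective hψinj, Nat.card_eq_fintype_card]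
    rfl
  obtain ⟨R, hR⟩ := (IsPGroup.of_card (p := 2) (n := 5) hAc).exists_le_sylow
  obtain ⟨g, hg⟩ := exists_smul_eq (Perm α) R Q
  set A' := A.map (MulAut.conj g).toMonoidHom with hA'
  have hA'Q : A' ≤ Q := by
    rintro _ ⟨a, ha, rfl⟩
    rw [← hg, Sylow.coe_subgroup_smul]
    exact ⟨a, hR ha, rfl⟩
  -- at least eight elements of `A'` lie in `T`
  have h1 : K'.relIndex A' ≤ K'.relIndex Q := Subgroup.relIndex_le_of_le_right hA'Q
    Subgroup.index_ne_zero_of_finite
  have h2 : K'.relIndex (Q : Subgroup (Perm α)) = 4 := by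
    have h := Subgroup.card_mul_index (K'.subgroupOf Q)
    rw [Nat.card_congr (Subgroup.subgroupOfEquivOfLe hQ).toEquiv, hK', hQc] at h
    show (K'.subgroupOf Q).index = 4
    omega
  have h3 : Nat.card A' = 2 ^ 5 := by
    rw [hA', Subgroup.card_map_of_injective (MulAut.conj g).injective, hAc]
  have h4 : 8 ≤ Nat.card (K'.subgroupOf A') := by
    have h := Subgroup.card_mul_index (K'.subgroupOf A')
    rw [h3] at h
    have hle : (K'.subgroupOf A').index ≤ 4 := h1.trans h2.le
    nlinarith
  let W := (Finset.univ.filter fun v : Fin 5 → Bool => g * ψ v * g⁻¹ ∈ K')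
  have h5 : 8 ≤ W.card := by
    refine h4.trans (le_of_eq ?_)
    rw [← Nat.card_eq_finsetCard]
    refine (Nat.card_congr (Equiv.ofBijective (fun v : W => (⟨⟨g * ψ v * g⁻¹, ⟨ψ v, ⟨v, rfl⟩, rfl⟩⟩,
      (Finset.mem_filter.1 v.2).2⟩ : K'.subgroupOf A')) ⟨fun a b h => ?_, fun x => ?_⟩)).symm
    · have := congrArg (fun z : K'.subgroupOf A' => ((z : A') : Perm α)) h
      exact Subtype.ext (hψinj (mul_left_cancel (mul_right_cancel this)))
    · obtain ⟨⟨z, ⟨a, ⟨v, rfl⟩, rfl⟩⟩, hz⟩ := x
      exact ⟨⟨v, Finset.mem_filter.2 ⟨Finset.mem_univ _, hz⟩⟩, rfl⟩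
  obtain ⟨v, hvW, hv⟩ : ∃ v ∈ W, ¬ (Perm.sign (pairs5 v) = 1 ∧ (pairs5 v).support.card ≠ 4) := by
    by_contra hcon
    push Not at hcon
    have := (Finset.card_le_card fun v hv => Finset.mem_filter.2 ⟨Finset.mem_univ _, hcon v hv⟩).trans
      pairs5_few
    omega
  have hvT : g * ψ v * g⁻¹ ∈ T := Subgroup.map_subtype_le _ (Finset.mem_filter.1 hvW).2
  have hsign : Perm.sign (pairs5 v) = 1 := by
    have := S.even _ hvT
    rwa [map_mul, map_mul, map_inv, mul_inv_cancel_comm, Perm.sign_permCongr] at this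
  have h4' : (pairs5 v).support.card = 4 := by
    by_contra h
    exact hv ⟨hsign, h⟩
  have hsupp : (g * ψ v * g⁻¹).support.card = 4 := by
    rw [Perm.support_conj, Finset.card_map, ← h4']
    exact Finset.card_equiv e fun x => by simp [ψ, Equiv.symm_apply_eq]
  refine S.support_ne_four hvT ?_ hsupp
  refine orderOf_eq_prime ?_ ?_
  · rw [conj_pow, pow_two, hψmul]
    simp [hψone]
  · intro h
    rw [h, Perm.support_one] at hsupp
    simp at hsupp

theorem eleven_dvd (S : Setup T) : 11 ∣ Nat.card T := by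
  haveI := S.trans
  obtain ⟨a⟩ : Nonempty α := Fintype.card_pos_iff.1 (by rw [S.hα]; norm_num)
  have h : (stabilizer T a).index = 11 := by
    rw [index_stabilizer_of_transitive, Nat.card_eq_fintype_card, S.hα]
  exact h ▸ Subgroup.index_dvd_card _

theorem ten_dvd_stab (S : Setup T) (a : α) : 10 ∣ Nat.card (stabilizer T a) := by
  haveI := S.two
  haveI := isPretransitive_of_is_two_pretransitive (G := T) (α := α)
  obtain ⟨b, hb⟩ : ∃ b, b ≠ a := Fintype.exists_ne_of_one_lt_card (by rw [S.hα]; norm_num) a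
  have horb : orbit (stabilizer T a) b = {a}ᶜ := by
    ext z
    constructor
    · rintro ⟨g, rfl⟩ hz
      have hga : g • a = a := g.2
      exact hb (smul_left_cancel g ((Set.mem_singleton_iff.1 hz).trans hga.symm))
    · intro hz
      obtain ⟨g, hg1, hg2⟩ := (is_two_pretransitive_iff.1 S.two) hb.symm (Ne.symm hz)
      exact ⟨⟨g, hg1⟩, hg2⟩
  have h := index_stabilizer (stabilizer T a) b
  rw [horb, Set.ncard_compl, Set.ncard_singleton, Nat.card_eq_fintype_card, S.hα] at h
  have h2 := Subgroup.index_dvd_card (stabilizer (stabilizer T a) b)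
  rwa [h] at h2

/-- The order is 660 or 7920. -/
theorem card_cases (S : Setup T) : Nat.card T = 660 ∨ Nat.card T = 7920 := by
  haveI := S.trans
  haveI : Fact (Nat.Prime 11) := ⟨by norm_num⟩
  haveI : Fact (Nat.Prime 5) := ⟨by norm_num⟩
  haveI : Fact (Nat.Prime 3) := ⟨by norm_num⟩
  haveI : Fact (Nat.Prime 7) := ⟨by norm_num⟩
  have hd := S.dvd_perm
  have h64 := S.not_dvd_sixty_four
  have h81 := S.not_dvd_of_cycle (p := 3) (e := 4) (m := 492800) (by norm_num) (by norm_num) (by norm_num)
  have h25 := S.not_dvd_of_cycle (p := 5) (e := 2) (m := 1596672) (by norm_num) (by norm_num) (by norm_num)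
  have h7 := S.not_dvd_of_cycle (p := 7) (e := 1) (m := 5702400) (by norm_num) (by norm_num) (by norm_num)
  obtain ⟨a⟩ : Nonempty α := Fintype.card_pos_iff.1 (by rw [S.hα]; norm_num)
  have h110 : 110 ∣ Nat.card T := by
    have h := Subgroup.index_mul_card (stabilizer T a)
    rw [index_stabilizer_of_transitive, Nat.card_eq_fintype_card, S.hα] at h
    rw [← h]
    exact Nat.mul_dvd_mul_left 11 (S.ten_dvd_stab a)
  obtain ⟨P⟩ : Nonempty (Sylow 11 T) := Sylow.nonempty
  have hPc : Nat.card P = 11 := by
    obtain ⟨k, hk⟩ := IsPGroup.iff_card.1 P.2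
    have h1 : 11 ∣ Nat.card P := P.dvd_card_of_dvd_card S.eleven_dvd
    have h2 : 11 ^ k ∣ 39916800 := hk ▸ (Subgroup.card_subgroup_dvd_card _).trans hd
    rcases k with _ | _ | k
    · rw [hk] at h1; norm_num at h1
    · rw [hk]; norm_num
    · have : 11 ^ 2 ∣ 39916800 := (pow_dvd_pow 11 (by omega)).trans h2
      norm_num at this
  obtain ⟨d, hd10, hN⟩ := card_normalizer_of_prime_degree (G := T) (α := α) (p := 11)
    (by rw [Nat.card_eq_fintype_card, S.hα]) (P : Subgroup T) hPc
  have hcount := prime_div_sylow_count P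
  rw [hN] at hcount
  -- the normaliser has no involution
  have hdodd : ¬ 2 ∣ d := by
    intro h2
    haveI : Fact (Nat.Prime 2) := ⟨Nat.prime_two⟩
    obtain ⟨⟨t, ht⟩, hto⟩ := exists_prime_orderOf_dvd_card'
      (G := ↥(Subgroup.normalizer ((P : Subgroup T) : Set T))) 2 (hN ▸ dvd_mul_of_dvd_right h2 11)
    rw [← Subgroup.orderOf_coe, ← Subgroup.orderOf_coe] at hto
    rcases S.prime_cases t.2 Nat.prime_two hto with ⟨-, h8⟩ | h | h | h
    · -- `t` fixes at least two points, so centralises `P`
      obtain ⟨u, hu⟩ := exists_prime_orderOf_dvd_card' (G := (P : Subgroup T)) 11 (by rw [hPc])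
      rw [← Subgroup.orderOf_coe] at hu
      obtain ⟨i, hi⟩ : ∃ i : ℤ, t * (u : T) * t⁻¹ = (u : T) ^ i := by
        have h : t * (u : T) * t⁻¹ ∈ Subgroup.zpowers (u : T) := by
          rw [show Subgroup.zpowers (u : T) = P from Subgroup.eq_of_le_of_card_ge
            (Subgroup.zpowers_le.2 u.2) (by rw [hPc, Nat.card_zpowers, hu])]
          exact (Subgroup.mem_normalizer_iff.1 ht _).1 u.2
        exact ⟨_, (Subgroup.mem_zpowers_iff.1 h).choose_spec.symm⟩
      have hu' : orderOf ((u : T) : Perm α) = 11 := by rw [Subgroup.orderOf_coe, hu]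
      have hf : (fix (t : Perm α)).card = 3 := S.fix_card h8
      obtain ⟨x, y, hx, hy, hxy⟩ := Finset.one_lt_card_iff.1 (show 1 < (fix (t : Perm α)).card by omega)
      rw [mem_fix] at hx hy
      obtain ⟨l, hl, hls, -, hlc⟩ := prime_order (by norm_num) hu'
      have hl1 : l = 1 := by
        have := Finset.card_le_univ ((u : T) : Perm α).support
        rw [hls, S.hα] at this
        omega
      have huc : ((u : T) : Perm α).IsCycle := hlc hl1
      have hus : ((u : T) : Perm α).support = Finset.univ :=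
        Finset.eq_univ_of_card _ (by rw [hls, hl1, S.hα])
      obtain ⟨j, hj⟩ := huc.exists_zpow_eq (Perm.mem_support.1 (hus ▸ Finset.mem_univ x))
        (Perm.mem_support.1 (hus ▸ Finset.mem_univ y))
      -- `u ^ j` maps `x` to `y`, hence commutes with `t`
      set w : T := (u : T) ^ j with hw
      have hwP : (w : Perm α) x = y := by rw [hw, Subgroup.coe_zpow]; exact hj
      have htw : t * w * t⁻¹ = w ^ i := by
        rw [hw, ← conj_zpow, hi, ← zpow_mul, ← zpow_mul, mul_comm]
      have h1 : ((w ^ i : T) : Perm α) x = (w : Perm α) x := by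
        rw [← htw]
        show (t : Perm α) ((w : Perm α) ((t : Perm α).symm x)) = _
        rw [(Equiv.symm_apply_eq _).2 hx.symm, hwP, hy]
      have hw1 : w ≠ 1 := fun e => hxy (by rw [← hwP, e]; rfl)
      have hwo : orderOf (w : Perm α) = 11 := by
        rw [Subgroup.orderOf_coe]
        refine orderOf_eq_prime ?_ hw1
        rw [hw, ← zpow_natCast, ← zpow_mul, mul_comm, zpow_mul, zpow_natCast,
          orderOf_dvd_iff_pow_eq_one.1 hu.dvd, one_zpow]
      have h2 : ((w ^ (i - 1) : T) : Perm α) x = x := by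
        apply (w : Perm α).injective
        rw [← Perm.mul_apply, ← Subgroup.coe_mul, ← zpow_one_add, add_sub_cancel, h1]
      obtain ⟨l', hl', hls', -, hlc'⟩ := prime_order (by norm_num) hwo
      have hl1' : l' = 1 := by
        have := Finset.card_le_univ (w : Perm α).support
        rw [hls', S.hα] at this
        omega
      have hwmove : (w : Perm α) x ≠ x := by rw [hwP]; exact hxy.symm
      have h3 : (w : Perm α) ^ (i - 1) = 1 := by
        rw [Subgroup.coe_zpow] at h2
        rcases Int.eq_nat_or_neg (i - 1) with ⟨n, e | e⟩ <;> rw [e] at h2 ⊢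
        · rw [zpow_natCast] at h2 ⊢
          exact (hlc' hl1').pow_eq_one_iff.2 ⟨x, hwmove, h2⟩
        · rw [zpow_neg, zpow_natCast] at h2 ⊢
          rw [inv_eq_one]
          exact (hlc' hl1').pow_eq_one_iff.2 ⟨x, hwmove, Perm.inv_eq_iff_eq.1 h2 |>.symm⟩
      have h4 : t * w * t⁻¹ = w := by
        rw [htw]
        have h5 : w ^ (i - 1) = 1 := Subtype.ext (by rw [Subgroup.coe_zpow, h3]; rfl)
        rw [show i = i - 1 + 1 by ring, zpow_add_one, h5, one_mul]
      -- then `t` fixes every point
      have hall : ∀ z, (t : Perm α) z = z := by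
        intro z
        have hws : (w : Perm α).support = Finset.univ :=
          Finset.eq_univ_of_card _ (by rw [hls', hl1', S.hα])
        obtain ⟨m, hm⟩ := (hlc' hl1').exists_zpow_eq (Perm.mem_support.1 (hws ▸ Finset.mem_univ x))
          (Perm.mem_support.1 (hws ▸ Finset.mem_univ z))
        have hc : Commute (t : Perm α) (w : Perm α) := by
          have h6 : t * w = w * t := by
            conv_rhs => rw [← h4]
            rw [inv_mul_cancel_right]
          exact congrArg Subtype.val h6
        rw [← hm]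
        show (t : Perm α) (((w : Perm α) ^ m) x) = _
        rw [← Perm.mul_apply, (hc.zpow_right m).eq, Perm.mul_apply, hx]
      have ht1 : (t : Perm α) = 1 := Equiv.ext hall
      rw [ht1, orderOf_one] at hto
      omega
    · omega
    · omega
    · omega
  -- no normal complement of order prime to eleven
  have hd1 : d ≠ 1 := by
    rintro rfl
    have hNP : Subgroup.normalizer ((P : Subgroup T) : Set T) = (P : Subgroup T) :=
      (Subgroup.eq_of_le_of_card_ge Subgroup.le_normalizer (by rw [hN, hPc])).symm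
    haveI : IsCyclic (P : Subgroup T) := isCyclic_of_prime_card hPc
    have hcent : Subgroup.normalizer ((P : Subgroup T) : Set T) ≤
        Subgroup.centralizer ((P : Subgroup T) : Set T) := by
      rw [hNP]
      exact fun x hx y hy => congrArg Subtype.val
        (IsMulCommutative.is_comm.comm (⟨y, hy⟩ : (P : Subgroup T)) ⟨x, hx⟩)
    have hK := MonoidHom.ker_transferSylow_isComplement' P hcent
    set K := (MonoidHom.transferSylow P hcent).ker
    have hKc : Nat.card K * 11 = Nat.card T := by rw [← hPc]; exact hK.card_mul_card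
    rcases eq_or_ne K ⊥ with hK0 | hK0
    · rw [hK0, Subgroup.card_bot, one_mul] at hKc
      rw [← hKc] at h110
      norm_num at h110
    · haveI := S.prim
      haveI := normal_isPretransitive (α := α) K hK0
      have h11 : 11 ∣ Nat.card K := by
        rw [card_eq_degree_mul K a, Nat.card_eq_fintype_card, S.hα]
        exact Dvd.intro _ rfl
      have : 11 ^ 2 ∣ 39916800 := by
        refine dvd_trans ?_ hd
        rw [← hKc, pow_two]
        exact Nat.mul_dvd_mul_right h11 11
      norm_num at this
  have hd5 : d = 5 := by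
    have : d ≤ 10 := Nat.le_of_dvd (by norm_num) hd10
    revert hd10 hdodd hd1
    interval_cases d <;> norm_num
  subst hd5
  obtain ⟨k, hk⟩ : 110 ∣ Nat.card T := h110
  have hk' : k ∣ 362880 := by
    have : 110 * k ∣ 110 * 362880 := hk ▸ hd
    exact Nat.dvd_of_mul_dvd_mul_left (by norm_num) this
  rw [hk, show 110 * k = (2 * k) * (11 * 5) by ring, Nat.mul_div_cancel _ (by norm_num)] at hcount
  have h32 : ¬ 32 ∣ k := fun h => h64 (by
    rw [hk, show (2 : ℕ) ^ 6 = 2 * 32 by norm_num]; exact Nat.mul_dvd_mul (by norm_num) h)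
  have h81' : ¬ 81 ∣ k := fun h => h81 (hk ▸ dvd_mul_of_dvd_right h 110)
  have h5' : ¬ 5 ∣ k := fun h => h25 (by
    rw [hk, show (5 : ℕ) ^ 2 = 5 * 5 by norm_num]; exact Nat.mul_dvd_mul (by norm_num) h)
  have h7' : ¬ 7 ∣ k := fun h => h7 (by rw [pow_one]; exact hk ▸ dvd_mul_of_dvd_right h 110)
  have hk432 : k ∣ 432 := by
    have hc : ∀ q : ℕ, q.Prime → ¬ q ∣ k → k.Coprime q := fun q hq h =>
      (hq.coprime_iff_not_dvd.2 h).symm
    have h1 : k ∣ 362880 / 35 := by
      have hc35 : k.Coprime 35 := Nat.Coprime.mul_right (hc 5 (by norm_num) h5') (hc 7 (by norm_num) h7')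
      exact hc35.dvd_of_dvd_mul_right (by norm_num; exact hk')
    norm_num at h1
    -- `10368 = 2 ^ 7 * 3 ^ 4`
    obtain ⟨k₁, k₂, h₁, h₂, rfl⟩ := exists_dvd_and_dvd_of_dvd_mul (b := 128) (c := 81) (a := k)
      (by norm_num; exact h1)
    rw [show (432 : ℕ) = 2 ^ 4 * 3 ^ 3 by norm_num]
    refine Nat.mul_dvd_mul ?_ ?_
    · obtain ⟨i, hi, rfl⟩ := (Nat.dvd_prime_pow Nat.prime_two).1
        (show k₁ ∣ 2 ^ 7 by norm_num; exact h₁)
      exact pow_dvd_pow 2 (by
        by_contra h
        exact h32 ((pow_dvd_pow 2 (show 5 ≤ i by omega)).trans (Dvd.intro _ rfl)))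
    · obtain ⟨i, hi, rfl⟩ := (Nat.dvd_prime_pow Nat.prime_three).1
        (show k₂ ∣ 3 ^ 4 by norm_num; exact h₂)
      exact pow_dvd_pow 3 (by
        by_contra h
        exact h81' ((pow_dvd_pow 3 (show 4 ≤ i by omega)).trans (Dvd.intro_left _ rfl)))
  have hfin : ∀ k < 433, k ∣ 432 → (2 * k) % 11 = 1 → k = 6 ∨ k = 72 := by decide +kernel
  rcases hfin k (by have := Nat.le_of_dvd (by norm_num) hk432; omega) hk432 hcount with rfl | rfl
  · exact Or.inl hk
  · exact Or.inr hk

end Setup

end Cfsg.Agent.Perm.DegreeEleven
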