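import Mathlib
import Cfsg.Agent.Lib.Perm.DegreeElevenBasic

/-!
A doubly transitive even group of degree 11 without `A₁₁` has only the identity fixing four points,
and is not of index 2 in a larger group without `A₁₁`.
-/

set_option autoImplicit false
set_option linter.unusedSectionVars false
set_option linter.style.haveILetI false

namespace Cfsg.Agent.Perm.DegreeEleven

open Equiv MulAction

variable {α : Type*} [Fintype α] [DecidableEq α]

theorem mem_zpowers_three {G : Type*} [Group G] {x z : G} (h : orderOf x = 3)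
    (hz : z ∈ Subgroup.zpowers x) : z = 1 ∨ z = x ∨ z = x⁻¹ := by
  obtain ⟨i, rfl⟩ := Subgroup.mem_zpowers_iff.1 hz
  rw [← zpow_mod_orderOf, h]
  have h1 := Int.emod_nonneg i (show ((3 : ℕ) : ℤ) ≠ 0 by norm_num)
  have h2 := Int.emod_lt_of_pos i (show (0 : ℤ) < ((3 : ℕ) : ℤ) by norm_num)
  rcases (show i % ((3 : ℕ) : ℤ) = 0 ∨ i % ((3 : ℕ) : ℤ) = 1 ∨ i % ((3 : ℕ) : ℤ) = 2 by omega)
    with e | e | e <;> rw [e]
  · exact Or.inl (zpow_zero _)
  · exact Or.inr (Or.inl (zpow_one _))
  · refine Or.inr (Or.inr (eq_inv_of_mul_eq_one_left ?_))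
    rw [← zpow_add_one]
    exact orderOf_dvd_iff_zpow_eq_one.1 (by rw [h]; norm_num)

/-- Permutations fixing two prescribed points. -/
def fixingTwo (T : Subgroup (Perm α)) (p q : α) : Subgroup (Perm α) :=
  T ⊓ stabilizer (Perm α) p ⊓ stabilizer (Perm α) q

theorem mem_fixingTwo {T : Subgroup (Perm α)} {p q : α} {g : Perm α} :
    g ∈ fixingTwo T p q ↔ g ∈ T ∧ g p = p ∧ g q = q :=
  ⟨fun h => ⟨h.1.1, h.1.2, h.2⟩, fun h => ⟨⟨h.1, h.2.1⟩, h.2.2⟩⟩

theorem card_fixingTwo {T : Subgroup (Perm α)} (hα : Fintype.card α = 11)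
    (h2 : IsMultiplyPretransitive T α 2) {p q : α} (hpq : p ≠ q) :
    Nat.card T = 110 * Nat.card (fixingTwo T p q) := by
  haveI := isPretransitive_of_is_two_pretransitive (G := T) (α := α)
  have o1 : (orbit T p).ncard = 11 := by
    rw [orbit_eq_univ, Set.ncard_univ, Nat.card_eq_fintype_card, hα]
  have o2 : (orbit (T ⊓ stabilizer (Perm α) p : Subgroup (Perm α)) q).ncard = 10 := by
    rw [show orbit (T ⊓ stabilizer (Perm α) p : Subgroup (Perm α)) q = {p}ᶜ from ?_,
      Set.ncard_compl, Set.ncard_singleton, Nat.card_eq_fintype_card, hα]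
    ext z
    constructor
    · rintro ⟨g, rfl⟩ hz
      exact hpq ((g : Perm α).injective ((Set.mem_singleton_iff.1 hz).trans g.2.2.symm)).symm
    · intro hz
      obtain ⟨g, hg1, hg2⟩ := (is_two_pretransitive_iff.1 h2) hpq (Ne.symm hz)
      exact ⟨⟨g, g.2, hg1⟩, hg2⟩
  rw [card_orbit_mul T p, card_orbit_mul (T ⊓ stabilizer (Perm α) p) q, o1, o2, ← mul_assoc]
  rfl

namespace Setup

variable {T : Subgroup (Perm α)}

/-- The case `|T| = 660`: no element of order 3 fixes five points. -/
theorem no_fix_five_small (S : Setup T) (hc : Nat.card T = 660) {x : Perm α} (hx : x ∈ T)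
    (h3 : orderOf x = 3) (hF : (fix x).card = 5) : False := by
  classical
  set N : Subgroup (Perm α) :=
    T ⊓ Subgroup.normalizer ((Subgroup.zpowers x : Subgroup (Perm α)) : Set (Perm α)) with hN
  have hNF : ∀ g ∈ N, ∀ f ∈ fix x, g f ∈ fix x := by
    intro g hg f hf
    have h1 : g⁻¹ * x * g ∈ Subgroup.zpowers x := by
      have := (Subgroup.mem_normalizer_iff.1 hg.2 (g⁻¹ * x * g)).2
        (by group; exact Subgroup.mem_zpowers x)
      exact this
    have h2 : g⁻¹ * x * g ∈ stabilizer (Perm α) f :=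
      (Subgroup.zpowers_le.2 (show x ∈ stabilizer (Perm α) f from mem_fix.1 hf)) h1
    have h4 : g⁻¹ (x (g f)) = f := h2
    rw [mem_fix]
    exact Perm.inv_eq_iff_eq.1 h4
  -- five does not divide `|N|`
  have h5 : ¬ 5 ∣ Nat.card N := by
    intro hd
    haveI : Fact (Nat.Prime 5) := ⟨by norm_num⟩
    obtain ⟨⟨y, hy⟩, hyo⟩ := exists_prime_orderOf_dvd_card' (G := N) 5 hd
    rw [Subgroup.orderOf_mk] at hyo
    have hy2 : orderOf (y ^ 2) = 5 := by rw [Nat.Coprime.orderOf_pow (by rw [hyo]; norm_num), hyo]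
    refine S.not_commute_five hF (pow_mem hy.1 2) hy2 ?_
    have h1 := (Subgroup.mem_normalizer_iff.1 hy.2 x).1 (Subgroup.mem_zpowers x)
    have hkey : y ^ 2 * x * (y ^ 2)⁻¹ = x := by
      rw [show y ^ 2 * x * (y ^ 2)⁻¹ = y * (y * x * y⁻¹) * y⁻¹ by simp [pow_two, mul_assoc]]
      rcases mem_zpowers_three h3 h1 with e | e | e
      · exfalso
        rw [conj_eq_one_iff] at e
        rw [e, orderOf_one] at h3
        norm_num at h3
      · rw [e, e]
      · rw [e, show y * x⁻¹ * y⁻¹ = (y * x * y⁻¹)⁻¹ by group, e, inv_inv]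
    exact (mul_inv_eq_iff_eq_mul.1 hkey).symm
  -- the action on the fixed points
  let ρ : N →* Perm {f // f ∈ fix x} :=
    { toFun := fun g => Perm.subtypePerm (g : Perm α) fun f => ⟨fun h => by
          simpa using hNF _ (inv_mem g.2) _ h, hNF _ g.2 f⟩
      map_one' := by ext; rfl
      map_mul' := fun a b => by ext; rfl }
  have hρ : ∀ (g : N) (f : {f // f ∈ fix x}), ((ρ g f : {f // f ∈ fix x}) : α) = (g : Perm α) f :=
    fun g f => rfl
  have hxN : x ∈ N := ⟨hx, Subgroup.le_normalizer (Subgroup.mem_zpowers x)⟩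
  have hker : 3 ∣ Nat.card ρ.ker := by
    have hxk : (⟨x, hxN⟩ : N) ∈ ρ.ker := by
      rw [MonoidHom.mem_ker]
      ext f
      rw [hρ]
      exact mem_fix.1 f.2
    have := orderOf_dvd_natCard (⟨⟨x, hxN⟩, hxk⟩ : ρ.ker)
    rwa [Subgroup.orderOf_mk, Subgroup.orderOf_mk, h3] at this
  have hI : Nat.card ρ.range ∈ ({1, 2, 4} : Finset ℕ) := by
    have h1 := Subgroup.card_mul_index ρ.ker
    rw [Subgroup.index_ker] at h1
    have h2 : 3 * Nat.card ρ.range ∣ 3 * 220 := by
      refine (Nat.mul_dvd_mul_right hker _).trans ?_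
      rw [h1]
      have : Nat.card N ∣ Nat.card T := Subgroup.card_dvd_of_le inf_le_left
      rwa [hc] at this
    have h3' : Nat.card ρ.range ∣ 120 := by
      have := Subgroup.card_subgroup_dvd_card ρ.range
      rwa [Nat.card_perm, Nat.card_eq_fintype_card (α := {f // f ∈ fix x}), Fintype.card_coe, hF,
        show Nat.factorial 5 = 120 by rfl] at this
    have h4 : ¬ 5 ∣ Nat.card ρ.range := fun h => h5 (h.trans (h1 ▸ Dvd.intro_left _ rfl))
    have h6 : Nat.card ρ.range ∣ 20 := by
      have := Nat.dvd_gcd (Nat.dvd_of_mul_dvd_mul_left (by norm_num) h2) h3'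
      rwa [show Nat.gcd 220 120 = 20 by rfl] at this
    have hfin : ∀ r < 21, r ∣ 20 → ¬ 5 ∣ r → r ∈ ({1, 2, 4} : Finset ℕ) := by decide
    exact hfin _ (Nat.lt_succ_of_le (Nat.le_of_dvd (by norm_num) h6)) h6 h4
  -- every pair of fixed points is fixed by an involution normalising `⟨x⟩`
  have hpair : ∀ pq ∈ (fix x).offDiag, ∃ t : N, ρ t ≠ 1 ∧ (t : Perm α) pq.1 = pq.1 ∧
      (t : Perm α) pq.2 = pq.2 ∧ (fix (t : Perm α)).card = 3 := by
    rintro ⟨p, q⟩ hpq
    obtain ⟨hp, hq, hne⟩ := Finset.mem_offDiag.1 hpq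
    have hcard := card_fixingTwo S.hα S.two (show p ≠ q from hne)
    rw [hc] at hcard
    have hK6 : Nat.card (fixingTwo T p q) = 6 := by omega
    haveI : Fact (Nat.Prime 2) := ⟨Nat.prime_two⟩
    obtain ⟨⟨t, ht⟩, hto⟩ := exists_prime_orderOf_dvd_card' (G := fixingTwo T p q) 2
      (by rw [hK6]; norm_num)
    rw [Subgroup.orderOf_mk] at hto
    obtain ⟨htT, htp, htq⟩ := mem_fixingTwo.1 ht
    have hxK : x ∈ fixingTwo T p q := mem_fixingTwo.2 ⟨hx, mem_fix.1 hp, mem_fix.1 hq⟩
    have hnorm : ((Subgroup.zpowers x).subgroupOf (fixingTwo T p q)).Normal := by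
      apply Subgroup.normal_of_index_eq_two
      have h := Subgroup.card_mul_index ((Subgroup.zpowers x).subgroupOf (fixingTwo T p q))
      rw [Nat.card_congr (Subgroup.subgroupOfEquivOfLe (Subgroup.zpowers_le.2 hxK)).toEquiv,
        Nat.card_zpowers, h3, hK6] at h
      omega
    have htn : t ∈ Subgroup.normalizer ((Subgroup.zpowers x : Subgroup (Perm α)) : Set (Perm α)) :=
      haveI := hnorm
      Subgroup.le_normalizer_of_normal_subgroupOf (Subgroup.zpowers_le.2 hxK) ht
    have hf3 : (fix t).card = 3 := by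
      rcases S.prime_cases htT Nat.prime_two hto with h | h | h | h
      · exact S.fix_card h.2
      all_goals omega
    refine ⟨⟨t, htT, htn⟩, fun h => ?_, htp, htq, hf3⟩
    have hsub : fix x ⊆ fix t := fun f hf => mem_fix.2 (by
      have := congrArg Subtype.val (Equiv.congr_fun h ⟨f, hf⟩)
      rw [hρ] at this
      exact this)
    have := Finset.card_le_card hsub
    omega
  choose! τ hτ using hpair
  let φ : α × α → Perm {f // f ∈ fix x} := fun pq => ρ (τ pq)
  have hfib : ∀ i ∈ (fix x).offDiag.image φ,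
      ((fix x).offDiag.filter fun pq => φ pq = i).card ≤ 6 := by
    intro i hi
    obtain ⟨pq₀, hpq₀, rfl⟩ := Finset.mem_image.1 hi
    have hsub : ((fix x).offDiag.filter fun pq => φ pq = φ pq₀) ⊆
        (fix (τ pq₀ : Perm α)).offDiag := by
      intro pq hpq
      obtain ⟨hmem, he⟩ := Finset.mem_filter.1 hpq
      obtain ⟨hp, hq, hne⟩ := Finset.mem_offDiag.1 hmem
      obtain ⟨-, e1, e2, -⟩ := hτ pq hmem
      refine Finset.mem_offDiag.2 ⟨mem_fix.2 ?_, mem_fix.2 ?_, hne⟩
      · have := congrArg Subtype.val (Equiv.congr_fun he ⟨pq.1, hp⟩)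
        exact this.symm.trans e1
      · have := congrArg Subtype.val (Equiv.congr_fun he ⟨pq.2, hq⟩)
        exact this.symm.trans e2
    refine (Finset.card_le_card hsub).trans ?_
    rw [Finset.offDiag_card, (hτ pq₀ hpq₀).2.2.2]
  have himg : ((fix x).offDiag.image φ).card + 1 ≤ Nat.card ρ.range := by
    haveI : Fintype ρ.range := Fintype.ofFinite _
    have h1 : insert 1 ((fix x).offDiag.image φ) ⊆
        (Finset.univ.filter fun i : Perm {f // f ∈ fix x} => i ∈ ρ.range) := by
      intro i hi
      refine Finset.mem_filter.2 ⟨Finset.mem_univ _, ?_⟩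
      rcases Finset.mem_insert.1 hi with rfl | h
      · exact one_mem _
      · obtain ⟨pq, -, rfl⟩ := Finset.mem_image.1 h
        exact ⟨τ pq, rfl⟩
    have h2 : (1 : Perm {f // f ∈ fix x}) ∉ (fix x).offDiag.image φ := by
      intro h
      obtain ⟨pq, hpq, he⟩ := Finset.mem_image.1 h
      exact (hτ pq hpq).1 he
    have h3 := Finset.card_le_card h1
    rw [Finset.card_insert_of_notMem h2, ← Fintype.card_subtype, ← Nat.card_eq_fintype_card] at h3
    exact h3
  have hmain := Finset.card_le_mul_card_image (fix x).offDiag 6 hfib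
  rw [Finset.offDiag_card, hF] at hmain
  have : Nat.card ρ.range ≤ 4 := by
    simp only [Finset.mem_insert, Finset.mem_singleton] at hI
    omega
  omega

/-- The case `|T| = 7920`: no element of order 3 fixes five points. -/
theorem no_fix_five_large (S : Setup T) (hc : Nat.card T = 7920) {x : Perm α} (hx : x ∈ T)
    (h3 : orderOf x = 3) (hF : (fix x).card = 5) : False := by
  classical
  haveI : Fact (Nat.Prime 3) := ⟨by norm_num⟩
  set C : Subgroup (Perm α) := T ⊓ Subgroup.centralizer {x} with hC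
  have hCc : ∀ g ∈ C, Commute x g := fun g hg =>
    (Subgroup.mem_centralizer_singleton_iff.1 hg.2).symm
  have key : ∀ p q r s : α, p ∈ fix x → q ∈ fix x → r ∈ fix x → s ∈ fix x → p ≠ q →
      r ≠ p → r ≠ q → s ≠ p → s ≠ q → ∃ g ∈ C, g r = s := by
    intro p q r s hp hq hr hs hpq hrp hrq hsp hsq
    have hK : Nat.card (fixingTwo T p q) = 72 := by
      have := card_fixingTwo S.hα S.two hpq
      rw [hc] at this
      omega
    have hxK : x ∈ fixingTwo T p q := mem_fixingTwo.2 ⟨hx, mem_fix.1 hp, mem_fix.1 hq⟩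
    obtain ⟨Q, hQ⟩ := (IsPGroup.of_card (p := 3) (n := 1)
      (show Nat.card (Subgroup.zpowers (⟨x, hxK⟩ : fixingTwo T p q)) = 3 ^ 1 by
        rw [Nat.card_zpowers, Subgroup.orderOf_mk, h3, pow_one])).exists_le_sylow
    set Q' : Subgroup (Perm α) := (Q : Subgroup (fixingTwo T p q)).map (Subgroup.subtype _) with hQ'
    have hQc : Nat.card Q' = 3 ^ 2 := by
      rw [hQ', Subgroup.card_map_of_injective (Subgroup.subtype_injective _), Q.card_eq_multiplicity,
        hK]
      have : Nat.factorization 72 3 = 2 := by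
        rw [Nat.factorization_def _ (by norm_num), show (72 : ℕ) = 3 ^ 2 * 8 by norm_num,
          padicValNat.mul (by norm_num) (by norm_num), padicValNat.prime_pow,
          padicValNat.eq_zero_of_not_dvd (by norm_num)]
      rw [this]
    have hQle : Q' ≤ fixingTwo T p q := Subgroup.map_subtype_le _
    have hxQ : x ∈ Q' := ⟨⟨x, hxK⟩, hQ (Subgroup.mem_zpowers _), rfl⟩
    have hQC : Q' ≤ C := fun g hg => ⟨(mem_fixingTwo.1 (hQle hg)).1, by
      show g ∈ Subgroup.centralizer {x}
      rw [Subgroup.mem_centralizer_singleton_iff]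
      exact congrArg Subtype.val
        (IsPGroup.commutative_of_card_eq_prime_sq hQc (⟨g, hg⟩ : Q') ⟨x, hxQ⟩)⟩
    -- orbits inside the three other fixed points
    have horb : ∀ u ∈ fix x, u ≠ p → u ≠ q →
        orbit Q' u ⊆ ((((fix x).erase p).erase q : Finset α) : Set α) := by
      rintro u hu hup huq _ ⟨g, rfl⟩
      obtain ⟨-, gp, gq⟩ := mem_fixingTwo.1 (hQle g.2)
      simp only [Finset.coe_erase, Set.mem_sdiff, Set.mem_singleton_iff, Finset.mem_coe]
      exact ⟨⟨apply_mem_fix (hCc g (hQC g.2)) hu, fun e =>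
        hup ((g : Perm α).injective (e.trans gp.symm))⟩,
        fun e => huq ((g : Perm α).injective (e.trans gq.symm))⟩
    have hdvd : ∀ u, (orbit Q' u).ncard ∣ 3 ^ 2 := fun u => hQc ▸ (card_orbit_mul Q' u ▸ Dvd.intro _ rfl)
    have h3set : (((fix x).erase p).erase q).card = 3 := by
      rw [Finset.card_erase_of_mem (Finset.mem_erase.2 ⟨hpq.symm, hq⟩), Finset.card_erase_of_mem hp, hF]
    -- `r` is moved by `Q'`
    have hmove : (orbit Q' r).ncard ≠ 1 := by
      intro h1
      obtain ⟨r', hr'⟩ := Set.ncard_eq_one.1 h1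
      have hrr : r' = r := by
        have := hr' ▸ mem_orbit_self (M := Q') r
        exact (Set.mem_singleton_iff.1 this).symm
      rw [hrr] at hr'
      have hfixr : ∀ g : Q', (g : Perm α) r = r := fun g =>
        Set.mem_singleton_iff.1 (hr' ▸ mem_orbit r g)
      have hall : ∀ u ∈ fix x, ∀ g : Q', (g : Perm α) u = u := by
        intro u hu
        rcases eq_or_ne u p with rfl | hup
        · exact fun g => (mem_fixingTwo.1 (hQle g.2)).2.1
        rcases eq_or_ne u q with rfl | huq
        · exact fun g => (mem_fixingTwo.1 (hQle g.2)).2.2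
        rcases eq_or_ne u r with rfl | hur
        · exact hfixr
        intro g
        have hsub : orbit Q' u ⊆ (((((fix x).erase p).erase q).erase r : Finset α) : Set α) := by
          intro z hz
          have h := horb u hu hup huq hz
          obtain ⟨g', rfl⟩ := hz
          rw [Finset.coe_erase]
          exact ⟨h, fun e => hur ((g' : Perm α).injective ((Set.mem_singleton_iff.1 e).trans (hfixr g').symm))⟩
        have hle := Set.ncard_le_ncard hsub (Finset.finite_toSet _)
        rw [Set.ncard_coe_finset, Finset.card_erase_of_mem (Finset.mem_erase.2 ⟨hrq,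
          Finset.mem_erase.2 ⟨hrp, hr⟩⟩), h3set] at hle
        obtain ⟨i, -, hi⟩ := (Nat.dvd_prime_pow (by norm_num : Nat.Prime 3)).1 (hdvd u)
        have h1u : (orbit Q' u).ncard = 1 := by
          rcases i with _ | i
          · exact hi
          · rw [hi, pow_succ'] at hle
            have : 0 < 3 ^ i := by positivity
            omega
        obtain ⟨u', hu'⟩ := Set.ncard_eq_one.1 h1u
        have a1 := hu' ▸ mem_orbit_self (M := Q') u
        have a2 := hu' ▸ mem_orbit u g
        exact (Set.mem_singleton_iff.1 a2).trans (Set.mem_singleton_iff.1 a1).symm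
      -- a moved point has an orbit of size 3
      obtain ⟨w, hw⟩ : ∃ w, w ∉ fix x := by
        by_contra h
        push Not at h
        have := Finset.eq_univ_iff_forall.2 h
        rw [this, Finset.card_univ, S.hα] at hF
        norm_num at hF
      have hsub : orbit Q' w ⊆ (((fix x)ᶜ : Finset α) : Set α) := by
        rintro _ ⟨g, rfl⟩
        simp only [Finset.coe_compl, Set.mem_compl_iff, Finset.mem_coe]
        intro h
        exact hw (((g : Perm α).injective (hall _ h g)).symm ▸ h)
      have hle := Set.ncard_le_ncard hsub (Finset.finite_toSet _)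
      rw [Set.ncard_coe_finset, Finset.card_compl, hF, S.hα] at hle
      obtain ⟨i, hi2, hi⟩ := (Nat.dvd_prime_pow (by norm_num : Nat.Prime 3)).1 (hdvd w)
      have hw3 : (orbit Q' w).ncard ≤ 3 := by
        rw [hi] at hle ⊢
        interval_cases i <;> omega
      have hcard := card_orbit_mul Q' w
      rw [hQc] at hcard
      have h3d : 3 ∣ Nat.card ↥(Q' ⊓ stabilizer (Perm α) w) := by
        rcases (Nat.dvd_prime_pow (by norm_num : Nat.Prime 3)).1
          (hcard ▸ Dvd.intro_left _ rfl : Nat.card ↥(Q' ⊓ stabilizer (Perm α) w) ∣ 3 ^ 2)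
          with ⟨j, -, hj⟩
        rcases j with _ | j
        · rw [hj] at hcard
          omega
        · exact ⟨3 ^ j, by rw [hj, pow_succ']⟩
      obtain ⟨⟨z, hz⟩, hzo⟩ := exists_prime_orderOf_dvd_card'
        (G := ↥(Q' ⊓ stabilizer (Perm α) w)) 3 h3d
      rw [Subgroup.orderOf_mk] at hzo
      have hzfix : insert w (fix x) ⊆ fix z := by
        intro u hu
        rcases Finset.mem_insert.1 hu with rfl | h
        · exact mem_fix.2 hz.2
        · exact mem_fix.2 (hall u h ⟨z, hz.1⟩)
      have h6 := Finset.card_le_card hzfix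
      rw [Finset.card_insert_of_notMem hw, hF] at h6
      rcases S.prime_cases (mem_fixingTwo.1 (hQle hz.1)).1 (by norm_num) hzo with h | h | h | h
      · omega
      · rcases h.2 with e | e <;> rw [S.fix_card e] at h6 <;> omega
      · omega
      · omega
    have heq : orbit Q' r = ((((fix x).erase p).erase q : Finset α) : Set α) := by
      refine Set.eq_of_subset_of_ncard_le (horb r hr hrp hrq) ?_ (Finset.finite_toSet _)
      rw [Set.ncard_coe_finset, h3set]
      obtain ⟨i, -, hi⟩ := (Nat.dvd_prime_pow (by norm_num : Nat.Prime 3)).1 (hdvd r)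
      rcases i with _ | i
      · exact absurd hi hmove
      · rw [hi, pow_succ']
        have : 0 < 3 ^ i := by positivity
        omega
    have hs' : s ∈ orbit Q' r := by
      rw [heq]
      simp [hs, hsp, hsq]
    obtain ⟨g, hg⟩ := hs'
    exact ⟨g, hQC g.2, hg⟩
  obtain ⟨r, hr⟩ := Finset.card_pos.1 (show 0 < (fix x).card by omega)
  have horbC : orbit C r = ((fix x : Finset α) : Set α) := by
    refine Set.Subset.antisymm ?_ fun s hs => ?_
    · rintro _ ⟨g, rfl⟩
      exact apply_mem_fix (hCc g g.2) hr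
    · have : 2 ≤ ((fix x) \ {r, s}).card := by
        have := Finset.le_card_sdiff {r, s} (fix x)
        have := Finset.card_le_two (a := r) (b := s)
        omega
      obtain ⟨p, hp, q, hq, hpq⟩ := Finset.one_lt_card.1 this
      simp only [Finset.mem_sdiff, Finset.mem_insert, Finset.mem_singleton, not_or] at hp hq
      obtain ⟨g, hg, e⟩ := key p q r s hp.1 hq.1 hr hs hpq (Ne.symm hp.2.1) (Ne.symm hq.2.1)
        (Ne.symm hp.2.2) (Ne.symm hq.2.2)
      exact ⟨⟨g, hg⟩, e⟩
  have h5 : 5 ∣ Nat.card C := by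
    rw [card_orbit_mul C r, horbC, Set.ncard_coe_finset, hF]
    exact Dvd.intro _ rfl
  haveI : Fact (Nat.Prime 5) := ⟨by norm_num⟩
  obtain ⟨⟨y, hy⟩, hyo⟩ := exists_prime_orderOf_dvd_card' (G := C) 5 h5
  rw [Subgroup.orderOf_mk] at hyo
  exact S.not_commute_five hF hy.1 hyo (hCc y hy)

/-- Only the identity fixes four points. -/
theorem eq_one_of_fix (S : Setup T) {g : Perm α} (hg : g ∈ T) (h4 : 4 ≤ (fix g).card) : g = 1 := by
  by_contra hne
  obtain ⟨n, p, hp, ho⟩ := exists_prime_pow hne
  have hle := h4.trans (Finset.card_le_card (fix_mono_pow g n))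
  rcases S.prime_cases (pow_mem hg n) hp ho with ⟨-, h⟩ | ⟨h3, h | h⟩ | ⟨-, h⟩ | ⟨-, h⟩
  · rw [S.fix_card h] at hle; omega
  · subst h3
    rcases S.card_cases with hc | hc
    · exact S.no_fix_five_small hc (pow_mem hg n) ho (S.fix_card h)
    · exact S.no_fix_five_large hc (pow_mem hg n) ho (S.fix_card h)
  · rw [S.fix_card h] at hle; omega
  · rw [S.fix_card h] at hle; omega
  · rw [S.fix_card h] at hle; omega

/-- If `|T| = 7920` then `T` is sharply four-transitive. -/
theorem sharply_four (S : Setup T) (hc : Nat.card T = 7920) :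
    IsMultiplyPretransitive T α 4 ∧ ∀ x : Fin 4 ↪ α, stabilizer T x = ⊥ := by
  classical
  have hfree : ∀ (x : Fin 4 ↪ α) (g : T), g • x = x → g = 1 := by
    intro x g h
    refine Subtype.ext (S.eq_one_of_fix g.2 ?_)
    have hsub : Finset.univ.map x ⊆ fix (g : Perm α) := by
      intro u hu
      obtain ⟨i, -, rfl⟩ := Finset.mem_map.1 hu
      exact mem_fix.2 (DFunLike.congr_fun h i)
    simpa using Finset.card_le_card hsub
  refine ⟨⟨fun x y => ?_⟩, fun x => ?_⟩
  · haveI : Fintype T := Fintype.ofFinite _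
    have hinj : Function.Injective fun g : T => g • x := by
      intro g h e
      have : (h⁻¹ * g) • x = x :=
        (SemigroupAction.mul_smul _ _ _).trans ((congrArg _ e).trans (inv_smul_smul h x))
      exact (inv_mul_eq_one.1 (hfree x _ this)).symm
    have hbij : Function.Bijective fun g : T => g • x := by
      rw [Fintype.bijective_iff_injective_and_card]
      refine ⟨hinj, ?_⟩
      rw [← Nat.card_eq_fintype_card, hc, Fintype.card_embedding_eq, Fintype.card_fin, S.hα]
      rfl
    exact hbij.2 y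
  · rw [eq_bot_iff]
    exact fun g hg => Subgroup.mem_bot.2 (hfree x g hg)

end Setup

/-! ### No index two extension -/

theorem sign_of_sq_support_eight {h : Perm α} (h4 : h ^ 4 = 1) (hsupp : (h ^ 2).support = h.support)
    (h8 : h.support.card = 8) : Perm.sign h = 1 := by
  have hall : ∀ n ∈ h.cycleType, n = 4 := by
    intro n hn
    have hd : n ∣ 4 := (Perm.dvd_of_mem_cycleType hn).trans (orderOf_dvd_of_pow_eq_one h4)
    have h2 := Perm.two_le_of_mem_cycleType hn
    have hne : n ≠ 2 := by
      rintro rfl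
      rw [Perm.cycleType_def, Multiset.mem_map] at hn
      obtain ⟨c, hc, hc2⟩ := hn
      rw [Finset.mem_val, Perm.mem_cycleFactorsFinset_iff] at hc
      obtain ⟨hcyc, hca⟩ := hc
      obtain ⟨u, hu⟩ := Finset.card_pos.1 (show 0 < c.support.card from lt_of_lt_of_eq two_pos hc2.symm)
      have hcu : c u ∈ c.support := Perm.apply_mem_support.2 hu
      have h22 : c (c u) = u := by
        have h2' : c ^ 2 = 1 := by
          rw [show (2 : ℕ) = c.support.card from hc2.symm, ← hcyc.orderOf, pow_orderOf_eq_one]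
        rw [← Perm.mul_apply, ← pow_two, h2', Perm.one_apply]
      have hmem : u ∈ h.support := by
        rw [Perm.mem_support, ← hca u hu]
        exact Perm.mem_support.1 hu
      rw [← hsupp, Perm.mem_support, pow_two, Perm.mul_apply, ← hca u hu, ← hca _ hcu, h22] at hmem
      exact hmem rfl
    have := Nat.le_of_dvd (by norm_num) hd
    interval_cases n <;> omega
  have hrep := Multiset.eq_replicate_card.2 hall
  have hsum := Perm.sum_cycleType h
  rw [hrep, Multiset.sum_replicate, h8, smul_eq_mul] at hsum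
  rw [Perm.sign_of_cycleType, hrep, Multiset.sum_replicate, Multiset.card_replicate, smul_eq_mul,
    show Multiset.card h.cycleType = 2 by omega]
  rfl

/-- An odd involution with at least two fixed points, in a group without `A₁₁`, fixes five. -/
theorem fix_eq_five {G : Subgroup (Perm α)} (hα : Fintype.card α = 11) (hG : IsPreprimitive G α)
    (hA : ¬ alternatingGroup α ≤ G) {k : Perm α} (hk : k ∈ G) (h2 : k ^ 2 = 1)
    (hs : Perm.sign k = -1) (hfix : 2 ≤ (fix k).card) : (fix k).card = 5 := by
  have hne : k ≠ 1 := by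
    rintro rfl
    rw [map_one] at hs
    exact absurd hs (by decide)
  obtain ⟨j, hj, hjs, hjsign, -⟩ := prime_order Nat.prime_two (orderOf_eq_prime h2 hne)
  have hf := card_fix k
  rw [hα, hjs] at hf
  have hj1 : j ≠ 1 := fun e => hA (Perm.alternatingGroup_le_of_support_le_three G hG hk hne
    (by rw [hjs, e]; norm_num))
  have hodd : ∀ j ≤ 4, ((-1 : ℤˣ)) ^ (j * 2 + j) = -1 → j = 1 ∨ j = 3 := by decide
  rcases hodd j (by omega) (hjsign.symm.trans hs) with e | e
  · exact absurd e hj1
  · omega

theorem Setup.le_of_index_two {T G : Subgroup (Perm α)} (S : Setup T)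
    (hT : T = G ⊓ alternatingGroup α) (hG : IsPreprimitive G α) (hA : ¬ alternatingGroup α ≤ G) :
    G ≤ T := by
  classical
  intro s₀ hs₀G
  by_contra hs₀T
  have hTG : ∀ g ∈ T, g ∈ G := fun g hg => by rw [hT] at hg; exact hg.1
  have memT : ∀ g : Perm α, g ∈ G → Perm.sign g = 1 → g ∈ T := fun g hg hs => by
    rw [hT]; exact ⟨hg, Perm.mem_alternatingGroup.2 hs⟩
  have hs₀ : Perm.sign s₀ = -1 :=
    (Int.units_eq_one_or _).resolve_left fun h => hs₀T (memT _ hs₀G h)
  -- an odd involution fixing five points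
  obtain ⟨k, hkG, hks, hk5⟩ : ∃ k ∈ G, Perm.sign k = -1 ∧ (fix k).card = 5 := by
    rcases S.card_cases with hc | hc
    · obtain ⟨a, b, hab⟩ := Fintype.exists_pair_of_one_lt_card (α := α) (by rw [S.hα]; norm_num)
      obtain ⟨t, ht1, ht2⟩ := (is_two_pretransitive_iff.1 S.two) (s₀.injective.ne hab) hab
      set k₀ : Perm α := (t : Perm α) * s₀ with hk₀
      have hk₀a : k₀ a = a := ht1
      have hk₀b : k₀ b = b := ht2
      have hk₀G : k₀ ∈ G := mul_mem (hTG _ t.2) hs₀G
      have hk₀s : Perm.sign k₀ = -1 := by rw [hk₀, map_mul, S.even _ t.2, one_mul, hs₀]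
      -- `k₀ ^ 2` lies in a group of order six
      have h6 : Nat.card (fixingTwo T a b) = 6 := by
        have := card_fixingTwo S.hα S.two hab
        rw [hc] at this
        omega
      have hsq : k₀ ^ 2 ∈ fixingTwo T a b := mem_fixingTwo.2
        ⟨memT _ (pow_mem hk₀G 2) (by rw [map_pow, hk₀s]; rfl),
          mem_fix.1 (fix_mono_pow k₀ 2 (mem_fix.2 hk₀a)),
          mem_fix.1 (fix_mono_pow k₀ 2 (mem_fix.2 hk₀b))⟩
      set h := k₀ ^ 3 with hh
      have hh4 : h ^ 4 = 1 := by
        have := orderOf_dvd_natCard (⟨k₀ ^ 2, hsq⟩ : fixingTwo T a b)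
        rw [Subgroup.orderOf_mk, h6] at this
        rw [hh, ← pow_mul, show 3 * 4 = 2 * 6 by norm_num, pow_mul]
        exact orderOf_dvd_iff_pow_eq_one.1 this
      have hhG : h ∈ G := pow_mem hk₀G 3
      have hhs : Perm.sign h = -1 := by rw [hh, map_pow, hk₀s]; rfl
      have hha : h a = a := mem_fix.1 (fix_mono_pow k₀ 3 (mem_fix.2 hk₀a))
      have hhb : h b = b := mem_fix.1 (fix_mono_pow k₀ 3 (mem_fix.2 hk₀b))
      have h2fix : 2 ≤ (fix h).card :=
        Finset.one_lt_card.2 ⟨a, mem_fix.2 hha, b, mem_fix.2 hhb, hab⟩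
      have hh2 : h ^ 2 = 1 := by
        by_contra hne
        have hT2 : h ^ 2 ∈ T := memT _ (pow_mem hhG 2) (by rw [map_pow, hhs]; rfl)
        have ho : orderOf (h ^ 2) = 2 := orderOf_eq_prime (by rw [← pow_mul, hh4]) hne
        rcases S.prime_cases hT2 Nat.prime_two ho with ⟨-, h8⟩ | e | e | e
        · -- the three fixed points of `h ^ 2` are fixed by `h`
          have hsub : fix h ⊆ fix (h ^ 2) := fix_mono_pow h 2
          have h3 : (fix (h ^ 2)).card = 3 := S.fix_card h8
          have heq : fix h = fix (h ^ 2) := by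
            refine Finset.Subset.antisymm hsub fun c hc => ?_
            by_contra hcn
            have hhc : h c ∈ fix (h ^ 2) := apply_mem_fix (Commute.pow_self h 2) hc
            have hsub' : insert c (insert (h c) (fix h)) ⊆ fix (h ^ 2) :=
              Finset.insert_subset hc (Finset.insert_subset hhc hsub)
            have hn1 : h c ∉ fix h := fun e => hcn (mem_fix.2 (h.injective (mem_fix.1 e)))
            have hn2 : c ∉ insert (h c) (fix h) := by
              simp only [Finset.mem_insert, not_or]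
              exact ⟨fun e => hcn (mem_fix.2 e.symm), hcn⟩
            have := Finset.card_le_card hsub'
            rw [Finset.card_insert_of_notMem hn2, Finset.card_insert_of_notMem hn1] at this
            omega
          have hsupp : (h ^ 2).support = h.support := by
            ext u
            rw [Perm.mem_support, Perm.mem_support, not_iff_not, ← mem_fix, ← mem_fix, heq]
          have := sign_of_sq_support_eight hh4 hsupp (hsupp ▸ h8)
          rw [hhs] at this
          exact absurd this (by decide)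
        all_goals omega
      exact ⟨h, hhG, hhs, fix_eq_five S.hα hG hA hhG hh2 hhs h2fix⟩
    · obtain ⟨h4t, -⟩ := S.sharply_four hc
      obtain ⟨e⟩ : Nonempty (Fin 4 ↪ α) :=
        Function.Embedding.nonempty_of_card_le (by rw [Fintype.card_fin, S.hα]; norm_num)
      obtain ⟨t, ht⟩ := h4t.exists_smul_eq (e.trans s₀.toEmbedding) e
      set k : Perm α := (t : Perm α) * s₀ with hk
      have hke : ∀ i, k (e i) = e i := fun i => DFunLike.congr_fun ht i
      have hkG : k ∈ G := mul_mem (hTG _ t.2) hs₀G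
      have hks : Perm.sign k = -1 := by rw [hk, map_mul, S.even _ t.2, one_mul, hs₀]
      have h4 : 4 ≤ (fix k).card := by
        have hsub : Finset.univ.map e ⊆ fix k := by
          intro u hu
          obtain ⟨i, -, rfl⟩ := Finset.mem_map.1 hu
          exact mem_fix.2 (hke i)
        simpa using Finset.card_le_card hsub
      have hk2 : k ^ 2 = 1 := S.eq_one_of_fix (memT _ (pow_mem hkG 2) (by rw [map_pow, hks]; rfl))
        (h4.trans (Finset.card_le_card (fix_mono_pow k 2)))
      exact ⟨k, hkG, hks, fix_eq_five S.hα hG hA hkG hk2 hks (by omega)⟩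
  -- its centraliser and its conjugates
  set C : Subgroup (Perm α) := T ⊓ Subgroup.centralizer {k} with hC
  have hCk : ∀ g ∈ C, Commute k g := fun g hg =>
    (Subgroup.mem_centralizer_singleton_iff.1 hg.2).symm
  have hCF : ∀ g ∈ C, ∀ f ∈ fix k, g f ∈ fix k := fun g hg f hf => apply_mem_fix (hCk g hg) hf
  let ρ : C →* Perm {f // f ∈ fix k} :=
    { toFun := fun g => Perm.subtypePerm (g : Perm α) fun f => ⟨fun h => by
          simpa using hCF _ (inv_mem g.2) _ h, hCF _ g.2 f⟩
      map_one' := by ext; rfl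
      map_mul' := fun a b => by ext; rfl }
  have hρ : Function.Injective ρ := by
    rw [← MonoidHom.ker_eq_bot_iff, eq_bot_iff]
    intro g hg
    refine Subgroup.mem_bot.2 (Subtype.ext (S.eq_one_of_fix g.2.1 ?_))
    have hsub : fix k ⊆ fix (g : Perm α) := fun f hf => mem_fix.2
      (congrArg Subtype.val (Equiv.congr_fun (MonoidHom.mem_ker.1 hg) ⟨f, hf⟩))
    have := Finset.card_le_card hsub
    omega
  have hC24 : Nat.card C ∣ 24 := by
    have h := Subgroup.card_dvd_of_injective ρ hρ
    rw [Nat.card_perm, Nat.card_eq_fintype_card (α := {f // f ∈ fix k}), Fintype.card_coe, hk5,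
      show Nat.factorial 5 = 5 * 24 by rfl] at h
    refine ((Nat.Prime.coprime_iff_not_dvd (p := 5) (by norm_num)).2 fun hd => ?_).symm.dvd_of_dvd_mul_left h
    haveI : Fact (Nat.Prime 5) := ⟨by norm_num⟩
    obtain ⟨⟨y, hy⟩, hyo⟩ := exists_prime_orderOf_dvd_card' (G := C) 5 hd
    rw [Subgroup.orderOf_mk] at hyo
    exact S.not_commute_five hk5 hy.1 hyo (hCk y hy)
  haveI : Fintype T := Fintype.ofFinite _
  set cj : T → Perm α := fun g => (g : Perm α) * k * (g : Perm α)⁻¹ with hcj
  set O : Finset (Perm α) := Finset.univ.image cj with hO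
  have hcount : Nat.card T ≤ Nat.card C * O.card := by
    rw [Nat.card_eq_fintype_card (α := T), ← Finset.card_univ, hO]
    refine Finset.card_le_mul_card_image _ _ fun o ho => ?_
    obtain ⟨g₀, -, rfl⟩ := Finset.mem_image.1 ho
    have hmap : ∀ g : (Finset.univ.filter fun g : T => cj g = cj g₀),
        ((g₀⁻¹ * g.1 : T) : Perm α) ∈ C := by
      intro g
      have he : (g.1 : Perm α) * k * (g.1 : Perm α)⁻¹ = (g₀ : Perm α) * k * (g₀ : Perm α)⁻¹ :=
        (Finset.mem_filter.1 g.2).2
      refine ⟨SetLike.coe_mem _, Subgroup.mem_centralizer_singleton_iff.2 ?_⟩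
      have : (g.1 : Perm α) * k = (g₀ : Perm α) * k * (g₀ : Perm α)⁻¹ * g.1 := by
        rw [← he, inv_mul_cancel_right]
      rw [Subgroup.coe_mul, Subgroup.coe_inv]
      simp only [mul_assoc] at this ⊢
      rw [this, inv_mul_cancel_left]
    rw [← Nat.card_eq_finsetCard]
    refine Nat.card_le_card_of_injective (fun g => (⟨_, hmap g⟩ : C)) fun a b h => ?_
    exact Subtype.ext (mul_left_cancel (Subtype.ext (congrArg (fun z : C => (z : Perm α)) h)))
  have hOprop : ∀ o ∈ O, o ∈ G ∧ Perm.sign o = -1 ∧ (fix o).card = 5 := by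
    intro o ho
    obtain ⟨g, -, rfl⟩ := Finset.mem_image.1 ho
    refine ⟨mul_mem (mul_mem (hTG _ g.2) hkG) (inv_mem (hTG _ g.2)), ?_, ?_⟩
    · rw [hcj, map_mul, map_mul, map_inv, mul_inv_cancel_comm, hks]
    · have h1 := card_fix (cj g)
      have h2 := card_fix k
      rw [hcj] at h1 ⊢
      rw [Perm.support_conj, Finset.card_map] at h1
      omega
  have hquot : ∀ o ∈ O, ∀ o' ∈ O, o⁻¹ * o' ∈ T := fun o ho o' ho' =>
    memT _ (mul_mem (inv_mem (hOprop o ho).1) (hOprop o' ho').1)
      (by rw [map_mul, map_inv, (hOprop o ho).2.1, (hOprop o' ho').2.1]; rfl)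
  rcases S.card_cases with hc | hc
  · have hC12 : Nat.card C ∣ 12 := by
      have h1 : Nat.card C ∣ 660 := hc ▸ Subgroup.card_dvd_of_le inf_le_left
      have := Nat.dvd_gcd hC24 h1
      rwa [show Nat.gcd 24 660 = 12 by rfl] at this
    have hO33 : O.card * 20 ≤ (Finset.univ : Finset α).offDiag.card * 6 := by
      refine Finset.card_mul_le_card_mul (fun o pq => o pq.1 = pq.1 ∧ o pq.2 = pq.2)
        (fun o ho => ?_) fun pq hpq => ?_
      · refine le_trans (le_of_eq ?_) (Finset.card_le_card (s := (fix o).offDiag) fun pq hpq => ?_)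
        · rw [Finset.offDiag_card, (hOprop o ho).2.2]
        · obtain ⟨h1, h2, h3⟩ := Finset.mem_offDiag.1 hpq
          exact Finset.mem_filter.2 ⟨Finset.mem_offDiag.2 ⟨Finset.mem_univ _, Finset.mem_univ _, h3⟩,
            mem_fix.1 h1, mem_fix.1 h2⟩
      · have h6 : Nat.card (fixingTwo T pq.1 pq.2) = 6 := by
          have := card_fixingTwo S.hα S.two (Finset.mem_offDiag.1 hpq).2.2
          rw [hc] at this
          omega
        rcases (O.bipartiteBelow (fun o pq => o pq.1 = pq.1 ∧ o pq.2 = pq.2) pq).eq_empty_or_nonempty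
          with h0 | ⟨o₀, ho₀⟩
        · rw [h0]; simp
        · obtain ⟨ho₀O, ho₀1, ho₀2⟩ := Finset.mem_filter.1 ho₀
          rw [← Nat.card_eq_finsetCard, ← h6]
          refine Nat.card_le_card_of_injective
            (fun o => (⟨o₀⁻¹ * o.1, ?_⟩ : fixingTwo T pq.1 pq.2)) fun a b h => ?_
          · obtain ⟨hoO, ho1, ho2⟩ := Finset.mem_filter.1 o.2
            refine mem_fixingTwo.2 ⟨hquot _ ho₀O _ hoO, ?_, ?_⟩
            · rw [Perm.mul_apply, ho1, Perm.inv_eq_iff_eq, ho₀1]
            · rw [Perm.mul_apply, ho2, Perm.inv_eq_iff_eq, ho₀2]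
          · exact Subtype.ext (mul_left_cancel (congrArg Subtype.val h))
    rw [Finset.offDiag_card, Finset.card_univ, S.hα] at hO33
    have := Nat.le_of_dvd (by norm_num) hC12
    rw [hc] at hcount
    nlinarith
  · have hO66 : O.card * 5 ≤ ((Finset.univ : Finset α).powersetCard 4).card * 1 := by
      refine Finset.card_mul_le_card_mul (fun o s => s ⊆ fix o) (fun o ho => ?_) fun s hs => ?_
      · refine le_trans (le_of_eq ?_)
          (Finset.card_le_card (s := (fix o).powersetCard 4) fun s hs => ?_)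
        · rw [Finset.card_powersetCard, (hOprop o ho).2.2]
          rfl
        · obtain ⟨h1, h2⟩ := Finset.mem_powersetCard.1 hs
          exact Finset.mem_filter.2 ⟨Finset.mem_powersetCard.2 ⟨Finset.subset_univ _, h2⟩, h1⟩
      · rw [Finset.card_le_one]
        intro a ha b hb
        obtain ⟨haO, hasub⟩ := Finset.mem_filter.1 ha
        obtain ⟨hbO, hbsub⟩ := Finset.mem_filter.1 hb
        have h1 : a⁻¹ * b = 1 := by
          refine S.eq_one_of_fix (hquot _ haO _ hbO) ?_
          rw [← (Finset.mem_powersetCard.1 hs).2]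
          refine Finset.card_le_card fun u hu => mem_fix.2 ?_
          rw [Perm.mul_apply, mem_fix.1 (hbsub hu), Perm.inv_eq_iff_eq, mem_fix.1 (hasub hu)]
        exact inv_mul_eq_one.1 h1
    rw [Finset.card_powersetCard, Finset.card_univ, S.hα, show Nat.choose 11 4 = 330 by rfl] at hO66
    have := Nat.le_of_dvd (by norm_num) hC24
    rw [hc] at hcount
    nlinarith

end Cfsg.Agent.Perm.DegreeEleven
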