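import Mathlib

/-! Orbits of a Sylow subgroup in a transitive group; derangements of prime order. -/

namespace Cfsg.Agent.Perm

variable {G Ω : Type*} [Group G] [Finite G] [MulAction G Ω]

/-- In a transitive group of degree `n` every orbit of a Sylow `p`-subgroup has size divisible by
every power of `p` dividing `n`. -/
theorem pow_dvd_card_sylowOrbit [Finite Ω] (htr : MulAction.IsPretransitive G Ω) {p : ℕ}
    [Fact p.Prime] (P : Sylow p G) (v : ℕ) (hv : p ^ v ∣ Nat.card Ω) (ω : Ω) :
    p ^ v ∣ Nat.card (MulAction.orbit P ω) := by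
  set S := MulAction.stabilizer P ω with hS
  have h1 : Nat.card (MulAction.orbit P ω) * Nat.card S = Nat.card P := by
    rw [← Nat.card_congr (MulAction.orbitProdStabilizerEquivGroup P ω).symm.symm, Nat.card_prod]
  have h2 : Nat.card Ω * Nat.card (MulAction.stabilizer G ω) = Nat.card G := by
    rw [← Nat.card_congr (MulAction.orbitProdStabilizerEquivGroup G ω), Nat.card_prod,
      MulAction.orbit_eq_univ, Nat.card_univ]
  have h3 : Nat.card S ∣ Nat.card (MulAction.stabilizer G ω) :=
    Subgroup.card_dvd_of_injective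
      (⟨⟨fun x => ⟨(x : P), x.2⟩, rfl⟩, fun _ _ => rfl⟩ : S →* MulAction.stabilizer G ω)
      fun a b h => Subtype.ext (Subtype.ext (congrArg (Subtype.val : MulAction.stabilizer G ω → G) h))
  obtain ⟨j, hj⟩ := IsPGroup.iff_card.1 (P.isPGroup'.to_subgroup S)
  have h4 : p ^ (v + j) ∣ Nat.card G := by
    rw [pow_add, ← h2, ← hj]
    exact mul_dvd_mul hv h3
  have h5 : p ^ (v + j) ∣ Nat.card P := by
    rw [P.card_eq_multiplicity]
    exact pow_dvd_pow p ((Fact.out : p.Prime).pow_dvd_iff_le_factorization Nat.card_pos.ne' |>.1 h4)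
  rw [← h1, hj, pow_add] at h5
  exact Nat.dvd_of_mul_dvd_mul_right (pow_pos (Fact.out : p.Prime).pos j) h5

/-- A nontrivial faithful transitive `p`-group has a derangement of order `p`. -/
theorem exists_derangement_of_isPGroup {P : Type*} [Group P] [Finite P] [MulAction P Ω]
    [FaithfulSMul P Ω] {p : ℕ} [Fact p.Prime] (hP : IsPGroup p P)
    (htr : MulAction.IsPretransitive P Ω) [Nontrivial Ω] :
    ∃ g : P, orderOf g = p ∧ ∀ ω : Ω, g • ω ≠ ω := by
  obtain ⟨a, b, hab⟩ := exists_pair_ne Ω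
  obtain ⟨g, hg⟩ := htr.exists_smul_eq a b
  haveI : Nontrivial P := ⟨⟨g, 1, fun h => hab (by rw [← hg, h, one_smul])⟩⟩
  haveI := hP.center_nontrivial
  have hpdvd : p ∣ Nat.card (Subgroup.center P) := by
    obtain ⟨j, hj0, hj⟩ := (hP.to_subgroup (Subgroup.center P)).nontrivial_iff_card.1 inferInstance
    rw [hj]; exact dvd_pow_self p hj0.ne'
  obtain ⟨z, hz⟩ := exists_prime_orderOf_dvd_card' p hpdvd
  refine ⟨z, by rwa [Subgroup.orderOf_coe], fun ω hω => ?_⟩
  have hz1 : (z : P) = 1 := by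
    apply FaithfulSMul.eq_of_smul_eq_smul (α := Ω)
    intro x
    obtain ⟨k, rfl⟩ := htr.exists_smul_eq ω x
    rw [one_smul, smul_smul, ← Subgroup.mem_center_iff.1 z.2 k, ← smul_smul, hω]
  rw [← Subgroup.orderOf_coe, hz1, orderOf_one] at hz
  exact (Fact.out : p.Prime).one_lt.ne hz

end Cfsg.Agent.Perm
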