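import Mathlib.Analysis.SpecialFunctions.Complex.CircleAddChar
import Mathlib.NumberTheory.LegendreSymbol.AddCharacter
import Mathlib.RingTheory.RootsOfUnity.Minpoly
import Mathlib.RingTheory.Polynomial.RationalRoot
import Mathlib.RingTheory.IntegralClosure.IntegrallyClosed
import Mathlib.FieldTheory.Minpoly.IsIntegrallyClosed
import Mathlib.Tactic

/-!
# Strongly regular Cayley graphs on dihedral groups of twice odd order

A strongly regular graph that is a Cayley graph on a dihedral group of order `2 m`, `m` odd, is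
imprimitive. The graph is given by the indicator functions `a`, `b` of its connection set on the
cyclic subgroup and on the other coset.
-/

set_option autoImplicit false
set_option linter.unusedSectionVars false

namespace Cfsg.Agent.Perm.DihedralSrg

open Finset

variable {m : ℕ} [NeZero m]

/-- The parameters of a strongly regular dihedral Cayley graph. -/
structure Sys (a b : ZMod m → ℤ) (k μ ν : ℤ) : Prop where
  a01 : ∀ x, a x = 0 ∨ a x = 1
  b01 : ∀ x, b x = 0 ∨ b x = 1
  a_zero : a 0 = 0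
  hk : ∑ x, a x + ∑ x, b x = k
  eqA : ∀ x, ∑ y, a y * a (x - y) + ∑ y, b y * b (y - x) = μ + ν * a x + if x = 0 then k - μ else 0
  eqB : ∀ x, 2 * ∑ y, a y * b (x - y) = μ + ν * b x
  mu_ne : μ ≠ 0
  mu'_ne : 2 * (m : ℤ) - 2 * k + μ + ν ≠ 0

local notation "ψ" => (ZMod.stdAddChar : AddChar (ZMod _) ℂ)

/-- The discrete Fourier transform. -/
noncomputable def hat (f : ZMod m → ℤ) (j : ZMod m) : ℂ := ∑ x, (f x : ℂ) * ψ (j * x)

theorem hat_zero (f : ZMod m → ℤ) : hat f 0 = ((∑ x, f x : ℤ) : ℂ) := by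
  simp [hat]

theorem sum_char (j : ZMod m) : ∑ x : ZMod m, ψ (j * x) = if j = 0 then (m : ℂ) else 0 := by
  rw [Finset.sum_congr rfl fun x _ => by rw [mul_comm j x],
    AddChar.sum_mulShift j (ZMod.isPrimitive_stdAddChar m)]
  split_ifs <;> simp

theorem inversion (f : ZMod m → ℤ) (x : ZMod m) :
    ∑ j, hat f j * ψ (-(j * x)) = (m : ℂ) * f x := by
  simp only [hat, Finset.sum_mul, mul_assoc, ← AddChar.map_add_eq_mul]
  rw [Finset.sum_comm]
  simp only [← Finset.mul_sum]
  rw [Finset.sum_eq_single x]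
  · simp [mul_comm]
  · intro y _ hy
    rw [Finset.sum_congr rfl fun j _ => by rw [show j * y + -(j * x) = (y - x) * j by ring],
      sum_char, if_neg (sub_ne_zero.2 hy), mul_zero]
  · simp

theorem hat_conv (f g : ZMod m → ℤ) (j : ZMod m) :
    hat (fun x => ∑ y, f y * g (x - y)) j = hat f j * hat g j := by
  simp only [hat, Int.cast_sum, Int.cast_mul]
  rw [Finset.sum_mul_sum]
  simp only [Finset.sum_mul]
  rw [Finset.sum_comm]
  refine Finset.sum_congr rfl fun y _ => ?_
  refine (Equiv.sum_comp (Equiv.addRight y) _).symm.trans (Finset.sum_congr rfl fun z _ => ?_)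
  simp only [Equiv.coe_addRight, add_sub_cancel_right, mul_add, AddChar.map_add_eq_mul]
  ring

theorem hat_corr (f g : ZMod m → ℤ) (j : ZMod m) :
    hat (fun x => ∑ y, f y * g (y - x)) j = hat f j * hat g (-j) := by
  simp only [hat, Int.cast_sum, Int.cast_mul]
  rw [Finset.sum_mul_sum]
  simp only [Finset.sum_mul]
  rw [Finset.sum_comm]
  refine Finset.sum_congr rfl fun y _ => ?_
  refine (Equiv.sum_comp (Equiv.subLeft y) _).symm.trans (Finset.sum_congr rfl fun z _ => ?_)
  simp only [Equiv.subLeft_apply, sub_sub_cancel, mul_sub, sub_eq_add_neg (j * y),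
    AddChar.map_add_eq_mul, neg_mul]
  ring

theorem hat_affine (f : ZMod m → ℤ) (μ ν c : ℤ) (j : ZMod m) :
    hat (fun x => μ + ν * f x + if x = 0 then c else 0) j =
      (μ : ℂ) * (if j = 0 then (m : ℂ) else 0) + ν * hat f j + c := by
  simp only [hat, Int.cast_add, Int.cast_mul, add_mul, Finset.sum_add_distrib, ← Finset.mul_sum,
    sum_char, mul_assoc]
  congr 1
  rw [Finset.sum_eq_single 0] <;> simp +contextual

theorem isIntegral_char (x : ZMod m) : IsIntegral ℤ (ψ x) := by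
  refine IsIntegral.of_pow (n := m) (NeZero.pos m) ?_
  rw [← AddChar.map_nsmul_eq_pow, nsmul_eq_mul, ZMod.natCast_self, zero_mul, AddChar.map_zero_eq_one]
  exact isIntegral_one

theorem isIntegral_intCast (c : ℤ) : IsIntegral ℤ (c : ℂ) := by
  simpa using (isIntegral_algebraMap (R := ℤ) (A := ℂ) (x := c))

/-- A rational algebraic integer is an integer. -/
theorem dvd_of_mul_eq {X : ℂ} {N D : ℤ} (hN : N ≠ 0) (hX : IsIntegral ℤ X)
    (h : (N : ℂ) * X = D) : N ∣ D := by
  have hX' : X = algebraMap ℚ ℂ ((D : ℚ) / N) := by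
    rw [map_div₀, map_intCast, map_intCast, ← h,
      mul_div_cancel_left₀ _ (by exact_mod_cast hN : (N : ℂ) ≠ 0)]
  rw [hX'] at hX
  obtain ⟨z, hz⟩ := IsIntegrallyClosed.isIntegral_iff.1
    ((isIntegral_algebraMap_iff (FaithfulSMul.algebraMap_injective ℚ ℂ)).1 hX)
  refine ⟨z, ?_⟩
  have hz' : (z : ℚ) = (D : ℚ) / N := by simpa using hz
  rw [eq_div_iff (by exact_mod_cast hN)] at hz'
  have : z * N = D := by exact_mod_cast hz'
  rw [← this, mul_comm]

theorem char_unit_mul (u : (ZMod m)ˣ) (x : ZMod m) :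
    ψ ((u : ZMod m) * x) = ψ x ^ (u : ZMod m).val := by
  rw [← AddChar.map_nsmul_eq_pow, nsmul_eq_mul, ZMod.natCast_zmod_val]

theorem char_eq_pow (x : ZMod m) : ψ x = (ψ (1 : ZMod m)) ^ x.val := by
  rw [← AddChar.map_nsmul_eq_pow, nsmul_one, ZMod.natCast_zmod_val]

theorem isPrimitiveRoot_one : IsPrimitiveRoot (ψ (1 : ZMod m)) m := by
  refine ⟨?_, fun l hl => ?_⟩
  · rw [← AddChar.map_nsmul_eq_pow, nsmul_one, ZMod.natCast_self, AddChar.map_zero_eq_one]
  · rw [← AddChar.map_nsmul_eq_pow, nsmul_one, ← (ψ : AddChar (ZMod m) ℂ).map_zero_eq_one,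
      ZMod.injective_stdAddChar.eq_iff] at hl
    exact (ZMod.natCast_eq_zero_iff _ _).1 hl

open Polynomial in
/-- An integral value of the transform is constant on the orbit of the units. -/
theorem hat_unit_mul {f : ZMod m → ℤ} {j : ZMod m} {c : ℤ} (h : hat f j = c) (u : (ZMod m)ˣ) :
    hat f ((u : ZMod m) * j) = c := by
  set P : ℤ[X] := (∑ x, C (f x) * X ^ (j * x).val) - C c
  have hev : ∀ z : ℂ, aeval z P = (∑ x, (f x : ℂ) * z ^ (j * x).val) - c := fun z => by
    simp [P]
  have h0 : aeval (ψ (1 : ZMod m)) P = 0 := by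
    rw [hev, ← h, sub_eq_zero]
    exact Finset.sum_congr rfl fun x _ => by rw [← char_eq_pow]
  have hint : IsIntegral ℤ (ψ (1 : ZMod m)) := isIntegral_char 1
  have hdvd := minpoly.isIntegrallyClosed_dvd hint h0
  rw [isPrimitiveRoot_one.minpoly_eq_pow_coprime (ZMod.val_coe_unit_coprime u)] at hdvd
  obtain ⟨Q, hQ⟩ := hdvd
  have h1 : aeval (ψ (1 : ZMod m) ^ (u : ZMod m).val) P = 0 := by
    rw [hQ, map_mul, minpoly.aeval, zero_mul]
  rw [hev, sub_eq_zero] at h1
  rw [← h1]
  refine Finset.sum_congr rfl fun x _ => ?_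
  rw [mul_assoc, char_unit_mul, char_eq_pow (j * x), ← pow_mul, ← pow_mul, Nat.mul_comm]

namespace Sys

variable {a b : ZMod m → ℤ} {k μ ν : ℤ}

variable (S : Sys a b k μ ν)

include S

/-- The complementary graph. -/
theorem compl : Sys (fun x => (if x = 0 then 0 else 1 - a x)) (fun x => 1 - b x)
    (2 * m - 1 - k) (2 * m - 2 * k + μ + ν) (-(ν + 2)) := by
  have ha' : ∀ x, (if x = 0 then 0 else 1 - a x) = 1 - (if x = 0 then 1 else 0) - a x := fun x => by
    split_ifs with h
    · subst h; simp [S.a_zero]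
    · ring
  have hsub : ∀ (f : ZMod m → ℤ) x, ∑ y, f (x - y) = ∑ y, f y := fun f x =>
    Equiv.sum_comp (Equiv.subLeft x) f
  have hsub' : ∀ (f : ZMod m → ℤ) x, ∑ y, f (y - x) = ∑ y, f y := fun f x =>
    Equiv.sum_comp (Equiv.subRight x) f
  have hcard : ∑ _y : ZMod m, (1 : ℤ) = m := by simp
  have hδ : ∀ (f : ZMod m → ℤ), ∑ y, (if y = 0 then (1 : ℤ) else 0) * f y = f 0 := fun f => by
    simp [ite_mul]
  have hδ' : ∀ (f : ZMod m → ℤ) x, ∑ y, f y * (if x - y = 0 then (1 : ℤ) else 0) = f x := fun f x => by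
    simp [mul_ite, sub_eq_zero]
  have hk := S.hk
  refine ⟨fun x => ?_, fun x => ?_, by simp, ?_, fun x => ?_, fun x => ?_, S.mu'_ne, ?_⟩
  · rcases S.a01 x with h | h <;> split_ifs <;> simp [h]
  · rcases S.b01 x with h | h <;> simp [h]
  · simp only [ha', Finset.sum_sub_distrib, hcard, Finset.sum_ite_eq', Finset.mem_univ, if_true]
    linarith
  · have e1 : ∀ y, (1 - (if y = 0 then (1 : ℤ) else 0) - a y) *
        (1 - (if x - y = 0 then 1 else 0) - a (x - y)) =
      1 - (if x - y = 0 then (1 : ℤ) else 0) - a (x - y)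
        - (if y = 0 then (1 : ℤ) else 0) * (1 - (if x - y = 0 then 1 else 0) - a (x - y))
        - a y + a y * (if x - y = 0 then (1 : ℤ) else 0) + a y * a (x - y) := fun y => by ring
    have e2 : ∀ y, (1 - b y) * (1 - b (y - x)) = 1 - b y - b (y - x) + b y * b (y - x) :=
      fun y => by ring
    simp only [ha', e1, e2, Finset.sum_add_distrib, Finset.sum_sub_distrib, hδ, hδ', hsub, hsub',
      hcard, sub_zero]
    rw [hsub (fun y => if y = 0 then (1 : ℤ) else 0) x, Finset.sum_ite_eq', if_pos (Finset.mem_univ _)]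
    have := S.eqA x
    by_cases hx : x = 0
    · subst hx
      simp only [if_true, S.a_zero] at this ⊢
      linarith
    · simp only [if_neg hx] at this ⊢
      linarith
  · have e1 : ∀ y, (1 - (if y = 0 then (1 : ℤ) else 0) - a y) * (1 - b (x - y)) =
      1 - b (x - y) - (if y = 0 then (1 : ℤ) else 0) * (1 - b (x - y)) - a y + a y * b (x - y) :=
      fun y => by ring
    simp only [ha', e1, Finset.sum_add_distrib, Finset.sum_sub_distrib, hδ, hsub, hcard, sub_zero]
    have := S.eqB x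
    linarith
  · intro h
    exact S.mu_ne (by linarith)

theorem hatA (j : ZMod m) : hat a j * hat a j + hat b j * hat b (-j) =
    (μ : ℂ) * (if j = 0 then (m : ℂ) else 0) + ν * hat a j + ((k - μ : ℤ) : ℂ) := by
  rw [← hat_conv, ← hat_corr, ← hat_affine]
  simp only [hat, ← Finset.sum_add_distrib, ← add_mul, ← Int.cast_add, S.eqA]

theorem hatB (j : ZMod m) : 2 * (hat a j * hat b j) =
    (μ : ℂ) * (if j = 0 then (m : ℂ) else 0) + ν * hat b j := by
  have h := hat_affine b μ ν 0 j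
  simp only [ite_self, add_zero, Int.cast_zero] at h
  rw [← hat_conv, ← h]
  simp only [hat, ← S.eqB]
  rw [Finset.mul_sum]
  refine Finset.sum_congr rfl fun x _ => ?_
  push_cast
  ring

theorem at_zero :
    (∑ x, a x) * (∑ x, a x) + (∑ x, b x) * (∑ x, b x) = μ * m + ν * (∑ x, a x) + (k - μ) ∧
      2 * ((∑ x, a x) * (∑ x, b x)) = μ * m + ν * (∑ x, b x) := by
  constructor
  · have h := S.hatA 0
    simp only [neg_zero, hat_zero, if_true] at h
    exact_mod_cast h
  · have h := S.hatB 0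
    simp only [hat_zero, if_true] at h
    exact_mod_cast h

theorem b_one : ∃ x, b x = 1 := by
  by_contra h
  push Not at h
  have h0 : ∀ x, b x = 0 := fun x => (S.b01 x).resolve_right (h x)
  have := S.eqB 0
  simp [h0] at this
  exact S.mu_ne this.symm

theorem b_zero : ∃ x, b x = 0 := by
  obtain ⟨x, hx⟩ := S.compl.b_one
  exact ⟨x, by linarith⟩

theorem even_nu : ∃ σ, ν = 2 * σ := by
  obtain ⟨x, hx⟩ := S.b_one
  obtain ⟨y, hy⟩ := S.b_zero
  refine ⟨∑ z, a z * b (x - z) - ∑ z, a z * b (y - z), ?_⟩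
  have h1 := S.eqB x
  have h2 := S.eqB y
  rw [hx] at h1
  rw [hy] at h2
  linarith

variable {σ d : ℤ} (hν : ν = 2 * σ) (hd : ∑ x, a x - ∑ x, b x = σ + d)

include hν hd

theorem kappa : k - μ = d * d - σ * σ := by
  obtain ⟨h1, h2⟩ := S.at_zero
  subst hν
  have : (∑ x, a x - ∑ x, b x) * (∑ x, a x - ∑ x, b x) =
      2 * σ * (∑ x, a x - ∑ x, b x) + (k - μ) := by linear_combination h1 - h2
  rw [hd] at this
  linear_combination -this

theorem values {j : ZMod m} (hj : j ≠ 0) :
    (hat a j = σ ∧ hat b j * hat b (-j) = ((d * d : ℤ) : ℂ)) ∨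
      ((hat a j = (σ + d : ℤ) ∨ hat a j = (σ - d : ℤ)) ∧ hat b j * hat b (-j) = 0) := by
  have hA := S.hatA j
  have hB := S.hatB j
  rw [if_neg hj, mul_zero, zero_add, S.kappa hν hd] at hA
  rw [if_neg hj, mul_zero, zero_add] at hB
  subst hν
  push_cast at hA hB ⊢
  by_cases hb : hat b j = 0
  · refine Or.inr ⟨?_, by rw [hb, zero_mul]⟩
    rw [hb, zero_mul, add_zero] at hA
    have : (hat a j - (σ + d)) * (hat a j - (σ - d)) = 0 := by linear_combination hA
    rcases mul_eq_zero.1 this with h | h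
    · exact Or.inl (sub_eq_zero.1 h)
    · exact Or.inr (sub_eq_zero.1 h)
  · have ha : hat a j = σ := by
      have : (hat a j - σ) * hat b j = 0 := by linear_combination hB / 2
      exact sub_eq_zero.1 ((mul_eq_zero.1 this).resolve_right hb)
    exact Or.inl ⟨ha, by rw [ha] at hA; linear_combination hA⟩

theorem value {j : ZMod m} (hj : j ≠ 0) :
    ∃ i : ℤ, -1 ≤ i ∧ i ≤ 1 ∧ hat a j = ((σ + i * d : ℤ) : ℂ) := by
  rcases S.values hν hd hj with ⟨h, -⟩ | ⟨h | h, -⟩
  · exact ⟨0, by norm_num, by norm_num, by simp [h]⟩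
  · exact ⟨1, by norm_num, le_rfl, by simp [h]⟩
  · exact ⟨-1, le_rfl, by norm_num, by simp [h, sub_eq_add_neg]⟩

theorem exists_hat_b_ne : ∃ j : ZMod m, j ≠ 0 ∧ hat b j ≠ 0 := by
  by_contra h
  push Not at h
  obtain ⟨x, hx⟩ := S.b_one
  obtain ⟨y, hy⟩ := S.b_zero
  have hconst : ∀ z, (m : ℂ) * b z = hat b 0 := fun z => by
    rw [← inversion b z, Finset.sum_eq_single 0] <;> simp +contextual [h]
  have h2 := (hconst x).trans (hconst y).symm
  rw [hx, hy] at h2
  simp [NeZero.ne m] at h2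

theorem unit_invariant (u : (ZMod m)ˣ) (x : ZMod m) : a ((u : ZMod m) * x) = a x := by
  have hu : ∀ j, hat (fun z => a ((u : ZMod m) * z)) j = hat a j := by
    intro j
    have h1 : hat (fun z => a ((u : ZMod m) * z)) j = hat a ((u⁻¹ : (ZMod m)ˣ) * j) := by
      refine ((Equiv.sum_comp (Units.mulLeft u) _).symm.trans ?_).symm
      refine Finset.sum_congr rfl fun z _ => ?_
      simp only [Units.mulLeft_apply]
      congr 2
      rw [mul_comm ((u⁻¹ : (ZMod m)ˣ) : ZMod m) j, mul_assoc, Units.inv_mul_cancel_left]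
    rw [h1]
    by_cases hj : j = 0
    · rw [hj, mul_zero]
    · obtain ⟨i, -, -, hi⟩ := S.value hν hd hj
      rw [hat_unit_mul hi, hi]
  have h := inversion (fun z => a ((u : ZMod m) * z)) x
  simp only [hu, inversion a x] at h
  exact_mod_cast (mul_left_cancel₀ (by exact_mod_cast NeZero.ne m : (m : ℂ) ≠ 0) h).symm

theorem ne_zero_and_dvd {x y : ZMod m} (hx : x ≠ 0) (hy : y ≠ 0) (hax : a x = 1) (hay : a y = 0) :
    d ≠ 0 ∧ d ∣ (m : ℤ) := by
  classical
  choose! i hi1 hi2 hi using fun j (hj : j ≠ (0 : ZMod m)) => S.value hν hd hj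
  set E : ZMod m → ℂ := fun z => ∑ j ∈ univ.erase (0 : ZMod m), (i j : ℂ) * ψ (-(j * z))
  have hE : ∀ z : ZMod m, z ≠ 0 → (m : ℂ) * a z = ((∑ w, a w - σ : ℤ) : ℂ) + d * E z := by
    intro z hz
    have hs : ∀ j ∈ univ.erase (0 : ZMod m), hat a j * ψ (-(j * z)) =
        ((σ + i j * d : ℤ) : ℂ) * ψ (-(j * z)) :=
      fun j hj => by rw [hi j (Finset.ne_of_mem_erase hj)]
    rw [← inversion a z, ← Finset.add_sum_erase _ _ (Finset.mem_univ (0 : ZMod m)), hat_zero,
      zero_mul, neg_zero, AddChar.map_zero_eq_one, mul_one, Finset.sum_congr rfl hs]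
    have h0 : ∑ j ∈ univ.erase (0 : ZMod m), ψ (-(j * z)) = -1 := by
      have h := Finset.add_sum_erase univ (fun j => ψ (-(j * z))) (Finset.mem_univ (0 : ZMod m))
      rw [Finset.sum_congr rfl fun j (_ : j ∈ univ) => by rw [show -(j * z) = (-z) * j by ring],
        sum_char, if_neg (neg_ne_zero.2 hz)] at h
      simp only [zero_mul, neg_zero, AddChar.map_zero_eq_one] at h
      linear_combination h
    have hsp : ∑ j ∈ univ.erase (0 : ZMod m), ((σ + i j * d : ℤ) : ℂ) * ψ (-(j * z)) =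
        (σ : ℂ) * ∑ j ∈ univ.erase (0 : ZMod m), ψ (-(j * z)) + d * E z := by
      simp only [E, Finset.mul_sum, ← Finset.sum_add_distrib]
      refine Finset.sum_congr rfl fun j _ => ?_
      push_cast
      ring
    rw [hsp, h0]
    push_cast
    ring
  have h : ((d : ℤ) : ℂ) * (E x - E y) = ((m : ℤ) : ℂ) := by
    have h1 := hE x hx
    have h2 := hE y hy
    rw [hax] at h1
    rw [hay] at h2
    push_cast at h1 h2 ⊢
    linear_combination h2 - h1
  have hd0 : d ≠ 0 := fun h0 => by simp [h0, eq_comm, NeZero.ne m] at h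
  exact ⟨hd0, dvd_of_mul_eq hd0 (IsIntegral.sub
    (IsIntegral.sum _ fun j _ => (isIntegral_intCast _).mul (isIntegral_char _))
    (IsIntegral.sum _ fun j _ => (isIntegral_intCast _).mul (isIntegral_char _))) h⟩

theorem abs_lt : |d| < m := by
  classical
  set kb := ∑ x, b x
  set J := (univ.erase (0 : ZMod m)).filter fun j => hat b j * hat b (-j) ≠ 0
  have hsum : ∑ j : ZMod m, hat b j * hat b (-j) = (((m : ℤ) * kb : ℤ) : ℂ) := by
    have h1 : ∀ j, hat b (-j) = ∑ x, (b x : ℂ) * ψ (-(j * x)) := fun j => by simp [hat, neg_mul]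
    simp only [h1, Finset.mul_sum]
    rw [Finset.sum_comm]
    simp only [mul_left_comm (hat b _), ← Finset.mul_sum, inversion]
    rw [Int.cast_mul, Int.cast_natCast, Int.cast_sum, Finset.mul_sum]
    refine Finset.sum_congr rfl fun x _ => ?_
    rcases S.b01 x with h | h <;> simp [h]
  have hJ : ∀ j ∈ J, hat b j * hat b (-j) = ((d * d : ℤ) : ℂ) := fun j hj => by
    obtain ⟨hj1, hj2⟩ := Finset.mem_filter.1 hj
    rcases S.values hν hd (Finset.ne_of_mem_erase hj1) with ⟨-, h⟩ | ⟨-, h⟩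
    · exact h
    · exact absurd h hj2
  rw [← Finset.add_sum_erase _ _ (Finset.mem_univ (0 : ZMod m)), ← Finset.sum_filter_ne_zero,
    Finset.sum_congr rfl hJ, Finset.sum_const, neg_zero, hat_zero, nsmul_eq_mul] at hsum
  have hint : kb * kb + (J.card : ℤ) * (d * d) = m * kb := by exact_mod_cast hsum
  have hpos : 1 ≤ (J.card : ℤ) ∨ d = 0 := by
    obtain ⟨j, hj, hjb⟩ := S.exists_hat_b_ne hν hd
    rcases eq_or_ne d 0 with h | h
    · exact Or.inr h
    suffices hmem : j ∈ J from Or.inl (by exact_mod_cast Finset.card_pos.2 ⟨j, hmem⟩)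
    refine Finset.mem_filter.2 ⟨Finset.mem_erase.2 ⟨hj, Finset.mem_univ _⟩, ?_⟩
    rcases S.values hν hd hj with ⟨-, hv⟩ | ⟨-, hv⟩
    · rw [hv, Int.cast_ne_zero]; exact mul_self_ne_zero.2 h
    · have hB := S.hatB j
      rw [if_neg hj, mul_zero, zero_add] at hB
      have hA := S.hatA j
      rw [if_neg hj, mul_zero, zero_add, hv, add_zero, S.kappa hν hd] at hA
      have ha : hat a j = σ := by
        have h' : (2 * hat a j - ν) * hat b j = 0 := by linear_combination hB
        have h'' := (mul_eq_zero.1 h').resolve_right hjb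
        subst hν; push_cast at h''; linear_combination h'' / 2
      subst hν
      rw [ha] at hA
      push_cast at hA
      have h0 : (d : ℂ) * d = 0 := by linear_combination -hA
      exact absurd (by exact_mod_cast mul_self_eq_zero.1 h0) h
  rcases hpos with hpos | hpos
  · by_contra hcon
    push Not at hcon
    have h1 : (m : ℤ) * m ≤ d * d := by
      have h := mul_le_mul hcon hcon (by positivity) (abs_nonneg d)
      rwa [abs_mul_abs_self] at h
    have h2 : d * d ≤ (J.card : ℤ) * (d * d) := le_mul_of_one_le_left (mul_self_nonneg d) hpos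
    have hm : (0 : ℤ) < m := by exact_mod_cast NeZero.pos m
    nlinarith [sq_nonneg (2 * kb - (m : ℤ))]
  · rw [hpos, abs_zero]; exact_mod_cast NeZero.pos m

/-- No frequency fixes the connection set inside the cyclic subgroup. -/
theorem case_false (hm : Odd m) (hdm : d ∣ (m : ℤ)) {w : ZMod m} (hw : w ≠ 0)
    (hwa : hat a w = ((∑ x, a x : ℤ) : ℂ)) : False := by
  obtain ⟨h1, h2⟩ := S.at_zero
  have hκ := S.kappa hν hd
  have hk := S.hk
  have hm0 : (m : ℤ) ≠ 0 := by exact_mod_cast NeZero.ne m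
  obtain ⟨i, hi1, hi2, hi⟩ := S.value hν hd hw
  rw [hwa, Int.cast_inj] at hi
  subst hν
  set ka := ∑ x, a x
  set kb := ∑ x, b x
  have hkb0 : kb ≠ 0 := fun h => by
    rw [h] at h2
    exact S.mu_ne (by simpa [hm0, NeZero.ne m] using h2)
  interval_cases i
  · -- `ka = σ - d`
    have hkb : kb = -2 * d := by linarith
    obtain ⟨n', hn'⟩ := hdm
    set D := -d with hD
    set n := -n' with hn
    have hmn : (m : ℤ) = n * D := by rw [hn', hn, hD]; ring
    have hkbm : kb ≤ m := by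
      have := Finset.sum_le_sum (s := univ) (f := b) (g := fun _ => (1 : ℤ))
        fun x _ => by rcases S.b01 x with h | h <;> simp [h]
      simpa using this
    have hkbn : 0 ≤ kb := Finset.sum_nonneg fun x _ => by rcases S.b01 x with h | h <;> simp [h]
    have hDpos : 0 < D := by omega
    have hmu : 8 * (D * D) = 2 * (m : ℤ) * μ := by
      have hka : ka = σ + D := by linarith
      have hkb' : kb = 2 * D := by linarith
      rw [hka, hkb', hκ, show d = -D by linarith] at h1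
      rw [hka, hkb'] at h2
      linear_combination h1 + h2
    have h4 : 4 * D = n * μ := by
      rw [hmn] at hmu
      exact mul_left_cancel₀ (mul_ne_zero two_ne_zero hDpos.ne') (by linear_combination hmu)
    have hnodd : Odd n := by
      have h : Odd ((m : ℤ)) := (Int.odd_coe_nat m).2 hm
      rw [hmn] at h
      exact (Int.odd_mul.1 h).1
    have hn2 : 2 ≤ n := by
      by_contra hcon
      have : n * D ≤ 1 * D := mul_le_mul_of_nonneg_right (by omega) hDpos.le
      linarith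
    have hdvd : n ∣ D := by
      have hco : IsCoprime n (4 : ℤ) := by
        obtain ⟨t, ht⟩ := hnodd
        rw [show (4 : ℤ) = 2 ^ 2 by norm_num]
        exact IsCoprime.pow_right ⟨1, -t, by rw [ht]; ring⟩
      exact hco.dvd_of_dvd_mul_left ⟨μ, h4⟩
    obtain ⟨ε, hε⟩ := hdvd
    have hmue : μ = 4 * ε := mul_left_cancel₀ (by omega : n ≠ 0) (by rw [← h4, hε]; ring)
    have hεpos : 0 < ε := by
      by_contra hcon
      have : n * ε ≤ n * 0 := mul_le_mul_of_nonneg_left (by omega) (by omega)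
      linarith
    set P := 2 * (n * ε) - 3
    set Q := |2 * σ + 1| with hQ
    have hQ2 : Q * Q = P * P + 16 * ε - 8 := by
      rw [hQ, abs_mul_abs_self]
      have hkk : k = σ + D + 2 * D := by linarith
      rw [hkk, hmue, show d = -(n * ε) by linarith, hε] at hκ
      simp only [P]
      linear_combination 4 * hκ
    have hP : 0 < P := by nlinarith
    have hQnn : 0 ≤ Q := abs_nonneg _
    have hPQ : P < Q := by nlinarith
    have hQodd : Q % 2 = 1 := by
      rcases abs_choice (2 * σ + 1) with h | h <;> rw [hQ, h] <;> omega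
    have hPQ2 : P + 2 ≤ Q := by omega
    have hn3 : 3 ≤ n := by
      obtain ⟨t, ht⟩ := hnodd; omega
    nlinarith [mul_le_mul hPQ2 hPQ2 (by omega) hQnn, mul_le_mul_of_nonneg_right hn3 hεpos.le]
  · -- `ka = σ`
    have hkb : kb = -d := by linarith
    rw [hi, hkb, hκ] at h1
    have : μ * (m : ℤ) = 0 := by linear_combination -h1
    exact S.mu_ne ((mul_eq_zero.1 this).resolve_right hm0)
  · exact hkb0 (by linarith)

theorem false_of_const {v : ℤ} (hv : ∀ x, x ≠ 0 → a x = v) (hv0 : v = 0) : False := by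
  classical
  have ha : ∀ x, a x = 0 := fun x => by
    by_cases h : x = 0
    · rw [h, S.a_zero]
    · rw [hv x h, hv0]
  obtain ⟨j, hj, hjb⟩ := S.exists_hat_b_ne hν hd
  have hB := S.hatB j
  have hz : hat a j = 0 := by simp [hat, ha]
  rw [hz, if_neg hj, zero_mul, mul_zero, mul_zero, zero_add] at hB
  have hν0 : ν = 0 := by exact_mod_cast (mul_eq_zero.1 hB.symm).resolve_right hjb
  have h2 := S.at_zero.2
  simp [ha, hν0, NeZero.ne m] at h2
  exact S.mu_ne h2

end Sys

/-- No strongly regular graph with `μ ≠ 0` and `μ' ≠ 0` is a Cayley graph on a dihedral group of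
order `2 m`, `m` odd. -/
theorem Sys.false {a b : ZMod m → ℤ} {k μ ν : ℤ} (S : Sys a b k μ ν) (hm : Odd m) : False := by
  classical
  obtain ⟨σ, hν⟩ := S.even_nu
  obtain ⟨d, hd⟩ : ∃ d, ∑ x, a x - ∑ x, b x = σ + d := ⟨∑ x, a x - ∑ x, b x - σ, by ring⟩
  obtain ⟨σ', hν'⟩ := S.compl.even_nu
  obtain ⟨d', hd'⟩ : ∃ d', ∑ x, (if x = 0 then 0 else 1 - a x) - ∑ x, (1 - b x) = σ' + d' :=
    ⟨∑ x, (if x = 0 then 0 else 1 - a x) - ∑ x, (1 - b x) - σ', by ring⟩
  obtain ⟨x₁, hx₁, hax₁⟩ : ∃ x, x ≠ 0 ∧ a x = 1 := by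
    by_contra h
    push Not at h
    exact S.false_of_const hν hd (fun x hx => (S.a01 x).resolve_right (h x hx)) rfl
  obtain ⟨x₀, hx₀, hax₀⟩ : ∃ x, x ≠ 0 ∧ a x = 0 := by
    by_contra h
    push Not at h
    exact S.compl.false_of_const hν' hd' (v := 0)
      (fun x hx => by simp [hx, (S.a01 x).resolve_left (h x hx)]) rfl
  obtain ⟨hd0, hdm⟩ := S.ne_zero_and_dvd hν hd hx₁ hx₀ hax₁ hax₀
  obtain ⟨-, hdm'⟩ := S.compl.ne_zero_and_dvd hν' hd' hx₀ hx₁ (by simp [hx₀, hax₀]) (by simp [hx₁, hax₁])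
  have hlt := S.abs_lt hν hd
  -- a prime dividing the cofactor
  obtain ⟨n, hn⟩ := Int.natAbs_dvd_natAbs.2 hdm
  rw [Int.natAbs_natCast] at hn
  have hn1 : n ≠ 1 := by
    rintro rfl
    rw [mul_one] at hn
    rw [Int.abs_eq_natAbs, ← hn] at hlt
    exact lt_irrefl _ hlt
  obtain ⟨q, hq, hqn⟩ := Nat.exists_prime_and_dvd hn1
  haveI := Fact.mk hq
  obtain ⟨e, m', hqm', hm'⟩ := Nat.exists_eq_pow_mul_and_not_dvd (NeZero.ne m) q hq.ne_one
  have hqe : ¬ ((q ^ e : ℕ) : ℤ) ∣ d := by
    intro h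
    rw [Int.natCast_dvd] at h
    obtain ⟨t, ht⟩ := h
    obtain ⟨s, hs⟩ := hqn
    rw [ht, hs, hm'] at hn
    exact hqm' ⟨t * s, mul_left_cancel₀ (pow_ne_zero e hq.ne_zero) (by rw [hn]; ring)⟩
  have hqodd : Odd q := Odd.of_dvd_nat hm (hn ▸ hqn.mul_left _)
  have he : 1 ≤ e := by
    by_contra he
    rw [show e = 0 by omega, pow_zero, one_mul] at hm'
    exact hqm' (hm' ▸ hn ▸ hqn.mul_left _)
  subst hm'
  have hm'0 : m' ≠ 0 := fun h => hqm' (h ▸ dvd_zero q)
  haveI : NeZero m' := ⟨hm'0⟩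
  haveI : NeZero (q ^ e) := ⟨pow_ne_zero e hq.ne_zero⟩
  have hco : (q ^ e).Coprime m' := (hq.coprime_iff_not_dvd.2 hqm').pow_left e
  set R := ZMod.chineseRemainder hco
  have hmul : ∀ c j s t, R.symm (c, j) * R.symm (s, t) = R.symm (c * s, j * t) := fun c j s t => by
    rw [← map_mul]; rfl
  have hsplit : ∀ s t, ψ (R.symm (s, t)) = ψ (R.symm (s, 0)) * ψ (R.symm (0, t)) := fun s t => by
    rw [← AddChar.map_add_eq_mul, ← map_add]; simp
  have hsum : ∀ f : ZMod (q ^ e * m') → ℂ, ∑ x, f x = ∑ s, ∑ t, f (R.symm (s, t)) := fun f => by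
    rw [← Fintype.sum_prod_type' (f := fun s t => f (R.symm (s, t)))]
    exact (Equiv.sum_comp R.symm.toEquiv f).symm
  set β : ZMod m' → ℤ := fun t => a (R.symm (1, t))
  have hβ : ∀ s, IsUnit s → ∀ t, a (R.symm (s, t)) = β t := by
    intro s hs t
    obtain ⟨u, hu⟩ : IsUnit (R.symm (s, 1)) :=
      (Prod.isUnit_iff.2 ⟨hs, isUnit_one⟩).map R.symm
    simp only [β]
    rw [← S.unit_invariant hν hd u (R.symm (1, t)), hu, hmul, mul_one, one_mul]
  set c₀ : ZMod (q ^ e) := ((q ^ (e - 1) : ℕ) : ZMod (q ^ e))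
  have hc₀ : c₀ ≠ 0 := fun h => by
    rw [ZMod.natCast_eq_zero_iff, Nat.pow_dvd_pow_iff_le_right hq.one_lt] at h
    omega
  have hnon : ∀ s : ZMod (q ^ e), ¬ IsUnit s → c₀ * s = 0 := fun s hs => by
    rw [← ZMod.natCast_zmod_val s] at hs ⊢
    rw [ZMod.isUnit_iff_coprime, Nat.coprime_pow_right_iff (by omega), Nat.coprime_comm,
      hq.coprime_iff_not_dvd, not_not] at hs
    obtain ⟨t, ht⟩ := hs
    simp only [c₀]
    rw [← Nat.cast_mul, ZMod.natCast_eq_zero_iff, ht]
    exact ⟨t, by rw [← mul_assoc, ← pow_succ, show e - 1 + 1 = e by omega]⟩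
  have hc0sum : ∀ c : ZMod (q ^ e), c ≠ 0 → ∑ s, ψ (R.symm (c * s, 0)) = 0 := by
    intro c hc
    have h := sum_char (R.symm (c, (0 : ZMod m')))
    rw [if_neg (fun h0 => hc (congrArg Prod.fst ((map_eq_zero_iff R.symm R.symm.injective).1 h0))),
      hsum] at h
    simp only [hmul, zero_mul, Finset.sum_const, Finset.card_univ, ZMod.card, nsmul_eq_mul] at h
    rw [← Finset.mul_sum] at h
    exact (mul_eq_zero.1 h).resolve_left (by exact_mod_cast hm'0)
  set X : ZMod m' → ℂ := fun j => ∑ t, (β t : ℂ) * ψ (R.symm (0, j * t))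
  have hX : ∀ j, j ≠ 0 → X j = 0 := by
    intro j hj
    have hz : ∀ c, R.symm (c, j) ≠ 0 := fun c h0 =>
      hj (congrArg Prod.snd ((map_eq_zero_iff R.symm R.symm.injective).1 h0))
    obtain ⟨i, hi1, hi2, hi⟩ := S.value hν hd (hz 0)
    obtain ⟨i', hi1', hi2', hi'⟩ := S.value hν hd (hz c₀)
    have hdiff : hat a (R.symm (0, j)) - hat a (R.symm (c₀, j)) = ((q ^ e : ℕ) : ℂ) * X j := by
      simp only [hat, hsum, hmul, ← Finset.sum_sub_distrib, zero_mul]
      have h : ∀ s t, (a (R.symm (s, t)) : ℂ) * ψ (R.symm (0, j * t)) -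
          (a (R.symm (s, t)) : ℂ) * ψ (R.symm (c₀ * s, j * t)) =
          (1 - ψ (R.symm (c₀ * s, 0))) * ((β t : ℂ) * ψ (R.symm (0, j * t))) := by
        intro s t
        rw [hsplit (c₀ * s)]
        by_cases hs : IsUnit s
        · rw [hβ s hs]; ring
        · rw [hnon s hs, show ((0 : ZMod (q ^ e)), (0 : ZMod m')) = 0 from rfl, map_zero,
            AddChar.map_zero_eq_one]
          ring
      simp only [h, ← Finset.mul_sum, ← Finset.sum_mul, Finset.sum_sub_distrib, hc0sum c₀ hc₀,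
        Finset.sum_const, Finset.card_univ, ZMod.card, nsmul_eq_mul, mul_one, sub_zero, X]
    rw [hi, hi'] at hdiff
    have hXint : IsIntegral ℤ (X j) :=
      IsIntegral.sum _ fun t _ => (isIntegral_intCast _).mul (isIntegral_char _)
    have heq : (((q ^ e : ℕ) : ℤ) : ℂ) * X j = (((i - i') * d : ℤ) : ℂ) := by
      rw [Int.cast_natCast, ← hdiff]; push_cast; ring
    have hdvd := dvd_of_mul_eq (by exact_mod_cast pow_ne_zero e hq.ne_zero) hXint heq
    have hii : i = i' := by
      by_contra hne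
      have hq3 : 3 ≤ q := by
        have := hq.two_le
        obtain ⟨t, ht⟩ := hqodd
        omega
      have hco' : IsCoprime ((q ^ e : ℕ) : ℤ) (i - i') := by
        rw [Int.isCoprime_iff_nat_coprime, Int.natAbs_natCast]
        exact ((hq.coprime_iff_not_dvd.2 fun h =>
          absurd (Nat.le_of_dvd (by omega) h) (by omega))).pow_left e
      exact hqe (hco'.dvd_of_dvd_mul_left hdvd)
    rw [hii, sub_self, zero_mul, Int.cast_zero, mul_eq_zero] at heq
    exact heq.resolve_left (by exact_mod_cast pow_ne_zero e hq.ne_zero)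
  -- hence `β` is constant
  set B : ZMod (q ^ e * m') → ℤ := fun x => β (R x).2
  have hB : ∀ z, z ≠ 0 → hat B z = 0 := by
    intro z hz
    obtain ⟨⟨c, j⟩, rfl⟩ := R.symm.surjective z
    simp only [hat, hsum, hmul, B, RingEquiv.apply_symm_apply]
    have hterm : ∀ s t, (β t : ℂ) * ψ (R.symm (c * s, j * t)) =
        ψ (R.symm (c * s, 0)) * ((β t : ℂ) * ψ (R.symm (0, j * t))) := fun s t => by
      rw [hsplit (c * s)]; ring
    simp only [hterm, ← Finset.mul_sum, ← Finset.sum_mul]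
    by_cases hc : c = 0
    · have hj : j ≠ 0 := fun hj => hz (by rw [hc, hj, show ((0 : ZMod (q ^ e)), (0 : ZMod m')) = 0 from rfl, map_zero])
      rw [show (∑ t, (β t : ℂ) * ψ (R.symm (0, j * t))) = X j from rfl, hX j hj, mul_zero]
    · rw [hc0sum c hc, zero_mul]
  have hβc : ∀ t, β t = β 0 := by
    intro t
    have hh : ∀ x, ((q ^ e * m' : ℕ) : ℂ) * B x = hat B 0 := fun x => by
      rw [← inversion B x, Finset.sum_eq_single 0] <;> simp +contextual [hB]
    have h := (hh (R.symm (1, t))).trans (hh (R.symm (1, 0))).symm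
    simp only [B, RingEquiv.apply_symm_apply] at h
    exact_mod_cast mul_left_cancel₀ (by exact_mod_cast NeZero.ne (q ^ e * m')) h
  haveI : Nontrivial (ZMod (q ^ e)) := nontrivial_of_ne _ _ hc₀
  have hw : R.symm (c₀, (0 : ZMod m')) ≠ 0 := fun h0 =>
    hc₀ (congrArg Prod.fst ((map_eq_zero_iff R.symm R.symm.injective).1 h0))
  have key : ∀ f : ZMod (q ^ e * m') → ℤ,
      (∀ s, IsUnit s → ∀ t, f (R.symm (s, t)) = 0) →
      hat f (R.symm (c₀, 0)) = ((∑ x, f x : ℤ) : ℂ) := by
    intro f hf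
    rw [← hat_zero f]
    simp only [hat, hsum, hmul, zero_mul]
    refine Finset.sum_congr rfl fun s _ => Finset.sum_congr rfl fun t _ => ?_
    by_cases hs : IsUnit s
    · simp [hf s hs t]
    · rw [hnon s hs, show ((0 : ZMod (q ^ e)), (0 : ZMod m')) = 0 from rfl, map_zero]
  rcases S.a01 (R.symm (1, 0)) with h | h
  · exact S.case_false hν hd hm hdm hw (key a fun s hs t => by rw [hβ s hs, hβc]; exact h)
  · refine S.compl.case_false hν' hd' hm hdm' hw (key _ fun s hs t => ?_)
    have hne : R.symm (s, t) ≠ 0 := fun h0 =>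
      hs.ne_zero (congrArg Prod.fst ((map_eq_zero_iff R.symm R.symm.injective).1 h0))
    have : a (R.symm (s, t)) = 1 := by rw [hβ s hs, hβc]; exact h
    simp [hne, this]

end Cfsg.Agent.Perm.DihedralSrg
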