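import Mathlib
import Cfsg.Agent.Lib.Perm.Basic

/-!
# Babai's bound on distinguishing numbers

In a primitive group that is not doubly transitive any two points are distinguished by at least
about `√n / 2` points, so every non-identity element moves at least that many.
-/

namespace Cfsg.Agent.Perm

open MulAction

variable (G : Type*) {α : Type*} [Group G] [MulAction G α]

/-- `x` and `y` look the same from `z` -/
def SameFrom (z x y : α) : Prop := ∃ h : G, h • z = z ∧ h • x = y

variable {G}

theorem SameFrom.refl (z x : α) : SameFrom G z x x := ⟨1, one_smul G z, one_smul G x⟩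

theorem SameFrom.symm {z x y : α} (h : SameFrom G z x y) : SameFrom G z y x := by
  obtain ⟨g, hz, hx⟩ := h
  exact ⟨g⁻¹, inv_smul_eq_iff.2 hz.symm, inv_smul_eq_iff.2 hx.symm⟩

theorem SameFrom.trans {z x y w : α} (h : SameFrom G z x y) (h' : SameFrom G z y w) :
    SameFrom G z x w := by
  obtain ⟨g, hz, hx⟩ := h
  obtain ⟨k, kz, ky⟩ := h'
  exact ⟨k * g, by rw [mul_smul, hz, kz], by rw [mul_smul, hx, ky]⟩

theorem SameFrom.smul (g : G) {z x y : α} (h : SameFrom G z x y) :
    SameFrom G (g • z) (g • x) (g • y) := by
  obtain ⟨k, hz, hx⟩ := h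
  exact ⟨g * k * g⁻¹, by rw [mul_smul, inv_smul_smul, mul_smul, hz],
    by rw [mul_smul, inv_smul_smul, mul_smul, hx]⟩

theorem SameFrom.smul_iff (g : G) {z x y : α} :
    SameFrom G (g • z) (g • x) (g • y) ↔ SameFrom G z x y :=
  ⟨fun h => by simpa using h.smul g⁻¹, fun h => h.smul g⟩

variable [Fintype α]

open Classical in
/-- number of points distinguishing `x` and `y` -/
noncomputable def distCount (G : Type*) {α : Type*} [Group G] [MulAction G α] [Fintype α]
    (x y : α) : ℕ :=
  (Finset.univ.filter fun z => ¬ SameFrom G z x y).card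

theorem distCount_self (x : α) : distCount G x x = 0 := by
  classical
  simp [distCount, SameFrom.refl]

theorem distCount_comm (x y : α) : distCount G x y = distCount G y x := by
  classical
  refine congrArg Finset.card (Finset.filter_congr fun z _ => ?_)
  exact ⟨fun h h' => h h'.symm, fun h h' => h h'.symm⟩

theorem distCount_triangle (x y w : α) :
    distCount G x w ≤ distCount G x y + distCount G y w := by
  classical
  refine le_trans (Finset.card_le_card ?_) (Finset.card_union_le _ _)
  intro z hz
  simp only [Finset.mem_filter, Finset.mem_univ, true_and, Finset.mem_union] at hz ⊢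
  by_contra hc
  simp only [not_or, not_not] at hc
  exact hz (hc.1.trans hc.2)

theorem distCount_smul (g : G) (x y : α) : distCount G (g • x) (g • y) = distCount G x y := by
  classical
  symm
  refine Finset.card_equiv (MulAction.toPerm g) fun z => ?_
  simp [SameFrom.smul_iff]

open Classical in
theorem distCount_le_moved (g : G) (x : α) :
    distCount G x (g • x) ≤ (Finset.univ.filter fun z : α => g • z ≠ z).card := by
  classical
  refine Finset.card_le_card fun z hz => ?_
  simp only [Finset.mem_filter, Finset.mem_univ, true_and] at hz ⊢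
  exact fun h => hz ⟨g, h, rfl⟩

open Classical in
/-- The combinatorial heart: if some pair is distinguished by at most `m` points in a primitive
group that is not doubly transitive, then the degree is at most `(2m+1)^2`. -/
theorem card_le_of_distCount_le [IsPreprimitive G α] {x₀ y₀ : α} (hne : x₀ ≠ y₀) {m : ℕ}
    (hm : distCount G x₀ y₀ ≤ m)
    (h2 : ¬ ∀ z a b : α, a ≠ z → b ≠ z → SameFrom G z a b) :
    Fintype.card α ≤ (2 * m + 1) ^ 2 := by
  classical
  by_contra hlt
  have hn : (2 * m + 1) ^ 2 < Fintype.card α := not_le.1 hlt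
  set n := Fintype.card α with hn'
  -- the orbital graph of the pair
  let E : SimpleGraph α :=
    { Adj := fun a b => a ≠ b ∧ ∃ h : G, (h • x₀ = a ∧ h • y₀ = b) ∨ (h • x₀ = b ∧ h • y₀ = a)
      symm := ⟨fun a b ⟨hab, h, hh⟩ => ⟨hab.symm, h, hh.symm⟩⟩
      loopless := ⟨fun a h => h.1 rfl⟩ }
  have hEadj : ∀ {a b}, E.Adj a b → ∀ g : G, E.Adj (g • a) (g • b) := by
    rintro a b ⟨hab, h, hh⟩ g
    refine ⟨fun e => hab (MulAction.injective g e), g * h, ?_⟩
    rcases hh with ⟨h1, h2⟩ | ⟨h1, h2⟩
    · left; simp [mul_smul, h1, h2]
    · right; simp [mul_smul, h1, h2]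
  have hED : ∀ {a b}, E.Adj a b → distCount G a b ≤ m := by
    rintro a b ⟨-, h, hh⟩
    rcases hh with ⟨rfl, rfl⟩ | ⟨rfl, rfl⟩
    · rwa [distCount_smul]
    · rwa [distCount_comm, distCount_smul]
  have hconn : E.Connected := by
    refine { preconnected := fun a b => ?_, nonempty := ⟨x₀⟩ }
    have hr : Equivalence E.Reachable :=
      ⟨fun a => SimpleGraph.Reachable.refl a, SimpleGraph.Reachable.symm, SimpleGraph.Reachable.trans⟩
    have hinv : ∀ (g : G) a b, E.Reachable a b → E.Reachable (g • a) (g • b) := fun g a b hab =>
      hab.map (⟨fun v => g • v, fun h => hEadj h g⟩ : E →g E)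
    have hxy : E.Reachable x₀ y₀ :=
      SimpleGraph.Adj.reachable ⟨hne, 1, Or.inl ⟨one_smul G _, one_smul G _⟩⟩
    exact (equivalence_trivial hr hinv hxy hne a).symm.trans
      (equivalence_trivial hr hinv hxy hne b)
  have hdist : ∀ (g : G) a b, E.dist (g • a) (g • b) = E.dist a b := by
    have hle : ∀ (g : G) a b, E.dist (g • a) (g • b) ≤ E.dist a b := fun g a b => by
      obtain ⟨p, hp⟩ := hconn.exists_walk_length_eq_dist a b
      have h := SimpleGraph.dist_le (p.map (⟨fun v => g • v, fun h => hEadj h g⟩ : E →g E))
      rw [SimpleGraph.Walk.length_map, hp] at h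
      exact h
    intro g a b
    refine le_antisymm (hle g a b) ?_
    simpa using hle g⁻¹ (g • a) (g • b)
  -- distance is seen by `SameFrom`
  have hsame : ∀ {z a b}, SameFrom G z a b → E.dist a z = E.dist b z := by
    rintro z a b ⟨h, hz, rfl⟩
    conv_rhs => rw [← hz]
    exact (hdist h a z).symm
  have hwalk : ∀ {a b} (p : E.Walk a b), distCount G a b ≤ p.length * m := by
    intro a b p
    induction p with
    | nil => simp [distCount_self]
    | cons h q ih =>
      rw [SimpleGraph.Walk.length_cons, Nat.add_mul, one_mul]
      exact (distCount_triangle _ _ _).trans ((add_le_add (hED h) ih).trans_eq (Nat.add_comm _ _))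
  have hDd : ∀ a b, distCount G a b ≤ E.dist a b * m := fun a b => by
    obtain ⟨p, hp⟩ := hconn.exists_walk_length_eq_dist a b
    exact hp ▸ hwalk p
  -- diameter
  have hdiam : ∀ a b, a ≠ b → E.dist a b + 1 ≤ m := by
    intro a b hab
    obtain ⟨p, hp⟩ := hconn.exists_walk_length_eq_dist a b
    have hpos : 0 < E.dist a b := hconn.pos_dist_of_ne hab
    have hi : ∀ i ≤ p.length, E.dist a (p.getVert i) = i := fun i hi => by
      have h1 := SimpleGraph.dist_le (p.take i)
      rw [SimpleGraph.Walk.take_length] at h1
      have h2 := SimpleGraph.dist_le (p.drop i)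
      rw [SimpleGraph.Walk.drop_length] at h2
      have h3 := hconn.dist_triangle (u := a) (v := p.getVert i) (w := b)
      omega
    have hadj : E.Adj a (p.getVert 1) := by
      simpa using p.adj_getVert_succ (i := 0) (by omega)
    have hsub : (Finset.range (p.length + 1)).image p.getVert ⊆
        Finset.univ.filter fun z => ¬ SameFrom G z a (p.getVert 1) := by
      intro z hz
      simp only [Finset.mem_image, Finset.mem_range] at hz
      obtain ⟨i, hil, rfl⟩ := hz
      simp only [Finset.mem_filter, Finset.mem_univ, true_and]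
      intro hs
      have h := hsame hs
      rw [hi i (by omega)] at h
      rcases Nat.eq_zero_or_pos i with rfl | hi0
      · rw [SimpleGraph.Walk.getVert_zero, SimpleGraph.dist_eq_one_iff_adj.2 hadj.symm] at h
        omega
      · have h1 := SimpleGraph.dist_le ((p.take i).drop 1)
        rw [SimpleGraph.Walk.drop_length, SimpleGraph.Walk.take_length,
          SimpleGraph.Walk.take_getVert] at h1
        rw [min_eq_right (show 1 ≤ i by omega)] at h1
        omega
    have hcard : ((Finset.range (p.length + 1)).image p.getVert).card = p.length + 1 := by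
      rw [Finset.card_image_of_injOn, Finset.card_range]
      intro i hil j hjl hij
      simp only [Finset.coe_range, Set.mem_Iio] at hil hjl
      have := congrArg (E.dist a) hij
      rwa [hi i (by omega), hi j (by omega)] at this
    have := (Finset.card_le_card hsub).trans_eq rfl
    rw [hcard] at this
    have h' := this.trans (hED hadj)
    omega
  have hDall : ∀ a b : α, 4 * distCount G a b + 1 ≤ n := by
    intro a b
    by_cases hab : a = b
    · subst hab; rw [distCount_self]; omega
    · have h1 := hDd a b
      have h2 := hdiam a b hab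
      nlinarith
  -- suborbits
  let orb : α → α → Finset α := fun z a => Finset.univ.filter fun b => SameFrom G z a b
  have horbg : ∀ (g : G) z a, (orb (g • z) (g • a)).card = (orb z a).card := by
    intro g z a
    symm
    refine Finset.card_equiv (MulAction.toPerm g) fun b => ?_
    simp [orb, SameFrom.smul_iff]
  let Big : α → α → Prop := fun z a => 3 * n < 4 * (orb z a).card
  have hBig_self : ∀ z, ¬ Big z z := by
    intro z h
    have : orb z z = {z} := by
      ext b
      simp only [orb, Finset.mem_filter, Finset.mem_univ, true_and, Finset.mem_singleton]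
      exact ⟨fun ⟨k, hk, hkb⟩ => hkb ▸ hk, fun h => by subst h; exact SameFrom.refl _ _⟩
    simp only [Big, this, Finset.card_singleton] at h
    have : 1 < n := by nlinarith
    omega
  have hBigg : ∀ (g : G) z a, Big (g • z) (g • a) ↔ Big z a := fun g z a => by
    simp only [Big, horbg]
  have horb_eq : ∀ {z a b}, SameFrom G z a b → orb z a = orb z b := fun {z a b} h => by
    ext c
    simp only [orb, Finset.mem_filter, Finset.mem_univ, true_and]
    exact ⟨fun h' => h.symm.trans h', fun h' => h.trans h'⟩
  have hBig_one : ∀ {z a b}, Big z a → Big z b → SameFrom G z a b := by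
    intro z a b ha hb
    by_contra hne'
    have hdisj : Disjoint (orb z a) (orb z b) := Finset.disjoint_filter.2 fun c _ h h' =>
      hne' (h.trans h'.symm)
    have := Finset.card_union_of_disjoint hdisj
    have h := Finset.card_le_univ (orb z a ∪ orb z b)
    simp only [Big] at ha hb
    omega
  have hBigSame : ∀ {z a b}, Big z a → SameFrom G z a b → Big z b := fun {z a b} ha h => by
    simpa only [Big, horb_eq h] using ha
  -- some suborbit is big
  have hexBig : ∀ z, ∃ a, Big z a := by
    have hex : ∃ z a, Big z a := by
      by_contra hno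
      simp only [Big, not_exists, not_lt] at hno
      have hkey : ∑ y, distCount G x₀ y + ∑ z, (orb z x₀).card = n * n := by
        have e1 : ∑ y, distCount G x₀ y =
            ∑ z, (Finset.univ.filter fun y => ¬ SameFrom G z x₀ y).card := by
          simp only [distCount, Finset.card_filter]
          exact Finset.sum_comm
        rw [e1, ← Finset.sum_add_distrib, Finset.sum_congr rfl fun z _ => ?_, Finset.sum_const,
          Finset.card_univ, smul_eq_mul, ← hn']
        show (Finset.univ.filter fun y => ¬ SameFrom G z x₀ y).card +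
          (Finset.univ.filter fun y => SameFrom G z x₀ y).card = n
        rw [add_comm, Finset.card_filter_add_card_filter_not, Finset.card_univ]
      have h1 : ∑ y, 4 * distCount G x₀ y + n ≤ n * n := by
        have : ∑ y, (4 * distCount G x₀ y + 1) ≤ ∑ _y : α, n :=
          Finset.sum_le_sum fun y _ => hDall x₀ y
        rw [Finset.sum_add_distrib] at this
        simpa [hn'] using this
      have h2' : ∑ z, 4 * (orb z x₀).card ≤ ∑ _z : α, 3 * n :=
        Finset.sum_le_sum fun z _ => hno z x₀
      rw [← Finset.mul_sum] at h1 h2'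
      simp only [Finset.sum_const, Finset.card_univ, smul_eq_mul, ← hn'] at h2'
      nlinarith
    obtain ⟨z, a, ha⟩ := hex
    intro w
    obtain ⟨g, rfl⟩ := exists_smul_eq G z w
    exact ⟨g • a, (hBigg g z a).2 ha⟩
  let bigs : α → Finset α := fun z => Finset.univ.filter fun a => Big z a
  have hbigs : ∀ z a, Big z a → bigs z = orb z a := by
    intro z a ha
    ext b
    simp only [bigs, orb, Finset.mem_filter, Finset.mem_univ, true_and]
    exact ⟨fun hb => hBig_one ha hb, fun h => hBigSame ha h⟩
  have hbigs_card : ∀ z, 3 * n < 4 * (bigs z).card := fun z => by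
    obtain ⟨a, ha⟩ := hexBig z
    rw [hbigs z a ha]; exact ha
  have hBsymm : ∀ {z a}, Big z a → Big a z := by
    have hcol : ∀ a, 3 * n < 4 * (Finset.univ.filter fun z => Big z a).card := by
      have hconst : ∀ a b, (Finset.univ.filter fun z => Big z a).card =
          (Finset.univ.filter fun z => Big z b).card := by
        intro a b
        obtain ⟨g, rfl⟩ := exists_smul_eq G a b
        refine Finset.card_equiv (MulAction.toPerm g) fun z => ?_
        simp [hBigg]
      intro a
      by_contra hle
      have e : ∑ z, (bigs z).card = ∑ b, (Finset.univ.filter fun z => Big z b).card := by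
        simp only [bigs, Finset.card_filter]
        exact Finset.sum_comm
      have h1 : ∑ _z : α, (3 * n + 1) ≤ ∑ z, 4 * (bigs z).card :=
        Finset.sum_le_sum fun z _ => hbigs_card z
      rw [← Finset.mul_sum, e, Finset.sum_congr rfl fun b _ => hconst b a] at h1
      simp only [Finset.sum_const, Finset.card_univ, smul_eq_mul, ← hn'] at h1
      nlinarith
    intro z a hza
    obtain ⟨b, hb⟩ : ((bigs z) ∩ (Finset.univ.filter fun w => Big w z)).Nonempty := by
      rw [← Finset.card_pos]
      have h1 := Finset.card_union_add_card_inter (bigs z) (Finset.univ.filter fun w => Big w z)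
      have h2 := Finset.card_le_univ ((bigs z) ∪ (Finset.univ.filter fun w => Big w z))
      have := hbigs_card z
      have := hcol z
      omega
    simp only [bigs, Finset.mem_inter, Finset.mem_filter, Finset.mem_univ, true_and] at hb
    obtain ⟨g, hgz, hgb⟩ := hBig_one hb.1 hza
    have := (hBigg g b z).2 hb.2
    rwa [hgz, hgb] at this
  -- the small neighbourhoods
  let N : α → Finset α := fun z => Finset.univ.filter fun a => a ≠ z ∧ ¬ Big z a
  have hN : ∀ z, (N z).card + (bigs z).card + 1 = n := by
    intro z
    have hdisj : Disjoint (N z) (bigs z) := Finset.disjoint_filter.2 fun a _ h h' => h.2 h'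
    have : N z ∪ bigs z = Finset.univ.erase z := by
      ext a
      simp only [N, bigs, Finset.mem_union, Finset.mem_filter, Finset.mem_univ, true_and,
        Finset.mem_erase, and_true]
      constructor
      · rintro (h | h)
        · exact h.1
        · exact fun e => hBig_self z (e ▸ h)
      · intro h; by_cases hb : Big z a <;> simp [h, hb]
    have h2 := Finset.card_union_of_disjoint hdisj
    rw [this, Finset.card_erase_of_mem (Finset.mem_univ z), Finset.card_univ, ← hn'] at h2
    have : 0 < n := by omega
    omega
  have hNmem : ∀ z a, a ∈ N z ↔ a ≠ z ∧ ¬ Big z a := fun z a => by simp [N]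
  have hNsymm : ∀ z a, a ∈ N z → z ∈ N a := fun z a h => by
    rw [hNmem] at h ⊢
    exact ⟨h.1.symm, fun hb => h.2 (hBsymm hb)⟩
  set k := (N x₀).card with hk
  have hkc : ∀ z, (N z).card = k := by
    intro z
    obtain ⟨g, rfl⟩ := exists_smul_eq G x₀ z
    symm
    refine Finset.card_equiv (MulAction.toPerm g) fun a => ?_
    simp [hNmem, hBigg]
  have hk4 : 4 * k + 4 ≤ n := by
    have := hbigs_card x₀
    have := hN x₀
    omega
  have hk0 : 1 ≤ k := by
    by_contra h0
    refine h2 fun z a b ha hb => ?_
    have he : N z = ∅ := Finset.card_eq_zero.1 (by rw [hkc]; omega)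
    have hall : ∀ c, c ≠ z → Big z c := fun c hc => by
      by_contra hb'
      have : c ∈ N z := (hNmem z c).2 ⟨hc, hb'⟩
      rw [he] at this
      exact Finset.notMem_empty _ this
    exact hBig_one (hall a ha) (hall b hb)
  have hBigSameAll : ∀ {a b c d}, Big a b → Big c d → ∃ g : G, g • a = c ∧ g • b = d := by
    intro a b c d hab hcd
    obtain ⟨g, rfl⟩ := exists_smul_eq G a c
    obtain ⟨k, hk1, hk2⟩ := hBig_one ((hBigg g a b).2 hab) hcd
    exact ⟨k * g, by rw [mul_smul, hk1], by rw [mul_smul, hk2]⟩
  -- pairs in the big class have a common small neighbour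
  have hcommon : ∀ {a b}, Big a b → ∃ c ∈ N a, b ∈ N c := by
    obtain ⟨a, b, c, hc, hb, hab⟩ : ∃ a b c, c ∈ N a ∧ b ∈ N c ∧ Big a b := by
      by_contra hno
      have heq : Equivalence fun a b : α => a = b ∨ b ∈ N a := by
        refine ⟨fun a => Or.inl rfl, fun {a b} h => h.elim (fun e => Or.inl e.symm)
          (fun h => Or.inr (hNsymm a b h)), fun {a b c} h h' => ?_⟩
        rcases h with rfl | h
        · exact h'
        rcases h' with rfl | h'
        · exact Or.inr h
        by_cases hac : a = c
        · exact Or.inl hac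
        · exact Or.inr ((hNmem a c).2 ⟨Ne.symm hac, fun hb => hno ⟨a, c, b, h, h', hb⟩⟩)
      have hinv : ∀ (g : G) a b, (a = b ∨ b ∈ N a) → (g • a = g • b ∨ g • b ∈ N (g • a)) := by
        intro g a b h
        rcases h with h | h
        · exact Or.inl (congrArg (g • ·) h)
        · rw [hNmem] at h ⊢
          exact Or.inr ⟨fun e => h.1 (MulAction.injective g e), fun e => h.2 ((hBigg g a b).1 e)⟩
      obtain ⟨c, hc⟩ : (N x₀).Nonempty := Finset.card_pos.1 hk0
      obtain ⟨d, hd⟩ := hexBig x₀
      rcases equivalence_trivial heq hinv (Or.inr hc) (Ne.symm ((hNmem _ _).1 hc).1) d with e | e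
      · exact hBig_self x₀ (e.symm ▸ hd)
      · exact ((hNmem _ _).1 e).2 hd
    intro a' b' hab'
    obtain ⟨g, rfl, rfl⟩ := hBigSameAll hab hab'
    rw [hNmem] at hc hb
    refine ⟨g • c, (hNmem _ _).2 ⟨fun e => hc.1 (MulAction.injective g e),
      fun e => hc.2 ((hBigg g a c).1 e)⟩, (hNmem _ _).2 ⟨fun e => hb.1 (MulAction.injective g e),
      fun e => hb.2 ((hBigg g c b).1 e)⟩⟩
  have hksq : n ≤ k * k + k + 1 := by
    have hsub : bigs x₀ ⊆ (N x₀).biUnion N := by
      intro b hb
      simp only [bigs, Finset.mem_filter, Finset.mem_univ, true_and] at hb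
      obtain ⟨c, hc, hbc⟩ := hcommon hb
      exact Finset.mem_biUnion.2 ⟨c, hc, hbc⟩
    have h1 := (Finset.card_le_card hsub).trans
      (Finset.card_biUnion_le_card_mul (N x₀) N k fun c _ => (hkc c).le)
    have := hN x₀
    rw [← hk] at h1
    omega
  -- a big pair has large distinguishing number
  have hDbig : ∀ {a b}, Big a b → 4 * k ≤ 3 * distCount G a b := by
    obtain ⟨b, hb, hμ⟩ : ∃ b ∈ bigs x₀, 3 * (N x₀ ∩ N b).card ≤ k := by
      by_contra hall
      simp only [not_exists, not_and, not_le] at hall
      have h1 : (bigs x₀).card * (k + 1) ≤ ∑ b ∈ bigs x₀, 3 * (N x₀ ∩ N b).card := by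
        rw [← smul_eq_mul, ← Finset.sum_const]
        exact Finset.sum_le_sum fun b hb => hall b hb
      have h2 : ∑ b ∈ bigs x₀, (N x₀ ∩ N b).card ≤ k * k := by
        calc ∑ b ∈ bigs x₀, (N x₀ ∩ N b).card ≤ ∑ b, (N x₀ ∩ N b).card :=
              Finset.sum_le_sum_of_subset (Finset.subset_univ _)
          _ = ∑ b, ∑ c ∈ N x₀, if c ∈ N b then 1 else 0 := by
              refine Finset.sum_congr rfl fun b _ => ?_
              rw [← Finset.card_filter]
              congr 1
          _ = ∑ c ∈ N x₀, ∑ b, if c ∈ N b then 1 else 0 := Finset.sum_comm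
          _ ≤ ∑ _c ∈ N x₀, k := by
              refine Finset.sum_le_sum fun c _ => ?_
              rw [← Finset.card_filter, ← hkc c]
              refine Finset.card_le_card fun b hb => ?_
              simp only [Finset.mem_filter, Finset.mem_univ, true_and] at hb
              exact hNsymm b c hb
          _ = k * k := by rw [Finset.sum_const, smul_eq_mul, hk]
      rw [← Finset.mul_sum] at h1
      have := hbigs_card x₀
      nlinarith
    intro a a' haa
    simp only [bigs, Finset.mem_filter, Finset.mem_univ, true_and] at hb
    obtain ⟨g, rfl, rfl⟩ := hBigSameAll hb haa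
    rw [distCount_smul]
    have hsub : (N x₀ \ N b) ∪ (N b \ N x₀) ⊆ Finset.univ.filter fun z => ¬ SameFrom G z x₀ b := by
      intro z hz
      simp only [Finset.mem_union, Finset.mem_sdiff, hNmem] at hz
      simp only [Finset.mem_filter, Finset.mem_univ, true_and]
      intro hs
      rcases hz with ⟨⟨hz1, hz2⟩, hz3⟩ | ⟨⟨hz1, hz2⟩, hz3⟩
      · have hzb : z ≠ b := fun e => hz2 (e ▸ hb)
        have : Big b z := by by_contra h; exact hz3 ⟨hzb, h⟩
        exact hz2 (hBsymm (hBigSame (hBsymm this) hs.symm))
      · have hzb : z ≠ x₀ := fun e => hz2 (e ▸ hBsymm hb)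
        have : Big x₀ z := by by_contra h; exact hz3 ⟨hzb, h⟩
        exact hz2 (hBsymm (hBigSame (hBsymm this) hs))
    have h1 := Finset.card_le_card hsub
    rw [Finset.card_union_of_disjoint disjoint_sdiff_sdiff] at h1
    have h3 := Finset.card_sdiff_add_card_inter (N x₀) (N b)
    have h4 := Finset.card_sdiff_add_card_inter (N b) (N x₀)
    rw [Finset.inter_comm (N b) (N x₀), hkc b] at h4
    rw [← hk] at h3
    show 4 * k ≤ 3 * (Finset.univ.filter fun z => ¬ SameFrom G z x₀ b).card
    omega
  -- case on the distance of a big pair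
  obtain ⟨b, hb⟩ := hexBig x₀
  by_cases hd : E.dist x₀ b ≤ 2
  · have h1 := hDbig hb
    have h2' := (hDd x₀ b).trans (Nat.mul_le_mul_right m hd)
    nlinarith
  · have hall : ∀ c, Big x₀ c → E.dist x₀ c = E.dist x₀ b := by
      intro c hc
      have := hsame (hBig_one hb hc)
      rw [SimpleGraph.dist_comm, ← this, SimpleGraph.dist_comm]
    let nb : α → Finset α := fun a => Finset.univ.filter fun c => E.Adj a c
    have hnb : ∀ a, (nb a).card = (nb x₀).card := by
      intro a
      obtain ⟨g, rfl⟩ := exists_smul_eq G x₀ a
      symm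
      refine Finset.card_equiv (MulAction.toPerm g) fun c => ?_
      simp only [nb, Finset.mem_filter, Finset.mem_univ, true_and, MulAction.toPerm_apply]
      exact ⟨fun h => hEadj h g, fun h => by simpa using hEadj h g⁻¹⟩
    have hb1 : (bigs x₀).card ≤ (nb x₀).card * m := by
      refine le_trans (Finset.card_le_card (t := (nb x₀).biUnion fun y =>
        Finset.univ.filter fun z => ¬ SameFrom G z x₀ y) ?_) (Finset.card_biUnion_le_card_mul _ _ _ ?_)
      · intro z hz
        simp only [bigs, Finset.mem_filter, Finset.mem_univ, true_and] at hz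
        obtain ⟨p, hp⟩ := hconn.exists_walk_length_eq_dist x₀ z
        have hdz := hall z hz
        have hlen : 1 ≤ p.length := by omega
        refine Finset.mem_biUnion.2 ⟨p.getVert 1, ?_, ?_⟩
        · simpa [nb] using p.adj_getVert_succ (i := 0) (by omega)
        · simp only [Finset.mem_filter, Finset.mem_univ, true_and]
          intro hs
          have h := hsame hs
          have h1 := SimpleGraph.dist_le (p.drop 1)
          rw [SimpleGraph.Walk.drop_length] at h1
          omega
      · intro y hy
        simp only [nb, Finset.mem_filter, Finset.mem_univ, true_and] at hy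
        exact hED hy
    obtain ⟨w, hw⟩ : ∃ w, E.dist x₀ w = 3 := by
      obtain ⟨p, hp⟩ := hconn.exists_walk_length_eq_dist x₀ b
      refine ⟨p.getVert 3, ?_⟩
      have h1 := SimpleGraph.dist_le (p.take 3)
      rw [SimpleGraph.Walk.take_length] at h1
      have h2 := SimpleGraph.dist_le (p.drop 3)
      rw [SimpleGraph.Walk.drop_length] at h2
      have h3 := hconn.dist_triangle (u := x₀) (v := p.getVert 3) (w := b)
      omega
    have hb2 : 2 * (nb x₀).card ≤ 3 * m := by
      refine le_trans ?_ ((hDd x₀ w).trans_eq (by rw [hw]))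
      have hdisj : Disjoint (nb x₀) (nb w) := Finset.disjoint_filter.2 fun c _ h h' => by
        have := hconn.dist_triangle (u := x₀) (v := c) (w := w)
        rw [SimpleGraph.dist_eq_one_iff_adj.2 h, SimpleGraph.dist_eq_one_iff_adj.2 h'.symm, hw]
          at this
        omega
      rw [two_mul]
      nth_rewrite 2 [← hnb w]
      rw [← Finset.card_union_of_disjoint hdisj]
      refine Finset.card_le_card fun z hz => ?_
      simp only [nb, Finset.mem_union, Finset.mem_filter, Finset.mem_univ, true_and] at hz
      simp only [Finset.mem_filter, Finset.mem_univ, true_and]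
      intro hs
      have h := hsame hs
      rcases hz with hz | hz
      · rw [SimpleGraph.dist_eq_one_iff_adj.2 hz] at h
        have := hconn.dist_triangle (u := x₀) (v := z) (w := w)
        rw [SimpleGraph.dist_eq_one_iff_adj.2 hz, SimpleGraph.dist_comm (u := z) (v := w)] at this
        omega
      · rw [SimpleGraph.dist_eq_one_iff_adj.2 hz] at h
        have := hconn.dist_triangle (u := x₀) (v := z) (w := w)
        rw [SimpleGraph.dist_eq_one_iff_adj.2 hz.symm] at this
        omega
    have := hbigs_card x₀
    nlinarith

end Cfsg.Agent.Perm
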