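import Cfsg.Agent.Lib.Perm.HalfNormalizer

/-!
# Setting up the coordinates for prime degree with Sylow normalizer of order `p (p - 1) / 2`
-/

set_option autoImplicit false
set_option linter.unusedSectionVars false
set_option linter.unusedDecidableInType false
set_option linter.style.haveILetI false

namespace Cfsg.Agent.Perm.HalfNormalizer

open Cfsg Cfsg.Agent.Perm MulAction Finset ModuleHeart

variable {G Ω : Type*} [Group G] [Finite G] [MulAction G Ω] [FaithfulSMul G Ω] [Fintype Ω] {p : ℕ}
  [hp : Fact p.Prime]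

theorem smul_natPow {c : G} {e : ZMod p ≃ Ω} (hc : ∀ x, c • e x = e (x + 1)) (k : ℕ) :
    ∀ x, c ^ k • e x = e (x + k) := by
  induction k with
  | zero => simp
  | succ k ih => intro x; rw [pow_succ, mul_smul, hc, ih, Nat.cast_succ]; congr 1; ring

/-- Coordinates exist, with any given point as the origin. -/
theorem exists_coord (hΩ : Fintype.card Ω = p) (htrans : IsPretransitive G Ω)
    (hins : ¬ Group.IsSolvable G) (P : Sylow p G)
    (hN : 2 * Nat.card ↥(Subgroup.normalizer ((P : Subgroup G) : Set G)) = p * (p - 1)) (α : Ω) :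
    ∃ e : ZMod p ≃ Ω, e 0 = α ∧ Coord G e := by
  classical
  let φ : G →* Equiv.Perm Ω := MulAction.toPermHom G Ω
  have hφ : Function.Injective φ := MulAction.toPerm_injective
  haveI : IsPretransitive φ.range Ω := ⟨fun a b => by
    obtain ⟨g, hg⟩ := htrans.exists_smul_eq a b
    exact ⟨⟨φ g, g, rfl⟩, hg⟩⟩
  have hinsR : ¬ Group.IsSolvable φ.range := fun h => hins <| by
    exact Group.isSolvable_of_isSolvable_injective (f := φ.rangeRestrict)
      (fun a b hab => hφ (congrArg Subtype.val hab))
  -- the Sylow subgroup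
  have hpG : p ∣ Nat.card G := by
    rw [← hΩ, ← Nat.card_eq_fintype_card, ← MulAction.index_stabilizer_of_transitive G α]
    exact Subgroup.index_dvd_card _
  have hP : Nat.card P = p := by
    obtain ⟨k, hk⟩ := P.isPGroup'.exists_card_eq
    have h1 : p ∣ Nat.card P := P.dvd_card_of_dvd_card hpG
    have h2 : ¬ p ^ 2 ∣ Nat.card P := fun h => PrimeDegree.not_dvd_card_sq φ.range hp.out hΩ <|
      h.trans ((P : Subgroup G).card_subgroup_dvd_card.trans
        (Nat.card_congr (MonoidHom.ofInjective hφ).toEquiv).dvd)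
    rw [hk] at h1 h2 ⊢
    rcases k with _ | _ | k
    · exact absurd (Nat.dvd_one.1 h1) hp.out.ne_one
    · exact pow_one p
    · exact absurd (pow_dvd_pow p (by omega)) h2
  obtain ⟨c, hcP, hc⟩ : ∃ c ∈ (P : Subgroup G), orderOf c = p := by
    obtain ⟨c, hc⟩ := exists_prime_orderOf_dvd_card' (G := P) p hP.symm.dvd
    exact ⟨c, c.2, by rw [Subgroup.orderOf_coe, hc]⟩
  have hzP : Subgroup.zpowers c = P :=
    Subgroup.eq_of_le_of_card_ge (Subgroup.zpowers_le.2 hcP) (by rw [Nat.card_zpowers, hc, hP])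
  obtain ⟨e, he0, he⟩ := PrimeDegree.exists_coords hΩ (c := φ c)
    (by rw [orderOf_injective φ hφ, hc]) α
  have hshift : ∀ x, c • e x = e (x + 1) := he
  have hp5 : 5 ≤ p := PrimeDegree.five_le_of_not_isSolvable e hinsR
  haveI := PrimeDegree.twoTransitive_of_not_isSolvable hΩ hinsR
  refine ⟨e, he0, hp5, fun {a b u v} hab huv => ?_, fun V hV h1 h0 => ?_, ⟨c, hshift⟩, ?_⟩
  · obtain ⟨⟨_, g, rfl⟩, hg⟩ := MulAction.is_two_pretransitive_iff.1
      (inferInstance : IsMultiplyPretransitive φ.range Ω 2) hab huv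
    exact ⟨g, hg⟩
  · let W : Subrepresentation (permRep (ZMod p) φ.range Ω) :=
      { toSubmodule := V
        apply_mem_toSubmodule := fun g f hf => by
          obtain ⟨_, g, rfl⟩ := g
          have h := hV g f hf
          convert h using 1
          funext w
          rw [permRep_apply]
          congr 1 }
    rcases PrimeDegree.heart_irreducible hΩ hinsR W
      ((Submodule.span_singleton_le_iff_mem _ _).2 h1) (fun f hf => (mem_sumZero_iff (G := φ.range)).2 (h0 f hf)) with h | h
    · refine Or.inl fun f hf => (mem_constants_iff (G := φ.range)).1 ?_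
      rw [← h]; exact hf
    · refine Or.inr fun f hf => ?_
      have : f ∈ W.toSubmodule := by rw [h]; exact (mem_sumZero_iff (G := φ.range)).2 hf
      exact this
  -- the multipliers
  set N := Subgroup.normalizer ((P : Subgroup G) : Set G)
  let A : Subgroup (ZMod p)ˣ :=
    { carrier := {a | ∃ g : G, ∀ x, g • e x = e (a * x)}
      one_mem' := ⟨1, fun x => by simp⟩
      mul_mem' := fun {a b} ⟨g, hg⟩ ⟨h, hh⟩ => ⟨g * h, fun x => by
        rw [mul_smul, hh, hg, Units.val_mul, mul_assoc]⟩
      inv_mem' := fun {a} ⟨g, hg⟩ => ⟨g⁻¹, fun x => by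
        rw [inv_smul_eq_iff, hg, Units.mul_inv_cancel_left]⟩ }
  have heq : ∀ {g g' : G}, (∀ x, g • e x = g' • e x) → g = g' := fun {g g'} h =>
    eq_of_smul_eq_smul fun w => by
      obtain ⟨x, rfl⟩ := e.surjective w
      exact h x
  have hscaleN : ∀ (a : (ZMod p)ˣ) (g : G), (∀ x, g • e x = e (a * x)) → g ∈ N := by
    intro a g hg
    have key : ∀ (a : (ZMod p)ˣ) (g : G), (∀ x, g • e x = e (a * x)) →
        ∀ y ∈ (P : Subgroup G), g * y * g⁻¹ ∈ (P : Subgroup G) := by
      intro a g hg y hy
      rw [← hzP] at hy ⊢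
      obtain ⟨i, rfl⟩ := hy
      have h : g * c * g⁻¹ = c ^ (a : ZMod p).val := by
        refine heq fun x => ?_
        rw [mul_smul, mul_smul, smul_natPow hshift, ZMod.natCast_zmod_val,
          show g⁻¹ • e x = e ((↑a⁻¹ : ZMod p) * x) from
            inv_smul_eq_iff.2 (by rw [hg, Units.mul_inv_cancel_left]),
          hshift, hg, mul_add, Units.mul_inv_cancel_left, mul_one]
      refine ⟨(a : ZMod p).val * i, ?_⟩
      show c ^ (((a : ZMod p).val : ℤ) * i) = g * c ^ i * g⁻¹
      rw [zpow_mul, zpow_natCast, ← h, conj_zpow]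
    refine Subgroup.mem_normalizer_iff.2 fun y => ⟨key a g hg y, fun h => ?_⟩
    have h' := key a⁻¹ g⁻¹ (fun x => inv_smul_eq_iff.2 (by rw [hg, Units.mul_inv_cancel_left])) _ h
    simpa [mul_assoc] using h'
  have haff : ∀ n : N, ∃ a ∈ A, ∀ x, (n : G) • e x = e (a * x + e.symm ((n : G) • e 0)) := by
    rintro ⟨n, hn⟩
    have hmem : n * c * n⁻¹ ∈ Subgroup.zpowers c := by
      rw [hzP]; exact (Subgroup.mem_normalizer_iff.1 hn c).1 hcP
    obtain ⟨k, hk⟩ := ((isOfFinOrder_of_finite c).mem_powers_iff_mem_zpowers).2 hmem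
    set b := e.symm (n • e 0)
    have hstep : ∀ m : ℕ, n • e (m : ZMod p) = e ((k : ZMod p) * m + b) := by
      intro m
      induction m with
      | zero => simp [b]
      | succ m ih =>
        rw [Nat.cast_succ, ← hshift, ← mul_smul, show n * c = c ^ k * n by
          rw [show c ^ k = n * c * n⁻¹ from hk]; group, mul_smul, ih, smul_natPow hshift]
        congr 1
        ring
    have hall : ∀ x, n • e x = e ((k : ZMod p) * x + b) := fun x => by
      rw [← ZMod.natCast_zmod_val x]; exact hstep _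
    have hk0 : (k : ZMod p) ≠ 0 := fun h => by
      have h' := hall 0
      have h'' := hall 1
      rw [h, zero_mul] at h' h''
      exact zero_ne_one (e.injective (MulAction.injective n (h'.trans h''.symm)))
    refine ⟨Units.mk0 _ hk0, ⟨c ^ (-b).val * n, fun x => ?_⟩, hall⟩
    rw [mul_smul, hall, smul_natPow hshift, ZMod.natCast_zmod_val, Units.val_mk0]
    congr 1
    ring
  choose f hfA hf using haff
  have h1 : Nat.card N ≤ Nat.card (ZMod p × A) := by
    refine Nat.card_le_card_of_injective (fun n => (e.symm ((n : G) • e 0), ⟨f n, hfA n⟩)) ?_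
    intro n m h
    simp only [Prod.mk.injEq, Subtype.mk.injEq] at h
    exact Subtype.ext (heq fun x => by rw [hf n x, hf m x, h.1, h.2])
  choose g hg using fun a : A => a.2
  have h2 : Nat.card (ZMod p × A) ≤ Nat.card N := by
    refine Nat.card_le_card_of_injective
      (fun z => ⟨c ^ z.1.val * g z.2, mul_mem (Subgroup.le_normalizer (pow_mem hcP _)) (hscaleN _ _ (hg z.2))⟩) ?_
    intro z w h
    have h' : ∀ x, ((z.2 : (ZMod p)ˣ) : ZMod p) * x + z.1 = ((w.2 : (ZMod p)ˣ) : ZMod p) * x + w.1 := fun x => by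
      have h' := congrArg (fun y : N => (y : G) • e x) h
      simp only [mul_smul, hg, smul_natPow hshift, ZMod.natCast_zmod_val] at h'
      exact e.injective h'
    have h0 := h' 0
    simp only [mul_zero, zero_add] at h0
    have h3 := h' 1
    simp only [mul_one, h0, add_left_inj] at h3
    exact Prod.ext h0 (Subtype.ext (Units.ext h3))
  have hA : 2 * Nat.card A = p - 1 := by
    have h := le_antisymm h1 h2
    rw [Nat.card_prod, Nat.card_zmod] at h
    rw [h, mul_left_comm] at hN
    exact Nat.eq_of_mul_eq_mul_left hp.out.pos hN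
  intro a ha
  have hh : 0 < (p - 1) / 2 := by omega
  have ha0 : a ≠ 0 := fun h => zero_ne_one (α := ZMod p) (by rw [← ha, h, zero_pow hh.ne'])
  have hAroots : (A : Set (ZMod p)ˣ).toFinset =
      (Finset.univ.filter fun u : (ZMod p)ˣ => u ^ ((p - 1) / 2) = 1) := by
    refine Finset.eq_of_subset_of_card_le (fun u hu => Finset.mem_filter.2 ⟨Finset.mem_univ _, ?_⟩) ?_
    · rw [Set.mem_toFinset] at hu
      rw [show (p - 1) / 2 = Nat.card A by omega]
      exact congrArg Subtype.val (pow_card_eq_one' (x := (⟨u, hu⟩ : A)))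
    · refine (IsCyclic.card_pow_eq_one_le hh).trans ?_
      rw [Set.toFinset_card, ← Nat.card_eq_fintype_card]
      exact le_of_eq (by rw [SetLike.coe_sort_coe]; omega)
  have hmem : Units.mk0 a ha0 ∈ (A : Set (ZMod p)ˣ).toFinset := by
    rw [hAroots]
    exact Finset.mem_filter.2 ⟨Finset.mem_univ _, Units.ext (by simpa using ha)⟩
  obtain ⟨g, hg⟩ := Set.mem_toFinset.1 hmem
  exact ⟨g, hg⟩

/-- Four orbits, or triple transitivity. -/
theorem three_or_card_eq_four {e : ZMod p ≃ Ω} (hC : Coord G e) :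
    IsMultiplyPretransitive G Ω 3 ∨
      ∀ α β : Ω, α ≠ β →
        Nat.card (orbitRel.Quotient ↥(stabilizer G α ⊓ stabilizer G β) Ω) = 4 := by
  classical
  refine or_iff_not_imp_right.2 fun hnot => ?_
  push Not at hnot
  obtain ⟨α, β, hαβ, hne⟩ := hnot
  have hle := hC.card_orbits_le hαβ
  set S := stabilizer G α ⊓ stabilizer G β
  have hrel : ∀ z w, z ≠ α → z ≠ β → w ≠ α → w ≠ β → ∃ s : G, s • α = α ∧ s • β = β ∧ s • z = w := by
    intro z w hzα hzβ hwα hwβ
    by_cases h : (Quotient.mk _ w : orbitRel.Quotient S Ω) = Quotient.mk _ z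
    · obtain ⟨⟨s, hs⟩, hsz⟩ := Quotient.exact h
      exact ⟨s, hs.1, hs.2, hsz⟩
    exfalso
    have hfix : ∀ u x : Ω, (u = α ∨ u = β) → x ≠ u →
        (Quotient.mk _ x : orbitRel.Quotient S Ω) ≠ Quotient.mk _ u := by
      intro u x hu hxu h
      obtain ⟨⟨s, hs⟩, hsz⟩ := Quotient.exact h
      refine hxu ?_
      have hsz' : s • u = x := hsz
      rcases hu with rfl | rfl
      · rw [← hsz']; exact hs.1
      · rw [← hsz']; exact hs.2
    let f : Fin 4 → orbitRel.Quotient S Ω :=
      ![Quotient.mk _ α, Quotient.mk _ β, Quotient.mk _ z, Quotient.mk _ w]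
    have hf : Function.Injective f := by
      intro i j hij
      fin_cases i <;> fin_cases j <;> simp only [f] at hij <;> first
        | rfl
        | exact absurd hij (hfix _ _ (Or.inl rfl) hzα)
        | exact absurd hij.symm (hfix _ _ (Or.inl rfl) hzα)
        | exact absurd hij (hfix _ _ (Or.inl rfl) hwα)
        | exact absurd hij.symm (hfix _ _ (Or.inl rfl) hwα)
        | exact absurd hij (hfix _ _ (Or.inl rfl) hαβ.symm)
        | exact absurd hij.symm (hfix _ _ (Or.inl rfl) hαβ.symm)
        | exact absurd hij (hfix _ _ (Or.inr rfl) hzβ)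
        | exact absurd hij.symm (hfix _ _ (Or.inr rfl) hzβ)
        | exact absurd hij (hfix _ _ (Or.inr rfl) hwβ)
        | exact absurd hij.symm (hfix _ _ (Or.inr rfl) hwβ)
        | exact absurd hij h
        | exact absurd hij.symm h
    have := Nat.card_le_card_of_injective f hf
    rw [Nat.card_fin] at this
    exact hne (le_antisymm hle this)
  refine ⟨fun x y => ?_⟩
  obtain ⟨g, hg0, hg1⟩ := hC.two (x.injective.ne (show (0 : Fin 3) ≠ 1 by decide)) hαβ
  obtain ⟨k, hk0, hk1⟩ := hC.two (y.injective.ne (show (0 : Fin 3) ≠ 1 by decide)) hαβ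
  obtain ⟨s, hs0, hs1, hs2⟩ := hrel (g • x 2) (k • y 2)
    (fun h => by rw [← hg0] at h; exact absurd (x.injective (MulAction.injective g h)) (by decide))
    (fun h => by rw [← hg1] at h; exact absurd (x.injective (MulAction.injective g h)) (by decide))
    (fun h => by rw [← hk0] at h; exact absurd (y.injective (MulAction.injective k h)) (by decide))
    (fun h => by rw [← hk1] at h; exact absurd (y.injective (MulAction.injective k h)) (by decide))
  refine ⟨k⁻¹ * s * g, ?_⟩
  ext i
  show (k⁻¹ * s * g) • x i = y i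
  rw [mul_smul, mul_smul, inv_smul_eq_iff]
  fin_cases i
  · show s • g • x 0 = k • y 0; rw [hg0, hs0, hk0]
  · show s • g • x 1 = k • y 1; rw [hg1, hs1, hk1]
  · exact hs2

end Cfsg.Agent.Perm.HalfNormalizer
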