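import Cfsg.Agent.Lib.Perm.PrimeDegree
import Mathlib.GroupTheory.GroupAction.SubMulAction.OfStabilizer

/-!
# Prime degree: an inverted element of order `p` forces triple transitivity

Let `G` be a non-solvable transitive group of prime degree `p`, acting on `ZMod p` with the translations
and the reflections `x ↦ s - x`, and let `w` be an invariant function on triples, symmetric in the last
two arguments. The reflection exchanging `b` and `c` gives `2 ∑ₐ w(a,b,c) x(a) = k (x b + x c)`, where
`k = ∑ₐ w(a,b,c)`. The functions satisfying this identity form an invariant subspace containing the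
constants and `x`, so all functions of sum zero, and `w(a,b,c)` does not depend on `a`.

* `PrimeInverter.eq_of_symmetric`: the identity above.
* `PrimeInverter.three_transitive`: `G` is triply transitive if the normaliser of a Sylow `p`-subgroup
  has even order.
-/

set_option autoImplicit false
set_option linter.unusedSectionVars false
set_option linter.unusedDecidableInType false
set_option linter.style.haveILetI false

namespace Cfsg.Agent.Perm.PrimeInverter

open Cfsg MulAction Finset

variable {G Ω : Type*} [Group G] [MulAction G Ω] [Fintype Ω] {p : ℕ} [hp : Fact p.Prime]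

/-- A symmetric invariant function on triples does not depend on its first argument. -/
theorem eq_of_symmetric [DecidableEq Ω] (e : ZMod p ≃ Ω) (hp5 : 5 ≤ p)
    (heart : ∀ V : Submodule (ZMod p) (Ω → ZMod p),
      (∀ g : G, ∀ f ∈ V, (fun w => f (g⁻¹ • w)) ∈ V) → (fun _ => 1) ∈ V → (∀ f ∈ V, ∑ w, f w = 0) →
      (∀ f ∈ V, ∃ c, f = fun _ => c) ∨ (∀ f, ∑ w, f w = 0 → f ∈ V))
    (hrefl : ∀ s : ZMod p, ∃ g : G, ∀ x, g • e x = e (s - x))
    (w : Ω → Ω → Ω → ZMod p) (hinv : ∀ (g : G) a b c, w (g • a) (g • b) (g • c) = w a b c)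
    (hsym : ∀ a b c, w a b c = w a c b) {a a' b c : Ω} (hbc : b ≠ c) (hab : a ≠ b) (hac : a ≠ c)
    (hab' : a' ≠ b) (hac' : a' ≠ c) : w a b c = w a' b c := by
  set w₀ : Ω → Ω → Ω → ZMod p := fun a b c => if a = b ∨ a = c then 0 else w a b c with hw₀
  have hinv₀ : ∀ (g : G) a b c, w₀ (g • a) (g • b) (g • c) = w₀ a b c := fun g a b c => by
    simp only [hw₀, hinv, smul_left_cancel_iff]
  have hsym₀ : ∀ a b c, w₀ a b c = w₀ a c b := fun a b c => by
    simp only [hw₀, or_comm (a := a = b), hsym a b c]
  let Y : Submodule (ZMod p) (Ω → ZMod p) :=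
    { carrier := {f | ∑ z, f z = 0 ∧ ∀ b c, b ≠ c →
        2 * ∑ z, w₀ z b c * f z = (∑ z, w₀ z b c) * (f b + f c)}
      zero_mem' := ⟨by simp, fun b c _ => by simp⟩
      add_mem' := fun {f g} hf hg => ⟨by simp [Finset.sum_add_distrib, hf.1, hg.1], fun b c h => by
        simp only [Pi.add_apply, mul_add, Finset.sum_add_distrib]
        linear_combination hf.2 b c h + hg.2 b c h⟩
      smul_mem' := fun t f hf => ⟨by simp [← Finset.mul_sum, hf.1], fun b c h => by
        simp only [Pi.smul_apply, smul_eq_mul, mul_left_comm _ t, ← Finset.mul_sum]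
        linear_combination t * hf.2 b c h⟩ }
  have hY : ∀ g : G, ∀ f ∈ Y, (fun z => f (g⁻¹ • z)) ∈ Y := by
    intro g f hf
    refine ⟨(Equiv.sum_comp (MulAction.toPerm g⁻¹) f).trans hf.1, fun b c h => ?_⟩
    have h' := hf.2 (g⁻¹ • b) (g⁻¹ • c) (fun e => h (MulAction.injective g⁻¹ e))
    rw [← Equiv.sum_comp (MulAction.toPerm g⁻¹) (fun z => w₀ z (g⁻¹ • b) (g⁻¹ • c) * f z),
      ← Equiv.sum_comp (MulAction.toPerm g⁻¹) (fun z => w₀ z (g⁻¹ • b) (g⁻¹ • c))] at h'
    simpa only [MulAction.toPerm_apply, hinv₀] using h'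
  have hone : (fun _ => 1 : Ω → ZMod p) ∈ Y := by
    refine ⟨?_, fun b c _ => by simp only [mul_one]; ring⟩
    rw [Finset.sum_const, Finset.card_univ, ← Fintype.card_congr e, ZMod.card, nsmul_eq_mul, mul_one,
      ZMod.natCast_self]
  have h2 : (2 : ZMod p) ≠ 0 := by
    intro h
    have := Nat.le_of_dvd (by norm_num) ((ZMod.natCast_eq_zero_iff 2 p).1 (by exact_mod_cast h))
    omega
  have hx : (fun z => e.symm z) ∈ Y := by
    refine ⟨?_, fun b c hbc => ?_⟩
    · rw [← Equiv.sum_comp e]
      simp only [Equiv.symm_apply_apply]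
      have hneg : ∑ i : ZMod p, i = -∑ i : ZMod p, i := by
        conv_lhs => rw [← Equiv.sum_comp (Equiv.neg (ZMod p))]
        simp only [Equiv.neg_apply]
        rw [← Finset.sum_neg_distrib]
      exact (mul_eq_zero.1 (show (2 : ZMod p) * ∑ i : ZMod p, i = 0 by linear_combination hneg)).resolve_left h2
    · obtain ⟨g, hg⟩ := hrefl (e.symm b + e.symm c)
      have hgz : ∀ z, g • z = e (e.symm b + e.symm c - e.symm z) := fun z => by
        rw [← hg, Equiv.apply_symm_apply]
      have hgb : g • b = c := by rw [hgz, add_sub_cancel_left, Equiv.apply_symm_apply]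
      have hgc : g • c = b := by rw [hgz, add_sub_cancel_right, Equiv.apply_symm_apply]
      have key : ∑ z, w₀ z b c * e.symm z =
          ∑ z, w₀ z b c * (e.symm b + e.symm c - e.symm z) := by
        conv_lhs => rw [← Equiv.sum_comp (MulAction.toPerm g)]
        refine Finset.sum_congr rfl fun z _ => ?_
        simp only [MulAction.toPerm_apply]
        have h : w₀ (g • z) b c = w₀ z b c := by
          rw [hsym₀ (g • z)]
          have := hinv₀ g z b c
          rwa [hgb, hgc] at this
        rw [h, hgz z, Equiv.symm_apply_apply]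
      simp only [mul_sub, Finset.sum_sub_distrib, ← Finset.sum_mul] at key
      linear_combination key
  rcases heart Y hY hone (fun f hf => hf.1) with h | h
  · obtain ⟨t, ht⟩ := h _ hx
    have e0 := congrFun ht (e 0)
    have e1 := congrFun ht (e 1)
    simp only [Equiv.symm_apply_apply] at e0 e1
    exact absurd (e1.trans e0.symm) one_ne_zero
  · have hd := h (Pi.single a 1 - Pi.single a' 1) (by simp [Finset.sum_sub_distrib])
    have h' := hd.2 b c hbc
    simp only [Pi.sub_apply, mul_sub, Finset.sum_sub_distrib, Pi.single_apply, mul_ite, mul_one,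
      mul_zero, Finset.sum_ite_eq', Finset.mem_univ, if_true, if_neg hab.symm, if_neg hac.symm,
      if_neg hab'.symm, if_neg hac'.symm, sub_zero, add_zero] at h'
    have h'' := (mul_eq_zero.1 (show (2 : ZMod p) * (w₀ a b c - w₀ a' b c) = 0 by
      linear_combination h')).resolve_left h2
    simpa [hw₀, hab, hac, hab', hac', sub_eq_zero] using h''

/-- A non-solvable transitive group of prime degree in which the normaliser of a Sylow `p`-subgroup
has even order is triply transitive. -/
theorem three_transitive [Finite G] [FaithfulSMul G Ω] (hΩ : Fintype.card Ω = p)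
    (htrans : IsPretransitive G Ω) (hins : ¬ Group.IsSolvable G) (P : Sylow p G)
    (hN : 2 ∣ Nat.card ↥(Subgroup.normalizer ((P : Subgroup G) : Set G))) :
    IsMultiplyPretransitive G Ω 3 := by
  classical
  let φ : G →* Equiv.Perm Ω := MulAction.toPermHom G Ω
  have hφ : Function.Injective φ := MulAction.toPerm_injective
  haveI : IsPretransitive φ.range Ω := ⟨fun a b => by
    obtain ⟨g, hg⟩ := htrans.exists_smul_eq a b
    exact ⟨⟨φ g, g, rfl⟩, hg⟩⟩
  have hinsR : ¬ Group.IsSolvable φ.range := fun h => hins <| by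
    exact Group.isSolvable_of_isSolvable_injective (f := φ.rangeRestrict)
      (fun a b hab => hφ (congrArg Subtype.val hab))
  haveI : Nonempty Ω := Fintype.card_pos_iff.1 (hΩ ▸ hp.out.pos)
  have hpG : p ∣ Nat.card G := by
    rw [← hΩ, ← Nat.card_eq_fintype_card, ← MulAction.index_stabilizer_of_transitive G (Classical.arbitrary Ω)]
    exact Subgroup.index_dvd_card _
  have hP : Nat.card P = p := by
    obtain ⟨k, hk⟩ := P.isPGroup'.exists_card_eq
    have h1 : p ∣ Nat.card P := P.dvd_card_of_dvd_card hpG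
    have h2 : ¬ p ^ 2 ∣ Nat.card P := fun h => PrimeDegree.not_dvd_card_sq φ.range hp.out hΩ <|
      h.trans ((P : Subgroup G).card_subgroup_dvd_card.trans
        (Nat.card_congr (MonoidHom.ofInjective hφ).toEquiv).dvd)
    rw [hk] at h1 h2 ⊢
    rcases k with _ | _ | k
    · exact absurd (Nat.dvd_one.1 h1) hp.out.ne_one
    · exact pow_one p
    · exact absurd (pow_dvd_pow p (by omega)) h2
  obtain ⟨c, hcP, hc⟩ : ∃ c ∈ (P : Subgroup G), orderOf c = p := by
    obtain ⟨c, hc⟩ := exists_prime_orderOf_dvd_card' (G := P) p hP.symm.dvd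
    exact ⟨c, c.2, by rw [Subgroup.orderOf_coe, hc]⟩
  have hzP : Subgroup.zpowers c = P :=
    Subgroup.eq_of_le_of_card_ge (Subgroup.zpowers_le.2 hcP) (by rw [Nat.card_zpowers, hc, hP])
  obtain ⟨e, -, he⟩ := PrimeDegree.exists_coords hΩ (c := φ c)
    (by rw [orderOf_injective φ hφ, hc]) (Classical.arbitrary Ω)
  have hshift : ∀ x, c • e x = e (x + 1) := he
  have hp5 : 5 ≤ p := PrimeDegree.five_le_of_not_isSolvable e hinsR
  have hpow : ∀ k : ℕ, ∀ x, c ^ k • e x = e (x + k) := fun k => by
    induction k with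
    | zero => simp
    | succ k ih => intro x; rw [pow_succ, mul_smul, hshift, ih, Nat.cast_succ]; congr 1; ring
  haveI := Fact.mk Nat.prime_two
  obtain ⟨⟨n, hn⟩, hn2⟩ := exists_prime_orderOf_dvd_card'
    (G := ↥(Subgroup.normalizer ((P : Subgroup G) : Set G))) 2 hN
  rw [Subgroup.orderOf_mk] at hn2
  have hmem : n * c * n⁻¹ ∈ Subgroup.zpowers c := by
    rw [hzP]; exact (Subgroup.mem_normalizer_iff.1 hn c).1 hcP
  obtain ⟨k, hk⟩ := ((isOfFinOrder_of_finite c).mem_powers_iff_mem_zpowers).2 hmem
  set b := e.symm (n • e 0)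
  have hall : ∀ x, n • e x = e ((k : ZMod p) * x + b) := by
    have hstep : ∀ m : ℕ, n • e (m : ZMod p) = e ((k : ZMod p) * m + b) := by
      intro m
      induction m with
      | zero => simp [b]
      | succ m ih =>
        rw [Nat.cast_succ, ← hshift, ← mul_smul, show n * c = c ^ k * n by
          rw [show c ^ k = n * c * n⁻¹ from hk]; group, mul_smul, ih, hpow]
        congr 1
        ring
    intro x
    rw [← ZMod.natCast_zmod_val x]
    exact hstep _
  have hnn : ∀ x, e ((k : ZMod p) * ((k : ZMod p) * x + b) + b) = e x := fun x => by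
    rw [← hall, ← hall, ← mul_smul, show n * n = 1 by rw [← pow_two, ← hn2, pow_orderOf_eq_one],
      one_smul]
  have hk2 : (k : ZMod p) = -1 := by
    have h0 := e.injective (hnn 0)
    have h1 := e.injective (hnn 1)
    rcases mul_eq_zero.1 (show ((k : ZMod p) - 1) * ((k : ZMod p) + 1) = 0 by
      linear_combination h1 - h0) with h | h
    · exfalso
      have hk1 : (k : ZMod p) = 1 := sub_eq_zero.1 h
      have h2 : (2 : ZMod p) ≠ 0 := fun h => by
        have := Nat.le_of_dvd (by norm_num) ((ZMod.natCast_eq_zero_iff 2 p).1 (by exact_mod_cast h))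
        omega
      have hb : b = 0 := (mul_eq_zero.1 (show (2 : ZMod p) * b = 0 by
        rw [hk1] at h0; linear_combination h0)).resolve_left h2
      have : n = 1 := eq_of_smul_eq_smul fun z => by
        obtain ⟨x, rfl⟩ := e.surjective z
        rw [hall, hk1, hb, one_mul, add_zero, one_smul]
      rw [this, orderOf_one] at hn2
      omega
    · exact eq_neg_of_add_eq_zero_left h
  have hrefl : ∀ s : ZMod p, ∃ g : G, ∀ x, g • e x = e (s - x) := fun s =>
    ⟨c ^ (s - b).val * n, fun x => by
      rw [mul_smul, hall, hpow, ZMod.natCast_zmod_val, hk2]; congr 1; ring⟩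
  have heart : ∀ V : Submodule (ZMod p) (Ω → ZMod p),
      (∀ g : G, ∀ f ∈ V, (fun w => f (g⁻¹ • w)) ∈ V) → (fun _ => 1) ∈ V → (∀ f ∈ V, ∑ w, f w = 0) →
      (∀ f ∈ V, ∃ c, f = fun _ => c) ∨ (∀ f, ∑ w, f w = 0 → f ∈ V) := by
    intro V hV h1 h0
    let W : Subrepresentation (permRep (ZMod p) φ.range Ω) :=
      { toSubmodule := V
        apply_mem_toSubmodule := fun g f hf => by
          obtain ⟨_, g, rfl⟩ := g
          have h := hV g f hf
          convert h using 1
          funext w
          rw [ModuleHeart.permRep_apply]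
          congr 1 }
    rcases PrimeDegree.heart_irreducible hΩ hinsR W
      ((Submodule.span_singleton_le_iff_mem _ _).2 h1)
      (fun f hf => (ModuleHeart.mem_sumZero_iff (G := φ.range)).2 (h0 f hf)) with h | h
    · refine Or.inl fun f hf => (ModuleHeart.mem_constants_iff (G := φ.range)).1 ?_
      rw [← h]; exact hf
    · refine Or.inr fun f hf => ?_
      have : f ∈ W.toSubmodule := by rw [h]; exact (ModuleHeart.mem_sumZero_iff (G := φ.range)).2 hf
      exact this
  haveI := PrimeDegree.twoTransitive_of_not_isSolvable hΩ hinsR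
  have two : ∀ {a b u v : Ω}, a ≠ b → u ≠ v → ∃ g : G, g • a = u ∧ g • b = v := fun hab huv => by
    obtain ⟨⟨_, g, rfl⟩, hg⟩ := MulAction.is_two_pretransitive_iff.1
      (inferInstance : IsMultiplyPretransitive φ.range Ω 2) hab huv
    exact ⟨g, hg⟩
  -- triples with the same last two points
  let R : Ω → Ω → Ω → Ω → Ω → Ω → Prop := fun a b c a' b' c' =>
    ∃ g : G, g • a = a' ∧ g • b = b' ∧ g • c = c'
  have key : ∀ a₀ b c a, b ≠ c → a₀ ≠ b → a₀ ≠ c → a ≠ b → a ≠ c → R a₀ b c a b c := by
    intro a₀ b c a hbc h0b h0c hab hac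
    let O : Ω → Ω → Ω → ZMod p := fun x y z => if R a₀ b c x y z then 1 else 0
    have hO : ∀ (g : G) x y z, O (g • x) (g • y) (g • z) = O x y z := fun g x y z => by
      have hiff : R a₀ b c (g • x) (g • y) (g • z) ↔ R a₀ b c x y z :=
        ⟨fun ⟨h, hx, hy, hz⟩ => ⟨g⁻¹ * h, by rw [mul_smul, hx, inv_smul_smul],
          by rw [mul_smul, hy, inv_smul_smul], by rw [mul_smul, hz, inv_smul_smul]⟩,
        fun ⟨h, hx, hy, hz⟩ => ⟨g * h, by rw [mul_smul, hx], by rw [mul_smul, hy], by rw [mul_smul, hz]⟩⟩
      simp only [O, hiff]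
    have hself : R a₀ b c a₀ b c := ⟨1, one_smul _ _, one_smul _ _, one_smul _ _⟩
    have hor : ∀ z, z ≠ b → z ≠ c → R a₀ b c z b c ∨ R a₀ b c z c b := by
      intro z hzb hzc
      have h := eq_of_symmetric e hp5 heart hrefl (fun x y z => O x y z + O x z y)
        (fun g x y z => by simp only [hO]) (fun x y z => add_comm _ _) hbc hzb hzc h0b h0c
      by_contra hno
      push Not at hno
      simp only [O, if_neg hno.1, if_neg hno.2, if_pos hself, add_zero] at h
      have h2 : (2 : ZMod p) ≠ 0 := fun h => by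
        have := Nat.le_of_dvd (by norm_num) ((ZMod.natCast_eq_zero_iff 2 p).1 (by exact_mod_cast h))
        omega
      split_ifs at h
      · exact h2 (by linear_combination -h)
      · exact one_ne_zero (α := ZMod p) (by linear_combination -h)
    by_contra hno
    have hdis : ∀ z, ¬ (R a₀ b c z b c ∧ R a₀ b c z c b) := by
      rintro z ⟨⟨g, hg0, hgb, hgc⟩, g', hg0', hgb', hgc'⟩
      rcases hor a hab hac with h | ⟨k, hka, hkb, hkc⟩
      · exact hno h
      · refine hno ⟨k * (g⁻¹ * g'), ?_, ?_, ?_⟩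
        · rw [mul_smul, mul_smul, hg0', ← hg0, inv_smul_smul, hka]
        · rw [mul_smul, mul_smul, hgb', ← hgc, inv_smul_smul, hkc]
        · rw [mul_smul, mul_smul, hgc', ← hgb, inv_smul_smul, hkb]
    obtain ⟨s, hsb, hsc⟩ := two hbc hbc.symm
    have hRs : ∀ x y z, R a₀ b c x y z → R a₀ b c (s • x) (s • y) (s • z) :=
      fun x y z ⟨g, hx, hy, hz⟩ =>
        ⟨s * g, by rw [mul_smul, hx], by rw [mul_smul, hy], by rw [mul_smul, hz]⟩
    set X := (Finset.univ.filter fun z => z ≠ b ∧ z ≠ c ∧ R a₀ b c z b c)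
    set X' := (Finset.univ.filter fun z => z ≠ b ∧ z ≠ c ∧ R a₀ b c z c b)
    have hcard : X.card = X'.card := by
      refine Finset.card_equiv (MulAction.toPerm s) fun z => ?_
      simp only [X, X', Finset.mem_filter, Finset.mem_univ, true_and, MulAction.toPerm_apply]
      constructor
      · rintro ⟨h1, h2, h3⟩
        refine ⟨fun h => h2 (MulAction.injective s (h.trans hsc.symm)),
          fun h => h1 (MulAction.injective s (h.trans hsb.symm)), ?_⟩
        have := hRs _ _ _ h3
        rwa [hsb, hsc] at this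
      · rintro ⟨h1, h2, g, h3, h4, h5⟩
        refine ⟨fun h => h2 (h ▸ hsb), fun h => h1 (h ▸ hsc), s⁻¹ * g, ?_, ?_, ?_⟩
        · rw [mul_smul, h3, inv_smul_smul]
        · rw [mul_smul, h4, inv_smul_eq_iff, hsb]
        · rw [mul_smul, h5, inv_smul_eq_iff, hsc]
    have hun : X ∪ X' = (Finset.univ.erase b).erase c := by
      ext z
      simp only [X, X', Finset.mem_union, Finset.mem_filter, Finset.mem_univ, true_and,
        Finset.mem_erase, and_true]
      exact ⟨fun h => by rcases h with h | h <;> exact ⟨h.2.1, h.1⟩,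
        fun h => (hor z h.2 h.1).elim (fun r => Or.inl ⟨h.2, h.1, r⟩) (fun r => Or.inr ⟨h.2, h.1, r⟩)⟩
    have hd : Disjoint X X' := Finset.disjoint_filter.2 fun z _ h h' => hdis z ⟨h.2.2, h'.2.2⟩
    have := Finset.card_union_of_disjoint hd
    rw [hun, hcard, Finset.card_erase_of_mem (Finset.mem_erase.2 ⟨hbc.symm, Finset.mem_univ _⟩),
      Finset.card_erase_of_mem (Finset.mem_univ _), Finset.card_univ, hΩ] at this
    obtain ⟨m, hm⟩ := hp.out.odd_of_ne_two (by omega)
    omega
  refine ⟨fun x y => ?_⟩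
  have hne : ∀ (z : Fin 3 ↪ Ω) (i j : Fin 3), i ≠ j → z i ≠ z j := fun z i j h => z.injective.ne h
  obtain ⟨g, hg1, hg2⟩ := two (hne x 1 2 (by decide)) (hne y 1 2 (by decide))
  obtain ⟨h, h0, h1, h2⟩ := key (g • x 0) (y 1) (y 2) (y 0) (hne y 1 2 (by decide))
    (fun e => hne x 0 1 (by decide) (MulAction.injective g (e.trans hg1.symm)))
    (fun e => hne x 0 2 (by decide) (MulAction.injective g (e.trans hg2.symm)))
    (hne y 0 1 (by decide)) (hne y 0 2 (by decide))
  refine ⟨h * g, ?_⟩
  ext i
  show (h * g) • x i = y i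
  rw [mul_smul]
  fin_cases i
  · exact h0
  · show h • g • x 1 = y 1; rw [hg1, h1]
  · show h • g • x 2 = y 2; rw [hg2, h2]

end Cfsg.Agent.Perm.PrimeInverter
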