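import Cfsg.Agent.Lib.Perm.Basic

/-!
# Solvable groups with a cyclic transitive subgroup of odd prime power order

In a solvable group with an element `u` whose powers are transitive on `p ^ i` points (`p` odd),
every `p`-element translates the residues modulo `p` of the exponents of `u`.
-/

set_option autoImplicit false

namespace Cfsg.Agent.Perm.SolvableCycle

open MulAction
open scoped Pointwise

universe v w

variable {p : ℕ} [hp : Fact p.Prime]

/-- On a group of exponent `p` and order `p ^ i` an endomorphism of `p`-power order has vanishing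
sum of its first `p ^ (i - 1)` powers, as soon as `i < p ^ (i - 1)`. -/
theorem geom_sum_eq_zero {V : Type w} [AddCommGroup V] [Module (ZMod p) V] [Finite V] {i : ℕ}
    (hcard : Nat.card V = p ^ i) (hi : i + 1 ≤ p ^ (i - 1)) (φ : V →ₗ[ZMod p] V)
    (hone : φ ^ p ^ i = 1) : (∑ t ∈ Finset.range (p ^ (i - 1)), φ ^ t) = 0 := by
  classical
  rcases subsingleton_or_nontrivial V with hsub | hnt
  · exact LinearMap.ext fun x => Subsingleton.elim _ _
  haveI : CharP (Module.End (ZMod p) V) p :=
    charP_of_injective_algebraMap' (R := ZMod p) (A := Module.End (ZMod p) V) p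
  have hdim : Module.finrank (ZMod p) V = i := by
    have h := Module.natCard_eq_pow_finrank (K := ZMod p) (V := V)
    rw [Nat.card_zmod, hcard] at h
    exact (Nat.pow_right_injective hp.out.two_le h).symm
  have hnil : (φ - 1) ^ p ^ i = 0 := by
    rw [sub_pow_expChar_pow_of_commute (p := p) (h := Commute.one_right φ), one_pow, hone, sub_self]
  have hDi : (φ - 1) ^ i = 0 := by
    have hle : i ≤ p ^ i := (Nat.lt_pow_self hp.out.one_lt).le
    have h := Module.End.ker_pow_eq_ker_pow_finrank_of_le (f := φ - 1) (m := p ^ i)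
      (by omega)
    rw [hnil, LinearMap.ker_zero, hdim] at h
    exact LinearMap.ker_eq_top.1 h.symm
  set m := p ^ (i - 1) with hm
  have hpoly : (∑ t ∈ Finset.range m, φ ^ t) = (φ - 1) ^ (m - 1) := by
    have h : (∑ t ∈ Finset.range m, (Polynomial.X : Polynomial (ZMod p)) ^ t) =
        (Polynomial.X - 1) ^ (m - 1) := by
      refine mul_right_cancel₀ (Polynomial.X_sub_C_ne_zero (1 : ZMod p)) ?_
      rw [map_one, geom_sum_mul, ← pow_succ, Nat.sub_add_cancel (by omega)]
      rw [hm, sub_pow_expChar_pow, one_pow]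
    simpa using congrArg (Polynomial.aeval φ) h
  rw [hpoly]
  exact pow_eq_zero_of_le (by omega) hDi

/-- The same for endomorphisms of the additive group. -/
theorem geom_sum_apply_eq_zero {V : Type w} [AddCommGroup V] [Module (ZMod p) V] [Finite V] {i : ℕ}
    (hcard : Nat.card V = p ^ i) (hi : i + 1 ≤ p ^ (i - 1))
    (φ : AddMonoid.End V) (hone : ∀ x, (φ ^ p ^ i) x = x) (x : V) :
    (∑ t ∈ Finset.range (p ^ (i - 1)), φ ^ t) x = 0 := by
  set F := AddMonoidHom.toZModLinearMap p (φ : V →+ V)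
  have hFpow : ∀ (m : ℕ) (x : V), (F ^ m) x = (φ ^ m) x := by
    intro m
    induction m with
    | zero => intro x; rfl
    | succ m ih =>
      intro x
      rw [pow_succ, Module.End.mul_apply, ih]
      rfl
  have h := LinearMap.congr_fun (geom_sum_eq_zero (p := p) hcard hi F
    (LinearMap.ext fun y => (hFpow _ y).trans (hone y))) x
  rw [LinearMap.sum_apply, LinearMap.zero_apply] at h
  simp only [hFpow] at h
  rw [← h]
  exact AddMonoidHom.finsetSum_apply _ _ _

/-- A regular elementary abelian normal subgroup leaves no room for a long cycle. -/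
theorem pow_mem_stabilizer {K : Type w} {Ω : Type v} [Group K] [Finite K] [MulAction K Ω]
    (E : Subgroup K) [hEn : E.Normal] [IsMulCommutative E] (hexp : ∀ x ∈ E, x ^ p = 1) {i : ℕ}
    (hcard : Nat.card E = p ^ i) (hi : i + 1 ≤ p ^ (i - 1)) (n : E) {s : K} (x0 : Ω)
    (hs : s • x0 = x0) (hsp : s ^ p ^ i = 1) :
    ((n : K) * s) ^ p ^ (i - 1) • x0 = x0 := by
  classical
  letI : CommGroup E := { (inferInstance : Group E) with mul_comm := mul_comm' }
  have hexp' : ∀ x : Additive E, p • x = 0 := fun x => congrArg Additive.ofMul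
    (Subtype.ext (by rw [Subgroup.coe_pow]; exact hexp _ (Additive.toMul x).2) :
      (Additive.toMul x) ^ p = 1)
  haveI : Finite (Additive E) := inferInstanceAs (Finite E)
  let φ : AddMonoid.End (Additive E) :=
    AddMonoidHom.mk' (fun x => Additive.ofMul
        (⟨s * (Additive.toMul x : E) * s⁻¹, hEn.conj_mem _ (Additive.toMul x).2 s⟩ : E))
      (fun x y => congrArg Additive.ofMul (Subtype.ext (by
        show s * ((Additive.toMul x : E) * (Additive.toMul y : E) : K) * s⁻¹ = _
        simp only [toMul_ofMul, Subgroup.coe_mul]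
        group)))
  have hφ : ∀ x : Additive E,
      ((Additive.toMul (φ x) : E) : K) = s * ((Additive.toMul x : E) : K) * s⁻¹ := fun x => rfl
  have hφpow : ∀ (m : ℕ) (x : Additive E),
      ((Additive.toMul ((φ ^ m) x) : E) : K) = s ^ m * ((Additive.toMul x : E) : K) * (s ^ m)⁻¹ := by
    intro m
    induction m with
    | zero => intro x; simp
    | succ m ih =>
      intro x
      rw [pow_succ, show (φ ^ m * φ) x = (φ ^ m) (φ x) from rfl, ih, hφ, pow_succ]
      group
  have hkey : ∀ m : ℕ, ((n : K) * s) ^ m = ((Additive.toMul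
      ((∑ t ∈ Finset.range m, φ ^ t) (Additive.ofMul n)) : E) : K) * s ^ m := by
    intro m
    induction m with
    | zero => simp
    | succ m ih =>
      rw [pow_succ', ih, geom_sum_succ]
      show _ = ((Additive.toMul (φ ((∑ t ∈ Finset.range m, φ ^ t) (Additive.ofMul n)) +
        Additive.ofMul n) : E) : K) * _
      rw [add_comm (φ _) (Additive.ofMul n), toMul_add, Subgroup.coe_mul, hφ, toMul_ofMul, pow_succ']
      group
  have hzero : (∑ t ∈ Finset.range (p ^ (i - 1)), φ ^ t) (Additive.ofMul n) = 0 :=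
    @geom_sum_apply_eq_zero p hp (Additive E) _ (AddCommGroup.zmodModule hexp') _ i hcard hi φ
      (fun x => Additive.toMul.injective (Subtype.ext (by rw [hφpow, hsp]; simp))) _
  rw [hkey, hzero, toMul_zero, Subgroup.coe_one, one_mul]
  exact (MulAction.stabilizer K x0).pow_mem hs _

/-- A solvable group with a non-trivial primitive faithful action has a regular normal subgroup
of exponent `p`, when the degree is a power of `p`. -/
theorem exists_regular_elementary {K : Type w} {Ω : Type v} [Group K] [Finite K]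
    [Group.IsSolvable K] [MulAction K Ω] [FaithfulSMul K Ω] [IsPreprimitive K Ω] [Finite Ω]
    [Nonempty Ω] {i : ℕ} (hi : 1 ≤ i) (hΩ : Nat.card Ω = p ^ i) :
    ∃ E : Subgroup K, E.Normal ∧ IsMulCommutative E ∧ (∀ x ∈ E, x ^ p = 1) ∧
      IsPretransitive E Ω ∧ (∀ a : Ω, stabilizer E a = ⊥) ∧ Nat.card E = p ^ i := by
  classical
  have hnt : Nontrivial K := by
    by_contra h
    rw [not_nontrivial_iff_subsingleton] at h
    obtain ⟨a⟩ := ‹Nonempty Ω›
    have : Nat.card Ω ≤ 1 := by
      rw [Finite.card_le_one_iff_subsingleton]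
      exact ⟨fun x y => by
        obtain ⟨g, rfl⟩ := exists_smul_eq K x y
        rw [Subsingleton.elim g 1, one_smul]⟩
    rw [hΩ] at this
    have := Nat.one_lt_pow (by omega : i ≠ 0) hp.out.one_lt
    omega
  obtain ⟨A, hAn, hAc, hA1⟩ : ∃ A : Subgroup K, A.Normal ∧ IsMulCommutative A ∧ A ≠ ⊥ := by
    have hex : ∃ k, derivedSeries K k = ⊥ := Group.isSolvable_def K |>.1 inferInstance
    obtain ⟨k, hk⟩ : ∃ k, Nat.find hex = k + 1 := ⟨Nat.find hex - 1, by
      have : Nat.find hex ≠ 0 := fun h => by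
        have h' := Nat.find_spec hex
        rw [h, derivedSeries_zero] at h'
        exact top_ne_bot h'
      omega⟩
    refine ⟨derivedSeries K k, derivedSeries_normal K k, ?_,
      Nat.find_min hex (by omega)⟩
    have h := Nat.find_spec hex
    rw [hk, derivedSeries_succ, Subgroup.commutator_eq_bot_iff_le_centralizer] at h
    exact ⟨⟨fun x y => Subtype.ext (Subgroup.mem_centralizer_iff.1 (h y.2) x x.2)⟩⟩
  obtain ⟨hAt, hAs, -⟩ := regular_of_abelian_normal (G := K) (α := Ω) hA1
  have hAcard : Nat.card A = p ^ i := by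
    obtain ⟨a⟩ := ‹Nonempty Ω›
    rw [card_eq_of_regular (hAs a), hΩ]
  let E : Subgroup K :=
    { carrier := {g | g ∈ A ∧ g ^ p = 1}
      one_mem' := ⟨A.one_mem, one_pow p⟩
      mul_mem' := fun {g k} hg hk => ⟨A.mul_mem hg.1 hk.1, by
        have hc : Commute g k :=
          congrArg Subtype.val (mul_comm' (⟨g, hg.1⟩ : A) ⟨k, hk.1⟩)
        rw [hc.mul_pow, hg.2, hk.2, one_mul]⟩
      inv_mem' := fun {g} hg => ⟨A.inv_mem hg.1, by rw [inv_pow, hg.2, inv_one]⟩ }
  haveI hEn : E.Normal := ⟨fun x hx g => ⟨hAn.conj_mem x hx.1 g, by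
    rw [conj_pow, hx.2, mul_one, mul_inv_cancel]⟩⟩
  haveI hEc : IsMulCommutative E := ⟨⟨fun x y =>
    Subtype.ext (congrArg Subtype.val (mul_comm' (⟨x, x.2.1⟩ : A) ⟨y, y.2.1⟩) :)⟩⟩
  have hE1 : E ≠ ⊥ := by
    obtain ⟨x, hx⟩ := exists_prime_orderOf_dvd_card' (G := A) p
      (hAcard ▸ dvd_pow_self p (by omega))
    intro h
    have hxE : (x : K) ∈ E :=
      ⟨x.2, by rw [← Subgroup.coe_pow, ← hx, pow_orderOf_eq_one, Subgroup.coe_one]⟩
    rw [h, Subgroup.mem_bot] at hxE
    rw [show x = 1 from Subtype.ext hxE, orderOf_one] at hx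
    exact hp.out.one_lt.ne hx
  obtain ⟨hEt, hEs, -⟩ := regular_of_abelian_normal (G := K) (α := Ω) hE1
  refine ⟨E, hEn, hEc, fun x hx => hx.2, hEt, hEs, ?_⟩
  obtain ⟨a⟩ := ‹Nonempty Ω›
  rw [card_eq_of_regular (hEs a), hΩ]

/-- The primitive case. -/
theorem residue_primitive {K : Type w} {Ω : Type v} [Group K] [Finite K] [Group.IsSolvable K]
    [MulAction K Ω] [FaithfulSMul K Ω] [IsPreprimitive K Ω] [Finite Ω] (hp2 : p ≠ 2) {i : ℕ}
    (hi : 1 ≤ i) (hΩ : Nat.card Ω = p ^ i) (u : K) (x0 : Ω)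
    (hu : ∀ x : Ω, ∃ k : ℕ, u ^ k • x0 = x) (h : K) (hh : ∃ k : ℕ, h ^ p ^ k = 1) :
    ∃ β : ZMod p, ∀ k l : ℕ, u ^ l • x0 = h • u ^ k • x0 → (l : ZMod p) = k + β := by
  classical
  haveI : Nonempty Ω := ⟨x0⟩
  -- the powers of `u` act regularly
  have hfix : ∀ k : ℕ, u ^ k • x0 = x0 → u ^ k = 1 := fun k hk =>
    eq_one_of_forall_smul_eq (α := Ω) fun x => by
      obtain ⟨j, rfl⟩ := hu x
      rw [← mul_smul, ← pow_add, add_comm, pow_add, mul_smul, hk]
  have hord : orderOf u = p ^ i := by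
    rw [← hΩ, ← Nat.card_zpowers]
    refine Nat.card_congr (Equiv.ofBijective (fun g : Subgroup.zpowers u => (g : K) • x0) ⟨?_, ?_⟩)
    · rintro ⟨g, hg⟩ ⟨g', hg'⟩ hgg
      have hmem : g⁻¹ * g' ∈ Subgroup.zpowers u := mul_mem (inv_mem hg) hg'
      obtain ⟨k, hk⟩ := mem_powers_iff_mem_zpowers.2 hmem
      have hfx : u ^ k • x0 = x0 := by
        rw [show u ^ k = g⁻¹ * g' from hk, mul_smul, inv_smul_eq_iff]; exact hgg.symm
      have := hfix k hfx
      rw [show u ^ k = g⁻¹ * g' from hk, inv_mul_eq_one] at this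
      exact Subtype.ext this
    · intro x
      obtain ⟨k, hk⟩ := hu x
      exact ⟨⟨u ^ k, Subgroup.npow_mem_zpowers u k⟩, hk⟩
  obtain ⟨E, hEn, hEc, hexp, hEt, hEs, hEcard⟩ := exists_regular_elementary (K := K) (Ω := Ω) hi hΩ
  -- `p`-elements of a point stabiliser
  have hdec : ∀ g : K, ∃ n : E, ((n : K)⁻¹ * g) • x0 = x0 := fun g => by
    obtain ⟨n, hn⟩ := hEt.exists_smul_eq x0 (g • x0)
    exact ⟨n, by rw [mul_smul, inv_smul_eq_iff]; exact hn.symm⟩
  by_cases hi1 : i = 1
  · subst hi1
    rw [pow_one] at hΩ hEcard hord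
    -- `E` is the only Sylow subgroup
    have hmem : ∀ g : K, (∃ k : ℕ, g ^ p ^ k = 1) → g ∈ E := by
      intro g ⟨k, hg⟩
      obtain ⟨n, hn⟩ := hdec g
      have hst : ((n : K)⁻¹ * g) ^ p ^ k = 1 := by
        have h1 : ((n : K)⁻¹ * g) ^ p ^ k ∈ stabilizer K x0 := Subgroup.pow_mem _ hn _
        have h2 : ((n : K)⁻¹ * g) ^ p ^ k ∈ E := by
          rw [← QuotientGroup.eq_one_iff (N := E), QuotientGroup.mk_pow, QuotientGroup.mk_mul,
            (QuotientGroup.eq_one_iff _).2 (inv_mem n.2), one_mul, ← QuotientGroup.mk_pow, hg,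
            QuotientGroup.mk_one]
        exact stabilizer_subgroup_eq_bot_iff.1 (hEs x0) _ h2 h1
      set s := (n : K)⁻¹ * g
      -- `s` permutes the `p - 1` points other than `x0`
      have hs1 : s = 1 := by
        by_contra hne
        obtain ⟨x, hx⟩ : ∃ x : Ω, s • x ≠ x := by
          by_contra! hall; exact hne (eq_one_of_forall_smul_eq hall)
        obtain ⟨j, hj⟩ : ∃ j, orderOf s = p ^ j := by
          obtain ⟨j, -, hj⟩ := (Nat.dvd_prime_pow hp.out).1 (orderOf_dvd_of_pow_eq_one hst)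
          exact ⟨j, hj⟩
        have hdvd : Function.minimalPeriod (s • ·) x ∣ p ^ j :=
          hj ▸ Function.IsPeriodicPt.minimalPeriod_dvd (by
            show (s • ·)^[orderOf s] x = x
            simp [smul_iterate, pow_orderOf_eq_one])
        obtain ⟨t, -, ht⟩ := (Nat.dvd_prime_pow hp.out).1 hdvd
        have ht0 : t ≠ 0 := fun e => hx (by
          rw [e, pow_zero] at ht
          exact Function.minimalPeriod_eq_one_iff_isFixedPt.1 ht)
        -- the orbit of `x` avoids `x0`
        have horb : (orbit (Subgroup.zpowers s) x).ncard < p := by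
          have hlt : orbit (Subgroup.zpowers s) x ⊂ (Set.univ : Set Ω) :=
            Set.ssubset_univ_iff.2 fun hall => by
              obtain ⟨⟨z, hz⟩, hzx⟩ := (hall.symm ▸ Set.mem_univ x0 :
                x0 ∈ orbit (Subgroup.zpowers s) x)
              have hzfix : z • x0 = x0 := Subgroup.zpowers_le.2 (show s ∈ stabilizer K x0 from hn) hz
              have hzx' : z • x = x0 := hzx
              exact hx (by rw [show x = x0 from smul_left_cancel z (hzx'.trans hzfix.symm)]; exact hn)
          have := Set.ncard_lt_ncard hlt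
          rwa [Set.ncard_univ, hΩ] at this
        have hcard : (orbit (Subgroup.zpowers s) x).ncard = p ^ t := by
          haveI : Fintype (orbit (Subgroup.zpowers s) x) := Fintype.ofFinite _
          rw [← ht, MulAction.minimalPeriod_eq_card, ← Nat.card_eq_fintype_card,
            Nat.card_coe_set_eq]
        have := Nat.le_self_pow ht0 p
        omega
      rw [← inv_mul_eq_one.1 hs1]
      exact n.2
    have huE : u ∈ E := hmem u ⟨1, by rw [pow_one, ← hord]; exact pow_orderOf_eq_one u⟩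
    have hhE := hmem h hh
    have hz : Subgroup.zpowers u = E := Subgroup.eq_of_le_of_card_ge
      (Subgroup.zpowers_le.2 huE) (by rw [Nat.card_zpowers, hord, hEcard])
    obtain ⟨b, hb⟩ := mem_powers_iff_mem_zpowers.2 (hz ▸ hhE : h ∈ Subgroup.zpowers u)
    refine ⟨b, fun k l hkl => ?_⟩
    rw [← show u ^ b = h from hb, ← mul_smul, ← pow_add] at hkl
    have heq : u ^ l = u ^ (b + k) := by
      have : (u ^ (b + k))⁻¹ * u ^ l = 1 := by
        obtain ⟨c, hc⟩ := mem_powers_iff_mem_zpowers.2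
          (mul_mem (inv_mem (Subgroup.npow_mem_zpowers u (b + k))) (Subgroup.npow_mem_zpowers u l))
        rw [← show u ^ c = _ from hc]
        refine hfix c ?_
        rw [show u ^ c = _ from hc, mul_smul, inv_smul_eq_iff, hkl]
      exact (inv_mul_eq_one.1 this).symm
    rw [pow_eq_pow_iff_modEq, hord, ← ZMod.natCast_eq_natCast_iff, Nat.cast_add] at heq
    rw [heq, add_comm]
  · exfalso
    obtain ⟨n, hn⟩ := hdec u
    set s := (n : K)⁻¹ * u with hs
    have hsp : s ^ p ^ i = 1 := by
      have h1 : s ^ p ^ i ∈ stabilizer K x0 := Subgroup.pow_mem _ hn _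
      have h2 : s ^ p ^ i ∈ E := by
        rw [← QuotientGroup.eq_one_iff (N := E), QuotientGroup.mk_pow, hs, QuotientGroup.mk_mul,
          (QuotientGroup.eq_one_iff _).2 (inv_mem n.2), one_mul, ← QuotientGroup.mk_pow, ← hord,
          pow_orderOf_eq_one, QuotientGroup.mk_one]
      exact stabilizer_subgroup_eq_bot_iff.1 (hEs x0) _ h2 h1
    have hpi : i + 1 ≤ p ^ (i - 1) := by
      obtain ⟨j, rfl⟩ : ∃ j, i = j + 2 := ⟨i - 2, by omega⟩
      have h3 : 3 ≤ p := by have := hp.out.two_le; omega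
      have : ∀ j, j + 3 ≤ 3 ^ (j + 1) := fun j => by
        induction j with
        | zero => simp
        | succ j ih => rw [pow_succ]; omega
      calc j + 2 + 1 ≤ 3 ^ (j + 1) := this j
        _ ≤ p ^ (j + 1) := Nat.pow_le_pow_left h3 _
    have hfin := pow_mem_stabilizer (p := p) E hexp hEcard hpi n x0 hn hsp
    rw [hs, mul_inv_cancel_left] at hfin
    have h1 := orderOf_dvd_of_pow_eq_one (hfix _ hfin)
    rw [hord, Nat.pow_dvd_pow_iff_le_right hp.out.one_lt] at h1
    omega

/-- In a solvable group with a transitive cyclic subgroup of odd prime power order every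
`p`-element translates residues modulo `p`. -/
theorem residue (hp2 : p ≠ 2) {K : Type w} [Group K] [Finite K] [Group.IsSolvable K] (u : K)
    (h : K) (hh : ∃ k : ℕ, h ^ p ^ k = 1) :
    ∀ (i : ℕ) {Ω : Type v} [MulAction K Ω], 1 ≤ i → Nat.card Ω = p ^ i → ∀ x0 : Ω,
      (∀ x : Ω, ∃ k : ℕ, u ^ k • x0 = x) →
      ∃ β : ZMod p, ∀ k l : ℕ, u ^ l • x0 = h • u ^ k • x0 → (l : ZMod p) = k + β := by
  intro i
  induction i using Nat.strong_induction_on with
  | _ i ih => ?_
  intro Ω _ hi hΩ x0 hu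
  classical
  haveI : Finite Ω := Nat.finite_of_card_ne_zero (by rw [hΩ]; exact (pow_pos hp.out.pos i).ne')
  haveI : IsPretransitive K Ω := ⟨fun a b => by
    obtain ⟨k, rfl⟩ := hu a
    obtain ⟨l, rfl⟩ := hu b
    exact ⟨u ^ l * (u ^ k)⁻¹, by rw [mul_smul, inv_smul_smul]⟩⟩
  by_cases hprim : IsPreprimitive K Ω
  · -- pass to the image
    set f : K →* Equiv.Perm Ω := MulAction.toPermHom K Ω
    haveI : Group.IsSolvable f.range := Group.isSolvable_of_surjective f.rangeRestrict_surjective
    haveI : IsPreprimitive f.range Ω :=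
      IsPreprimitive.of_surjective (φ := f.rangeRestrict)
        (f := (⟨id, fun _ _ => rfl⟩ : Ω →ₑ[f.rangeRestrict] Ω)) Function.surjective_id
    obtain ⟨k, hk⟩ := hh
    obtain ⟨β, hβ⟩ := residue_primitive hp2 hi hΩ (f.rangeRestrict u) x0
      (fun x => by
        obtain ⟨j, hj⟩ := hu x
        exact ⟨j, by rw [← map_pow]; exact hj⟩)
      (f.rangeRestrict h) ⟨k, by rw [← map_pow, hk, map_one]⟩
    refine ⟨β, fun k l hkl => hβ k l ?_⟩
    rw [← map_pow, ← map_pow]
    exact hkl
  · -- a system of blocks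
    have : ∃ B : Set Ω, IsBlock K B ∧ x0 ∈ B ∧ ¬ IsTrivialBlock B := by
      by_contra! hno
      exact hprim (IsPreprimitive.of_isTrivialBlock_base x0 (fun hx hB => hno _ hB hx))
    obtain ⟨B, hB, hx0, hBt⟩ := this
    have hBne : B.Nonempty := ⟨x0, hx0⟩
    have hmul := hB.ncard_block_mul_ncard_orbit_eq hBne
    rw [hΩ] at hmul
    obtain ⟨j, hj, hBcard⟩ := (Nat.dvd_prime_pow hp.out).1 (Dvd.intro _ hmul)
    have horb : (orbit K B).ncard = p ^ (i - j) := by
      rw [hBcard, show p ^ i = p ^ j * p ^ (i - j) by rw [← pow_add, Nat.add_sub_cancel' hj]] at hmul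
      exact Nat.eq_of_mul_eq_mul_left (pow_pos hp.out.pos j) hmul
    have hj0 : j ≠ 0 := by
      rintro rfl
      rw [pow_zero, Set.ncard_eq_one] at hBcard
      obtain ⟨a, rfl⟩ := hBcard
      exact hBt (Or.inl Set.subsingleton_singleton)
    have hji : j ≠ i := by
      rintro rfl
      refine hBt (Or.inr ?_)
      exact Set.eq_of_subset_of_ncard_le (Set.subset_univ B)
        (by rw [Set.ncard_univ, hΩ, hBcard])
    obtain ⟨β, hβ⟩ := ih (i - j) (by omega) (Ω := orbit K B) (by omega)
      (by rw [Nat.card_coe_set_eq, horb]) ⟨B, mem_orbit_self B⟩ (by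
        rintro ⟨C, g, rfl⟩
        obtain ⟨k, hk⟩ := hu (g • x0)
        refine ⟨k, Subtype.ext ?_⟩
        show u ^ k • B = g • B
        exact (isBlock_iff_smul_eq_smul_of_nonempty.1 hB
          ⟨g • x0, hk ▸ Set.smul_mem_smul_set hx0, Set.smul_mem_smul_set hx0⟩))
    refine ⟨β, fun k l hkl => hβ k l (Subtype.ext ?_)⟩
    show u ^ l • B = h • u ^ k • B
    rw [smul_smul]
    exact (isBlock_iff_smul_eq_smul_of_nonempty.1 hB
      ⟨u ^ l • x0, Set.smul_mem_smul_set hx0,
        by rw [hkl, smul_smul]; exact Set.smul_mem_smul_set hx0⟩)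

end Cfsg.Agent.Perm.SolvableCycle
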