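import Cfsg.Agent.Lib.Perm.EvenOvergroupAux
import Cfsg.Agent.Lib.Perm.HalfNormalizerSetup
import Cfsg.Agent.Lib.Perm.PrimeInverter
import Cfsg.Agent.Lib.Perm.PrimeDegreeSimple
import Cfsg.Agent.Lib.Perm.SolvableCycle
import Cfsg.Agent.S3612
import Mathlib.GroupTheory.GroupAction.MultipleTransitivity
import Mathlib.GroupTheory.Perm.Cycle.Type

/-!
# Groups of even permutations of `p + 1` points over `PSL₂(p)`

Let `X` be a group of even permutations of `p + 1` points, `p > 7`, and `L < X` a copy of `PSL₂(p)`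
acting doubly transitively.

* `half_normalizer`: a point stabiliser is a non-solvable group of degree `p` with a Sylow normaliser
  of order `p (p - 1) / 2`;
* `two_orbit_false`: for `p ≡ 3 mod 4` the stabiliser of three points cannot have two orbits, as the
  resulting rank three graph would be a primitive strongly regular Cayley graph on a dihedral group;
* `four_transitive`.
-/

set_option autoImplicit false
set_option linter.unusedSectionVars false
set_option linter.style.haveILetI false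

namespace Cfsg.Agent.Perm.EvenOvergroup

open Cfsg MulAction

variable {X Ω : Type*} [Group X] [MulAction X Ω] {p : ℕ} [hp : Fact p.Prime]

/-- An element normalising a translation is affine. -/
theorem affine_of_conj [Finite X] (e : ZMod p → Ω) {t g : X} (ht : ∀ x, t • e x = e (x + 1))
    (hg : g * t * g⁻¹ ∈ Subgroup.zpowers t) (he : Function.Surjective e) :
    ∃ a b : ZMod p, ∀ x, g • e x = e (a * x + b) := by
  obtain ⟨k, hk⟩ := ((isOfFinOrder_of_finite t).mem_powers_iff_mem_zpowers).2 hg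
  have hpow : ∀ j : ℕ, ∀ x, t ^ j • e x = e (x + j) := fun j => by
    induction j with
    | zero => simp
    | succ j ih => intro x; rw [pow_succ, mul_smul, ht, ih, Nat.cast_succ]; congr 1; ring
  obtain ⟨b, hb⟩ := he (g • e 0)
  refine ⟨k, b, fun x => ?_⟩
  have hstep : ∀ j : ℕ, g • e (j : ZMod p) = e ((k : ZMod p) * j + b) := by
    intro j
    induction j with
    | zero => simp [hb]
    | succ j ih =>
      rw [Nat.cast_succ, ← ht, ← mul_smul, show g * t = t ^ k * g by
        rw [show t ^ k = g * t * g⁻¹ from hk, inv_mul_cancel_right], mul_smul, ih, hpow]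
      congr 1
      ring
  rw [← ZMod.natCast_zmod_val x]
  exact hstep _

/-- The affine maps normalising the translations have at most `p (p - 1)` elements; if there are that
many, some element is `x ↦ a x` with `a` a generator of the multiplicative group. -/
theorem card_le_or_exists_primitive [Finite X] [FaithfulSMul X Ω] (e : ZMod p ≃ Ω) {t : X}
    (ht : ∀ x, t • e x = e (x + 1)) (N : Subgroup X)
    (hN : ∀ g ∈ N, g * t * g⁻¹ ∈ Subgroup.zpowers t) :
    Nat.card N < p * (p - 1) ∨ (Nat.card N = p * (p - 1) ∧ ∃ g : X, ∃ u : (ZMod p)ˣ,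
      (∀ a : (ZMod p)ˣ, a ∈ Subgroup.zpowers u) ∧ ∀ x, g • e x = e ((u : ZMod p) * x)) := by
  classical
  choose a b hab using fun g : N => affine_of_conj e ht (hN g g.2) e.surjective
  have ha0 : ∀ g : N, a g ≠ 0 := fun g h => by
    have h0 := hab g 0
    have h1 := hab g 1
    rw [h, zero_mul] at h0 h1
    exact zero_ne_one (e.injective (MulAction.injective (g : X) (h0.trans h1.symm)))
  let F : N → (ZMod p)ˣ × ZMod p := fun g => (Units.mk0 (a g) (ha0 g), b g)
  have hF : Function.Injective F := fun g h hgh => by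
    simp only [F, Prod.mk.injEq, Units.mk0_inj] at hgh
    exact Subtype.ext (eq_of_smul_eq_smul fun z : Ω => by
      obtain ⟨x, rfl⟩ := e.surjective z
      rw [hab, hab, hgh.1, hgh.2])
  have hc : Nat.card ((ZMod p)ˣ × ZMod p) = p * (p - 1) := by
    rw [Nat.card_prod, Nat.card_units, Nat.card_zmod, mul_comm]
  have hle := Nat.card_le_card_of_injective F hF
  rw [hc] at hle
  rcases hle.lt_or_eq with h | h
  · exact Or.inl h
  refine Or.inr ⟨h, ?_⟩
  have hbij := (Nat.bijective_iff_injective_and_card F).2 ⟨hF, by rw [h, hc]⟩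
  obtain ⟨u, hu⟩ := IsCyclic.exists_generator (α := (ZMod p)ˣ)
  obtain ⟨g, hg⟩ := hbij.2 (u, 0)
  simp only [F, Prod.mk.injEq] at hg
  refine ⟨g, u, hu, fun x => ?_⟩
  rw [hab, hg.2, add_zero, ← hg.1, Units.val_mk0]

section

variable [Fintype Ω] [DecidableEq Ω]

/-- A permutation fixing two points and acting as a primitive root on the rest is odd. -/
theorem sign_of_primitive (hp2 : p ≠ 2) (hΩ : Fintype.card Ω = p + 1) {g : X} {o : Ω}
    (e : ZMod p → Ω) (he : Function.Injective e) (heo : ∀ x, e x ≠ o) (hgo : g • o = o)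
    {u : (ZMod p)ˣ} (hu : ∀ a : (ZMod p)ˣ, a ∈ Subgroup.zpowers u)
    (hg : ∀ x, g • e x = e ((u : ZMod p) * x)) :
    Equiv.Perm.sign (MulAction.toPerm g : Equiv.Perm Ω) = -1 := by
  classical
  set σ : Equiv.Perm Ω := MulAction.toPerm g
  have hσ : ∀ z, σ z = g • z := fun z => rfl
  have hu1 : (u : ZMod p) ≠ 1 := by
    intro h
    have h1 : u = 1 := Units.ext h
    have h2 : Fintype.card (ZMod p)ˣ ≤ 1 := Fintype.card_le_one_iff.2 fun a b => by
      have ha := hu a
      have hb := hu b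
      rw [h1, Subgroup.zpowers_one_eq_bot, Subgroup.mem_bot] at ha hb
      rw [ha, hb]
    rw [ZMod.card_units] at h2
    have := hp.out.two_le
    omega
  have hcov : ∀ z, z = o ∨ ∃ x, e x = z := by
    have himg : Finset.univ.image e = Finset.univ.erase o := by
      refine Finset.eq_of_subset_of_card_le (fun z hz => ?_) ?_
      · obtain ⟨x, -, rfl⟩ := Finset.mem_image.1 hz
        exact Finset.mem_erase.2 ⟨heo x, Finset.mem_univ _⟩
      · rw [Finset.card_image_of_injective _ he, Finset.card_erase_of_mem (Finset.mem_univ _),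
          Finset.card_univ, Finset.card_univ, hΩ, ZMod.card]
        omega
    intro z
    by_cases h : z = o
    · exact Or.inl h
    · have hz : z ∈ Finset.univ.image e := by rw [himg]; simp [h]
      obtain ⟨x, -, hx⟩ := Finset.mem_image.1 hz
      exact Or.inr ⟨x, hx⟩
  have hsupp : σ.support = (Finset.univ.erase (0 : ZMod p)).image e := by
    ext z
    rw [Equiv.Perm.mem_support, hσ, Finset.mem_image]
    constructor
    · intro hz
      rcases hcov z with rfl | ⟨x, rfl⟩
      · exact absurd hgo hz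
      · refine ⟨x, Finset.mem_erase.2 ⟨fun h => hz ?_, Finset.mem_univ _⟩, rfl⟩
        rw [hg, h, mul_zero]
    · rintro ⟨x, hx, rfl⟩ h
      rw [hg] at h
      have h' : (u : ZMod p) * x = 1 * x := by rw [he h, one_mul]
      exact hu1 (mul_right_cancel₀ (Finset.ne_of_mem_erase hx) h')
  have hpow : ∀ (n : ℕ) x, (σ ^ n) (e x) = e ((u : ZMod p) ^ n * x) := by
    intro n
    induction n with
    | zero => simp
    | succ n ih => intro x; rw [pow_succ', Equiv.Perm.mul_apply, ih, hσ, hg, pow_succ', mul_assoc]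
  have hcyc : σ.IsCycle := by
    refine ⟨e 1, Equiv.Perm.mem_support.1 (hsupp ▸ Finset.mem_image_of_mem e (by simp)), fun z hz => ?_⟩
    have hz' := Equiv.Perm.mem_support.2 hz
    rw [hsupp, Finset.mem_image] at hz'
    obtain ⟨x, hx, rfl⟩ := hz'
    obtain ⟨k, hk⟩ := ((isOfFinOrder_of_finite u).mem_powers_iff_mem_zpowers).2
      (hu (Units.mk0 x (Finset.ne_of_mem_erase hx)))
    refine ⟨(k : ℤ), ?_⟩
    rw [zpow_natCast, hpow, mul_one, ← Units.val_pow_eq_pow_val, show u ^ k = _ from hk, Units.val_mk0]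
  rw [hcyc.sign, hsupp, Finset.card_image_of_injective _ he, Finset.card_erase_of_mem (Finset.mem_univ _),
    Finset.card_univ, ZMod.card, (hp.out.even_sub_one hp2).neg_one_pow]

end

/-- The stabiliser of two points in a doubly transitive `PSL₂(p)` of degree `p + 1`. -/
theorem card_stabilizers {G : Type*} [Group G] [Finite G] [MulAction G Ω] [Fintype Ω]
    (hΩ : Fintype.card Ω = p + 1) (hG : Nonempty (G ≃* Matrix.ProjectiveSpecialLinearGroup (Fin 2) (ZMod p)))
    (hp2 : p ≠ 2) (h2 : IsMultiplyPretransitive G Ω 2) (x : Ω) :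
    2 * Nat.card (stabilizer G x) = p * (p - 1) ∧
      ∀ y, y ≠ x → 2 * Nat.card ↥(stabilizer G x ⊓ stabilizer G y) = p - 1 := by
  classical
  haveI : IsPretransitive G Ω := isPretransitive_of_is_two_pretransitive (G := G) (α := Ω)
  obtain ⟨φ⟩ := hG
  have h2' : (2 : ZMod p) ≠ 0 := fun h => hp2 <| by
    have h' : ((2 : ℕ) : ZMod p) = 0 := by exact_mod_cast h
    have := Nat.le_of_dvd (by norm_num) ((ZMod.natCast_eq_zero_iff 2 p).1 h')
    have := hp.out.two_le
    omega
  have hcard := PSL2.two_mul_card_PSL (F := ZMod p) h2'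
  rw [ZMod.card, ← Nat.card_congr φ.toEquiv] at hcard
  have hst : (p + 1) * Nat.card (stabilizer G x) = Nat.card G := by
    rw [← hΩ, ← Nat.card_eq_fintype_card, ← index_stabilizer_of_transitive G x, Subgroup.index_mul_card]
  have hp1 := hp.out.one_lt
  have h1 : 2 * Nat.card (stabilizer G x) = p * (p - 1) := by
    have hsq : p ^ 2 - 1 = (p + 1) * (p - 1) := by rw [← Nat.sq_sub_sq, one_pow]
    have : (p + 1) * (2 * Nat.card (stabilizer G x)) = (p + 1) * (p * (p - 1)) := by
      rw [mul_left_comm, hst, hcard, hsq]; ring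
    exact Nat.eq_of_mul_eq_mul_left (by omega) this
  refine ⟨h1, fun y hy => ?_⟩
  have horb : orbit (stabilizer G x) y = {x}ᶜ := by
    ext z
    rw [Set.mem_compl_singleton_iff]
    constructor
    · rintro ⟨⟨g, hg⟩, rfl⟩ h
      exact hy (MulAction.injective g (h.trans hg.symm))
    · intro hz
      obtain ⟨g, hg, hgy⟩ := is_two_pretransitive_iff.1 h2 hy.symm hz.symm
      exact ⟨⟨g, hg⟩, hgy⟩
  have hidx := index_stabilizer (G := stabilizer G x) y
  rw [horb] at hidx
  have hc1 : (({x}ᶜ : Set Ω)).ncard = p := by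
    rw [Set.ncard_compl, Nat.card_eq_fintype_card, hΩ, Set.ncard_singleton]; omega
  have hmul := Subgroup.index_mul_card (stabilizer (stabilizer G x) y)
  rw [hidx, hc1] at hmul
  have heq : Nat.card ↥(stabilizer G x ⊓ stabilizer G y) = Nat.card (stabilizer (stabilizer G x) y) :=
    Nat.card_congr
      { toFun := fun g => ⟨⟨g.1, g.2.1⟩, g.2.2⟩
        invFun := fun g => ⟨g.1.1, g.1.2, g.2⟩
        left_inv := fun g => rfl
        right_inv := fun g => rfl }
  rw [heq]
  rw [← hmul] at h1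
  exact Nat.eq_of_mul_eq_mul_left hp.out.pos (by linarith)

variable [Finite X] [FaithfulSMul X Ω] [Fintype Ω] [DecidableEq Ω]

/-- The point stabiliser: half normaliser, not solvable. -/
theorem half_normalizer (hp7 : 7 < p) (hΩ : Fintype.card Ω = p + 1)
    (heven : ∀ x : X, Equiv.Perm.sign (MulAction.toPerm x : Equiv.Perm Ω) = 1)
    (L : Subgroup X) (hL : Nonempty (↥L ≃* Matrix.ProjectiveSpecialLinearGroup (Fin 2) (ZMod p)))
    (hLt : IsMultiplyPretransitive ↥L Ω 2) (hLX : L ≠ ⊤) (o : Ω) (z : SubMulAction.ofStabilizer X o) :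
    ∃ (P : Sylow p (stabilizer X o)) (e : ZMod p ≃ SubMulAction.ofStabilizer X o) (t : stabilizer X o),
      e 0 = z ∧ (∀ x, t • e x = e (x + 1)) ∧
      (∀ g : stabilizer X o, (g : X) ∈ L → g * t * g⁻¹ ∈ Subgroup.zpowers t) ∧
      FaithfulSMul (stabilizer X o) (SubMulAction.ofStabilizer X o) ∧
      ¬ Group.IsSolvable (stabilizer X o) ∧
      2 * Nat.card ↥(Subgroup.normalizer ((P : Subgroup (stabilizer X o)) : Set (stabilizer X o))) =
        p * (p - 1) := by
  classical
  let St := stabilizer X o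
  let Ω' := SubMulAction.ofStabilizer X o
  haveI : Fintype Ω' := Fintype.ofFinite _
  have hcardΩ' : Fintype.card Ω' = p := by
    have h := SubMulAction.nat_card_ofStabilizer_add_one_eq X o
    rw [Nat.card_eq_fintype_card, Nat.card_eq_fintype_card, hΩ] at h
    exact Nat.succ_injective h
  haveI hfaith : FaithfulSMul St Ω' := ⟨fun {g h} hgh => Subtype.ext (eq_of_smul_eq_smul fun a : Ω => by
    by_cases ha : a = o
    · subst ha; exact g.2.trans h.2.symm
    · exact congrArg Subtype.val (hgh ⟨a, ha⟩))⟩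
  haveI hLtr : IsPretransitive L Ω := isPretransitive_of_is_two_pretransitive (G := L) (α := Ω)
  haveI : IsPretransitive St Ω' := ⟨fun a b => by
    obtain ⟨⟨g, hgL⟩, hg0, hg1⟩ :=
      is_two_pretransitive_iff.1 hLt (Ne.symm a.2) (Ne.symm b.2)
    exact ⟨⟨g, hg0⟩, Subtype.ext hg1⟩⟩
  have hp2 : p ≠ 2 := by omega
  set Lo : Subgroup St := L.comap St.subtype
  have hLo : 2 * Nat.card Lo = p * (p - 1) := by
    rw [← (card_stabilizers hΩ hL hp2 hLt o).1]
    congr 1
    exact Nat.card_congr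
      { toFun := fun g => ⟨⟨g.1.1, g.2⟩, g.1.2⟩
        invFun := fun g => ⟨⟨g.1.1, g.2⟩, g.1.2⟩
        left_inv := fun g => rfl
        right_inv := fun g => rfl }
  obtain ⟨m, hm⟩ : ∃ m, p - 1 = 2 * m := ⟨(p - 1) / 2, by
    have := (hp.out.even_sub_one hp2).two_dvd; omega⟩
  have hLom : Nat.card Lo = p * m := by
    rw [hm, mul_left_comm] at hLo
    omega
  obtain ⟨t, ht⟩ := exists_prime_orderOf_dvd_card' (G := Lo) p (hLom ▸ dvd_mul_right p m)
  have ht' : orderOf (t : St) = p := by rw [Subgroup.orderOf_coe]; exact ht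
  let φ : St →* Equiv.Perm Ω' := MulAction.toPermHom St Ω'
  have hφ : Function.Injective φ := MulAction.toPerm_injective
  obtain ⟨e, he0, het⟩ := PrimeDegree.exists_coords hcardΩ' (c := φ t)
    (by rw [orderOf_injective φ hφ, ht']) z
  have hshift : ∀ x, (t : St) • e x = e (x + 1) := het
  -- the Sylow subgroup
  obtain ⟨P, hP⟩ := (IsPGroup.of_card (n := 1) (G := Subgroup.zpowers (t : St))
    (by rw [Nat.card_zpowers, ht', pow_one]) : IsPGroup p (Subgroup.zpowers (t : St))).exists_le_sylow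
  have hPcard : Nat.card P = p := by
    obtain ⟨k, hk⟩ := P.isPGroup'.exists_card_eq
    have h1 : p ∣ Nat.card P :=
      (ht'.symm.trans (Nat.card_zpowers _).symm).dvd.trans (Subgroup.card_dvd_of_le hP)
    have h2 : ¬ p ^ 2 ∣ Nat.card P := fun h => PrimeDegree.not_dvd_card_sq φ.range hp.out hcardΩ' <|
      h.trans ((P : Subgroup St).card_subgroup_dvd_card.trans
        (Nat.card_congr (MonoidHom.ofInjective hφ).toEquiv).dvd)
    rw [hk] at h1 h2 ⊢
    rcases k with _ | _ | k
    · exact absurd (Nat.dvd_one.1 h1) hp.out.ne_one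
    · exact pow_one p
    · exact absurd (pow_dvd_pow p (by omega)) h2
  have hPeq : Subgroup.zpowers (t : St) = P :=
    Subgroup.eq_of_le_of_card_ge hP (by rw [Nat.card_zpowers, ht', hPcard])
  -- the stabiliser in `L` normalises it
  have hnormal : ∀ g ∈ Lo, g * (t : St) * g⁻¹ ∈ Subgroup.zpowers (t : St) := by
    intro g hg
    by_contra hne
    set s : St := g * (t : St) * g⁻¹
    have hs : orderOf s = p := by
      exact (orderOf_injective (MulAut.conj g).toMonoidHom (MulAut.conj g).injective (t : St)).trans ht'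
    have hsL : s ∈ Lo := mul_mem (mul_mem hg t.2) (inv_mem hg)
    let f : Subgroup.zpowers (t : St) × Subgroup.zpowers s → Lo := fun q =>
      ⟨q.1.1 * q.2.1, mul_mem (Subgroup.zpowers_le.2 t.2 q.1.2) (Subgroup.zpowers_le.2 hsL q.2.2)⟩
    have hf : Function.Injective f := by
      rintro ⟨a, b⟩ ⟨a', b'⟩ hab
      have h : (a : St) * b = a' * b' := congrArg Subtype.val hab
      have h' : (a' : St)⁻¹ * a = b' * (b : St)⁻¹ := by
        rw [eq_mul_inv_iff_mul_eq, mul_assoc, h, inv_mul_cancel_left]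
      have hmem : (a' : St)⁻¹ * a ∈ Subgroup.zpowers s := h' ▸ mul_mem b'.2 (inv_mem b.2)
      have h1 : (a' : St)⁻¹ * a = 1 := by
        by_contra hx
        have hx' : (a' : St)⁻¹ * a ∈ Subgroup.zpowers (t : St) := mul_mem (inv_mem a'.2) a.2
        have hgen : Subgroup.zpowers ((a' : St)⁻¹ * a) = Subgroup.zpowers s :=
          Subgroup.eq_of_le_of_card_ge (Subgroup.zpowers_le.2 hmem) (by
            rw [Nat.card_zpowers, Nat.card_zpowers, hs]
            have hdvd : orderOf ((a' : St)⁻¹ * a) ∣ p := hs ▸ (Nat.card_zpowers s ▸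
              Subgroup.orderOf_dvd_natCard _ hmem)
            rcases (Nat.dvd_prime hp.out).1 hdvd with h0 | h0
            · exact absurd (orderOf_eq_one_iff.1 h0) hx
            · omega)
        exact hne (Subgroup.zpowers_le.2 hx' (hgen ▸ Subgroup.mem_zpowers s))
      rw [h1] at h'
      exact Prod.ext (Subtype.ext (inv_mul_eq_one.1 h1).symm)
        (Subtype.ext (mul_inv_eq_one.1 h'.symm).symm)
    have hle := Nat.card_le_card_of_injective f hf
    rw [Nat.card_prod, Nat.card_zpowers, Nat.card_zpowers, ht', hs, hLom] at hle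
    have := Nat.le_of_mul_le_mul_left hle hp.out.pos
    omega
  set N := Subgroup.normalizer ((P : Subgroup St) : Set St)
  have hLN : Lo ≤ N := by
    intro g hg
    refine Subgroup.mem_normalizer_iff.2 fun y => ?_
    have key : ∀ g ∈ Lo, ∀ y ∈ (P : Subgroup St), g * y * g⁻¹ ∈ (P : Subgroup St) := by
      intro g hg y hy
      rw [← hPeq] at hy ⊢
      obtain ⟨i, rfl⟩ := hy
      rw [← conj_zpow]
      exact Subgroup.zpow_mem _ (hnormal g hg) i
    refine ⟨key g hg y, fun h => ?_⟩
    have h' := key _ (inv_mem hg) _ h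
    simpa [mul_assoc] using h'
  have hNconj : ∀ g ∈ N, g * (t : St) * g⁻¹ ∈ Subgroup.zpowers (t : St) := fun g hg => by
    have h := (Subgroup.mem_normalizer_iff.1 hg (t : St)).1 (by rw [← hPeq]; exact Subgroup.mem_zpowers _)
    rwa [← hPeq] at h
  have hN : 2 * Nat.card N = p * (p - 1) := by
    obtain ⟨k, hk⟩ := Subgroup.card_dvd_of_le hLN
    rcases card_le_or_exists_primitive e hshift N hNconj with h | ⟨-, g, u, hu, hg⟩
    · have hk0 : k ≠ 0 := fun h0 => by
        rw [h0, mul_zero] at hk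
        exact absurd hk Nat.card_pos.ne'
      have hk1 : k = 1 := by
        by_contra hk1
        have := Nat.mul_le_mul_left (Nat.card Lo) (show 2 ≤ k by omega)
        rw [← hk] at this
        omega
      rw [hk, hk1, mul_one, hLo]
    · exfalso
      have hsign := sign_of_primitive hp2 hΩ (g := (g : X)) (o := o) (fun x => (e x : Ω))
        (Subtype.val_injective.comp e.injective) (fun x => (e x).2) g.2 hu
        (fun x => congrArg Subtype.val (hg x))
      rw [heven] at hsign
      exact absurd hsign (by decide)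
  refine ⟨P, e, t, he0, hshift, fun g hg => hnormal g hg, hfaith, fun hsol => hLX ?_, hN⟩
  haveI := hsol
  haveI : Nonempty Ω' := ⟨z⟩
  have hprime : (Nat.card Ω').Prime := by rw [Nat.card_eq_fintype_card, hcardΩ']; exact hp.out
  haveI : IsPreprimitive St Ω' := IsPreprimitive.of_prime_card hprime
  obtain ⟨E, hEn, -, -, -, -, hEc⟩ := SolvableCycle.exists_regular_elementary (p := p) (K := St)
    (Ω := Ω') (i := 1) le_rfl (by rw [Nat.card_eq_fintype_card, hcardΩ', pow_one])
  rw [pow_one] at hEc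
  obtain ⟨Q, hQ⟩ := (IsPGroup.of_card (n := 1) (G := E) (by rw [hEc, pow_one]) : IsPGroup p E).exists_le_sylow
  obtain ⟨g, hg⟩ := exists_smul_eq St Q P
  have hEP : (P : Subgroup St) = E := by
    refine (Subgroup.eq_of_le_of_card_ge ?_ (by rw [hEc, hPcard])).symm
    intro x hx
    rw [← hg, Sylow.coe_subgroup_smul, Subgroup.mem_pointwise_smul_iff_inv_smul_mem]
    exact hQ (by simpa using hEn.conj_mem x hx g⁻¹)
  have htop : N = ⊤ := by
    haveI : (P : Subgroup St).Normal := hEP ▸ hEn
    exact Subgroup.normalizer_eq_top _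
  have hLotop : Lo = ⊤ := Subgroup.eq_top_of_card_eq _ (by
    have h : Nat.card St = Nat.card N := by rw [htop, Subgroup.card_top]
    omega)
  refine eq_top_of_stabilizer_le L o fun g hg => ?_
  have : (⟨g, hg⟩ : St) ∈ Lo := hLotop ▸ Subgroup.mem_top _
  exact this

/-- For `p ≡ 3 mod 4` the stabiliser of three points does not have two orbits. -/
theorem two_orbit_false (hp7 : 7 < p) (hp4 : p % 4 = 3) (hΩ : Fintype.card Ω = p + 1)
    (L : Subgroup X) (hL : Nonempty (↥L ≃* Matrix.ProjectiveSpecialLinearGroup (Fin 2) (ZMod p)))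
    (hLt : IsMultiplyPretransitive ↥L Ω 2) (o : Ω) (z : SubMulAction.ofStabilizer X o)
    (e : ZMod p ≃ SubMulAction.ofStabilizer X o) (t : stabilizer X o) (he0 : e 0 = z)
    (ht : ∀ x, t • e x = e (x + 1))
    (htL : ∀ g : stabilizer X o, (g : X) ∈ L → g * t * g⁻¹ ∈ Subgroup.zpowers t)
    (h2 : ∀ {a b c d : SubMulAction.ofStabilizer X o}, a ≠ b → c ≠ d →
      ∃ g : stabilizer X o, g • a = c ∧ g • b = d)
    (h4 : ∀ α β : SubMulAction.ofStabilizer X o, α ≠ β → Nat.card (orbitRel.Quotient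
      ↥(stabilizer (stabilizer X o) α ⊓ stabilizer (stabilizer X o) β) (SubMulAction.ofStabilizer X o)) = 4)
    (hprim : IsPreprimitive ↥(stabilizer (stabilizer X o) z)
      ↥(SubMulAction.ofStabilizer (stabilizer X o) z)) : False := by
  classical
  have hp2 : p ≠ 2 := by omega
  obtain ⟨m, hpm⟩ : ∃ m, p = 2 * m + 1 := ⟨p / 2, by omega⟩
  have hmodd : Odd m := by rw [Nat.odd_iff]; omega
  haveI : NeZero m := ⟨by omega⟩
  have hzo : (z : Ω) ≠ o := z.2
  haveI : IsPretransitive L Ω := isPretransitive_of_is_two_pretransitive (G := L) (α := Ω)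
  -- two-point stabilisers in `L` have odd order
  have hfix2 : ∀ g ∈ L, g * g = 1 → ∀ a b : Ω, a ≠ b → g • a = a → g • b = b → g = 1 := by
    intro g hgL hgg a b hab ha hb
    have h := (card_stabilizers hΩ hL hp2 hLt a).2 b hab.symm
    have hmem : (⟨g, hgL⟩ : L) ∈ stabilizer L a ⊓ stabilizer L b := ⟨ha, hb⟩
    have h1 : orderOf (⟨g, hgL⟩ : L) ∣ m := by
      have := Subgroup.orderOf_dvd_natCard _ hmem
      rwa [show Nat.card ↥(stabilizer L a ⊓ stabilizer L b) = m by omega] at this
    have h2' : orderOf (⟨g, hgL⟩ : L) ∣ 2 :=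
      orderOf_dvd_of_pow_eq_one (Subtype.ext (by rw [sq]; exact hgg))
    have h3 : orderOf (⟨g, hgL⟩ : L) = 1 :=
      Nat.eq_one_of_dvd_coprimes hmodd.coprime_two_left h2' h1
    exact congrArg Subtype.val (orderOf_eq_one_iff.1 h3)
  -- the cyclic group
  let C : Subgroup X :=
    { carrier := {g | g ∈ L ∧ g • o = o ∧ g • (z : Ω) = z}
      one_mem' := ⟨L.one_mem, one_smul _ _, one_smul _ _⟩
      mul_mem' := fun {g h} hg hh => ⟨L.mul_mem hg.1 hh.1, by rw [mul_smul, hh.2.1, hg.2.1],
        by rw [mul_smul, hh.2.2, hg.2.2]⟩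
      inv_mem' := fun {g} hg => ⟨L.inv_mem hg.1, by rw [inv_smul_eq_iff, hg.2.1],
        by rw [inv_smul_eq_iff, hg.2.2]⟩ }
  have hCcard : Nat.card C = m := by
    have h := (card_stabilizers hΩ hL hp2 hLt o).2 (z : Ω) hzo
    have heq : Nat.card C = Nat.card ↥(stabilizer L o ⊓ stabilizer L (z : Ω)) := Nat.card_congr
      { toFun := fun g => ⟨⟨g.1, g.2.1⟩, g.2.2.1, g.2.2.2⟩
        invFun := fun g => ⟨g.1.1, g.1.2, g.2.1, g.2.2⟩
        left_inv := fun g => rfl
        right_inv := fun g => rfl }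
    omega
  have hmult : ∀ g : C, ∃ k : ZMod p, ∀ x, (⟨g.1, g.2.2.1⟩ : stabilizer X o) • e x = e (k * x) := by
    intro g
    obtain ⟨a, b, hab⟩ := affine_of_conj e ht (htL ⟨g.1, g.2.2.1⟩ g.2.1) e.surjective
    refine ⟨a, fun x => ?_⟩
    have hb := hab 0
    rw [he0, mul_zero, zero_add, show (⟨g.1, g.2.2.1⟩ : stabilizer X o) • z = z from Subtype.ext g.2.2.2,
      ← he0] at hb
    rw [hab, ← e.injective hb, add_zero]
  choose mult hmult using hmult
  have hmult1 : ∀ g : C, mult g = 1 → g = 1 := fun g hg => Subtype.ext (eq_of_smul_eq_smul fun a : Ω => by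
    by_cases ha : a = o
    · rw [ha, g.2.2.1]; exact (one_smul _ _).symm
    · obtain ⟨x, hx⟩ := e.surjective ⟨a, ha⟩
      have h := hmult g x
      rw [hg, one_mul, hx] at h
      exact (congrArg Subtype.val h).trans (one_smul X a).symm)
  have hmult_val : ∀ g : C, mult g = e.symm ((⟨g.1, g.2.2.1⟩ : stabilizer X o) • e 1) := fun g => by
    rw [hmult, mul_one, Equiv.symm_apply_apply]
  let μh : C →* ZMod p :=
    { toFun := mult
      map_one' := by
        rw [hmult_val, show (⟨(1 : C).1, (1 : C).2.2.1⟩ : stabilizer X o) = 1 from rfl, one_smul,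
          Equiv.symm_apply_apply]
      map_mul' := fun g h => by
        rw [hmult_val (g * h), show (⟨(g * h).1, (g * h).2.2.1⟩ : stabilizer X o) =
          ⟨g.1, g.2.2.1⟩ * ⟨h.1, h.2.2.1⟩ from rfl, mul_smul, hmult h, hmult g, mul_one,
          Equiv.symm_apply_apply] }
  haveI : IsCyclic C := isCyclic_of_injective μh.toHomUnits ((injective_iff_map_eq_one _).2 fun g hg =>
    hmult1 g (congrArg Units.val hg))
  obtain ⟨⟨c, hc⟩, hcgen⟩ := IsCyclic.exists_generator (α := C)
  have hcm : orderOf c = m := by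
    rw [show c = ((⟨c, hc⟩ : C) : X) from rfl, Subgroup.orderOf_coe, ← hCcard]
    exact orderOf_eq_card_of_forall_mem_zpowers hcgen
  have hfree : ∀ g ∈ C, ∀ v : Ω, v ≠ o → v ≠ z → g • v = v → g = 1 := by
    intro g hg v hvo hvz hgv
    obtain ⟨x, hx⟩ := e.surjective ⟨v, hvo⟩
    have h := hmult ⟨g, hg⟩ x
    rw [show (⟨g, hg.2.1⟩ : stabilizer X o) • e x = e x by rw [hx]; exact Subtype.ext hgv,
      e.injective.eq_iff] at h
    have hx0 : x ≠ 0 := fun h0 => hvz (by rw [h0, he0] at hx; exact (congrArg Subtype.val hx).symm)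
    have := hmult1 ⟨g, hg⟩ (mul_right_cancel₀ hx0 (by rw [one_mul]; exact h.symm))
    exact congrArg Subtype.val this
  -- the involution
  obtain ⟨⟨w₀, hw₀L⟩, hw₀o, hw₀z⟩ := is_two_pretransitive_iff.1 hLt hzo.symm hzo
  have hw₀o' : w₀ • o = (z : Ω) := hw₀o
  have hw₀z' : w₀ • (z : Ω) = o := hw₀z
  have hw₀C : w₀ * w₀ ∈ C :=
    ⟨L.mul_mem hw₀L hw₀L, by rw [mul_smul, hw₀o', hw₀z'], by rw [mul_smul, hw₀z', hw₀o']⟩
  set w := w₀ ^ m
  have hwL : w ∈ L := L.pow_mem hw₀L m
  have hwo : w • o = (z : Ω) ∧ w • (z : Ω) = o := by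
    obtain ⟨i, hi⟩ := hmodd
    have hi' : w = (w₀ * w₀) ^ i * w₀ := by
      show w₀ ^ m = _
      rw [hi, pow_succ, pow_mul, sq]
    have hmem := pow_mem hw₀C i
    exact ⟨by rw [hi', mul_smul, hw₀o', hmem.2.2], by rw [hi', mul_smul, hw₀z', hmem.2.1]⟩
  have hww : w * w = 1 := by
    have h : (w₀ * w₀) ^ m = 1 := by
      have := pow_card_eq_one' (x := (⟨_, hw₀C⟩ : C))
      rw [hCcard] at this
      exact congrArg Subtype.val this
    rw [← h]
    simp only [w, ← pow_two, ← pow_mul]
    rw [mul_comm]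
  have hw1 : w ≠ 1 := fun h => hzo (by rw [← hwo.1, h, one_smul])
  have hwinv : w⁻¹ = w := inv_eq_of_mul_eq_one_right hww
  have hwwv : ∀ v : Ω, w • w • v = v := fun v => by rw [← mul_smul, hww, one_smul]
  -- `w` inverts `c`
  have hcomm : ∀ g ∈ C, ∀ h ∈ C, g * h = h * g := fun g hg h hh => by
    letI := IsCyclic.commGroup (α := C)
    exact congrArg Subtype.val (mul_comm (⟨g, hg⟩ : C) ⟨h, hh⟩)
  have hwC : ∀ g ∈ C, w * g * w ∈ C := fun g hg =>
    ⟨L.mul_mem (L.mul_mem hwL hg.1) hwL,
      by rw [mul_smul, mul_smul, hwo.1, hg.2.2, hwo.2],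
      by rw [mul_smul, mul_smul, hwo.2, hg.2.1, hwo.1]⟩
  have hwc : w * c * w = c⁻¹ := by
    obtain ⟨φ⟩ := hL
    set y := c * (w * c * w) with hy
    have hyC : y ∈ C := mul_mem hc (hwC c hc)
    have hwy : w * y = y * w := by
      have h : w * y * w = y := by
        calc w * y * w = (w * c * w) * (c * (w * w)) := by rw [hy]; group
          _ = (w * c * w) * c := by rw [hww, mul_one]
          _ = y := hcomm _ (hwC c hc) _ hc
      calc w * y = w * y * (w * w) := by rw [hww, mul_one]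
        _ = (w * y * w) * w := by group
        _ = y * w := by rw [h]
    have hym : y ^ m = 1 := by
      have := pow_card_eq_one' (x := (⟨_, hyC⟩ : C))
      rw [hCcard] at this
      exact congrArg Subtype.val this
    have key := eq_one_of_commute_involution (p := p) hp4 (w := φ ⟨w, hwL⟩) (y := φ ⟨y, hyC.1⟩)
      (by rw [← map_mul, show (⟨w, hwL⟩ : L) * ⟨w, hwL⟩ = 1 from Subtype.ext hww, map_one])
      (fun h => hw1 (congrArg Subtype.val ((map_eq_one_iff φ φ.injective).1 h)))
      (by rw [← map_pow, show (⟨y, hyC.1⟩ : L) ^ ((p - 1) / 2) = 1 from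
        Subtype.ext (by rw [SubmonoidClass.coe_pow, show (p - 1) / 2 = m by omega]; exact hym), map_one])
      (by rw [← map_mul, ← map_mul]; exact congrArg φ (Subtype.ext hwy))
    exact eq_inv_of_mul_eq_one_right (congrArg Subtype.val ((map_eq_one_iff φ φ.injective).1 key))
  -- the other points
  let V := {v : Ω // v ≠ o ∧ v ≠ z}
  haveI : Fintype V := Fintype.ofFinite V
  have hVcard : Nat.card V = 2 * m := by
    have h : ({v : Ω | v ≠ o ∧ v ≠ z} : Set Ω) = ({o, (z : Ω)} : Set Ω)ᶜ := by ext; simp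
    rw [show Nat.card V = ({v : Ω | v ≠ o ∧ v ≠ z} : Set Ω).ncard from Nat.card_coe_set_eq _, h, Set.ncard_compl, Set.ncard_pair hzo.symm,
      Nat.card_eq_fintype_card, hΩ]
    omega
  obtain ⟨u⟩ : Nonempty V := (Nat.card_pos_iff.1 (by rw [hVcard]; omega)).1
  let K₀ : X → Prop := fun g => g • o = o ∧ g • (z : Ω) = z
  have hK₀inv : ∀ {g}, K₀ g → K₀ g⁻¹ := fun h =>
    ⟨by rw [inv_smul_eq_iff, h.1], by rw [inv_smul_eq_iff, h.2]⟩
  have hK₀mul : ∀ {g h}, K₀ g → K₀ h → K₀ (g * h) := fun hg hh =>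
    ⟨by rw [mul_smul, hh.1, hg.1], by rw [mul_smul, hh.2, hg.2]⟩
  let mv : ∀ g : X, K₀ g → V ≃ V := fun g hg =>
    (MulAction.toPerm g : Equiv.Perm Ω).subtypeEquiv fun v => by
      simp only [MulAction.toPerm_apply]
      constructor
      · exact fun h => ⟨fun e' => h.1 (MulAction.injective g (e'.trans hg.1.symm)),
          fun e' => h.2 (MulAction.injective g (e'.trans hg.2.symm))⟩
      · exact fun h => ⟨fun e' => h.1 (by rw [e', hg.1]), fun e' => h.2 (by rw [e', hg.2])⟩
  have hmv : ∀ g hg (v : V), ((mv g hg v : V) : Ω) = g • (v : Ω) := fun g hg v => rfl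
  let wv : V ≃ V := (MulAction.toPerm w : Equiv.Perm Ω).subtypeEquiv fun v => by
    simp only [MulAction.toPerm_apply]
    constructor
    · exact fun h => ⟨fun e' => h.2 (MulAction.injective w (e'.trans hwo.2.symm)),
        fun e' => h.1 (MulAction.injective w (e'.trans hwo.1.symm))⟩
    · exact fun h => ⟨fun e' => h.2 (by rw [e', hwo.1]), fun e' => h.1 (by rw [e', hwo.2])⟩
  have hwv : ∀ v : V, ((wv v : V) : Ω) = w • (v : Ω) := fun v => rfl
  have htrans : ∀ x : V, ∃ g, ∃ hg : K₀ g, mv g hg u = x := by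
    intro x
    obtain ⟨g, hg1, hg2⟩ := h2 (a := z) (b := (⟨u.1, u.2.1⟩ : SubMulAction.ofStabilizer X o))
      (c := z) (d := (⟨x.1, x.2.1⟩ : SubMulAction.ofStabilizer X o))
      (fun h => u.2.2 (congrArg Subtype.val h).symm) (fun h => x.2.2 (congrArg Subtype.val h).symm)
    have hK : K₀ g.1 := ⟨g.2, congrArg Subtype.val hg1⟩
    refine ⟨g.1, hK, Subtype.ext ((hmv g.1 hK u).trans ?_)⟩
    exact congrArg (fun a : SubMulAction.ofStabilizer X o => (a : Ω)) hg2
  -- the two orbits
  set u' : SubMulAction.ofStabilizer X o := ⟨u.1, u.2.1⟩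
  have hzu : z ≠ u' := fun h => u.2.2 (congrArg Subtype.val h).symm
  set S := stabilizer (stabilizer X o) z ⊓ stabilizer (stabilizer X o) u'
  let Qt := orbitRel.Quotient S (SubMulAction.ofStabilizer X o)
  haveI : Fintype Qt := Fintype.ofFinite Qt
  let mk : SubMulAction.ofStabilizer X o → Qt := Quotient.mk _
  have hsing : ∀ a, (a = z ∨ a = u') → ∀ x, mk x = mk a → x = a := by
    intro a ha x h
    obtain ⟨⟨s, hs⟩, hsx⟩ := Quotient.exact h
    have hsx' : s • a = x := hsx
    rcases ha with rfl | rfl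
    · rw [← hsx']; exact hs.1
    · rw [← hsx']; exact hs.2
  have hzu' : mk z ≠ mk u' := fun h => hzu (hsing u' (Or.inr rfl) z h)
  obtain ⟨q₁, q₂, hq, hqs⟩ := Finset.card_eq_two.1
    (show (((Finset.univ : Finset Qt).erase (mk z)).erase (mk u')).card = 2 by
      rw [Finset.card_erase_of_mem (Finset.mem_erase.2 ⟨hzu'.symm, Finset.mem_univ _⟩),
        Finset.card_erase_of_mem (Finset.mem_univ _), Finset.card_univ, ← Nat.card_eq_fintype_card,
        h4 z u' hzu])
  let cl : V → Qt := fun x => mk ⟨x.1, x.2.1⟩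
  have hcl : ∀ x : V, x ≠ u → cl x = q₁ ∨ cl x = q₂ := by
    intro x hx
    have hmem : cl x ∈ ((Finset.univ : Finset Qt).erase (mk z)).erase (mk u') := by
      simp only [Finset.mem_erase, Finset.mem_univ, and_true]
      exact ⟨fun h => hx (Subtype.ext (by
          have := congrArg (fun a : SubMulAction.ofStabilizer X o => (a : Ω)) (hsing u' (Or.inr rfl) _ h)
          exact this)),
        fun h => x.2.2 (congrArg (fun a : SubMulAction.ofStabilizer X o => (a : Ω)) (hsing z (Or.inl rfl) _ h))⟩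
    rw [hqs] at hmem
    simpa using hmem
  have hclu : ∀ q, (q = q₁ ∨ q = q₂) → cl u ≠ q := by
    intro q hq' h
    have hmem : q ∈ ((Finset.univ : Finset Qt).erase (mk z)).erase (mk u') := by
      rw [hqs]; simpa using hq'
    exact (Finset.ne_of_mem_erase hmem) h.symm
  have hclne : ∀ q, (q = q₁ ∨ q = q₂) → ∃ x : V, cl x = q := by
    intro q hq'
    have hmem : q ∈ ((Finset.univ : Finset Qt).erase (mk z)).erase (mk u') := by
      rw [hqs]; simpa using hq'
    obtain ⟨x, rfl⟩ := Quotient.mk_surjective q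
    simp only [Finset.mem_erase, Finset.mem_univ, and_true] at hmem
    exact ⟨⟨x.1, x.2, fun h => hmem.2 (congrArg mk (Subtype.ext h : x = z))⟩, rfl⟩
  have hcl_inv : ∀ g hg, mv g hg u = u → ∀ x : V, cl (mv g hg x) = cl x := fun g hg hgu x => by
    have h1 : g • (u : Ω) = (u : Ω) := (hmv g hg u).symm.trans (congrArg (fun a : V => (a : Ω)) hgu)
    exact Quotient.sound ⟨⟨⟨g, hg.1⟩, Subtype.ext hg.2, Subtype.ext h1⟩, Subtype.ext rfl⟩
  have hcl_trans : ∀ x y : V, cl x = cl y → ∃ g, ∃ hg : K₀ g, mv g hg u = u ∧ mv g hg y = x := by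
    intro x y h
    obtain ⟨⟨s, hs⟩, hsx⟩ := Quotient.exact h
    have hsx' : s • (⟨y.1, y.2.1⟩ : SubMulAction.ofStabilizer X o) = ⟨x.1, x.2.1⟩ := hsx
    have hsu : s • u' = u' := hs.2
    have hsz : s • z = z := hs.1
    have hK : K₀ s.1 := ⟨s.2, congrArg Subtype.val hsz⟩
    refine ⟨s.1, hK, Subtype.ext ((hmv s.1 hK u).trans ?_), Subtype.ext ((hmv s.1 hK y).trans ?_)⟩
    · exact congrArg (fun a : SubMulAction.ofStabilizer X o => (a : Ω)) hsu
    · exact congrArg (fun a : SubMulAction.ofStabilizer X o => (a : Ω)) hsx'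
  -- the graph
  let R : V → V → Prop := fun x y => ∃ g, ∃ hg : K₀ g, mv g hg u = x ∧ cl ((mv g hg).symm y) = q₁
  have hmvmul : ∀ g h (hg : K₀ g) (hh : K₀ h) (v : V),
      mv (g * h) (hK₀mul hg hh) v = mv g hg (mv h hh v) := fun g h hg hh v =>
    Subtype.ext (mul_smul g h (v : Ω))
  have hmvsymm : ∀ g (hg : K₀ g) (v : V), (mv g hg).symm v = mv g⁻¹ (hK₀inv hg) v := fun g hg v =>
    Subtype.ext rfl
  have hR : ∀ g hg x y, mv g hg u = x → (R x y ↔ cl ((mv g hg).symm y) = q₁) := by
    intro g hg x y hx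
    constructor
    · rintro ⟨h, hh, hhx, hcl'⟩
      have hfix : mv (h⁻¹ * g) (hK₀mul (hK₀inv hh) hg) u = u := by
        rw [hmvmul _ _ (hK₀inv hh) hg, hx, ← hhx, ← hmvsymm _ hh, Equiv.symm_apply_apply]
      have h' := hcl_inv (h⁻¹ * g) (hK₀mul (hK₀inv hh) hg) hfix ((mv g hg).symm y)
      rw [hmvmul _ _ (hK₀inv hh) hg, Equiv.apply_symm_apply, ← hmvsymm _ hh, hcl'] at h'
      exact h'.symm
    · exact fun h => ⟨g, hg, hx, h⟩
  have hR₀ : ∀ y, R u y ↔ cl y = q₁ := fun y => by
    have h1 : mv 1 (⟨one_smul _ _, one_smul _ _⟩ : K₀ 1) u = u := Subtype.ext (one_smul X (u : Ω))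
    rw [hR 1 ⟨one_smul _ _, one_smul _ _⟩ u y h1]
    have h2' : (mv 1 (⟨one_smul _ _, one_smul _ _⟩ : K₀ 1)).symm y = y := by
      rw [Equiv.symm_apply_eq]; exact Subtype.ext (one_smul X (y : Ω)).symm
    rw [h2']
  have hRinv : ∀ g hg x y, R (mv g hg x) (mv g hg y) ↔ R x y := by
    intro g hg x y
    obtain ⟨h, hh, hx⟩ := htrans x
    rw [hR h hh x y hx, hR (g * h) (hK₀mul hg hh) _ _ (by rw [hmvmul g h hg hh, hx])]
    have h3 : (mv (g * h) (hK₀mul hg hh)).symm (mv g hg y) = (mv h hh).symm y := by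
      rw [Equiv.symm_apply_eq, hmvmul g h hg hh, Equiv.apply_symm_apply]
    rw [h3]
  have hirr : ∀ x, ¬ R x x := by
    intro x hxx
    obtain ⟨g, hg, hx⟩ := htrans x
    rw [hR g hg x x hx] at hxx
    nth_rewrite 1 [← hx] at hxx
    rw [Equiv.symm_apply_apply] at hxx
    exact hclu q₁ (Or.inl rfl) hxx
  -- rows
  have hrow : ∀ (T : V → V → Prop), (∀ g hg x y, T (mv g hg x) (mv g hg y) ↔ T x y) →
      ∀ x, {y | T x y}.ncard = {y | T u y}.ncard := by
    intro T hT x
    obtain ⟨g, hg, hx⟩ := htrans x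
    rw [← Set.ncard_image_of_injective {y | T u y} (mv g hg).injective]
    congr 1
    ext y
    simp only [Set.mem_image, Set.mem_setOf_eq]
    constructor
    · intro hy
      refine ⟨(mv g hg).symm y, ?_, Equiv.apply_symm_apply _ _⟩
      rwa [← hT g hg, Equiv.apply_symm_apply, hx]
    · rintro ⟨v, hv, rfl⟩
      rwa [← hx, hT g hg]
  set k := {y : V | R u y}.ncard
  set k₂ := {y : V | cl y = q₂}.ncard
  have hkk : k + k₂ + 1 = 2 * m := by
    have h1 : ({y : V | R u y} ∪ {y : V | cl y = q₂}) = {u}ᶜ := by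
      ext y
      simp only [Set.mem_union, Set.mem_setOf_eq, hR₀, Set.mem_compl_singleton_iff]
      exact ⟨fun h hyu => hclu (cl y) h (hyu ▸ rfl), hcl y⟩
    have hd : Disjoint {y : V | R u y} {y : V | cl y = q₂} := Set.disjoint_left.2 fun y hy hy' =>
      hq (((hR₀ y).1 hy).symm.trans hy')
    have h := Set.ncard_union_eq hd
    rw [h1, Set.ncard_compl, Set.ncard_singleton, hVcard] at h
    have : 1 ≤ 2 * m := by omega
    omega
  have hkpos : 0 < k := by
    obtain ⟨x, hx⟩ := hclne q₁ (Or.inl rfl)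
    exact (Set.ncard_pos (Set.toFinite _)).2 ⟨x, (hR₀ x).2 hx⟩
  have hk₂pos : 0 < k₂ := by
    obtain ⟨x, hx⟩ := hclne q₂ (Or.inr rfl)
    exact (Set.ncard_pos (Set.toFinite _)).2 ⟨x, hx⟩
  -- an invariant relation with the same number of pairs is the same
  have huniq : ∀ (T : V → V → Prop), (∀ g hg x y, T (mv g hg x) (mv g hg y) ↔ T x y) → (∀ x, ¬ T x x) →
      {q : V × V | T q.1 q.2}.ncard = {q : V × V | R q.1 q.2}.ncard → ∀ x y, T x y ↔ R x y := by
    intro T hT hTirr hcount
    have hpairs : ∀ (T : V → V → Prop), (∀ g hg x y, T (mv g hg x) (mv g hg y) ↔ T x y) →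
        {q : V × V | T q.1 q.2}.ncard = Nat.card V * {y | T u y}.ncard := by
      intro T hT
      rw [← Nat.card_coe_set_eq]
      let f : {q : V × V | T q.1 q.2} ≃ Σ x : V, {y | T x y} :=
        { toFun := fun q => ⟨q.1.1, q.1.2, q.2⟩
          invFun := fun q => ⟨(q.1, q.2.1), q.2.2⟩
          left_inv := fun q => rfl
          right_inv := fun q => rfl }
      rw [Nat.card_congr f, Nat.card_sigma,
        Finset.sum_congr rfl fun x _ => (Nat.card_coe_set_eq _).trans (hrow T hT x), Finset.sum_const,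
        Finset.card_univ, smul_eq_mul, ← Nat.card_eq_fintype_card]
    rw [hpairs T hT, hpairs R hRinv, mul_eq_mul_left_iff] at hcount
    have hcount' : {y | T u y}.ncard = k := hcount.resolve_right (by rw [hVcard]; omega)
    have hTcl : ∀ x y, cl x = cl y → T u y → T u x := by
      intro x y h hy
      obtain ⟨g, hg, hgu, hgy⟩ := hcl_trans x y h
      rw [← hgu, ← hgy, hT g hg]; exact hy
    have hTu : ∀ y, T u y ↔ R u y := by
      have hsub : {y | T u y} = {y | R u y} := by
        by_cases h1 : ∃ y, T u y ∧ cl y = q₁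
        · obtain ⟨y₁, hy₁, hc₁⟩ := h1
          refine (Set.eq_of_subset_of_ncard_le (fun x hx => ?_) (le_of_eq hcount') (Set.toFinite _)).symm
          exact hTcl x y₁ (((hR₀ x).1 hx).trans hc₁.symm) hy₁
        · push Not at h1
          exfalso
          have hsub2 : {y | T u y} ⊆ {y | cl y = q₂} := fun y hy =>
            (hcl y (fun h => hTirr u (h ▸ hy))).resolve_left (h1 y hy)
          obtain ⟨y, hy⟩ := (Set.ncard_pos (Set.toFinite _)).1 (hcount' ▸ hkpos)
          have hsub3 : {y | cl y = q₂} ⊆ {y | T u y} := fun x hx =>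
            hTcl x y ((hx : cl x = q₂).trans (hsub2 hy).symm) hy
          rw [Set.Subset.antisymm hsub2 hsub3] at hcount'
          omega
      exact fun y => Set.ext_iff.1 hsub y
    intro x y
    obtain ⟨g, hg, hx⟩ := htrans x
    rw [← hx, ← (mv g hg).apply_symm_apply y, hT g hg, hRinv g hg, hTu]
  have hsym : ∀ x y, R x y → R y x := by
    have h := huniq (fun x y => R y x) (fun g hg x y => hRinv g hg y x) hirr
      (by
        rw [← Set.ncard_image_of_injective {q : V × V | R q.2 q.1} Prod.swap_injective]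
        congr 1
        ext ⟨x, y⟩
        simp)
    exact fun x y hxy => (h y x).1 hxy
  have hconj : ∀ g, K₀ g → K₀ (w * g * w) := fun g hg =>
    ⟨by rw [mul_smul, mul_smul, hwo.1, hg.2, hwo.2], by rw [mul_smul, mul_smul, hwo.2, hg.1, hwo.1]⟩
  have hRw : ∀ x y, R (wv x) (wv y) ↔ R x y := by
    refine huniq (fun x y => R (wv x) (wv y)) (fun g hg x y => ?_) (fun x => hirr _) ?_
    · have hwg : ∀ v, wv (mv g hg v) = mv (w * g * w) (hconj g hg) (wv v) := fun v => Subtype.ext (by
        simp only [hwv, hmv, ← mul_smul]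
        rw [mul_assoc (w * g), hww, mul_one])
      rw [hwg, hwg, hRinv _ (hconj g hg)]
    · rw [← Set.ncard_image_of_injective {q : V × V | R (wv q.1) (wv q.2)}
        (wv.injective.prodMap wv.injective)]
      congr 1
      ext ⟨x, y⟩
      simp only [Set.mem_image, Set.mem_setOf_eq, Prod.exists, Prod.map, Prod.mk.injEq]
      exact ⟨fun ⟨a, b, h, ha, hb⟩ => ha ▸ hb ▸ h, fun h => ⟨wv.symm x, wv.symm y,
        by rwa [Equiv.apply_symm_apply, Equiv.apply_symm_apply], Equiv.apply_symm_apply _ _,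
        Equiv.apply_symm_apply _ _⟩⟩
  -- common neighbours
  let cn : V → V → ℕ := fun x y => {v | R x v ∧ R y v}.ncard
  have hcn : ∀ g hg x y, cn (mv g hg x) (mv g hg y) = cn x y := by
    intro g hg x y
    simp only [cn]
    rw [← Set.ncard_image_of_injective {v | R x v ∧ R y v} (mv g hg).injective]
    congr 1
    ext v
    simp only [Set.mem_image, Set.mem_setOf_eq]
    constructor
    · intro hv
      refine ⟨(mv g hg).symm v, ?_, Equiv.apply_symm_apply _ _⟩
      rwa [← hRinv g hg x, ← hRinv g hg y, Equiv.apply_symm_apply]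
    · rintro ⟨v, hv, rfl⟩
      rwa [hRinv g hg, hRinv g hg]
  obtain ⟨y₁, hy₁⟩ := hclne q₁ (Or.inl rfl)
  obtain ⟨y₂, hy₂⟩ := hclne q₂ (Or.inr rfl)
  have hlμ : ∀ x y, x ≠ y → (R x y → cn x y = cn u y₁) ∧ (¬ R x y → cn x y = cn u y₂) := by
    intro x y hxy
    obtain ⟨g, hg, hx⟩ := htrans x
    have hne : (mv g hg).symm y ≠ u := fun h => hxy (by rw [← hx, ← h, Equiv.apply_symm_apply])
    have hval : ∀ q v, cl v = q → cl ((mv g hg).symm y) = q → cn x y = cn u v := by
      intro q v hv hy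
      obtain ⟨h, hh, hhu, hhv⟩ := hcl_trans ((mv g hg).symm y) v (hy.trans hv.symm)
      conv_lhs => rw [← hx, ← (mv g hg).apply_symm_apply y, hcn g hg, ← hhu, ← hhv, hcn h hh]
    refine ⟨fun hr => hval q₁ y₁ hy₁ ((hR g hg x y hx).1 hr), fun hr => hval q₂ y₂ hy₂ ?_⟩
    exact (hcl _ hne).resolve_left fun h => hr ((hR g hg x y hx).2 h)
  -- primitivity
  have hequiv : ∀ E : V → V → Prop, (∀ g hg x y, E x y → E (mv g hg x) (mv g hg y)) →
      (∀ x, E x x) → (∀ x y, E x y → E y x) → (∀ x y v, E x y → E y v → E x v) →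
      (∀ y, E u y → y = u) ∨ (∀ y, E u y) := by
    intro E hE hrefl hsymE htr
    let toV : SubMulAction.ofStabilizer (stabilizer X o) z → V := fun v =>
      ⟨(v.1 : Ω), v.1.2, fun h => v.2 (Subtype.ext h)⟩
    let B : Set (SubMulAction.ofStabilizer (stabilizer X o) z) := {v | E u (toV v)}
    have hB : IsBlock ↥(stabilizer (stabilizer X o) z) B := by
      rw [isBlock_iff_smul_eq_or_disjoint]
      intro g
      have hg : K₀ (g : stabilizer X o).1 := ⟨(g : stabilizer X o).2, congrArg Subtype.val g.2⟩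
      have htv : ∀ v, toV (g • v) = mv _ hg (toV v) := fun v => Subtype.ext rfl
      refine or_iff_not_imp_right.2 fun hnd => ?_
      obtain ⟨_, ⟨v, hv, rfl⟩, hv'⟩ := Set.not_disjoint_iff.1 hnd
      have hu : E u (mv _ hg u) := by
        have h1 : E (mv _ hg u) (toV (g • v)) := by rw [htv]; exact hE _ hg _ _ hv
        exact htr _ _ _ hv' (hsymE _ _ h1)
      ext x
      rw [Set.mem_smul_set_iff_inv_smul_mem]
      have hx : toV x = mv _ hg (toV (g⁻¹ • x)) := by rw [← htv, smul_inv_smul]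
      constructor
      · intro h
        show E u (toV x)
        rw [hx]
        exact htr _ _ _ hu (hE _ hg _ _ h)
      · intro h
        have h' : E (mv _ hg u) (toV x) := htr _ _ _ (hsymE _ _ hu) h
        rw [hx] at h'
        have := hE _ (hK₀inv hg) _ _ h'
        rwa [← hmvsymm _ hg, ← hmvsymm _ hg, Equiv.symm_apply_apply, Equiv.symm_apply_apply] at this
    let fromV : V → SubMulAction.ofStabilizer (stabilizer X o) z := fun v =>
      ⟨⟨v.1, v.2.1⟩, fun h => v.2.2 (congrArg Subtype.val h)⟩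
    have hmem : ∀ y, fromV y ∈ B ↔ E u y := fun y => Iff.rfl
    rcases hprim.isTrivialBlock_of_isBlock hB with h | h
    · exact Or.inl fun y hy => Subtype.ext
        (congrArg (fun a : SubMulAction.ofStabilizer (stabilizer X o) z => ((a.1 : SubMulAction.ofStabilizer X o) : Ω))
          (h ((hmem y).2 hy) ((hmem u).2 (hrefl u))))
    · exact Or.inr fun y => (hmem y).1 (h ▸ Set.mem_univ _)
  have hμ : cn u y₂ ≠ 0 := by
    intro h0
    have htr : ∀ x y v, R x y → R y v → x ≠ v → R x v := by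
      intro x y v hxy hyv hxv
      by_contra hno
      have h := (hlμ x v hxv).2 hno
      rw [h0] at h
      have : y ∈ {b | R x b ∧ R v b} := ⟨hxy, hsym _ _ hyv⟩
      rw [(Set.ncard_eq_zero (Set.toFinite _)).1 h] at this
      exact this
    rcases hequiv (fun x y => x = y ∨ R x y)
      (fun g hg x y h => h.imp (congrArg _) (hRinv g hg x y).2) (fun x => Or.inl rfl)
      (fun x y h => h.imp Eq.symm (hsym x y))
      (fun x y v h h' => by
        rcases h with rfl | h
        · exact h'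
        rcases h' with rfl | h'
        · exact Or.inr h
        exact (em (x = v)).imp id (htr x y v h h')) with h | h
    · have h1 := (hR₀ y₁).2 hy₁
      exact hirr u (by have := h y₁ (Or.inr h1); rwa [this] at h1)
    · rcases h y₂ with h' | h'
      · exact hclu q₂ (Or.inr rfl) (h' ▸ hy₂)
      · exact hq (((hR₀ y₂).1 h').symm.trans hy₂)
  have hμ' : ∃ x y, R x y ∧ ∃ v, ¬ R x v ∧ ¬ R y v := by
    by_contra hno
    push Not at hno
    rcases hequiv (fun x y => ¬ R x y)
      (fun g hg x y h h' => h ((hRinv g hg x y).1 h')) hirr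
      (fun x y h h' => h (hsym _ _ h'))
      (fun x y v h h' hxv => h' (hsym _ _ (hno x v hxv y h))) with h | h
    · have h2' : ¬ R u y₂ := fun h' => hq (((hR₀ y₂).1 h').symm.trans hy₂)
      exact hclu q₂ (Or.inr rfl) (h y₂ h2' ▸ hy₂)
    · exact h y₁ ((hR₀ y₁).2 hy₁)
  -- coordinates on the other points
  let cp : ZMod m → X := fun i => c ^ i.val
  have hcpadd : ∀ i j, cp (i + j) = cp i * cp j := fun i j => by
    simp only [cp, ← pow_add]
    rw [pow_eq_pow_iff_modEq, hcm, ZMod.val_add]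
    exact Nat.mod_modEq _ _
  have hcp0 : cp 0 = 1 := by simp [cp]
  have hcpC : ∀ i, cp i ∈ C := fun i => pow_mem hc _
  have hcpK : ∀ i, K₀ (cp i) := fun i => (hcpC i).2
  have hcpneg : ∀ i, w * cp i * w = cp (-i) := fun i => by
    have h1 : w * cp i * w = (cp i)⁻¹ := by
      have h := conj_pow (a := w) (b := c) (i := i.val)
      rw [hwinv, hwc, inv_pow] at h
      exact h.symm
    rw [h1]
    refine inv_eq_of_mul_eq_one_right ?_
    rw [← hcpadd, add_neg_cancel, hcp0]
  have hwcp : ∀ i, w * cp i = cp (-i) * w := fun i => by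
    rw [← hcpneg i, mul_assoc (w * cp i), hww, mul_one]
  have hcpinj : ∀ i j, cp i • (u : Ω) = cp j • (u : Ω) → i = j := by
    intro i j h
    have h1 : cp (-j + i) = 1 := by
      refine hfree _ (hcpC _) _ u.2.1 u.2.2 ?_
      rw [hcpadd, mul_smul, h, ← mul_smul, ← hcpadd, neg_add_cancel, hcp0, one_smul]
    have h2' : c ^ (-j + i).val = 1 := h1
    rw [← orderOf_dvd_iff_pow_eq_one, hcm] at h2'
    have h3 := Nat.eq_zero_of_dvd_of_lt h2' (ZMod.val_lt _)
    rw [ZMod.val_eq_zero] at h3
    linear_combination h3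
  have hcross : ∀ i, w • (u : Ω) ≠ cp i • (u : Ω) := by
    intro i h
    obtain ⟨j, hj⟩ : ∃ j : ZMod m, j + j = i := by
      obtain ⟨r, hr⟩ := hmodd
      refine ⟨((r + 1 : ℕ) : ZMod m) * i, ?_⟩
      rw [← add_mul, ← Nat.cast_add, show r + 1 + (r + 1) = m + 1 by omega, Nat.cast_add,
        ZMod.natCast_self, zero_add, Nat.cast_one, one_mul]
    -- `v` is fixed by `w`
    set v := cp j • (u : Ω)
    have hv : w • v = v := by
      show w • cp j • (u : Ω) = cp j • (u : Ω)
      rw [← mul_smul, hwcp, mul_smul, h, ← mul_smul, ← hcpadd, ← hj]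
      congr 2
      ring
    have hfix : ∀ x : Ω, w • x = x → x = v := fun x hx => by
      by_contra hxv
      exact hw1 (hfix2 w hwL hww x v hxv hx hv)
    let σ : Equiv.Perm Ω := MulAction.toPerm w
    have hσ : σ ^ 2 = 1 := Equiv.ext fun x => by
      rw [sq, Equiv.Perm.mul_apply]; exact hwwv x
    have hsupp : σ.support = Finset.univ.erase v := by
      ext x
      simp only [Equiv.Perm.mem_support, Finset.mem_erase, Finset.mem_univ, and_true]
      exact ⟨fun hx e' => hx (e' ▸ hv), fun hx e' => hx (hfix x e')⟩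
    have hev := Equiv.Perm.two_dvd_card_support hσ
    rw [hsupp, Finset.card_erase_of_mem (Finset.mem_univ _), Finset.card_univ, hΩ] at hev
    omega
  let ιf : ZMod m × Bool → V := fun q =>
    if q.2 then wv (mv _ (hcpK q.1) u) else mv _ (hcpK q.1) u
  have hιf : ∀ i, ((ιf (i, false) : V) : Ω) = cp i • (u : Ω) := fun i => rfl
  have hιt : ∀ i, ((ιf (i, true) : V) : Ω) = w • cp i • (u : Ω) := fun i => rfl
  have hιmix : ∀ i j, ιf (i, false) ≠ ιf (j, true) := by
    intro i j h
    have h' := congrArg Subtype.val h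
    rw [hιf, hιt, ← mul_smul, hwcp, mul_smul] at h'
    refine hcross (j + i) ?_
    have h'' := congrArg (fun x => cp j • x) h'
    simp only [← mul_smul, ← mul_assoc, ← hcpadd, add_neg_cancel, hcp0, one_mul] at h''
    exact h''.symm
  have hinj : Function.Injective ιf := by
    rintro ⟨i, b⟩ ⟨j, b'⟩ h
    cases b <;> cases b'
    · have h' := congrArg Subtype.val h; rw [hιf, hιf] at h'; rw [hcpinj i j h']
    · exact absurd h (hιmix i j)
    · exact absurd h.symm (hιmix j i)
    · have h' := congrArg Subtype.val h; rw [hιt, hιt] at h'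
      rw [hcpinj i j (MulAction.injective w h')]
  let ι : ZMod m × Bool ≃ V := Equiv.ofBijective ιf ((Nat.bijective_iff_injective_and_card ιf).2
    ⟨hinj, by rw [Nat.card_prod, Nat.card_zmod, hVcard, Nat.card_eq_fintype_card (α := Bool),
      Fintype.card_bool, mul_comm]⟩)
  have hιe : ∀ q, ι q = ιf q := fun q => rfl
  have hshiftf : ∀ i j, mv _ (hcpK i) (ιf (j, false)) = ιf (i + j, false) := fun i j => Subtype.ext (by
    rw [hmv _ (hcpK i), hιf, hιf, ← mul_smul, ← hcpadd])
  have hshiftt : ∀ i j, mv _ (hcpK i) (ιf (j, true)) = ιf (-i + j, true) := fun i j => Subtype.ext (by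
    rw [hmv _ (hcpK i), hιt, hιt, ← mul_smul, ← mul_smul, ← mul_smul, hcpadd, ← mul_assoc w, hwcp, neg_neg])
  have hιwt : ∀ i, ιf (i, true) = wv (ιf (i, false)) := fun i => rfl
  have hff : ∀ i j, R (ι (i, false)) (ι (j, false)) ↔ R (ι (0, false)) (ι (j - i, false)) := by
    intro i j
    simp only [hιe]
    rw [← hRinv (cp (-i)) (hcpK _), hshiftf, hshiftf, neg_add_cancel, neg_add_eq_sub]
  refine false_of_relation hmodd ι R hsym hirr hff ?_ ?_ k (cn u y₁) (cn u y₂)
    (fun x => hrow R hRinv x) hlμ hμ hμ'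
  · intro i j
    rw [← hff]
    simp only [hιe, hιwt, hRw]
  · intro i j
    simp only [hιe]
    rw [← hRinv (cp (-i)) (hcpK _), hshiftf, hshiftt, neg_add_cancel, neg_neg]

/-- A proper overgroup of even permutations of a doubly transitive `PSL₂(p)` is 4-transitive. -/
theorem four_transitive (hp7 : 7 < p) (hΩ : Fintype.card Ω = p + 1)
    (heven : ∀ x : X, Equiv.Perm.sign (MulAction.toPerm x : Equiv.Perm Ω) = 1)
    (L : Subgroup X) (hL : Nonempty (↥L ≃* Matrix.ProjectiveSpecialLinearGroup (Fin 2) (ZMod p)))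
    (hLt : IsMultiplyPretransitive ↥L Ω 2) (hLX : L ≠ ⊤) :
    IsMultiplyPretransitive X Ω 4 := by
  classical
  obtain ⟨o⟩ : Nonempty Ω := Fintype.card_pos_iff.1 (by omega)
  haveI : IsPretransitive L Ω := isPretransitive_of_is_two_pretransitive (G := L) (α := Ω)
  haveI : IsPretransitive X Ω := ⟨fun a b => by
    obtain ⟨⟨g, hgL⟩, hg⟩ := exists_smul_eq L a b
    exact ⟨g, hg⟩⟩
  refine (SubMulAction.ofStabilizer.isMultiplyPretransitive (a := o)).2 ?_
  haveI : Fintype (SubMulAction.ofStabilizer X o) := Fintype.ofFinite _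
  have hcard : Fintype.card (SubMulAction.ofStabilizer X o) = p := by
    have h := SubMulAction.nat_card_ofStabilizer_add_one_eq X o
    rw [Nat.card_eq_fintype_card, Nat.card_eq_fintype_card, hΩ] at h
    exact Nat.succ_injective h
  obtain ⟨z⟩ : Nonempty (SubMulAction.ofStabilizer X o) := Fintype.card_pos_iff.1 (by omega)
  obtain ⟨P, e, t, he0, ht, htL, hfaith, hins, hN⟩ := half_normalizer hp7 hΩ heven L hL hLt hLX o z
  haveI := hfaith
  have htrans : IsPretransitive (stabilizer X o) (SubMulAction.ofStabilizer X o) := ⟨fun a b => by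
    obtain ⟨⟨g, hgL⟩, hg0, hg1⟩ := is_two_pretransitive_iff.1 hLt (Ne.symm a.2) (Ne.symm b.2)
    exact ⟨⟨g, hg0⟩, Subtype.ext hg1⟩⟩
  have hp2 : p ≠ 2 := by omega
  have hodd : p % 2 = 1 := hp.out.eq_two_or_odd.resolve_left hp2
  by_cases hp4 : p % 4 = 3
  swap
  · refine PrimeInverter.three_transitive hcard htrans hins P ?_
    obtain ⟨k, hk⟩ : ∃ k, p - 1 = 4 * k := ⟨(p - 1) / 4, by omega⟩
    refine ⟨p * k, ?_⟩
    rw [hk] at hN
    linarith
  obtain ⟨e', -, hC⟩ := HalfNormalizer.exists_coord hcard htrans hins P hN z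
  refine (HalfNormalizer.three_or_card_eq_four hC).resolve_right fun h4 => ?_
  exact two_orbit_false hp7 hp4 hΩ L hL hLt o z e t he0 ht htL hC.two h4
    (S3612.result p hp.out (Nat.card_eq_fintype_card.trans hcard) htrans hins P hN hp7 z)

end Cfsg.Agent.Perm.EvenOvergroup
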