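import Cfsg.Agent.Lib.Perm.DihedralSrg
import Cfsg.Agent.Lib.PSL2.Basic
import Mathlib.Algebra.CharP.Lemmas

/-!
# Auxiliary facts for the overgroups of `PSL₂(p)` of degree `p + 1`

* `eq_one_of_commute_involution`: for `p ≡ 3 mod 4` an involution of `PSL₂(p)` centralises no
  non-trivial element of order dividing `(p - 1) / 2`;
* `false_of_relation`: a graph form of `DihedralSrg.Sys.false`.
-/

set_option autoImplicit false
set_option linter.unusedSectionVars false
set_option linter.style.haveILetI false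

namespace Cfsg.Agent.Perm.EvenOvergroup

open scoped MatrixGroups
open Matrix

open Cfsg.Agent.PSL2 in
/-- An involution of `PSL₂(p)`, `p ≡ 3 mod 4`, centralises no element of order dividing `(p-1)/2`. -/
theorem eq_one_of_commute_involution {p : ℕ} [hp : Fact p.Prime] (h4 : p % 4 = 3)
    {w y : Matrix.ProjectiveSpecialLinearGroup (Fin 2) (ZMod p)} (hw2 : w * w = 1) (hw : w ≠ 1)
    (hy : y ^ ((p - 1) / 2) = 1) (hc : w * y = y * w) : y = 1 := by
  obtain ⟨W, rfl⟩ := mk_surjective w
  obtain ⟨Y, rfl⟩ := mk_surjective y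
  have h2 : (2 : ZMod p) ≠ 0 := fun h => by
    have := Nat.le_of_dvd (by norm_num) ((ZMod.natCast_eq_zero_iff 2 p).1 (by exact_mod_cast h))
    omega
  have hW : W * W = -1 := by
    rw [← map_mul, mk_eq_one] at hw2
    refine hw2.resolve_left fun h => hw (mk_eq_one.2 ?_)
    exact eq_pm_of_mul_self_eq_one h2 h
  have hodd : Odd ((p - 1) / 2) := by rw [Nat.odd_iff]; omega
  obtain ⟨Y', hYY, hY'⟩ : ∃ Y' : SL(2, ZMod p), mk Y' = mk Y ∧ Y' ^ ((p - 1) / 2) = 1 := by
    rw [← map_pow, mk_eq_one] at hy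
    rcases hy with h | h
    · exact ⟨Y, rfl, h⟩
    · exact ⟨-Y, mk_neg Y, by rw [hodd.neg_pow, h, neg_neg]⟩
  rw [← hYY] at hc ⊢
  clear hy hYY Y
  rename' Y' => Y
  rw [← map_mul, ← map_mul, mk_eq_mk] at hc
  have hcomm : W * Y = Y * W := by
    refine hc.resolve_right fun h => ?_
    have hconj : W * Y * W⁻¹ = -Y := by rw [h, neg_mul, mul_inv_cancel_right]
    have := conj_pow (a := W) (b := Y) (i := (p - 1) / 2)
    rw [hconj, hY', mul_one, mul_inv_cancel, hodd.neg_pow, hY'] at this
    exact neg_one_ne_one h2 this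
  -- entries of `W`
  have e00 : W 0 0 * W 0 0 + W 0 1 * W 1 0 = -1 := by
    have h := congrArg (fun g : SL(2, ZMod p) => g 0 0) hW
    simpa [mul00] using h
  have e10 : W 1 0 * W 0 0 + W 1 1 * W 1 0 = 0 := by
    have h := congrArg (fun g : SL(2, ZMod p) => g 1 0) hW
    simpa [mul10] using h
  have hs : W 1 0 ≠ 0 := fun h => by
    rw [h, mul_zero, add_zero] at e00
    exact ZMod.mod_four_ne_three_of_sq_eq_neg_one (show W 0 0 ^ 2 = -1 by rw [sq]; exact e00) h4
  have h11 : W 1 1 = -W 0 0 := by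
    refine mul_left_cancel₀ hs ?_
    linear_combination e10
  have c00 : W 0 1 * Y 1 0 = Y 0 1 * W 1 0 := by
    have h := congrArg (fun g : SL(2, ZMod p) => g 0 0) hcomm
    simp only [mul00] at h
    linear_combination h
  have c10 : W 1 0 * Y 0 0 + W 1 1 * Y 1 0 = Y 1 0 * W 0 0 + Y 1 1 * W 1 0 := by
    have h := congrArg (fun g : SL(2, ZMod p) => g 1 0) hcomm
    simpa only [mul10] using h
  set b := Y 1 0 / W 1 0 with hb
  set a := Y 0 0 - b * W 0 0 with ha
  have hbs : b * W 1 0 = Y 1 0 := div_mul_cancel₀ _ hs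
  have hdec : (Y : Matrix (Fin 2) (Fin 2) (ZMod p)) = a • (1 : Matrix (Fin 2) (Fin 2) (ZMod p)) + b • (W : Matrix (Fin 2) (Fin 2) (ZMod p)) := by
    ext i j
    fin_cases i <;> fin_cases j <;> simp [Matrix.add_apply, ha]
    · exact mul_left_cancel₀ hs (by linear_combination -c00 + -W 0 1 * hbs)
    · exact hbs.symm
    · rw [h11] at c10 ⊢
      exact mul_left_cancel₀ hs (by linear_combination -c10 + (2 * W 0 0) * hbs)
  have hW4 : (W : Matrix (Fin 2) (Fin 2) (ZMod p)) ^ 4 = 1 := by
    have h : W ^ 4 = 1 := by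
      rw [pow_succ, pow_succ, pow_two, mul_assoc (W * W), hW, neg_one_mul, neg_neg]
    simpa using congrArg (fun g : SL(2, ZMod p) => (g : Matrix (Fin 2) (Fin 2) (ZMod p))) h
  have hWp : (W : Matrix (Fin 2) (Fin 2) (ZMod p)) ^ p = -(W : Matrix (Fin 2) (Fin 2) (ZMod p)) := by
    have h2' : (W : Matrix (Fin 2) (Fin 2) (ZMod p)) ^ 2 = -1 := by
      have h : W ^ 2 = -1 := by rw [sq, hW]
      simpa using congrArg (fun g : SL(2, ZMod p) => (g : Matrix (Fin 2) (Fin 2) (ZMod p))) h
    refine (congrArg (fun n => (W : Matrix (Fin 2) (Fin 2) (ZMod p)) ^ n) (show p = 4 * (p / 4) + 3 by omega)).trans ?_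
    simp only [pow_add, pow_mul, hW4, one_pow, one_mul]
    rw [pow_succ, h2', neg_one_mul]
  have hYp : (Y : Matrix (Fin 2) (Fin 2) (ZMod p)) ^ p = (Y : Matrix (Fin 2) (Fin 2) (ZMod p)) := by
    have h : Y ^ p = Y := by
      refine (congrArg (fun n => Y ^ n) (show p = (p - 1) / 2 * 2 + 1 by omega)).trans ?_
      simp only [pow_succ, pow_mul, hY', one_pow, one_mul]
    simpa using congrArg (fun g : SL(2, ZMod p) => (g : Matrix (Fin 2) (Fin 2) (ZMod p))) h
  rw [hdec] at hYp
  haveI : CharP (Matrix (Fin 2) (Fin 2) (ZMod p)) p := inferInstance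
  rw [add_pow_char_of_commute _ (((Commute.one_left (W : Matrix (Fin 2) (Fin 2) (ZMod p))).smul_left a).smul_right b), smul_pow,
    smul_pow, one_pow, ZMod.pow_card, ZMod.pow_card, hWp, add_right_inj] at hYp
  have hb0 : b = 0 := by
    have h := congrFun (congrFun hYp 1) 0
    simp only [Matrix.smul_apply, Matrix.neg_apply, smul_eq_mul] at h
    exact (mul_eq_zero.1 ((mul_eq_zero.1 (show (2 : ZMod p) * (b * W 1 0) = 0 by
      linear_combination -h)).resolve_left h2)).resolve_right hs
  have hdet := det_eq Y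
  have hYe : ∀ i j, Y i j = (a • (1 : Matrix (Fin 2) (Fin 2) (ZMod p))) i j := fun i j => by
    have h := congrFun (congrFun hdec i) j
    rw [hb0, zero_smul, add_zero] at h
    exact h
  simp only [hYe, Matrix.smul_apply, Matrix.one_apply, smul_eq_mul] at hdet
  norm_num at hdet
  rw [mk_eq_one]
  rcases mul_self_eq_one_iff.1 hdet with h | h <;> [left; right] <;>
    apply ext2 <;> rw [hYe] <;> simp [Matrix.one_apply, h]

/-- There is no primitive strongly regular graph on a regular dihedral group of twice odd order. -/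
theorem false_of_relation {V : Type*} [Fintype V] {m : ℕ} [NeZero m] (hm : Odd m)
    (ι : ZMod m × Bool ≃ V) (R : V → V → Prop) (hsym : ∀ x y, R x y → R y x) (hirr : ∀ x, ¬ R x x)
    (hff : ∀ i j, R (ι (i, false)) (ι (j, false)) ↔ R (ι (0, false)) (ι (j - i, false)))
    (htt : ∀ i j, R (ι (i, true)) (ι (j, true)) ↔ R (ι (0, false)) (ι (j - i, false)))
    (hft : ∀ i j, R (ι (i, false)) (ι (j, true)) ↔ R (ι (0, false)) (ι (i + j, true)))
    (k l μ : ℕ) (hk : ∀ x, {z | R x z}.ncard = k)
    (hlμ : ∀ x y, x ≠ y → (R x y → {z | R x z ∧ R y z}.ncard = l) ∧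
      (¬ R x y → {z | R x z ∧ R y z}.ncard = μ))
    (hμ : μ ≠ 0) (hμ' : ∃ x y, R x y ∧ ∃ z, ¬ R x z ∧ ¬ R y z) : False := by
  classical
  set a : ZMod m → ℤ := fun x => if R (ι (0, false)) (ι (x, false)) then 1 else 0
  set b : ZMod m → ℤ := fun x => if R (ι (0, false)) (ι (x, true)) then 1 else 0
  have hasym : ∀ x, a (-x) = a x := fun x => by
    have h : R (ι (0, false)) (ι (-x, false)) ↔ R (ι (0, false)) (ι (x, false)) := by
      rw [show -x = 0 - x from (zero_sub x).symm, ← hff x 0]
      exact ⟨hsym _ _, hsym _ _⟩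
    simp only [a, h]
  have hvff : ∀ i j, (if R (ι (i, false)) (ι (j, false)) then (1 : ℤ) else 0) = a (j - i) :=
    fun i j => by simp only [a, hff i j]
  have hvtt : ∀ i j, (if R (ι (i, true)) (ι (j, true)) then (1 : ℤ) else 0) = a (j - i) :=
    fun i j => by simp only [a, htt i j]
  have hvft : ∀ i j, (if R (ι (i, false)) (ι (j, true)) then (1 : ℤ) else 0) = b (i + j) :=
    fun i j => by simp only [b, hft i j]
  have hvtf : ∀ i j, (if R (ι (i, true)) (ι (j, false)) then (1 : ℤ) else 0) = b (i + j) := fun i j => by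
    have h : R (ι (i, true)) (ι (j, false)) ↔ R (ι (0, false)) (ι (i + j, true)) := by
      rw [add_comm, ← hft]; exact ⟨hsym _ _, hsym _ _⟩
    simp only [b, h]
  have hcount : ∀ (S : V → Prop), (({z | S z}.ncard : ℕ) : ℤ) =
      ∑ y, (if S (ι (y, false)) then (1 : ℤ) else 0) + ∑ y, (if S (ι (y, true)) then 1 else 0) := by
    intro S
    rw [Set.ncard_eq_toFinset_card', Set.toFinset_setOf, Finset.card_filter, Nat.cast_sum,
      ← Equiv.sum_comp ι, Fintype.sum_prod_type]
    simp only [Fintype.sum_bool, Nat.cast_ite, Nat.cast_one, Nat.cast_zero, Finset.sum_add_distrib]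
    ring
  have hmul : ∀ P Q : Prop, ∀ [Decidable P] [Decidable Q] [Decidable (P ∧ Q)],
      (if P ∧ Q then (1 : ℤ) else 0) = (if P then 1 else 0) * (if Q then 1 else 0) := by
    intro P Q _ _ _
    by_cases hP : P <;> by_cases hQ : Q <;> simp [hP, hQ]
  have hkab : ∑ x, a x + ∑ x, b x = (k : ℤ) := by
    rw [← hk (ι (0, false)), hcount]
  have hcom : ∀ v, (({z | R (ι (0, false)) z ∧ R v z}.ncard : ℕ) : ℤ) =
      if v = ι (0, false) then (k : ℤ) else (μ : ℤ) + ((l : ℤ) - μ) * if R (ι (0, false)) v then 1 else 0 := by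
    intro v
    split_ifs with h h'
    · subst h; simp [hk]
    · rw [((hlμ _ _ (Ne.symm h)).1 h')]; ring
    · rw [((hlμ _ _ (Ne.symm h)).2 h')]; ring
  have S : DihedralSrg.Sys a b (k : ℤ) (μ : ℤ) ((l : ℤ) - μ) := by
    refine ⟨fun x => ?_, fun x => ?_, ?_, hkab, fun x => ?_, fun x => ?_, by exact_mod_cast hμ, ?_⟩
    · simp only [a]; split_ifs <;> simp
    · simp only [b]; split_ifs <;> simp
    · simp [a, hirr]
    · have h := hcom (ι (x, false))
      rw [hcount] at h
      simp only [hmul, hvff, hvft, sub_zero, zero_add, ι.injective.eq_iff, Prod.mk.injEq, and_true] at h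
      have e1 : ∑ y, a y * a (y - x) = ∑ y, a y * a (x - y) :=
        Finset.sum_congr rfl fun y _ => by rw [← hasym (y - x), neg_sub]
      have e2 : ∑ y, b y * b (x + y) = ∑ y, b y * b (y - x) := by
        rw [← Equiv.sum_comp (Equiv.subRight x) (fun y => b y * b (x + y))]
        simp only [Equiv.subRight_apply, add_sub_cancel]
        exact Finset.sum_congr rfl fun y _ => mul_comm _ _
      rw [e1, e2] at h
      rw [h]
      by_cases hx : x = 0
      · subst hx; simp [a, hirr]
      · simp [hx]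
    · have h := hcom (ι (x, true))
      rw [hcount] at h
      simp only [hmul, hvff, hvft, hvtt, hvtf, sub_zero, zero_add, ι.injective.eq_iff, Prod.mk.injEq,
        Bool.true_eq_false, and_false, if_false] at h
      have e1 : ∑ y, a y * b (x + y) = ∑ y, a y * b (x - y) := by
        rw [← Equiv.sum_comp (Equiv.neg (ZMod m))]
        simp only [Equiv.neg_apply, hasym, ← sub_eq_add_neg]
      have e2 : ∑ y, b y * a (y - x) = ∑ y, a y * b (x - y) := by
        rw [← Equiv.sum_comp (Equiv.subLeft x)]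
        simp only [Equiv.subLeft_apply, sub_sub_cancel_left, hasym]
        exact Finset.sum_congr rfl fun y _ => mul_comm _ _
      rw [e1, e2] at h
      linarith
    · obtain ⟨x, y, hxy, z, hzx, hzy⟩ := hμ'
      have hne : x ≠ y := fun h => hirr y (h ▸ hxy)
      have hcardV : Nat.card V = 2 * m := by
        rw [← Nat.card_congr ι, Nat.card_prod, Nat.card_zmod, Nat.card_eq_fintype_card (α := Bool),
          Fintype.card_bool, mul_comm]
      have h1 := Set.ncard_union_add_ncard_inter {z | R x z} {z | R y z}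
      rw [show {z | R x z} ∩ {z | R y z} = {z | R x z ∧ R y z} from rfl, (hlμ x y hne).1 hxy,
        hk, hk] at h1
      have h2 : ({z | R x z} ∪ {z | R y z}).ncard < Nat.card V := by
        rw [← Set.ncard_univ]
        refine Set.ncard_lt_ncard ⟨Set.subset_univ _, fun h => ?_⟩ (Set.toFinite _)
        rcases h (Set.mem_univ z) with h' | h'
        · exact hzx h'
        · exact hzy h'
      omega
  exact S.false hm

end Cfsg.Agent.Perm.EvenOvergroup
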