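import Cfsg.Agent.Lib.Perm.Transitive

/-!
# Transitive extensions

If `G` is generated in double cosets by one element `s` over a subgroup `H` in such a way that
`s H s ⊆ H ∪ H s H`, then `H ∪ H s H` is a group.
-/

namespace Cfsg.Agent.Perm

variable {G : Type*} [Group G]

/-- `H ∪ H s H` as a subgroup, under the closure condition `s H s ⊆ H ∪ H s H`. -/
theorem closure_insert_eq_union (H : Subgroup G) (s : G) (hs2 : s * s ∈ H)
    (hclosed : ∀ x ∈ H, s * x * s ∈ H ∨ ∃ a ∈ H, ∃ b ∈ H, s * x * s = a * s * b) {g : G}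
    (hg : g ∈ Subgroup.closure ((H : Set G) ∪ {s})) :
    g ∈ H ∨ ∃ a ∈ H, ∃ b ∈ H, g = a * s * b := by
  let U : Subgroup G :=
    { carrier := {g | g ∈ H ∨ ∃ a ∈ H, ∃ b ∈ H, g = a * s * b}
      one_mem' := Or.inl H.one_mem
      mul_mem' := by
        rintro u v (hu | ⟨a, ha, b, hb, rfl⟩) (hv | ⟨c, hc, d, hd, rfl⟩)
        · exact Or.inl (H.mul_mem hu hv)
        · exact Or.inr ⟨u * c, H.mul_mem hu hc, d, hd, by group⟩
        · exact Or.inr ⟨a, ha, b * v, H.mul_mem hb hv, by group⟩
        · rcases hclosed (b * c) (H.mul_mem hb hc) with h | ⟨e, he, f, hf, h⟩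
          · refine Or.inl ?_
            have := H.mul_mem (H.mul_mem ha h) hd
            rwa [show a * s * b * (c * s * d) = a * (s * (b * c) * s) * d by group]
          · refine Or.inr ⟨a * e, H.mul_mem ha he, f * d, H.mul_mem hf hd, ?_⟩
            rw [show a * s * b * (c * s * d) = a * (s * (b * c) * s) * d by group, h]
            group
      inv_mem' := by
        rintro u (hu | ⟨a, ha, b, hb, rfl⟩)
        · exact Or.inl (H.inv_mem hu)
        · exact Or.inr ⟨b⁻¹ * (s * s)⁻¹, H.mul_mem (H.inv_mem hb) (H.inv_mem hs2), a⁻¹,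
            H.inv_mem ha, by group⟩ }
  refine (Subgroup.closure_le U).2 ?_ hg
  rintro x (hx | rfl)
  · exact Or.inl hx
  · exact Or.inr ⟨1, H.one_mem, 1, H.one_mem, by group⟩

end Cfsg.Agent.Perm
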