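import Cfsg.Agent.Lib.Perm.OddThree
import Cfsg.Agent.Lib.Perm.Zassenhaus

/-!
# 4-transitive groups of odd degree whose four-point stabilisers have odd order

Two commuting involutions `z₁ = (a b)…`, `z₂ = (c e)…` fix a common fifth point `x`. Brauer's
formula shows that a centraliser of `z₁` in the stabiliser `H` of `a, b, c, e` fixes a sixth
point, hence everything, so the centraliser of `z₁` fixing `a` has order at most 6 and is
transitive on `n - 5` points.
-/

set_option autoImplicit false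

namespace Cfsg.Agent.Perm

open MulAction Finset

/-- Two involutions give one commuting with the first in their dihedral group. -/
theorem exists_commuting_involution {G : Type*} [Group G] {y s : G} (hy : y * y = 1)
    (hs : s * s = 1) (hodd : Odd (orderOf (s * (y * s * y)))) :
    ∃ j : ℕ, ((s * (y * s * y)) ^ j * s) * ((s * (y * s * y)) ^ j * s) = 1 ∧
      y * ((s * (y * s * y)) ^ j * s) = (s * (y * s * y)) ^ j * s * y := by
  obtain ⟨j, hj⟩ := hodd
  refine ⟨j, ?_⟩
  set s' := y * s * y with hs'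
  set w := s * s' with hw
  have hyi : y⁻¹ = y := inv_eq_of_mul_eq_one_right hy
  have hsi : s⁻¹ = s := inv_eq_of_mul_eq_one_right hs
  have hyw : y * w * y⁻¹ = w⁻¹ := by
    rw [hw, hs', hyi, mul_inv_rev, mul_inv_rev, mul_inv_rev, hyi, hsi]
    calc y * (s * (y * s * y)) * y = y * s * y * s * (y * y) := by group
      _ = y * (s * y) * s := by rw [hy, mul_one]; group
  have hsw : s * w * s⁻¹ = w⁻¹ := by
    rw [hw, mul_inv_rev, hs', mul_inv_rev, mul_inv_rev, hyi, hsi]
    calc s * (s * (y * s * y)) * s = (s * s) * (y * s * y * s) := by group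
      _ = y * (s * y) * s := by rw [hs, one_mul]; group
  constructor
  · have := conj_pow (i := j) (a := s) (b := w)
    rw [hsw, inv_pow] at this
    calc w ^ j * s * (w ^ j * s) = w ^ j * (s * w ^ j * s⁻¹) * (s * s) := by group
      _ = 1 := by rw [← this, hs, mul_one, mul_inv_cancel]
  · have := conj_pow (i := j) (a := y) (b := w)
    rw [hyw, inv_pow] at this
    have hs'' : s * w = s' := by rw [hw, ← mul_assoc, hs, one_mul]
    have hwsw : w * s * w = s := by
      rw [mul_assoc, hs'', hw, mul_assoc, hs', show y * s * y * (y * s * y) =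
        y * (s * (y * y) * s) * y by group, hy, mul_one, hs, mul_one, hy, mul_one]
    calc y * (w ^ j * s) = (y * w ^ j * y⁻¹) * (y * s * y) * y⁻¹ := by group
      _ = (w ^ j)⁻¹ * s' * y := by rw [← this, ← hs', hyi]
      _ = (w ^ j)⁻¹ * (w⁻¹ * s) * y := by
          congr 2
          rw [← hs'', eq_inv_mul_iff_mul_eq, ← mul_assoc, hwsw]
      _ = (w ^ (j + 1))⁻¹ * s * y := by group
      _ = w ^ j * s * y := by
          congr 2
          rw [inv_eq_iff_mul_eq_one, ← pow_add, show j + 1 + j = 2 * j + 1 by omega, ← hj,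
            pow_orderOf_eq_one]

/-- Brauer's formula for a subgroup normalised by two commuting involutions. -/
theorem card_formula_centralizer {G : Type*} [Group G] [Finite G] {y s : G} (hy : y * y = 1)
    (hs : s * s = 1) (hys : y * s = s * y) (T : Subgroup G) (hT : Odd (Nat.card T))
    (hTy : ∀ g ∈ T, y * g * y ∈ T) (hTs : ∀ g ∈ T, s * g * s ∈ T) :
    Nat.card T * Nat.card (T ⊓ Subgroup.centralizer {y} ⊓ Subgroup.centralizer {s} : Subgroup G) ^ 2 =
      Nat.card (T ⊓ Subgroup.centralizer {y} : Subgroup G) *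
        Nat.card (T ⊓ Subgroup.centralizer {s} : Subgroup G) *
          Nat.card (T ⊓ Subgroup.centralizer {y * s} : Subgroup G) := by
  have hC : ∀ t g : G, g ∈ Subgroup.centralizer {t} ↔ g * t = t * g := fun t g => by
    simp [Subgroup.mem_centralizer_singleton_iff]
  have hiff : ∀ t : G, t * t = 1 → ∀ g : G, t * g * t = g ↔ g * t = t * g := fun t ht g => by
    rw [← mul_left_inj t (b := t * g * t), mul_assoc, ht, mul_one, eq_comm]
  have key : ∀ t : G, t * t = 1 → (∀ g ∈ T, t * g * t ∈ T) →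
      ∃ σ : T ≃* T, ∀ g : T, (σ g : G) = t * g * t := by
    intro t ht hTt
    have h2 : ∀ g : G, t * (t * g * t) * t = g := fun g => by
      rw [show t * (t * g * t) * t = (t * t) * g * (t * t) by group, ht, one_mul, mul_one]
    refine ⟨{ toFun := fun g => ⟨t * g * t, hTt g g.2⟩
              invFun := fun g => ⟨t * g * t, hTt g g.2⟩
              left_inv := fun g => Subtype.ext (h2 g)
              right_inv := fun g => Subtype.ext (h2 g)
              map_mul' := fun g h => Subtype.ext (by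
                show t * ((g : G) * h) * t = t * g * t * (t * h * t)
                rw [show t * (g : G) * t * (t * h * t) = t * g * (t * t) * h * t by group, ht,
                  mul_one]; group) }, fun g => rfl⟩
  obtain ⟨σ, hσ⟩ := key y hy hTy
  obtain ⟨τ, hτ⟩ := key s hs hTs
  have hww : y * s * (y * s) = 1 := by
    rw [mul_assoc, ← mul_assoc s y s, ← hys, mul_assoc y s s, hs, mul_one, hy]
  have h1 : ∀ g : T, σ g = g ↔ (g : G) ∈ Subgroup.centralizer {y} := fun g => by
    rw [hC, ← hiff y hy, ← hσ, Subtype.ext_iff]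
  have h2 : ∀ g : T, τ g = g ↔ (g : G) ∈ Subgroup.centralizer {s} := fun g => by
    rw [hC, ← hiff s hs, ← hτ, Subtype.ext_iff]
  have h3 : ∀ g : T, σ (τ g) = g ↔ (g : G) ∈ Subgroup.centralizer {y * s} := fun g => by
    rw [hC, ← hiff _ hww, Subtype.ext_iff, hσ, hτ]
    conv_rhs => rw [show y * s * (g : G) * (y * s) = y * (s * g * (y * s)) by group, hys]
    rw [show y * (s * (g : G) * s) * y = y * (s * g * (s * y)) by group]
  have hcard : ∀ (P : T → Prop) (Q : Subgroup G), (∀ g : T, P g ↔ (g : G) ∈ Q) →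
      Nat.card {g : T // P g} = Nat.card (T ⊓ Q : Subgroup G) := fun P Q h => Nat.card_congr
    { toFun := fun g => ⟨g.1, g.1.2, (h g.1).1 g.2⟩
      invFun := fun g => ⟨⟨g.1, g.2.1⟩, (h _).2 g.2.2⟩
      left_inv := fun _ => rfl
      right_inv := fun _ => rfl }
  have hsq : ∀ t : G, t * t = 1 → ∀ g : G, t * (t * g * t) * t = g := fun t ht g => by
    rw [show t * (t * g * t) * t = (t * t) * g * (t * t) by group, ht, one_mul, mul_one]
  have hf := FourGroup.card_formula hT σ τ
    (fun g => Subtype.ext (by rw [hσ, hσ]; exact hsq y hy g))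
    (fun g => Subtype.ext (by rw [hτ, hτ]; exact hsq s hs g))
    (fun g => Subtype.ext (by
      rw [hσ, hτ, hτ, hσ, show y * (s * (g : G) * s) * y = (y * s) * g * (s * y) by group, hys,
        show s * (y * (g : G) * y) * s = (s * y) * g * (y * s) by group, hys]))
  rwa [hcard _ (Subgroup.centralizer {y} ⊓ Subgroup.centralizer {s})
    (fun g => by rw [h1, h2]; rfl), hcard _ _ h1, hcard _ _ h2, hcard _ _ h3, ← inf_assoc] at hf

variable {G α : Type*} [Group G] [MulAction G α]

/-- The stabiliser of four points. -/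
def quad (G : Type*) {α : Type*} [Group G] [MulAction G α] (a b c d : α) : Subgroup G :=
  stabilizer G a ⊓ stabilizer G b ⊓ stabilizer G c ⊓ stabilizer G d

theorem mem_quad {a b c d : α} {g : G} :
    g ∈ quad G a b c d ↔ g • a = a ∧ g • b = b ∧ g • c = c ∧ g • d = d := by
  simp [quad, and_assoc]

/-- Quadruples in one orbit have stabilisers of equal order. -/
theorem card_quad_eq (g : G) (a b c d : α) :
    Nat.card (quad G (g • a) (g • b) (g • c) (g • d)) = Nat.card (quad G a b c d) := by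
  have h : ∀ t : G, t ∈ quad G (g • a) (g • b) (g • c) (g • d) ↔ g⁻¹ * t * g ∈ quad G a b c d :=
    fun t => by simp only [mem_quad, mul_smul, inv_smul_eq_iff]
  exact Nat.card_congr
    { toFun := fun t => ⟨g⁻¹ * t * g, (h t).1 t.2⟩
      invFun := fun t => ⟨g * t * g⁻¹, (h _).2 (by
        rw [show g⁻¹ * (g * (t : G) * g⁻¹) * g = t by group]; exact t.2)⟩
      left_inv := fun t => Subtype.ext (by
        show g * (g⁻¹ * (t : G) * g) * g⁻¹ = t
        group)
      right_inv := fun t => Subtype.ext (by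
        show g⁻¹ * (g * (t : G) * g⁻¹) * g = t
        group) }

/-- Two commuting involutions `(a b)`, `(c e)` on five points, both fixing the fifth. -/
structure FiveConfig (a b c e x : α) (z1 z2 : G) : Prop where
  hab : a ≠ b
  hac : a ≠ c
  hae : a ≠ e
  hax : a ≠ x
  hbc : b ≠ c
  hbe : b ≠ e
  hbx : b ≠ x
  hce : c ≠ e
  hcx : c ≠ x
  hex : e ≠ x
  sq1 : z1 * z1 = 1
  sq2 : z2 * z2 = 1
  comm : z1 * z2 = z2 * z1
  z1a : z1 • a = b
  z1b : z1 • b = a
  z1c : z1 • c = c
  z1e : z1 • e = e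
  z1x : z1 • x = x
  z2a : z2 • a = a
  z2b : z2 • b = b
  z2c : z2 • c = e
  z2e : z2 • e = c
  z2x : z2 • x = x

/-- Interchanging the two involutions. -/
theorem FiveConfig.symm {a b c e x : α} {z1 z2 : G} (C : FiveConfig a b c e x z1 z2) :
    FiveConfig c e a b x z2 z1 :=
  { hab := C.hce, hac := C.hac.symm, hae := C.hbc.symm, hax := C.hcx, hbc := C.hae.symm
    hbe := C.hbe.symm, hbx := C.hex, hce := C.hab, hcx := C.hax, hex := C.hbx
    sq1 := C.sq2, sq2 := C.sq1, comm := C.comm.symm
    z1a := C.z2c, z1b := C.z2e, z1c := C.z2a, z1e := C.z2b, z1x := C.z2x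
    z2a := C.z1c, z2b := C.z1e, z2c := C.z1a, z2e := C.z1b, z2x := C.z1x }

variable [Finite G] [Fintype α] [DecidableEq α]

namespace FourOdd

variable (S : FourOdd G α)
include S

omit [Fintype α] [DecidableEq α] in
/-- The four-point stabilisers have odd order. -/
theorem odd_card_quad {a b c d : α} (hab : a ≠ b) (hac : a ≠ c) (had : a ≠ d) (hbc : b ≠ c)
    (hbd : b ≠ d) (hcd : c ≠ d) : Odd (Nat.card (quad G a b c d)) := by
  rw [← Nat.not_even_iff_odd, even_iff_two_dvd]
  intro h2
  have : Fact (Nat.Prime 2) := ⟨Nat.prime_two⟩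
  obtain ⟨g, hg⟩ := exists_prime_orderOf_dvd_card' (G := quad G a b c d) 2 h2
  obtain ⟨g1, g2, g3, g4⟩ := mem_quad.1 g.2
  have := S.odd (g : G) a b c d hab hac had hbc hbd hcd g1 g2 g3 g4
  rw [Subgroup.orderOf_coe, hg] at this
  exact absurd this (by decide)

variable (hn : Odd (Fintype.card α))
include hn

/-- An involution fixing two points fixes exactly three. -/
theorem fixed_three {z : G} (hz : z * z = 1) (hz1 : z ≠ 1) {p q : α} (hpq : p ≠ q)
    (hp : z • p = p) (hq : z • q = q) :
    ∃ r, r ≠ p ∧ r ≠ q ∧ z • r = r ∧ ∀ v, z • v = v → v = p ∨ v = q ∨ v = r := by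
  obtain ⟨r, hr, hrpq⟩ := exists_mem_notMem_of_card_lt_card (s := ({p, q} : Finset α))
    (t := univ.filter fun v => z • v = v) (by
      rw [card_pair hpq]
      have hle : ({p, q} : Finset α) ⊆ univ.filter fun v => z • v = v := by
        intro v hv
        simp only [mem_insert, mem_singleton] at hv
        rcases hv with rfl | rfl <;> simp [hp, hq]
      have := card_le_card hle
      rw [card_pair hpq] at this
      rcases this.lt_or_eq with h | h
      · exact h
      · have hp2 := Zass.card_fixed_parity (Ω := α) hz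
        rw [← h] at hp2
        exact absurd (hp2.1 even_two) (Nat.not_even_iff_odd.2 hn))
  simp only [mem_filter, mem_univ, true_and, mem_insert, mem_singleton, not_or] at hr hrpq
  refine ⟨r, hrpq.1, hrpq.2, hr, fun v hv => ?_⟩
  by_contra h
  simp only [not_or] at h
  have := S.odd z p q r v hpq (Ne.symm hrpq.1) (Ne.symm h.1) (Ne.symm hrpq.2) (Ne.symm h.2.1)
    (Ne.symm h.2.2) hp hq hr hv
  rw [orderOf_eq_prime (p := 2) (by rw [pow_two]; exact hz) hz1] at this
  exact absurd this (by decide)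

/-- The configuration exists on any four points. -/
theorem exists_config {a b c e : α} (hab : a ≠ b) (hac : a ≠ c) (hae : a ≠ e) (hbc : b ≠ c)
    (hbe : b ≠ e) (hce : c ≠ e) : ∃ x z1 z2, FiveConfig (G := G) a b c e x z1 z2 := by
  obtain ⟨z1, h1, h1a, h1b, h1c, h1e⟩ := S.exists_swap hab hac hae hbc hbe hce
  have hz11 : z1 ≠ 1 := fun h => hab (by rw [← h1a, h, one_smul])
  obtain ⟨x, hxc, hxe, h1x, h1only⟩ := S.fixed_three hn h1 hz11 hce h1c h1e
  have hax : a ≠ x := fun h => hab (by rw [← h1a, h, h1x])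
  have hbx : b ≠ x := fun h => hab (by rw [← h1b, h, h1x])
  obtain ⟨s, hs, hsc, hse, hsa, hsb⟩ :=
    S.exists_swap hce hac.symm hbc.symm hae.symm hbe.symm hab
  set w := s * (z1 * s * z1) with hw
  have ea : w • a = a := by simp only [hw, mul_smul, h1a, h1b, hsa, hsb]
  have eb : w • b = b := by simp only [hw, mul_smul, h1a, h1b, hsa, hsb]
  have ec : w • c = c := by simp only [hw, mul_smul, h1c, h1e, hsc, hse]
  have ee : w • e = e := by simp only [hw, mul_smul, h1c, h1e, hsc, hse]
  obtain ⟨j, h2, hcomm⟩ := exists_commuting_involution h1 hs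
    (S.odd w a b c e hab hac hae hbc hbe hce ea eb ec ee)
  rw [← hw] at h2 hcomm
  have za : (w ^ j * s) • a = a := by
    rw [mul_smul, hsa]; exact (stabilizer G a).pow_mem ea j
  have zb : (w ^ j * s) • b = b := by
    rw [mul_smul, hsb]; exact (stabilizer G b).pow_mem eb j
  have zc : (w ^ j * s) • c = e := by
    rw [mul_smul, hsc]; exact (stabilizer G e).pow_mem ee j
  have ze : (w ^ j * s) • e = c := by
    rw [mul_smul, hse]; exact (stabilizer G c).pow_mem ec j
  generalize w ^ j * s = z2 at h2 hcomm za zb zc ze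
  have hz21 : z2 ≠ 1 := fun h => hce (by rw [← zc, h, one_smul])
  obtain ⟨r, hra, hrb, h2r, h2only⟩ := S.fixed_three hn h2 hz21 hab za zb
  have hfix : z1 • r = r := by
    have h : z2 • z1 • r = z1 • r := by rw [← mul_smul, ← hcomm, mul_smul, h2r]
    rcases h2only _ h with h' | h' | h'
    · exact absurd (smul_left_cancel z1 (h'.trans h1b.symm)) hrb
    · exact absurd (smul_left_cancel z1 (h'.trans h1a.symm)) hra
    · exact h'
  have h2x : z2 • x = x := by
    rcases h1only r hfix with h | h | h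
    · exact absurd (by rw [← zc, ← h, h2r, h]) hce
    · exact absurd (by rw [← ze, ← h, h2r, h]) hce.symm
    · exact h ▸ h2r
  exact ⟨x, z1, z2, ⟨hab, hac, hae, hax, hbc, hbe, hbx, hce, hxc.symm, hxe.symm, h1, h2, hcomm,
    h1a, h1b, h1c, h1e, h1x, za, zb, zc, ze, h2x⟩⟩

variable {a b c e x : α} {z1 z2 : G} (C : FiveConfig a b c e x z1 z2)
include C

/-- The fixed points of the first involution. -/
theorem only_fixed {v : α} (hv : z1 • v = v) : v = c ∨ v = e ∨ v = x := by
  obtain ⟨r, hrc, hre, -, honly⟩ := S.fixed_three hn C.sq1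
    (fun h => C.hab (by rw [← C.z1a, h, one_smul])) C.hce C.z1c C.z1e
  rcases honly v hv with h | h | h
  · exact Or.inl h
  · exact Or.inr (Or.inl h)
  · refine Or.inr (Or.inr ?_)
    rcases honly x C.z1x with h' | h' | h'
    · exact absurd h'.symm C.hcx
    · exact absurd h'.symm C.hex
    · rw [h, h']

/-- The product fixes exactly three points, two of them exchanged by the first involution. -/
theorem exists_fixed_mul (h6 : 6 ≤ Fintype.card α) :
    ∃ p q : α, p ≠ q ∧ p ∉ ({a, b, c, e, x} : Finset α) ∧ q ∉ ({a, b, c, e, x} : Finset α) ∧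
      (z1 * z2) • p = p ∧ (z1 * z2) • q = q ∧
        ∀ v, (z1 * z2) • v = v → v = x ∨ v = p ∨ v = q := by
  set w := z1 * z2 with hw
  have hww : w * w = 1 := by
    rw [hw, mul_assoc, ← mul_assoc z2 z1 z2, ← C.comm, mul_assoc z1 z2 z2, C.sq2, mul_one, C.sq1]
  have wa : w • a = b := by rw [hw, mul_smul, C.z2a, C.z1a]
  have wb : w • b = a := by rw [hw, mul_smul, C.z2b, C.z1b]
  have wc : w • c = e := by rw [hw, mul_smul, C.z2c, C.z1e]
  have we : w • e = c := by rw [hw, mul_smul, C.z2e, C.z1c]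
  have wx : w • x = x := by rw [hw, mul_smul, C.z2x, C.z1x]
  obtain ⟨u, -, hu⟩ := exists_mem_notMem_of_card_lt_card (s := ({a, b, c, e, x} : Finset α))
    (t := univ) (by
      have := card_le_five (a := a) (b := b) (c := c) (d := e) (e := x)
      rw [card_univ]; omega)
  simp only [mem_insert, mem_singleton, not_or] at hu
  obtain ⟨hua, hub, huc, hue, hux⟩ := hu
  have hzz : ∀ v : α, z1 • z1 • v = v := fun v => by rw [← mul_smul, C.sq1, one_smul]
  obtain ⟨g, ga, gb, gu, gv⟩ := exists_smul_eq_four S.four C.hab (Ne.symm hua)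
    (fun h : a = z1 • u => hub (by rw [← C.z1a, h, hzz])) (Ne.symm hub)
    (fun h : b = z1 • u => hua (by rw [← C.z1b, h, hzz]))
    (fun h : u = z1 • u => by rcases S.only_fixed hn C h.symm with h' | h' | h' <;> contradiction)
    C.hab C.hac C.hae C.hbc C.hbe C.hce
  set t := g * z1 * g⁻¹ with ht
  have htt : t * t = 1 := by
    rw [ht, show g * z1 * g⁻¹ * (g * z1 * g⁻¹) = g * (z1 * z1) * g⁻¹ by group, C.sq1, mul_one,
      mul_inv_cancel]
  have ta : t • a = b := by rw [ht, mul_smul, mul_smul, inv_smul_eq_iff.2 ga.symm, C.z1a, gb]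
  have tb : t • b = a := by rw [ht, mul_smul, mul_smul, inv_smul_eq_iff.2 gb.symm, C.z1b, ga]
  have tc : t • c = e := by rw [ht, mul_smul, mul_smul, inv_smul_eq_iff.2 gu.symm, gv]
  have te : t • e = c := by rw [ht, mul_smul, mul_smul, inv_smul_eq_iff.2 gv.symm, hzz, gu]
  obtain ⟨i, hi⟩ := exists_conj_of_odd_mul hww htt
    (S.odd (w * t) a b c e C.hab C.hac C.hae C.hbc C.hbe C.hce (by rw [mul_smul, ta, wb])
      (by rw [mul_smul, tb, wa]) (by rw [mul_smul, tc, we]) (by rw [mul_smul, te, wc]))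
  set k := (w * t) ^ i * g with hk
  have hconj : w = k * z1 * k⁻¹ := by
    rw [← hi, hk, ht]; group
  have hkfix : ∀ v : α, z1 • v = v → w • k • v = k • v := fun v hv => by
    rw [hconj, mul_smul, mul_smul, inv_smul_smul, hv]
  have hw1 : w ≠ 1 := fun h => C.hab (by rw [← wa, h, one_smul])
  obtain ⟨r, hr1, hr2, hr3, honly⟩ := S.fixed_three hn hww hw1
    (fun h => C.hce (smul_left_cancel k h)) (hkfix c C.z1c) (hkfix e C.z1e)
  have hout : ∀ v, w • v = v → v ≠ x → v ∉ ({a, b, c, e, x} : Finset α) := by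
    intro v hv hvx hmem
    simp only [mem_insert, mem_singleton] at hmem
    rcases hmem with rfl | rfl | rfl | rfl | rfl
    · exact C.hab (hv.symm.trans wa)
    · exact C.hab (hv.symm.trans wb).symm
    · exact C.hce (hv.symm.trans wc)
    · exact C.hce (hv.symm.trans we).symm
    · exact hvx rfl
  have hne : k • c ≠ k • e := fun h => C.hce (smul_left_cancel k h)
  rcases honly x wx with hx | hx | hx
  · exact ⟨k • e, r, hr2.symm, hout _ (hkfix e C.z1e) (fun h => hne (hx.symm.trans h.symm)),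
      hout _ hr3 (fun h => hr1 (h.trans hx)), hkfix e C.z1e, hr3,
      fun v hv => by rw [hx]; exact honly v hv⟩
  · exact ⟨k • c, r, hr1.symm, hout _ (hkfix c C.z1c) (fun h => hne (h.trans hx)),
      hout _ hr3 (fun h => hr2 (h.trans hx)), hkfix c C.z1c, hr3,
      fun v hv => by rw [hx]; rcases honly v hv with h | h | h <;> simp [h]⟩
  · exact ⟨k • c, k • e, hne, hout _ (hkfix c C.z1c) (fun h => hr1 (hx.symm.trans h.symm)),
      hout _ (hkfix e C.z1e) (fun h => hr2 (hx.symm.trans h.symm)), hkfix c C.z1c, hkfix e C.z1e,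
      fun v hv => by rw [hx]; rcases honly v hv with h | h | h <;> simp [h]⟩

variable [FaithfulSMul G α]

/-- If the stabiliser of `a, b, c, e` fixes exactly these and `x`, it centralises `z1`. -/
theorem quad_commute (hx : ∀ h ∈ quad G a b c e, h • x = x)
    (hfive : ∀ v, (∀ h ∈ quad G a b c e, h • v = v) → v ∈ ({a, b, c, e, x} : Finset α))
    {h : G} (hh : h ∈ quad G a b c e) : h * z1 = z1 * h := by
  have hzz : ∀ v : α, z1 • z1 • v = v := fun v => by rw [← mul_smul, C.sq1, one_smul]
  have hz1i : z1⁻¹ = z1 := inv_eq_of_mul_eq_one_right C.sq1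
  have key : ∀ u, u ∉ ({a, b, c, e, x} : Finset α) →
      (∀ t ∈ quad G c e x u, t • z1 • u = z1 • u) ∧
        ∀ r, (∀ t ∈ quad G c e x u, t • r = r) →
          r = u ∨ r = z1 • u ∨ r = c ∨ r = e ∨ r = x := by
    intro u hu
    simp only [mem_insert, mem_singleton, not_or] at hu
    obtain ⟨hua, hub, huc, hue, hux⟩ := hu
    set v := z1 • u with hv
    have huv : u ≠ v := fun h => by
      rcases S.only_fixed hn C h.symm with h' | h' | h' <;> contradiction
    have hvc : v ≠ c := fun h => huc (smul_left_cancel z1 (h.trans C.z1c.symm))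
    have hve : v ≠ e := fun h => hue (smul_left_cancel z1 (h.trans C.z1e.symm))
    obtain ⟨g, ga, gb, gc, ge⟩ :=
      exists_smul_eq_four S.four C.hab C.hac C.hae C.hbc C.hbe C.hce huv huc hue hvc hve C.hce
    have hT : ∀ r, (∀ t ∈ quad G u v c e, t • r = r) →
        r = u ∨ r = v ∨ r = c ∨ r = e ∨ r = g • x := by
      intro r hr
      have h5 := hfive (g⁻¹ • r) fun t ht => by
        obtain ⟨t1, t2, t3, t4⟩ := mem_quad.1 ht
        have := hr (g * t * g⁻¹) (mem_quad.2 ⟨by rw [← ga, mul_smul, mul_smul, inv_smul_smul, t1],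
          by rw [← gb, mul_smul, mul_smul, inv_smul_smul, t2],
          by conv_lhs => rw [← gc, mul_smul, mul_smul, inv_smul_smul, t3]
             exact gc,
          by conv_lhs => rw [← ge, mul_smul, mul_smul, inv_smul_smul, t4]
             exact ge⟩)
        rw [mul_smul, mul_smul, smul_eq_iff_eq_inv_smul] at this
        exact this
      simp only [mem_insert, mem_singleton, inv_smul_eq_iff] at h5
      rwa [ga, gb, gc, ge] at h5
    have hgx : ∀ t ∈ quad G u v c e, t • g • x = g • x := by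
      intro t ht
      obtain ⟨t1, t2, t3, t4⟩ := mem_quad.1 ht
      have := hx (g⁻¹ * t * g) (mem_quad.2 ⟨by rw [mul_smul, mul_smul, ga, t1, ← ga, inv_smul_smul],
        by rw [mul_smul, mul_smul, gb, t2, ← gb, inv_smul_smul],
        by rw [mul_smul, mul_smul, gc, t3, inv_smul_eq_iff, gc],
        by rw [mul_smul, mul_smul, ge, t4, inv_smul_eq_iff, ge]⟩)
      rwa [mul_smul, mul_smul, inv_smul_eq_iff] at this
    have hzgx : g • x = x := by
      have h1 := hT (z1 • g • x) fun t ht => by
        obtain ⟨t1, t2, t3, t4⟩ := mem_quad.1 ht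
        have := hgx (z1 * t * z1) (mem_quad.2 ⟨by rw [mul_smul, mul_smul, ← hv, t2, hv, hzz],
          by rw [mul_smul, mul_smul, hv, hzz, t1], by rw [mul_smul, mul_smul, C.z1c, t3, C.z1c],
          by rw [mul_smul, mul_smul, C.z1e, t4, C.z1e]⟩)
        rw [mul_smul, mul_smul, smul_eq_iff_eq_inv_smul, hz1i] at this
        exact this
      have hne : g • x ≠ u ∧ g • x ≠ v ∧ g • x ≠ c ∧ g • x ≠ e :=
        ⟨fun h => C.hax (smul_left_cancel g (h.trans ga.symm)).symm,
          fun h => C.hbx (smul_left_cancel g (h.trans gb.symm)).symm,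
          fun h => C.hcx (smul_left_cancel g (h.trans gc.symm)).symm,
          fun h => C.hex (smul_left_cancel g (h.trans ge.symm)).symm⟩
      rcases h1 with h1 | h1 | h1 | h1 | h1
      · exact absurd (by rw [hv, ← h1, hzz]) hne.2.1
      · exact absurd (smul_left_cancel z1 h1) hne.1
      · exact absurd (smul_left_cancel z1 (h1.trans C.z1c.symm)) hne.2.2.1
      · exact absurd (smul_left_cancel z1 (h1.trans C.z1e.symm)) hne.2.2.2
      · rcases S.only_fixed hn C h1 with h' | h' | h'
        · exact absurd h' hne.2.2.1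
        · exact absurd h' hne.2.2.2
        · exact h'
    rw [hzgx] at hT hgx
    have hle : quad G u v c e ≤ quad G c e x u := fun t ht => by
      obtain ⟨t1, t2, t3, t4⟩ := mem_quad.1 ht
      exact mem_quad.2 ⟨t3, t4, hgx t ht, t1⟩
    have hEq : quad G u v c e = quad G c e x u := by
      refine Subgroup.eq_of_le_of_card_ge hle (le_of_eq ?_)
      obtain ⟨g', g1, g2, g3, g4⟩ := exists_smul_eq_four S.four huv huc hue hvc hve C.hce C.hce
        C.hcx (Ne.symm huc) C.hex (Ne.symm hue) (Ne.symm hux)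
      have := card_quad_eq g' u v c e
      rw [g1, g2, g3, g4] at this
      exact this
    rw [← hEq]
    exact ⟨fun t ht => (mem_quad.1 ht).2.1, hT⟩
  refine eq_of_smul_eq_smul fun u : α => ?_
  obtain ⟨ha, hb, hc, he⟩ := mem_quad.1 hh
  rw [mul_smul, mul_smul]
  by_cases hu : u ∈ ({a, b, c, e, x} : Finset α)
  · simp only [mem_insert, mem_singleton] at hu
    rcases hu with rfl | rfl | rfl | rfl | rfl <;>
      simp only [C.z1a, C.z1b, C.z1c, C.z1e, C.z1x, ha, hb, hc, he, hx h hh]
  have hu' : h • u ∉ ({a, b, c, e, x} : Finset α) := fun hm => hu (by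
    simp only [mem_insert, mem_singleton] at hm ⊢
    rcases hm with h' | h' | h' | h' | h'
    · exact Or.inl (smul_left_cancel h (h'.trans ha.symm))
    · exact Or.inr (Or.inl (smul_left_cancel h (h'.trans hb.symm)))
    · exact Or.inr (Or.inr (Or.inl (smul_left_cancel h (h'.trans hc.symm))))
    · exact Or.inr (Or.inr (Or.inr (Or.inl (smul_left_cancel h (h'.trans he.symm)))))
    · exact Or.inr (Or.inr (Or.inr (Or.inr (smul_left_cancel h (h'.trans (hx h hh).symm))))))
  have h1 := (key _ hu').2 (h • z1 • u) fun t ht => by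
    obtain ⟨t1, t2, t3, t4⟩ := mem_quad.1 ht
    have := (key u hu).1 (h⁻¹ * t * h) (mem_quad.2
      ⟨by rw [mul_smul, mul_smul, hc, t1, inv_smul_eq_iff, hc],
        by rw [mul_smul, mul_smul, he, t2, inv_smul_eq_iff, he],
        by rw [mul_smul, mul_smul, hx h hh, t3, inv_smul_eq_iff, hx h hh],
        by rw [mul_smul, mul_smul, t4, inv_smul_smul]⟩)
    rwa [mul_smul, mul_smul, inv_smul_eq_iff] at this
  simp only [mem_insert, mem_singleton, not_or] at hu
  rcases h1 with h1 | h1 | h1 | h1 | h1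
  · rcases S.only_fixed hn C (smul_left_cancel h h1) with h' | h' | h'
    · exact absurd h' hu.2.2.1
    · exact absurd h' hu.2.2.2.1
    · exact absurd h' hu.2.2.2.2
  · exact h1
  · exact absurd (smul_left_cancel z1 ((smul_left_cancel h (h1.trans hc.symm)).trans C.z1c.symm))
      hu.2.2.1
  · exact absurd (smul_left_cancel z1 ((smul_left_cancel h (h1.trans he.symm)).trans C.z1e.symm))
      hu.2.2.2.1
  · exact absurd (smul_left_cancel z1 ((smul_left_cancel h (h1.trans (hx h hh).symm)).trans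
      C.z1x.symm)) hu.2.2.2.2

omit [FaithfulSMul G α] in
/-- The centraliser of `z1` in the stabiliser fixes `x`. -/
theorem smul_x_of_commute {h : G} (hh : h ∈ quad G a b c e) (hc : h * z1 = z1 * h) :
    h • x = x := by
  obtain ⟨-, -, h3, h4⟩ := mem_quad.1 hh
  rcases S.only_fixed hn C (v := h • x) (by rw [← mul_smul, ← hc, mul_smul, C.z1x]) with e' | e' | e'
  · exact absurd (smul_left_cancel h (h3.trans e'.symm)) C.hcx
  · exact absurd (smul_left_cancel h (h4.trans e'.symm)) C.hex
  · exact e'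

omit [FaithfulSMul G α] in
/-- The stabiliser is normalised by `z1`. -/
theorem conj_mem_quad {h : G} (hh : h ∈ quad G a b c e) : z1 * h * z1 ∈ quad G a b c e := by
  obtain ⟨h1, h2, h3, h4⟩ := mem_quad.1 hh
  rw [mem_quad]
  simp only [mul_smul, C.z1a, C.z1b, C.z1c, C.z1e, h1, h2, h3, h4, and_self]

/-- Some sixth point is fixed by the centraliser of `z1` in the stabiliser. -/
theorem exists_sixth (h6 : 6 ≤ Fintype.card α) : ∃ y, y ∉ ({a, b, c, e, x} : Finset α) ∧
    ∀ k ∈ quad G a b c e, k * z1 = z1 * k → k • y = y := by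
  classical
  have : Fintype G := Fintype.ofFinite G
  obtain ⟨p, q, hpq, hpR, hqR, hwp, hwq, honly⟩ := S.exists_fixed_mul hn C h6
  set w := z1 * z2 with hw
  set H := quad G a b c e with hH
  have hHodd : Odd (Nat.card H) := S.odd_card_quad C.hab C.hac C.hae C.hbc C.hbe C.hce
  have hwx : w • x = x := by rw [hw, mul_smul, C.z2x, C.z1x]
  have hsymm : ∀ h, h ∈ H → h ∈ quad G c e a b := fun h hh => by
    rw [hH, mem_quad] at hh; rw [mem_quad]; tauto
  have hsymm' : ∀ h, h ∈ quad G c e a b → h ∈ H := fun h hh => by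
    rw [mem_quad] at hh; rw [hH, mem_quad]; tauto
  have hpq' : ∀ k ∈ H, k • x = x → (k • p = x ∨ k • p = p ∨ k • p = q) →
      (k • q = x ∨ k • q = p ∨ k • q = q) → k • p = p := by
    intro k hk hkx h1 h2
    have hkp : k • p ≠ x := fun h => by
      have := smul_left_cancel k (h.trans hkx.symm)
      simp [this] at hpR
    have hkq : k • q ≠ x := fun h => by
      have := smul_left_cancel k (h.trans hkx.symm)
      simp [this] at hqR
    rcases h1 with h1 | h1 | h1
    · exact absurd h1 hkp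
    · exact h1
    rcases h2 with h2 | h2 | h2
    · exact absurd h2 hkq
    · have hodd : Odd (orderOf k) := by
        obtain ⟨k1, k2, k3, k4⟩ := mem_quad.1 hk
        exact S.odd k a b c e C.hab C.hac C.hae C.hbc C.hbe C.hce k1 k2 k3 k4
      exact smul_eq_of_odd_of_smul_smul hodd (by rw [h1, h2])
    · exact absurd (smul_left_cancel k (h1.trans h2.symm)) hpq
  -- the orbit of `x`
  set H1 := H ⊓ stabilizer G x with hH1
  have hn1 : ∀ g ∈ H, z1 * g * z1 ∈ H := fun g hg => S.conj_mem_quad hn C hg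
  have hn2 : ∀ g ∈ H, z2 * g * z2 ∈ H := fun g hg =>
    hsymm' _ (S.conj_mem_quad hn C.symm (hsymm g hg))
  have hn1' : ∀ g ∈ H1, z1 * g * z1 ∈ H1 := fun g hg => ⟨hn1 g hg.1,
    show (z1 * g * z1) • x = x by rw [mul_smul, mul_smul, C.z1x, show g • x = x from hg.2, C.z1x]⟩
  have hn2' : ∀ g ∈ H1, z2 * g * z2 ∈ H1 := fun g hg => ⟨hn2 g hg.1,
    show (z2 * g * z2) • x = x by rw [mul_smul, mul_smul, C.z2x, show g • x = x from hg.2, C.z2x]⟩
  have hF := card_formula_centralizer C.sq1 C.sq2 C.comm H hHodd hn1 hn2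
  have hF1 := card_formula_centralizer C.sq1 C.sq2 C.comm H1
    (hHodd.of_dvd_nat (Subgroup.card_dvd_of_le inf_le_left)) hn1' hn2'
  have hC : ∀ t g : G, g ∈ Subgroup.centralizer {t} ↔ g * t = t * g := fun t g => by
    simp [Subgroup.mem_centralizer_singleton_iff]
  have e1 : H1 ⊓ Subgroup.centralizer {z1} = H ⊓ Subgroup.centralizer {z1} :=
    le_antisymm (inf_le_inf_right _ inf_le_left) fun g hg =>
      ⟨⟨hg.1, S.smul_x_of_commute hn C hg.1 ((hC _ _).1 hg.2)⟩, hg.2⟩
  have e2 : H1 ⊓ Subgroup.centralizer {z2} = H ⊓ Subgroup.centralizer {z2} :=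
    le_antisymm (inf_le_inf_right _ inf_le_left) fun g hg =>
      ⟨⟨hg.1, S.smul_x_of_commute hn C.symm (hsymm g hg.1) ((hC _ _).1 hg.2)⟩, hg.2⟩
  rw [e1, e2, ← hw] at hF1
  rw [← hw] at hF
  set Hw := H ⊓ Subgroup.centralizer {w} with hHw
  have e3 : H1 ⊓ Subgroup.centralizer {w} = Hw ⊓ stabilizer G x := by
    rw [hH1, hHw, inf_right_comm]
  rw [e3] at hF1
  have hm := card_orbit_mul_inf_stabilizer H x
  have hmw := card_orbit_mul_inf_stabilizer Hw x
  rw [← hH1] at hm
  set O := (univ : Finset H).image fun g : H => (g : G) • x with hO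
  set Ow := (univ : Finset Hw).image fun g : Hw => (g : G) • x with hOw
  have hsub : Ow ⊆ O := fun v hv => by
    obtain ⟨g, -, rfl⟩ := mem_image.1 hv
    exact mem_image.2 ⟨⟨g, g.2.1⟩, mem_univ _, rfl⟩
  have hEq : Ow = O := by
    refine eq_of_subset_of_card_le hsub (le_of_eq ?_)
    rw [← hm] at hF
    rw [← hmw] at hF
    refine Nat.eq_of_mul_eq_mul_right (show 0 < Nat.card H1 *
      Nat.card (H ⊓ Subgroup.centralizer {z1} ⊓ Subgroup.centralizer {z2} : Subgroup G) ^ 2 from
        Nat.mul_pos Nat.card_pos (pow_pos Nat.card_pos 2)) ?_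
    rw [← mul_assoc O.card, hF, hF1]
    ring
  have hxpq : ∀ h ∈ H, h • x = x ∨ h • x = p ∨ h • x = q := by
    intro h hh
    have : h • x ∈ Ow := hEq ▸ mem_image.2 ⟨⟨h, hh⟩, mem_univ _, rfl⟩
    obtain ⟨g, -, hg⟩ := mem_image.1 this
    refine honly _ ?_
    rw [← hg, ← mul_smul, ← (hC _ _).1 g.2.2, mul_smul, hwx]
  by_cases hfix : ∀ h ∈ H, h • x = x
  · -- `H` fixes `x`
    by_contra hcon
    push Not at hcon
    have hfive : ∀ v, (∀ h ∈ H, h • v = v) → v ∈ ({a, b, c, e, x} : Finset α) := fun v hv => by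
      by_contra hv5
      obtain ⟨k, hk, -, hkv⟩ := hcon v hv5
      exact hkv (hv k hk)
    obtain ⟨k, hk, -, hkp⟩ := hcon p hpR
    refine hkp (hpq' k hk (hfix k hk) ?_ ?_)
    all_goals
      refine honly _ ?_
      have hkw : k * w = w * k := by
        have h1 := S.quad_commute hn C hfix hfive hk
        have h2 := S.quad_commute hn C.symm (fun h hh => hfix h (hsymm' h hh))
          (fun v hv => by
            have := hfive v fun h hh => hv h (hsymm h hh)
            simp only [mem_insert, mem_singleton] at this ⊢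
            tauto) (hsymm k hk)
        exact ((show Commute k z1 from h1).mul_right h2).eq
    · rw [← mul_smul, ← hkw, mul_smul, hwp]
    · rw [← mul_smul, ← hkw, mul_smul, hwq]
  -- the orbit of `x` is `{x, p, q}`
  push Not at hfix
  obtain ⟨h0, hh0, hh0x⟩ := hfix
  have hO3 : O = {x, p, q} := by
    have hOs : O ⊆ {x, p, q} := fun v hv => by
      obtain ⟨g, -, rfl⟩ := mem_image.1 hv
      simpa using hxpq g g.2
    refine eq_of_subset_of_card_le hOs ?_
    have hOodd : Odd O.card := hHodd.of_dvd_nat (Dvd.intro _ hm)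
    have h2 : 1 < O.card := one_lt_card.2 ⟨x, mem_image.2 ⟨1, mem_univ _, one_smul _ _⟩,
      h0 • x, mem_image.2 ⟨⟨h0, hh0⟩, mem_univ _, rfl⟩, hh0x.symm⟩
    rw [Nat.odd_iff] at hOodd
    have := card_le_three (a := x) (b := p) (c := q)
    omega
  refine ⟨p, hpR, fun k hk hkz => hpq' k hk (S.smul_x_of_commute hn C hk hkz) ?_ ?_⟩
  · have : p ∈ O := by rw [hO3]; simp
    obtain ⟨g, -, hg⟩ := mem_image.1 this
    have h := hxpq (k * g) (mul_mem hk g.2)
    rwa [mul_smul, hg] at h
  · have : q ∈ O := by rw [hO3]; simp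
    obtain ⟨g, -, hg⟩ := mem_image.1 this
    have h := hxpq (k * g) (mul_mem hk g.2)
    rwa [mul_smul, hg] at h

/-- The degree is at most 11 and no element of the stabiliser commutes with `z1`. -/
theorem degree_le (h6 : 6 ≤ Fintype.card α) : Fintype.card α ≤ 11 ∧
    ∀ k ∈ quad G a b c e, k * z1 = z1 * k → k = 1 := by
  classical
  have : Fintype G := Fintype.ofFinite G
  obtain ⟨y, hy, hfixy⟩ := S.exists_sixth hn C h6
  set R : Finset α := univ \ {a, b, c, e, x} with hR
  have hzz : ∀ v : α, z1 • z1 • v = v := fun v => by rw [← mul_smul, C.sq1, one_smul]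
  have hza : z1 • a ≠ a := by rw [C.z1a]; exact C.hab.symm
  have hRm : ∀ v, v ∈ R → z1 • v ≠ v ∧ v ≠ a ∧ v ≠ z1 • a := by
    intro v hv
    simp only [R, mem_sdiff, mem_univ, true_and, mem_insert, mem_singleton, not_or] at hv
    refine ⟨fun h => ?_, hv.1, by rw [C.z1a]; exact hv.2.1⟩
    rcases S.only_fixed hn C h with h' | h' | h'
    · exact hv.2.2.1 h'
    · exact hv.2.2.2.1 h'
    · exact hv.2.2.2.2 h'
  let Cs : Finset G := univ.filter fun g => g * z1 = z1 * g ∧ g • a = a
  have hcomm : ∀ g ∈ Cs, ∀ v : α, g • z1 • v = z1 • g • v := fun g hg v => by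
    rw [← mul_smul, (mem_filter.1 hg).2.1, mul_smul]
  have htrans : ∀ r ∈ R, ∃ g ∈ Cs, g • y = r := by
    intro r hr
    obtain ⟨y1, y2, y3⟩ := hRm y (mem_sdiff.2 ⟨mem_univ _, hy⟩)
    obtain ⟨r1, r2, r3⟩ := hRm r hr
    obtain ⟨g, hg, hga, hgy⟩ := S.centralizer_trans C.sq1 hza y1 r1 y2 y3 r2 r3
    exact ⟨g, mem_filter.2 ⟨mem_univ _, hg, hga⟩, hgy⟩
  have hK : ∀ k ∈ quad G a b c e, k * z1 = z1 * k → k = 1 := by
    intro k hk hkz
    obtain ⟨k1, k2, k3, k4⟩ := mem_quad.1 hk
    have kx := S.smul_x_of_commute hn C hk hkz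
    refine eq_of_smul_eq_smul fun r : α => ?_
    rw [one_smul]
    by_cases hr : r ∈ R
    · obtain ⟨g, hg, rfl⟩ := htrans r hr
      obtain ⟨hgz, hga⟩ := (mem_filter.1 hg).2
      have hperm : ∀ v, (v = c ∨ v = e ∨ v = x) → k • g • v = g • v := fun v hv => by
        rcases S.only_fixed hn C (v := g • v) (by
          rw [← hcomm g hg]
          rcases hv with rfl | rfl | rfl
          · rw [C.z1c]
          · rw [C.z1e]
          · rw [C.z1x]) with h | h | h <;> rw [h] <;> assumption
      have hgb : g • b = b := by rw [← C.z1a, hcomm g hg, hga]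
      have := hfixy (g⁻¹ * k * g) (mem_quad.2
        ⟨by rw [mul_smul, mul_smul, hga, k1, inv_smul_eq_iff, hga],
          by rw [mul_smul, mul_smul, hgb, k2, inv_smul_eq_iff, hgb],
          by rw [mul_smul, mul_smul, hperm c (Or.inl rfl), inv_smul_smul],
          by rw [mul_smul, mul_smul, hperm e (Or.inr (Or.inl rfl)), inv_smul_smul]⟩)
        (((Commute.inv_left hgz).mul_left hkz).mul_left hgz).eq
      rwa [mul_smul, mul_smul, inv_smul_eq_iff] at this
    · simp only [R, mem_sdiff, mem_univ, true_and, not_not, mem_insert, mem_singleton] at hr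
      rcases hr with rfl | rfl | rfl | rfl | rfl <;> assumption
  refine ⟨?_, hK⟩
  have hCs : Cs.card ≤ ({c, e, x} : Finset α).offDiag.card := by
    refine card_le_card_of_injOn (fun g => (g • c, g • e)) (fun g hg => ?_) fun g hg g' hg' he => ?_
    · rw [mem_coe, mem_offDiag]
      simp only [mem_insert, mem_singleton]
      exact ⟨S.only_fixed hn C (by rw [← hcomm g hg, C.z1c]),
        S.only_fixed hn C (by rw [← hcomm g hg, C.z1e]), fun h => C.hce (smul_left_cancel g h)⟩
    · simp only [Prod.mk.injEq] at he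
      obtain ⟨hgz, hga⟩ := (mem_filter.1 hg).2
      obtain ⟨hgz', hga'⟩ := (mem_filter.1 hg').2
      have hka : (g'⁻¹ * g) • a = a := by rw [mul_smul, hga, inv_smul_eq_iff, hga']
      have hkz : g'⁻¹ * g * z1 = z1 * (g'⁻¹ * g) :=
        ((Commute.inv_left hgz').mul_left hgz).eq
      refine (inv_mul_eq_one.1 (hK _ (mem_quad.2 ⟨hka, ?_, ?_, ?_⟩) hkz)).symm
      · rw [← C.z1a, ← mul_smul, hkz, mul_smul, hka]
      · rw [mul_smul, he.1, inv_smul_smul]
      · rw [mul_smul, he.2, inv_smul_smul]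
  have hsur : R ⊆ Cs.image fun g => g • y := fun r hr => by
    obtain ⟨g, hg, rfl⟩ := htrans r hr
    exact mem_image.2 ⟨g, hg, rfl⟩
  have hRc : Fintype.card α - 5 ≤ R.card := by
    rw [hR, card_sdiff_of_subset (subset_univ _), card_univ]
    have := card_le_five (a := a) (b := b) (c := c) (d := e) (e := x)
    omega
  have h3 : ({c, e, x} : Finset α).card = 3 := by simp [C.hce, C.hcx, C.hex]
  rw [offDiag_card, h3] at hCs
  have := (card_le_card hsur).trans card_image_le
  omega

omit C in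
/-- **The degree is 11 and four-point stabilisers are trivial.** -/
theorem eleven (h11 : 11 ≤ Fintype.card α)
    (hno : ∀ (g : G) (s : Finset α), s.card ≤ 3 → (∀ v, v ∉ s → g • v = v) → g = 1) :
    Fintype.card α = 11 ∧ ∀ {a b c e : α}, a ≠ b → a ≠ c → a ≠ e → b ≠ c → b ≠ e → c ≠ e →
      quad G a b c e = ⊥ := by
  classical
  have : Fintype G := Fintype.ofFinite G
  obtain ⟨F, -, hF⟩ := exists_subset_card_eq (s := (univ : Finset α)) (n := 4)
    (by rw [card_univ]; omega)
  obtain ⟨a0, b0, c0, e0, h1, h2, h3, h4, h5, h6, -⟩ := card_eq_four.1 hF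
  obtain ⟨x0, u1, u2, C0⟩ := S.exists_config hn h1 h2 h3 h4 h5 h6
  have hcard : Fintype.card α = 11 := le_antisymm (S.degree_le hn C0 (by omega)).1 h11
  refine ⟨hcard, fun {a b c e} hab hac hae hbc hbe hce => ?_⟩
  obtain ⟨x, z1, z2, C⟩ := S.exists_config hn hab hac hae hbc hbe hce
  obtain ⟨p, q, hpq, hpR, hqR, hwp, hwq, honly⟩ := S.exists_fixed_mul hn C (by omega)
  set w := z1 * z2 with hw
  set H := quad G a b c e with hH
  have hHodd : Odd (Nat.card H) := S.odd_card_quad hab hac hae hbc hbe hce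
  have hsymm : ∀ h, h ∈ H → h ∈ quad G c e a b := fun h hh => by
    rw [hH, mem_quad] at hh; rw [mem_quad]; tauto
  have hsymm' : ∀ h, h ∈ quad G c e a b → h ∈ H := fun h hh => by
    rw [mem_quad] at hh; rw [hH, mem_quad]; tauto
  have hC : ∀ t g : G, g ∈ Subgroup.centralizer {t} ↔ g * t = t * g := fun t g => by
    simp [Subgroup.mem_centralizer_singleton_iff]
  have hA : H ⊓ Subgroup.centralizer {z1} = ⊥ := (Subgroup.eq_bot_iff_forall _).2 fun g hg =>
    (S.degree_le hn C (by omega)).2 g hg.1 ((hC _ _).1 hg.2)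
  have hB : H ⊓ Subgroup.centralizer {z2} = ⊥ := (Subgroup.eq_bot_iff_forall _).2 fun g hg =>
    (S.degree_le hn C.symm (by omega)).2 g (hsymm g hg.1) ((hC _ _).1 hg.2)
  have hform := card_formula_centralizer C.sq1 C.sq2 C.comm H hHodd
    (fun g hg => S.conj_mem_quad hn C hg)
    (fun g hg => hsymm' _ (S.conj_mem_quad hn C.symm (hsymm g hg)))
  rw [hA, hB, bot_inf_eq, Subgroup.card_bot, one_pow, mul_one, one_mul, one_mul, ← hw] at hform
  have hHw : H ⊓ Subgroup.centralizer {w} = H :=
    Subgroup.eq_of_le_of_card_ge inf_le_left hform.le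
  have hwx : w • x = x := by rw [hw, mul_smul, C.z2x, C.z1x]
  have hwa : w • a = b := by rw [hw, mul_smul, C.z2a, C.z1a]
  have hwb : w • b = a := by rw [hw, mul_smul, C.z2b, C.z1b]
  have hwc : w • c = e := by rw [hw, mul_smul, C.z2c, C.z1e]
  have hwe : w • e = c := by rw [hw, mul_smul, C.z2e, C.z1c]
  have hww : w * w = 1 := by
    rw [hw, mul_assoc, ← mul_assoc z2 z1 z2, ← C.comm, mul_assoc z1 z2 z2, C.sq2, mul_one, C.sq1]
  refine (Subgroup.eq_bot_iff_forall _).2 fun h hh => hno h {x, p, q} card_le_three fun u hu => ?_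
  have hhw : ∀ k ∈ H, ∀ v : α, k • w • v = w • k • v := fun k hk v => by
    rw [← mul_smul, (hC _ _).1 (show k ∈ H ⊓ Subgroup.centralizer {w} by rwa [hHw]).2, mul_smul]
  obtain ⟨ha, hb, hc, he⟩ := mem_quad.1 hh
  by_cases hu4 : u = a ∨ u = b ∨ u = c ∨ u = e
  · rcases hu4 with rfl | rfl | rfl | rfl <;> assumption
  simp only [mem_insert, mem_singleton, not_or] at hu hu4
  -- the four points moved by `w` outside `a, b, c, e`
  set Q : Finset α := univ \ {a, b, c, e, x, p, q} with hQ
  have hQm : ∀ v, v ∈ Q ↔ w • v ≠ v ∧ v ≠ a ∧ v ≠ b ∧ v ≠ c ∧ v ≠ e := by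
    intro v
    simp only [Q, mem_sdiff, mem_univ, true_and, mem_insert, mem_singleton, not_or]
    refine ⟨fun hv => ⟨fun h' => ?_, hv.1, hv.2.1, hv.2.2.1, hv.2.2.2.1⟩, fun hv =>
      ⟨hv.2.1, hv.2.2.1, hv.2.2.2.1, hv.2.2.2.2, fun e' => hv.1 (e' ▸ hwx),
        fun e' => hv.1 (e' ▸ hwp), fun e' => hv.1 (e' ▸ hwq)⟩⟩
    rcases honly v h' with h | h | h
    · exact hv.2.2.2.2.1 h
    · exact hv.2.2.2.2.2.1 h
    · exact hv.2.2.2.2.2.2 h
  have hQc : Q.card = 4 := by
    simp only [mem_insert, mem_singleton, not_or] at hpR hqR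
    rw [hQ, card_sdiff_of_subset (subset_univ _), card_univ, hcard]
    have : ({a, b, c, e, x, p, q} : Finset α).card = 7 := by
      simp [C.hab, C.hac, C.hae, C.hax, C.hbc, C.hbe, C.hbx, C.hce, C.hcx, C.hex, hpq,
        Ne.symm hpR.1, Ne.symm hpR.2.1, Ne.symm hpR.2.2.1, Ne.symm hpR.2.2.2.1,
        Ne.symm hpR.2.2.2.2, Ne.symm hqR.1, Ne.symm hqR.2.1, Ne.symm hqR.2.2.1,
        Ne.symm hqR.2.2.2.1, Ne.symm hqR.2.2.2.2]
    omega
  have hwQ : ∀ v ∈ Q, w • v ∈ Q := fun v hv => by
    rw [hQm] at hv ⊢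
    exact ⟨fun h' => hv.1 (smul_left_cancel w h'),
      fun h' => hv.2.2.1 (smul_left_cancel w (h'.trans hwb.symm)),
      fun h' => hv.2.1 (smul_left_cancel w (h'.trans hwa.symm)),
      fun h' => hv.2.2.2.2 (smul_left_cancel w (h'.trans hwe.symm)),
      fun h' => hv.2.2.2.1 (smul_left_cancel w (h'.trans hwc.symm))⟩
  have hhQ : ∀ v ∈ Q, h • v ∈ Q := fun v hv => by
    rw [hQm] at hv ⊢
    exact ⟨fun h' => hv.1 (smul_left_cancel h ((hhw h hh v).trans h')),
      fun h' => hv.2.1 (smul_left_cancel h (h'.trans ha.symm)),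
      fun h' => hv.2.2.1 (smul_left_cancel h (h'.trans hb.symm)),
      fun h' => hv.2.2.2.1 (smul_left_cancel h (h'.trans hc.symm)),
      fun h' => hv.2.2.2.2 (smul_left_cancel h (h'.trans he.symm))⟩
  have huQ : u ∈ Q := by
    simp only [Q, mem_sdiff, mem_univ, true_and, mem_insert, mem_singleton, not_or]
    exact ⟨hu4.1, hu4.2.1, hu4.2.2.1, hu4.2.2.2, hu.1, hu.2.1, hu.2.2⟩
  have hzz : ∀ v : α, w • w • v = v := fun v => by rw [← mul_smul, hww, one_smul]
  have hpair : h • h • u = u ∨ h • h • u = w • u := by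
    set r := h • u with hr
    by_cases hr' : r = u ∨ r = w • u
    · rcases hr' with e' | e'
      · left; rw [e', ← hr, e']
      · left; rw [e', hhw h hh, ← hr, e', hzz]
    simp only [not_or] at hr'
    have hQ4 : ({u, w • u, r, w • r} : Finset α) = Q := by
      refine eq_of_subset_of_card_le (fun v hv => ?_) (le_of_eq ?_)
      · simp only [mem_insert, mem_singleton] at hv
        rcases hv with rfl | rfl | rfl | rfl
        · exact huQ
        · exact hwQ u huQ
        · exact hhQ u huQ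
        · exact hwQ _ (hhQ u huQ)
      · have n1 : w • u ≠ u := ((hQm u).1 huQ).1
        have n2 : w • r ≠ r := ((hQm r).1 (hhQ u huQ)).1
        have n3 : u ≠ w • r := fun e' => hr'.2 (by rw [e', hzz])
        have n4 : w • u ≠ w • r := fun e' => hr'.1 (smul_left_cancel w e').symm
        simp [hQc, n1.symm, n2.symm, n3, n4, Ne.symm hr'.1, Ne.symm hr'.2]
    have := hhQ r (hhQ u huQ)
    rw [← hQ4] at this
    simp only [mem_insert, mem_singleton] at this
    rcases this with e' | e' | e' | e'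
    · exact Or.inl e'
    · exact Or.inr e'
    · exact absurd (smul_left_cancel h (e'.trans hr)) hr'.1
    · exact absurd (smul_left_cancel h (e'.trans (by rw [hr, hhw h hh]))) hr'.2
  have hodd : ∀ k ∈ H, Odd (orderOf k) := fun k hk => by
    obtain ⟨k1, k2, k3, k4⟩ := mem_quad.1 hk
    exact S.odd k a b c e hab hac hae hbc hbe hce k1 k2 k3 k4
  have h4 : (h * h) • (h * h) • u = u := by
    rw [mul_smul, mul_smul]
    rcases hpair with e' | e'
    · rw [e', e']
    · rw [e', hhw h hh, hhw h hh, e', hzz]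
  have h2 := smul_eq_of_odd_of_smul_smul (hodd _ (mul_mem hh hh)) h4
  rw [mul_smul] at h2
  exact smul_eq_of_odd_of_smul_smul (hodd h hh) h2

end FourOdd

end Cfsg.Agent.Perm
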