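import Mathlib

/-!
Ree's inequality (in the linear form of Scott): for permutations with `x * y * z = 1` the ranks of
`1 - x`, `1 - y`, `1 - z` on the permutation module add up to at least `2 (n - c)`, `c` the number of
orbits of `⟨x, y⟩`; and that rank for an element of prime order.
-/

set_option autoImplicit false

namespace Cfsg.Agent.Perm.GenusBound

variable {α : Type*} [Fintype α] [DecidableEq α]

/-- The permutation module. -/
def act (g : Equiv.Perm α) : (α → ℚ) →ₗ[ℚ] (α → ℚ) := LinearMap.funLeft ℚ ℚ ⇑g⁻¹

/-- The index of a permutation. -/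
noncomputable def index (g : Equiv.Perm α) : ℕ :=
  Module.finrank ℚ (LinearMap.range (LinearMap.id - act g))

omit [Fintype α] [DecidableEq α] in
theorem act_apply (g : Equiv.Perm α) (v : α → ℚ) (a : α) : act g v a = v (g⁻¹ a) := rfl

omit [Fintype α] [DecidableEq α] in
theorem act_mul (g h : Equiv.Perm α) (v : α → ℚ) : act (g * h) v = act g (act h v) := rfl

omit [Fintype α] in
theorem act_single (g : Equiv.Perm α) (a : α) : act g (Pi.single a (1 : ℚ)) = Pi.single (g a) 1 := by
  funext b
  by_cases h : b = g a
  · subst h; simp [act_apply]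
  · have h' : g⁻¹ b ≠ a := fun e => h (by rw [← e]; simp)
    rw [act_apply, Pi.single_eq_of_ne h', Pi.single_eq_of_ne h]

/-- Ree's inequality. -/
theorem two_mul_le (x y z : Equiv.Perm α) (hxyz : x * y * z = 1) (R : Finset α)
    (hR : ∀ a, ∃ r ∈ R, ∃ g ∈ Subgroup.closure ({x, y} : Set (Equiv.Perm α)), g r = a) :
    2 * (Fintype.card α - R.card) ≤ index x + index y + index z := by
  set A := LinearMap.range (LinearMap.id - act x)
  set B := LinearMap.range (LinearMap.id - act y)
  set C := LinearMap.range (LinearMap.id - act z)
  let Φ : A × B × C →ₗ[ℚ] (α → ℚ) :=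
    A.subtype.coprod (((act x).comp B.subtype).coprod ((act (x * y)).comp C.subtype))
  let ψ : (α → ℚ) →ₗ[ℚ] A × B × C :=
    (LinearMap.id - act x).rangeRestrict.prod
      ((LinearMap.id - act y).rangeRestrict.prod (LinearMap.id - act z).rangeRestrict)
  have hcomp : LinearMap.range ψ ≤ LinearMap.ker Φ := by
    rintro _ ⟨v, rfl⟩
    rw [LinearMap.mem_ker]
    show (v - act x v) + (act x (v - act y v) + act (x * y) (v - act z v)) = 0
    simp only [map_sub]
    have e : act (x * y) (act z v) = v := by rw [← act_mul, hxyz]; rfl
    rw [e, ← act_mul]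
    abel
  -- the sum of the images
  set U := LinearMap.range Φ with hU
  have hUx : ∀ v, v - act x v ∈ U := fun v =>
    ⟨(⟨v - act x v, ⟨v, rfl⟩⟩, 0, 0), by simp [Φ]⟩
  have hUy : ∀ v, v - act y v ∈ U := by
    intro v
    have h1 : act x (v - act y v) ∈ U := ⟨(0, ⟨v - act y v, ⟨v, rfl⟩⟩, 0), by simp [Φ]⟩
    have := U.add_mem (hUx (v - act y v)) h1
    rwa [sub_add_cancel] at this
  have hUg : ∀ g ∈ Subgroup.closure ({x, y} : Set (Equiv.Perm α)), ∀ v, v - act g v ∈ U := by
    intro g hg
    induction hg using Subgroup.closure_induction with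
    | mem g hg =>
      rcases hg with rfl | rfl
      · exact hUx
      · exact hUy
    | one =>
      intro v
      rw [show act (1 : Equiv.Perm α) v = v from rfl, sub_self]
      exact U.zero_mem
    | mul g h _ _ hg hh =>
      intro v
      rw [act_mul, show v - act g (act h v) = (v - act h v) + (act h v - act g (act h v)) by abel]
      exact U.add_mem (hh v) (hg _)
    | inv g _ hg =>
      intro v
      have := hg (act g⁻¹ v)
      rw [← act_mul, mul_inv_cancel, show act (1 : Equiv.Perm α) v = v from rfl] at this
      simpa using U.neg_mem this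
  have hU1 : Fintype.card α ≤ Module.finrank ℚ U + R.card := by
    let S : Submodule ℚ (α → ℚ) := Submodule.span ℚ
      ((R.image fun r => (Pi.single r (1 : ℚ) : α → ℚ)) : Set (α → ℚ))
    have htop : U ⊔ S = ⊤ := by
      rw [eq_top_iff]
      intro v _
      rw [← Finset.univ_sum_single v]
      refine Submodule.sum_mem _ fun a _ => ?_
      rw [show (Pi.single a (v a) : α → ℚ) = v a • Pi.single a 1 by
        rw [← Pi.single_smul, smul_eq_mul, mul_one]]
      refine Submodule.smul_mem _ _ ?_
      obtain ⟨r, hr, g, hg, rfl⟩ := hR a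
      rw [← act_single, show act g (Pi.single r (1 : ℚ)) =
        Pi.single r 1 - (Pi.single r 1 - act g (Pi.single r 1)) by abel]
      refine Submodule.sub_mem _ (Submodule.mem_sup_right (Submodule.subset_span ?_))
        (Submodule.mem_sup_left (hUg g hg _))
      exact Finset.mem_coe.2 (Finset.mem_image.2 ⟨r, hr, rfl⟩)
    have h1 := Submodule.finrank_sup_add_finrank_inf_eq U S
    rw [htop, finrank_top, Module.finrank_fintype_fun_eq_card] at h1
    have h2 : Module.finrank ℚ S ≤ R.card := (finrank_span_finset_le_card _).trans Finset.card_image_le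
    omega
  -- the common fixed vectors
  have hψ : Fintype.card α ≤ Module.finrank ℚ (LinearMap.range ψ) + R.card := by
    have h1 := LinearMap.finrank_range_add_finrank_ker ψ
    rw [Module.finrank_fintype_fun_eq_card] at h1
    have h2 : Module.finrank ℚ (LinearMap.ker ψ) ≤ R.card := by
      let res : LinearMap.ker ψ →ₗ[ℚ] (R → ℚ) :=
        (LinearMap.funLeft ℚ ℚ (Subtype.val : R → α)).comp (LinearMap.ker ψ).subtype
      have hinj : Function.Injective res := by
        rw [← LinearMap.ker_eq_bot, eq_bot_iff]
        rintro ⟨v, hv⟩ h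
        rw [Submodule.mem_bot]
        apply Subtype.ext
        funext a
        obtain ⟨r, hr, g, hg, rfl⟩ := hR a
        have hfix : ∀ g ∈ Subgroup.closure ({x, y} : Set (Equiv.Perm α)), ∀ a, v (g a) = v a := by
          have e : (LinearMap.id - act x).rangeRestrict v = 0 ∧
              (LinearMap.id - act y).rangeRestrict v = 0 := by
            rw [LinearMap.mem_ker] at hv
            exact ⟨congrArg Prod.fst hv, congrArg (fun p => p.2.1) hv⟩
          have ex : act x v = v := (sub_eq_zero.1 (congrArg Subtype.val e.1)).symm
          have ey : act y v = v := (sub_eq_zero.1 (congrArg Subtype.val e.2)).symm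
          intro g hg
          induction hg using Subgroup.closure_induction with
          | mem g hg =>
            intro a
            rcases hg with rfl | rfl
            · conv_lhs => rw [← ex]
              simp [act_apply]
            · conv_lhs => rw [← ey]
              simp [act_apply]
          | one => intro a; rfl
          | mul g h _ _ hg hh => intro a; rw [Equiv.Perm.mul_apply, hg, hh]
          | inv g _ hg => intro a; conv_rhs => rw [show a = g (g⁻¹ a) by simp, hg]
        show v (g r) = 0
        rw [hfix g hg r]
        exact congrFun (LinearMap.mem_ker.1 h) ⟨r, hr⟩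
      have := LinearMap.finrank_le_finrank_of_injective hinj
      rwa [Module.finrank_fintype_fun_eq_card, Fintype.card_coe] at this
    omega
  have h3 := LinearMap.finrank_range_add_finrank_ker Φ
  rw [← hU, Module.finrank_prod, Module.finrank_prod] at h3
  have h4 := Submodule.finrank_mono hcomp
  show _ ≤ Module.finrank ℚ A + Module.finrank ℚ B + Module.finrank ℚ C
  omega

omit [DecidableEq α] in
/-- The index of an element of prime order with at least `f` fixed points. -/
theorem index_le [DecidableEq α] {g : Equiv.Perm α} {p f : ℕ} [Fact p.Prime] (hg : orderOf g = p)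
    (hf : f ≤ (Finset.univ.filter fun a => g a = a).card) :
    p * index g + (p - 1) * f ≤ (p - 1) * Fintype.card α := by
  classical
  set H := Subgroup.zpowers g
  let Ω := Quotient (MulAction.orbitRel H α)
  let inc : (Ω → ℚ) →ₗ[ℚ] (α → ℚ) := LinearMap.funLeft ℚ ℚ (fun a => (Quotient.mk'' a : Ω))
  have hinc : Function.Injective inc := LinearMap.funLeft_injective_of_surjective _ _ _
    Quotient.mk''_surjective
  have hle : LinearMap.range inc ≤ LinearMap.ker (LinearMap.id - act g) := by
    rintro _ ⟨w, rfl⟩
    rw [LinearMap.mem_ker, LinearMap.sub_apply, LinearMap.id_apply, sub_eq_zero]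
    funext a
    show w _ = w _
    congr 1
    exact Quotient.eq''.2 ⟨⟨g, Subgroup.mem_zpowers g⟩, by
      show g (g⁻¹ a) = a
      simp⟩
  have h1 := Submodule.finrank_mono hle
  rw [LinearMap.finrank_range_of_inj hinc, Module.finrank_fintype_fun_eq_card] at h1
  have h2 := LinearMap.finrank_range_add_finrank_ker (LinearMap.id - act g)
  rw [Module.finrank_fintype_fun_eq_card] at h2
  have h3 := MulAction.sum_card_fixedBy_eq_card_orbits_mul_card_group H α
  have hH : Fintype.card H = p := by rw [← Nat.card_eq_fintype_card, Nat.card_zpowers, hg]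
  have h4 : Fintype.card α + (p - 1) * f ≤ ∑ k : H, Fintype.card (MulAction.fixedBy α k) := by
    rw [← Finset.add_sum_erase _ _ (Finset.mem_univ (1 : H))]
    refine add_le_add (le_of_eq ?_) ?_
    · exact (Fintype.card_congr (Equiv.subtypeUnivEquiv fun a => one_smul H a)).symm
    · have hc : (Finset.univ.erase (1 : H)).card = p - 1 := by
        rw [Finset.card_erase_of_mem (Finset.mem_univ _), Finset.card_univ, hH]
      rw [← hc, ← smul_eq_mul]
      refine Finset.card_nsmul_le_sum _ _ _ fun k _ => hf.trans ?_
      rw [Fintype.card_subtype]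
      refine Finset.card_le_card fun a ha => ?_
      simp only [Finset.mem_filter, Finset.mem_univ, true_and] at ha ⊢
      obtain ⟨i, hi⟩ := Subgroup.mem_zpowers_iff.1 k.2
      show (k : Equiv.Perm α) a = a
      rw [← hi]
      exact Function.IsFixedPt.perm_zpow ha i
  rw [hH] at h3
  simp only [index]
  have hp := (Fact.out : p.Prime).one_lt
  obtain ⟨p, rfl⟩ : ∃ m, p = m + 1 := ⟨p - 1, by omega⟩
  rw [Nat.add_sub_cancel] at h4 ⊢
  change _ ≤ _ at h1
  rw [h3] at h4
  have h5 : (Fintype.card Ω) * (p + 1) ≤
      Module.finrank ℚ (LinearMap.ker (LinearMap.id - act g)) * (p + 1) := Nat.mul_le_mul_right _ h1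
  have h6 : Fintype.card (Quotient (MulAction.orbitRel H α)) = Fintype.card Ω := rfl
  rw [h6] at h4
  nlinarith [h2, h4, h5]

end Cfsg.Agent.Perm.GenusBound
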