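import Cfsg.Agent.Lib.Perm.PrimeDegree
import Mathlib.FieldTheory.Finite.Basic
import Mathlib.GroupTheory.GroupAction.SubMulAction.OfStabilizer

/-!
# Transitive groups of prime degree `p` with a Sylow normalizer of order `p (p - 1) / 2`

* `Coord`: coordinates in which the group contains the translations and the multiplications by squares;
* `Coord.eq_zero_of_functionals`: an invariant kernel in three variables over `ZMod p` is determined
  by six linear functionals;
* `Coord.card_orbits_le`: hence the stabilizer of two points has at most four orbits.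
-/

set_option autoImplicit false
set_option linter.unusedSectionVars false
set_option linter.unusedDecidableInType false

namespace Cfsg.Agent.Perm.HalfNormalizer

open Cfsg Cfsg.Agent.Perm MulAction Finset

variable {G Ω : Type*} [Group G] [MulAction G Ω] [Fintype Ω] {p : ℕ} [hp : Fact p.Prime]

variable (G) in
/-- Coordinates for a non-solvable group of degree `p` containing `x ↦ a x + b` for all squares `a`. -/
structure Coord (e : ZMod p ≃ Ω) : Prop where
  five : 5 ≤ p
  two : ∀ {a b c d : Ω}, a ≠ b → c ≠ d → ∃ g : G, g • a = c ∧ g • b = d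
  heart : ∀ V : Submodule (ZMod p) (Ω → ZMod p), (∀ g : G, ∀ f ∈ V, (fun w => f (g⁻¹ • w)) ∈ V) →
    (fun _ => 1) ∈ V → (∀ f ∈ V, ∑ w, f w = 0) →
    (∀ f ∈ V, ∃ c, f = fun _ => c) ∨ (∀ f, ∑ w, f w = 0 → f ∈ V)
  shift : ∃ t : G, ∀ x, t • e x = e (x + 1)
  scale : ∀ a : ZMod p, a ^ ((p - 1) / 2) = 1 → ∃ g : G, ∀ x, g • e x = e (a * x)

/-! ### The bilinear map of a kernel -/

/-- The bilinear map with the given kernel. -/
def bil (F : Ω → Ω → Ω → ZMod p) :
    (Ω → ZMod p) →ₗ[ZMod p] (Ω → ZMod p) →ₗ[ZMod p] (Ω → ZMod p) :=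
  LinearMap.mk₂ (ZMod p) (fun f g z => ∑ u, ∑ v, F u v z * f u * g v)
    (fun f₁ f₂ g => by funext z; simp [mul_add, add_mul, Finset.sum_add_distrib])
    (fun c f g => by funext z; simp only [Pi.smul_apply, smul_eq_mul, Finset.mul_sum]; exact
      Finset.sum_congr rfl fun u _ => Finset.sum_congr rfl fun v _ => by ring)
    (fun f g₁ g₂ => by funext z; simp [mul_add, Finset.sum_add_distrib])
    (fun c f g => by funext z; simp only [Pi.smul_apply, smul_eq_mul, Finset.mul_sum]; exact
      Finset.sum_congr rfl fun u _ => Finset.sum_congr rfl fun v _ => by ring)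

theorem bil_apply (F : Ω → Ω → Ω → ZMod p) (f g : Ω → ZMod p) (z : Ω) :
    bil F f g z = ∑ u, ∑ v, F u v z * f u * g v := rfl

theorem bil_swap (F : Ω → Ω → Ω → ZMod p) (f g : Ω → ZMod p) :
    bil (fun u v z => F v u z) f g = bil F g f := by
  funext z
  rw [bil_apply, bil_apply, Finset.sum_comm]
  exact Finset.sum_congr rfl fun u _ => Finset.sum_congr rfl fun v _ => by ring

variable (G) in
/-- A kernel invariant under the group. -/
def Invariant (F : Ω → Ω → Ω → ZMod p) : Prop :=
  ∀ (g : G) (u v z : Ω), F (g • u) (g • v) (g • z) = F u v z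

theorem Invariant.swap {F : Ω → Ω → Ω → ZMod p} (h : Invariant G F) :
    Invariant G fun u v z => F v u z := fun g u v z => h g v u z

/-- Substituting a group element commutes with the bilinear map. -/
theorem Invariant.bil_comp {F : Ω → Ω → Ω → ZMod p} (h : Invariant G F) (g : G) (f k : Ω → ZMod p)
    (z : Ω) : bil F (fun w => f (g • w)) (fun w => k (g • w)) z = bil F f k (g • z) := by
  rw [bil_apply, bil_apply, ← Equiv.sum_comp (MulAction.toPerm g) (fun u => ∑ v, F u v (g • z) * f u * k v)]
  refine Finset.sum_congr rfl fun u _ => ?_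
  rw [← Equiv.sum_comp (MulAction.toPerm g) (fun v => F (MulAction.toPerm g u) v (g • z) * _ * k v)]
  exact Finset.sum_congr rfl fun v _ => by simp only [MulAction.toPerm_apply, h g u v z]

variable {e : ZMod p ≃ Ω}

variable (e) in
/-- The monomial functions. -/
def mono (b : ℕ) : Ω → ZMod p := fun w => e.symm w ^ b

theorem mono_zero : mono e 0 = fun _ => 1 := by funext w; simp [mono]

theorem sum_mono_eq_zero {b : ℕ} (hb : b < p - 1) : ∑ w, mono e b w = 0 := by
  rw [← Equiv.sum_comp e (mono e b)]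
  simp only [mono, Equiv.symm_apply_apply]
  exact FiniteField.sum_pow_lt_card_sub_one _ b (by rwa [ZMod.card])

theorem sum_one (e : ZMod p ≃ Ω) : ∑ _w : Ω, (1 : ZMod p) = 0 := by
  rw [Finset.sum_const, Finset.card_univ, ← Fintype.card_congr e, ZMod.card, nsmul_eq_mul, mul_one,
    ZMod.natCast_self]

open Polynomial in
/-- A sum-zero function is a combination of the monomials of degree below `p - 1`. -/
theorem exists_coeff_of_sum_zero {f : Ω → ZMod p} (hf : ∑ w, f w = 0) :
    ∃ c : ℕ → ZMod p, f = ∑ b ∈ range (p - 1), c b • mono e b := by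
  have hmem : f ∘ e ∈ PrimeDegree.polyFun p (ZMod p) p := by rw [PrimeDegree.polyFun_top]; exact Submodule.mem_top
  obtain ⟨P, hPd, hP⟩ := PrimeDegree.mem_polyFun_iff.1 hmem
  have hinc : ∀ x : ZMod p, (PrimeDegree.inc x : ZMod p) = x := fun x => by
    simp [PrimeDegree.inc, ZMod.castHom_self]
  have hp2 := hp.out.two_le
  have hnd : P.natDegree < p - 1 + 1 := by
    rw [Nat.sub_add_cancel hp.out.one_lt.le]
    by_cases h0 : P = 0
    · rw [h0, natDegree_zero]; exact hp.out.pos
    · exact (natDegree_lt_iff_degree_lt h0).2 hPd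
  have hval : ∀ x, f (e x) = ∑ b ∈ range (p - 1 + 1), P.coeff b * x ^ b := fun x => by
    rw [show f (e x) = (f ∘ e) x from rfl, hP, hinc, eval_eq_sum_range' hnd]
  have htop : P.coeff (p - 1) = 0 := by
    rw [← Equiv.sum_comp e, Finset.sum_congr rfl (fun x _ => hval x), Finset.sum_comm,
      Finset.sum_range_succ, Finset.sum_eq_zero fun b hb => ?_, zero_add, ← Finset.mul_sum] at hf
    · have h1 : ∑ x : ZMod p, x ^ (p - 1) = -1 := by
        classical
        rw [← Finset.sum_erase_add _ _ (Finset.mem_univ (0 : ZMod p)), zero_pow (by omega), add_zero,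
          Finset.sum_congr rfl (fun x hx => ZMod.pow_card_sub_one_eq_one (Finset.ne_of_mem_erase hx)),
          Finset.sum_const, Finset.card_erase_of_mem (Finset.mem_univ _), Finset.card_univ, ZMod.card,
          nsmul_eq_mul, mul_one, Nat.cast_sub hp.out.one_lt.le, ZMod.natCast_self, Nat.cast_one, zero_sub]
      rw [h1, mul_neg, mul_one, neg_eq_zero] at hf
      exact hf
    · rw [← Finset.mul_sum, FiniteField.sum_pow_lt_card_sub_one _ b
        (by rw [ZMod.card]; exact Finset.mem_range.1 hb), mul_zero]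
  refine ⟨fun b => P.coeff b, funext fun w => ?_⟩
  obtain ⟨x, rfl⟩ := e.surjective w
  rw [hval, Finset.sum_range_succ, htop, zero_mul, add_zero, Finset.sum_apply]
  exact Finset.sum_congr rfl fun b _ => by simp [mono]

namespace Coord

variable (hC : Coord G e)

include hC

theorem exists_smul_eq' (a b : Ω) : ∃ g : G, g • a = b := by
  haveI : Nontrivial (ZMod p) := inferInstance
  haveI : Nontrivial Ω := e.symm.nontrivial
  obtain ⟨a', ha⟩ := exists_ne a
  obtain ⟨b', hb⟩ := exists_ne b
  obtain ⟨g, hg, -⟩ := hC.two ha.symm hb.symm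
  exact ⟨g, hg⟩

/-- A square of order `(p - 1) / 2`. -/
theorem exists_orderOf_half : ∃ a : ZMod p, orderOf a = (p - 1) / 2 := by
  obtain ⟨g, hg⟩ := IsCyclic.exists_ofOrder_eq_natCard (α := (ZMod p)ˣ)
  rw [Nat.card_units, Nat.card_zmod] at hg
  refine ⟨((g ^ 2 : (ZMod p)ˣ) : ZMod p), ?_⟩
  have h2 : 2 ∣ p - 1 := (hp.out.even_sub_one (by have := hC.five; omega)).two_dvd
  rw [orderOf_units, orderOf_pow_of_dvd two_ne_zero (hg ▸ h2), hg]

theorem const_of_shift {D : Ω → ZMod p} {t : G} (ht : ∀ x, t • e x = e (x + 1))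
    (h : ∀ z, D (t⁻¹ • z) = D z) : ∀ z, D z = D (e 0) := by
  have hstep : ∀ x, D (e (x + 1)) = D (e x) := fun x => by
    rw [← ht, ← h (t • e x), inv_smul_smul]
  have hnat : ∀ n : ℕ, D (e (n : ZMod p)) = D (e 0) := by
    intro n
    induction n with
    | zero => simp
    | succ n ih => rw [Nat.cast_succ, hstep, ih]
  intro z
  obtain ⟨x, rfl⟩ := e.surjective z
  rw [← ZMod.natCast_zmod_val x]
  exact hnat _

theorem mono_comp_shift_inv {t : G} (ht : ∀ x, t • e x = e (x + 1)) (b : ℕ) :
    (fun w => mono e b (t⁻¹ • w)) =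
      mono e b + ∑ j ∈ range b, ((-1 : ZMod p) ^ (b - j) * (b.choose j : ZMod p)) • mono e j := by
  funext w
  obtain ⟨x, rfl⟩ := e.surjective w
  have h : t⁻¹ • e x = e (x - 1) := by rw [inv_smul_eq_iff, ht, sub_add_cancel]
  simp only [mono, h, Equiv.symm_apply_apply, Pi.add_apply, Finset.sum_apply, Pi.smul_apply, smul_eq_mul]
  rw [show x - 1 = x + -1 from sub_eq_add_neg x 1, add_pow, Finset.sum_range_succ, add_comm]
  congr 1
  · simp
  · exact Finset.sum_congr rfl fun j _ => by ring

/-- The functions annihilated on the sum-zero functions contain all sum-zero functions. -/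
theorem bil_sumZero_eq_zero {F : Ω → Ω → Ω → ZMod p} (hF : Invariant G F)
    (h1 : ∀ g, bil F (fun _ => 1) g = 0) (h1' : ∀ f, bil F f (fun _ => 1) = 0)
    (hμ : bil F (mono e 1) (mono e ((p - 1) / 2 - 1)) (e 0) = 0)
    (hν : bil F (mono e 1) (mono e (p - 2)) (e 0) = 0) :
    ∀ f g, ∑ w, f w = 0 → ∑ w, g w = 0 → bil F f g = 0 := by
  obtain ⟨t, ht⟩ := hC.shift
  obtain ⟨a, ha⟩ := hC.exists_orderOf_half
  obtain ⟨σ, hσ⟩ := hC.scale a (ha ▸ pow_orderOf_eq_one a)
  have hp5 := hC.five
  obtain ⟨k, hk⟩ : Odd p := hp.out.odd_of_ne_two (by omega)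
  have key : ∀ b, b < p - 1 → bil F (mono e 1) (mono e b) = 0 := by
    intro b
    induction b using Nat.strong_induction_on with
    | _ b ih =>
      intro hb
      set D := bil F (mono e 1) (mono e b)
      have hlow : bil F (mono e 1)
          (∑ j ∈ range b, ((-1 : ZMod p) ^ (b - j) * (b.choose j : ZMod p)) • mono e j) = 0 := by
        rw [map_sum]
        refine Finset.sum_eq_zero fun j hj => ?_
        rw [map_smul, ih j (Finset.mem_range.1 hj) (by have := Finset.mem_range.1 hj; omega), smul_zero]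
      have hinv : ∀ z, D (t⁻¹ • z) = D z := fun z => by
        simp only [D]
        rw [← hF.bil_comp t⁻¹, hC.mono_comp_shift_inv ht 1, hC.mono_comp_shift_inv ht b,
          Finset.sum_range_one, mono_zero]
        simp only [map_add, map_smul, LinearMap.add_apply, LinearMap.smul_apply, h1, smul_zero,
          add_zero, hlow]
      have hconst := hC.const_of_shift ht hinv
      have hcomp : ∀ j, (fun w => mono e j (σ • w)) = a ^ j • mono e j := fun j => by
        funext w
        obtain ⟨x, rfl⟩ := e.surjective w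
        simp [mono, hσ, mul_pow]
      have h0 : (a ^ (b + 1) - 1) * D (e 0) = 0 := by
        have h := hF.bil_comp σ (mono e 1) (mono e b) (e 0)
        rw [hσ, mul_zero, hcomp, hcomp, map_smul, map_smul, LinearMap.smul_apply] at h
        simp only [Pi.smul_apply, smul_eq_mul] at h
        linear_combination h
      have hD0 : D (e 0) = 0 := by
        rcases mul_eq_zero.1 h0 with h | h
        · have hd : (p - 1) / 2 ∣ b + 1 := ha ▸ orderOf_dvd_of_pow_eq_one (sub_eq_zero.1 h)
          obtain ⟨q, hq⟩ := hd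
          have hq2 : q ≤ 2 := by
            by_contra hq2
            have := Nat.mul_le_mul_left ((p - 1) / 2) (show 3 ≤ q by omega)
            omega
          interval_cases q
          · omega
          · rw [show D = bil F (mono e 1) (mono e ((p - 1) / 2 - 1)) by rw [show (p - 1) / 2 - 1 = b by omega]]
            exact hμ
          · rw [show D = bil F (mono e 1) (mono e (p - 2)) by rw [show p - 2 = b by omega]]
            exact hν
        · exact h
      funext z
      rw [hconst z, hD0, Pi.zero_apply]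
  let V : Submodule (ZMod p) (Ω → ZMod p) :=
    { carrier := {f | ∑ w, f w = 0 ∧ ∀ g, ∑ w, g w = 0 → bil F f g = 0}
      zero_mem' := ⟨by simp, fun g _ => by simp⟩
      add_mem' := fun {x y} hx hy => ⟨by simp [Finset.sum_add_distrib, hx.1, hy.1],
        fun g hg => by rw [map_add, LinearMap.add_apply, hx.2 g hg, hy.2 g hg, add_zero]⟩
      smul_mem' := fun c x hx => ⟨by simp [← Finset.mul_sum, hx.1],
        fun g hg => by rw [map_smul, LinearMap.smul_apply, hx.2 g hg, smul_zero]⟩ }
  have hsum : ∀ (g : G) (f : Ω → ZMod p), ∑ w, f (g • w) = ∑ w, f w := fun g f =>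
    Equiv.sum_comp (MulAction.toPerm g) f
  have hV : ∀ g : G, ∀ f ∈ V, (fun w => f (g⁻¹ • w)) ∈ V := fun g f hf => ⟨(hsum _ f).trans hf.1,
    fun k hk => by
      funext z
      have h := hF.bil_comp g⁻¹ f (fun w => k (g • w)) z
      simp only [smul_inv_smul] at h
      rw [h, hf.2 _ ((hsum g k).trans hk)]
      rfl⟩
  have hm : mono e 1 ∈ V := ⟨sum_mono_eq_zero (by omega), fun g hg => by
    obtain ⟨c, rfl⟩ := exists_coeff_of_sum_zero (e := e) hg
    rw [map_sum]
    exact Finset.sum_eq_zero fun b hb => by rw [map_smul, key b (Finset.mem_range.1 hb), smul_zero]⟩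
  rcases hC.heart V hV ⟨sum_one e, fun g _ => h1 g⟩ (fun f hf => hf.1) with h | h
  · obtain ⟨c, hc⟩ := h _ hm
    have e0 := congrFun hc (e 0)
    have e1 := congrFun hc (e 1)
    simp only [mono, Equiv.symm_apply_apply, pow_one] at e0 e1
    exact absurd (e1.trans e0.symm) one_ne_zero
  · exact fun f g hf hg => (h f hf).2 g hg

/-- A vector pairs trivially with the sum-zero functions. -/
theorem bil_single_eq_zero [DecidableEq Ω] {F : Ω → Ω → Ω → ZMod p} (hF : Invariant G F)
    (h1' : ∀ f, bil F f (fun _ => 1) = 0)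
    (hW : ∀ f g, ∑ w, f w = 0 → ∑ w, g w = 0 → bil F f g = 0) :
    ∀ (u : Ω) (g : Ω → ZMod p), ∑ w, g w = 0 → bil F (Pi.single u 1) g = 0 := by
  obtain ⟨t, ht⟩ := hC.shift
  obtain ⟨a, ha⟩ := hC.exists_orderOf_half
  obtain ⟨σ, hσ⟩ := hC.scale a (ha ▸ pow_orderOf_eq_one a)
  have hp5 := hC.five
  set δ : Ω → ZMod p := Pi.single (e 0) 1
  have hone : ∀ u, ∑ w, (Pi.single u (1 : ZMod p) : Ω → ZMod p) w = 1 := fun u => by simp
  have hmove : ∀ u g, ∑ w, g w = 0 → bil F (Pi.single u 1) g = bil F δ g := fun u g hg => by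
    have h := hW (Pi.single u 1 - δ) g (by simp [δ, Finset.sum_sub_distrib, hone]) hg
    rwa [map_sub, LinearMap.sub_apply, sub_eq_zero] at h
  have hsum : ∀ (g : G) (f : Ω → ZMod p), ∑ w, f (g • w) = ∑ w, f w := fun g f =>
    Equiv.sum_comp (MulAction.toPerm g) f
  have hsingle : ∀ (g : G) (u : Ω), (fun w => (Pi.single u (1 : ZMod p) : Ω → ZMod p) (g • w)) =
      Pi.single (g⁻¹ • u) 1 := fun g u => by
    funext w
    by_cases h : g • w = u
    · subst h; simp
    · rw [Pi.single_eq_of_ne h, Pi.single_eq_of_ne fun e' => h (by rw [e', smul_inv_smul])]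
  have hcomp : ∀ (g : G) (k : Ω → ZMod p), ∑ w, k w = 0 → ∀ z,
      bil F δ (fun w => k (g • w)) z = bil F δ k (g • z) := fun g k hk z => by
    rw [← hmove (g⁻¹ • e 0) _ ((hsum g k).trans hk), ← hsingle, hF.bil_comp]
  let V : Submodule (ZMod p) (Ω → ZMod p) :=
    { carrier := {f | ∑ w, f w = 0 ∧ bil F δ f = 0}
      zero_mem' := ⟨by simp, by simp⟩
      add_mem' := fun {x y} hx hy => ⟨by simp [Finset.sum_add_distrib, hx.1, hy.1],
        by rw [map_add, hx.2, hy.2, add_zero]⟩
      smul_mem' := fun c x hx => ⟨by simp [← Finset.mul_sum, hx.1],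
        by rw [map_smul, hx.2, smul_zero]⟩ }
  have hV : ∀ g : G, ∀ f ∈ V, (fun w => f (g⁻¹ • w)) ∈ V := fun g f hf => ⟨(hsum _ f).trans hf.1, by
    funext z; rw [hcomp _ _ hf.1, hf.2]; rfl⟩
  have hs1 : ∑ w, mono e 1 w = 0 := sum_mono_eq_zero (by omega)
  have hm : mono e 1 ∈ V := by
    refine ⟨hs1, ?_⟩
    have hinv : ∀ z, bil F δ (mono e 1) (t⁻¹ • z) = bil F δ (mono e 1) z := fun z => by
      rw [← hcomp _ _ hs1, hC.mono_comp_shift_inv ht 1, Finset.sum_range_one, mono_zero, map_add,
        map_smul, h1', smul_zero, add_zero]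
    have hconst := hC.const_of_shift ht hinv
    have h := hcomp σ _ hs1 (e 0)
    rw [hσ, mul_zero, show (fun w => mono e 1 (σ • w)) = a • mono e 1 from funext fun w => by
      obtain ⟨x, rfl⟩ := e.surjective w
      simp [mono, hσ], map_smul] at h
    simp only [Pi.smul_apply, smul_eq_mul] at h
    have ha1 : a - 1 ≠ 0 := fun h0 => by
      rw [sub_eq_zero.1 h0, orderOf_one] at ha
      omega
    funext z
    rw [hconst z, Pi.zero_apply]
    exact (mul_eq_zero.1 (show (a - 1) * bil F δ (mono e 1) (e 0) = 0 by linear_combination h)).resolve_left ha1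
  intro u g hg
  rw [hmove u g hg]
  rcases hC.heart V hV ⟨sum_one e, h1' δ⟩ (fun f hf => hf.1) with h | h
  · obtain ⟨c, hc⟩ := h _ hm
    have e0 := congrFun hc (e 0)
    have e1 := congrFun hc (e 1)
    simp only [mono, Equiv.symm_apply_apply, pow_one] at e0 e1
    exact absurd (e1.trans e0.symm) one_ne_zero
  · exact (h g hg).2

/-- An invariant kernel is determined by six functionals. -/
theorem eq_zero_of_functionals {F : Ω → Ω → Ω → ZMod p} (hF : Invariant G F)
    (hA0 : ∑ u, F u (e 0) (e 0) = 0) (hA1 : ∑ u, F u (e 1) (e 0) = 0)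
    (hB1 : ∑ v, F (e 1) v (e 0) = 0)
    (hμ : bil F (mono e 1) (mono e ((p - 1) / 2 - 1)) (e 0) = 0)
    (hν : bil F (mono e 1) (mono e (p - 2)) (e 0) = 0)
    (hc : F (e 0) (e 0) (e 0) = 0) : F = 0 := by
  classical
  have h01 : e 0 ≠ e 1 := fun h => zero_ne_one (e.injective h)
  -- the two contractions
  have hA : ∀ v z, ∑ u, F u v z = 0 := by
    have hinv : ∀ (g : G) v z, ∑ u, F u (g • v) (g • z) = ∑ u, F u v z := fun g v z => by
      rw [← Equiv.sum_comp (MulAction.toPerm g) (fun u => F u (g • v) (g • z))]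
      exact Finset.sum_congr rfl fun u _ => hF g u v z
    intro v z
    by_cases h : v = z
    · subst h
      obtain ⟨g, hg⟩ := hC.exists_smul_eq' (e 0) v
      rw [← hg, hinv, hA0]
    · obtain ⟨g, hg, hg'⟩ := hC.two h01.symm h
      rw [← hg, ← hg', hinv, hA1]
  have hB : ∀ u z, ∑ v, F u v z = 0 := by
    have hinv : ∀ (g : G) u z, ∑ v, F (g • u) v (g • z) = ∑ v, F u v z := fun g u z => by
      rw [← Equiv.sum_comp (MulAction.toPerm g) (fun v => F (g • u) v (g • z))]
      exact Finset.sum_congr rfl fun v _ => hF g u v z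
    have hne : ∀ u z, u ≠ z → ∑ v, F u v z = 0 := fun u z h => by
      obtain ⟨g, hg, hg'⟩ := hC.two h01.symm h
      rw [← hg, ← hg', hinv, hB1]
    intro u z
    by_cases h : u = z
    · subst h
      have htot : ∑ u', ∑ v, F u' v u = 0 := by
        rw [Finset.sum_comm]; exact Finset.sum_eq_zero fun v _ => hA v u
      rwa [Finset.sum_eq_single_of_mem u (Finset.mem_univ u) fun w _ hw => hne w u hw] at htot
    · exact hne u z h
  have h1 : ∀ g, bil F (fun _ => 1) g = 0 := fun g => by
    funext z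
    rw [bil_apply, Finset.sum_comm, Pi.zero_apply]
    exact Finset.sum_eq_zero fun v _ => by simp only [mul_one, ← Finset.sum_mul, hA, zero_mul]
  have h1' : ∀ f, bil F f (fun _ => 1) = 0 := fun f => by
    funext z
    rw [bil_apply, Pi.zero_apply]
    exact Finset.sum_eq_zero fun u _ => by simp only [mul_one, ← Finset.sum_mul, hB, zero_mul]
  have hW := hC.bil_sumZero_eq_zero hF h1 h1' hμ hν
  have hl := hC.bil_single_eq_zero hF h1' hW
  have hr : ∀ (v : Ω) (g : Ω → ZMod p), ∑ w, g w = 0 → bil F g (Pi.single v 1) = 0 := fun v g hg => by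
    rw [← bil_swap]
    exact hC.bil_single_eq_zero hF.swap (fun f => by rw [bil_swap]; exact h1 f)
      (fun f g hf hg => by rw [bil_swap]; exact hW g f hg hf) v g hg
  have hval : ∀ u v z, F u v z = bil F (Pi.single u 1) (Pi.single v 1) z := fun u v z => by
    simp [bil_apply, Pi.single_apply]
  have heq : ∀ u v z, F u v z = F (e 0) (e 0) z := fun u v z => by
    have hsz : ∀ x y : Ω, ∑ w, (Pi.single x (1 : ZMod p) - Pi.single y 1 : Ω → ZMod p) w = 0 :=
      fun x y => by simp [Finset.sum_sub_distrib]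
    have h2 := hl u _ (hsz v (e 0))
    have h3 := hr (e 0) _ (hsz u (e 0))
    rw [map_sub, sub_eq_zero] at h2
    rw [map_sub, LinearMap.sub_apply, sub_eq_zero] at h3
    rw [hval, hval, h2, h3]
  funext u v z
  obtain ⟨g, hg⟩ := hC.exists_smul_eq' (e 0) z
  rw [heq, Pi.zero_apply, Pi.zero_apply, Pi.zero_apply, ← hg, ← heq (g • e 0) (g • e 0), hF, hc]

/-- The stabilizer of two points has at most four orbits. -/
theorem card_orbits_le {α β : Ω} (hαβ : α ≠ β) :
    Nat.card (orbitRel.Quotient ↥(stabilizer G α ⊓ stabilizer G β) Ω) ≤ 4 := by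
  classical
  set S := stabilizer G α ⊓ stabilizer G β
  set Q := orbitRel.Quotient S Ω
  haveI : Fintype Q := Fintype.ofFinite Q
  let mk : Ω → Q := Quotient.mk _
  have hmk : ∀ g : G, g • α = α → g • β = β → ∀ z, mk (g • z) = mk z := fun g hα hβ z =>
    Quotient.sound ⟨⟨g, hα, hβ⟩, rfl⟩
  choose g hgα hgβ using fun (q : {q : Ω × Ω // q.1 ≠ q.2}) => hC.two (c := q.1.1) (d := q.1.2) hαβ q.2
  let K := ZMod p
  let Ψ : ((Q → K) × K × K) →ₗ[K] (Ω → Ω → Ω → K) :=
    { toFun := fun x u v z => if h : u = v then (if z = u then x.2.1 else x.2.2)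
        else x.1 (mk ((g ⟨(u, v), h⟩)⁻¹ • z))
      map_add' := fun x y => by
        funext u v z
        simp only [Pi.add_apply]
        split_ifs <;> rfl
      map_smul' := fun c x => by
        funext u v z
        simp only [Pi.smul_apply, RingHom.id_apply]
        split_ifs <;> rfl }
  have hinv : ∀ x, Invariant G (Ψ x) := by
    intro x σ u v z
    simp only [Ψ, LinearMap.coe_mk, AddHom.coe_mk, smul_left_cancel_iff]
    split_ifs with h h'
    · rfl
    · rfl
    · congr 1
      set k := g ⟨(u, v), h⟩ with hk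
      set k' := g ⟨(σ • u, σ • v), by simpa using h⟩ with hk'
      have h1 : (k'⁻¹ * σ * k) • α = α := by rw [mul_smul, mul_smul, hgα, inv_smul_eq_iff, hgα]
      have h2 : (k'⁻¹ * σ * k) • β = β := by rw [mul_smul, mul_smul, hgβ, inv_smul_eq_iff, hgβ]
      rw [← hmk _ h1 h2 (k⁻¹ • z)]
      congr 1
      rw [mul_smul, mul_smul, smul_inv_smul]
  let L : (Ω → Ω → Ω → K) →ₗ[K] (Fin 6 → K) :=
    { toFun := fun F => ![∑ u, F u (e 0) (e 0), ∑ u, F u (e 1) (e 0), ∑ v, F (e 1) v (e 0),
        bil F (mono e 1) (mono e ((p - 1) / 2 - 1)) (e 0),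
        bil F (mono e 1) (mono e (p - 2)) (e 0), F (e 0) (e 0) (e 0)]
      map_add' := fun F F' => by
        funext i
        fin_cases i <;> simp [bil_apply, Finset.sum_add_distrib, add_mul]
      map_smul' := fun c F => by
        funext i
        fin_cases i <;> simp [bil_apply, mul_assoc, ← Finset.mul_sum] }
  have hinj : Function.Injective (L.comp Ψ) := by
    rw [injective_iff_map_eq_zero]
    intro x hx
    have h : ∀ i, L (Ψ x) i = 0 := fun i => congrFun hx i
    have hF := hC.eq_zero_of_functionals (hinv x) (h 0) (h 1) (h 2) (h 3) (h 4) (h 5)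
    refine Prod.ext (funext fun q => ?_) (Prod.ext ?_ ?_)
    · obtain ⟨z, rfl⟩ := Quotient.mk_surjective q
      have h' := congrFun (congrFun (congrFun hF α) β) z
      simp only [Ψ, LinearMap.coe_mk, AddHom.coe_mk, dif_neg hαβ] at h'
      rw [← hmk (g ⟨(α, β), hαβ⟩) (hgα _) (hgβ _), smul_inv_smul] at h'
      exact h'
    · have h' := congrFun (congrFun (congrFun hF α) α) α
      simpa [Ψ] using h'
    · have h' := congrFun (congrFun (congrFun hF α) α) β
      simpa [Ψ, hαβ.symm] using h'
  have h6 := LinearMap.finrank_le_finrank_of_injective hinj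
  simp only [Module.finrank_prod, Module.finrank_fintype_fun_eq_card, Module.finrank_self,
    Fintype.card_fin, K] at h6
  rw [Nat.card_eq_fintype_card]
  omega

end Coord

end Cfsg.Agent.Perm.HalfNormalizer
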