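import Mathlib

/-!
# Binomial coefficients without small prime divisors

The arithmetic behind the Hall subgroups of symmetric groups: if `r ≥ 5` is prime, `b < r` and
`C(b + c, c)`, `2 ≤ c ≤ b`, has no prime divisor below `r`, then `(b, c) = (4, 3)`.
-/

set_option autoImplicit false

namespace Cfsg.Agent.Perm.HallSym

open Nat

/-- No prime below `r` divides `N`. -/
def NoSmall (r N : ℕ) : Prop := ∀ P : ℕ, P.Prime → P < r → ¬ P ∣ N

theorem NoSmall.of_dvd {r N M : ℕ} (h : NoSmall r N) (hd : M ∣ N) : NoSmall r M :=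
  fun P hP hPr hdvd => h P hP hPr (hdvd.trans hd)

/-- Cancellation of a number whose prime divisors are below `r`. -/
theorem NoSmall.cancel {r N m k : ℕ} (h : NoSmall r N)
    (hm : ∀ P : ℕ, P.Prime → P ∣ m → P < r) (hd : m ∣ N * k) : m ∣ k :=
  (Nat.coprime_of_dvd fun P hP hPm hPN => h P hP (hm P hP hPm) hPN).dvd_of_dvd_mul_left hd

theorem small_of_lt {r m : ℕ} (hm0 : 0 < m) (hm : m < r) :
    ∀ P : ℕ, P.Prime → P ∣ m → P < r :=
  fun _ _ hP => (Nat.le_of_dvd hm0 hP).trans_lt hm

theorem small_two_mul {r m : ℕ} (h2 : 2 < r) (hm0 : 0 < m) (hm : m < r) :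
    ∀ P : ℕ, P.Prime → P ∣ 2 * m → P < r := by
  intro P hP hd
  rcases hP.dvd_mul.1 hd with h | h
  · exact (Nat.le_of_dvd two_pos h).trans_lt h2
  · exact small_of_lt hm0 hm P hP h

theorem choose_step (N k : ℕ) : N.choose (k + 1) * (k + 1) = N.choose k * (N - k) :=
  Nat.choose_succ_right_eq N k

variable {r : ℕ}

/-- The largest class has size `r - 1`. -/
theorem succ_eq_of_noSmall {b c : ℕ} (hc : 1 ≤ c) (hcb : c ≤ b) (hbr : b < r)
    (h : NoSmall r ((b + c).choose c)) : b + 1 = r := by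
  by_contra hne
  obtain ⟨k, rfl⟩ : ∃ k, c = k + 1 := ⟨c - 1, by omega⟩
  have e := choose_step (b + (k + 1)) k
  rw [show b + (k + 1) - k = b + 1 by omega] at e
  have hd : b + 1 ∣ (b + (k + 1)).choose (k + 1) * (k + 1) := ⟨_, e.trans (mul_comm _ _)⟩
  have := Nat.le_of_dvd (by omega) (h.cancel (small_of_lt (by omega) (by omega)) hd)
  omega

/-- **Two classes of different kinds.** -/
theorem pair_noSmall (hr : r.Prime) (hr5 : 5 ≤ r) {b c : ℕ} (hc : 2 ≤ c) (hcb : c ≤ b)
    (hbr : b < r) (h : NoSmall r ((b + c).choose c)) : b = 4 ∧ c = 3 ∧ r = 5 := by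
  have hb1 := succ_eq_of_noSmall (by omega) hcb hbr h
  obtain ⟨hb, hbodd⟩ : Even b ∧ Odd (b + 1) := by
    have ho : Odd r := hr.odd_of_ne_two (by omega)
    rw [← hb1] at ho
    exact ⟨by simpa [Nat.odd_add_one] using ho, ho⟩
  obtain ⟨B, rfl⟩ := hb
  -- `b + c` is prime
  have hNodd : Odd (B + B + c) := by
    rw [← Nat.not_even_iff_odd]
    intro hev
    obtain ⟨H, hH⟩ := hev
    obtain ⟨k, rfl⟩ : ∃ k, c = k + 1 := ⟨c - 1, by omega⟩
    have e := Nat.add_one_mul_choose_eq (B + B + k) k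
    simp only [Nat.add_assoc (B + B)] at e
    have hd : B + B + (k + 1) ∣ (B + B + (k + 1)).choose (k + 1) * (k + 1) := ⟨_, e.symm⟩
    have := Nat.le_of_dvd (by omega) (h.cancel (by
      rw [hH, ← two_mul]; exact small_two_mul (by omega) (by omega) (by omega)) hd)
    omega
  obtain ⟨m, rfl⟩ : ∃ m, c = 2 * m + 1 := ⟨(c - 1) / 2, by rw [Nat.odd_iff] at hNodd; omega⟩
  set C := (B + B + (2 * m + 1)).choose (2 * m + 1) with hC
  set N := B + B + (2 * m + 1) with hN
  -- `c + 1` divides `b`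
  have hk : 2 * m + 2 ∣ B + B := by
    refine h.cancel (small_of_lt (by omega) (by omega)) ?_
    have e := choose_step N (2 * m + 1)
    rw [show N - (2 * m + 1) = B + B by omega] at e
    exact ⟨_, e.symm.trans (mul_comm _ _)⟩
  -- `b + 2` divides `c (c - 1)`
  have st : ∀ i j X : ℕ, i = j + 1 → N - j = X → N.choose i * i = N.choose j * X := by
    rintro i j X rfl rfl
    exact choose_step N j
  obtain ⟨m', rfl⟩ : ∃ m', m = m' + 1 := ⟨m - 1, by omega⟩
  have hC' : C = N.choose (2 * m' + 3) := by rw [hC, show 2 * (m' + 1) + 1 = 2 * m' + 3 by ring]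
  have hb2 : B + B + 2 ∣ (2 * m' + 3) * (2 * m' + 2) := by
    refine h.cancel (by
      rw [show B + B + 2 = 2 * (B + 1) by ring]
      exact small_two_mul (by omega) (by omega) (by omega)) ?_
    refine ⟨N.choose (2 * m' + 1) * (B + B + 1), ?_⟩
    rw [hC', ← mul_assoc, st _ (2 * m' + 2) (B + B + 1) (by omega) (by omega), mul_right_comm,
      st _ (2 * m' + 1) (B + B + 2) (by omega) (by omega)]
    ring
  rcases Nat.eq_zero_or_pos m' with rfl | hm'
  · -- `c = 3`
    have := Nat.le_of_dvd (by norm_num) hb2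
    have : B = 2 := by norm_num at this; omega
    omega
  exfalso
  obtain ⟨m, rfl⟩ : ∃ m, m' = m + 1 := ⟨m' - 1, by omega⟩
  have hb4 : (B + B + 2) * (B + B + 4) ∣
      (2 * m + 5) * (2 * m + 4) * ((2 * m + 3) * (2 * m + 2)) := by
    refine h.cancel (fun P hP hd => ?_) ?_
    · rcases hP.dvd_mul.1 hd with hd | hd
      · exact small_two_mul (by omega) (by omega : 0 < B + 1) (by omega) P hP (by
          rw [show 2 * (B + 1) = B + B + 2 by ring]; exact hd)
      · exact small_two_mul (by omega) (by omega : 0 < B + 2) (by omega) P hP (by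
          rw [show 2 * (B + 2) = B + B + 4 by ring]; exact hd)
    refine ⟨N.choose (2 * m + 1) * (B + B + 1) * (B + B + 3), ?_⟩
    have f1 := st (2 * m + 5) (2 * m + 4) (B + B + 1) (by omega) (by omega)
    have f2 := st (2 * m + 4) (2 * m + 3) (B + B + 2) (by omega) (by omega)
    have f3 := st (2 * m + 3) (2 * m + 2) (B + B + 3) (by omega) (by omega)
    have f4 := st (2 * m + 2) (2 * m + 1) (B + B + 4) (by omega) (by omega)
    calc C * ((2 * m + 5) * (2 * m + 4) * ((2 * m + 3) * (2 * m + 2)))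
        = N.choose (2 * m + 5) * (2 * m + 5) * ((2 * m + 4) * ((2 * m + 3) * (2 * m + 2))) := by
          rw [hC', show 2 * (m + 1) + 3 = 2 * m + 5 by ring]; ring
      _ = N.choose (2 * m + 4) * (2 * m + 4) * ((B + B + 1) * ((2 * m + 3) * (2 * m + 2))) := by
          rw [f1]; ring
      _ = N.choose (2 * m + 3) * (2 * m + 3) * ((B + B + 2) * (B + B + 1) * (2 * m + 2)) := by
          rw [f2]; ring
      _ = N.choose (2 * m + 2) * (2 * m + 2) * ((B + B + 3) * (B + B + 2) * (B + B + 1)) := by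
          rw [f3]; ring
      _ = _ := by rw [f4]; ring
  obtain ⟨k, hk⟩ := hk
  obtain ⟨t, ht⟩ := hb2
  have h1 : m + 3 ∣ t + (m + 2) := by
    have hz : ((m : ℤ) + 3) ∣ (t : ℤ) + (m + 2) := by
      refine ⟨2 * m + 4 - k * t, ?_⟩
      have hkz : ((B : ℤ) + B) = (2 * ((m : ℤ) + 1 + 1) + 2) * k := by exact_mod_cast hk
      have htz : ((2 * ((m : ℤ) + 1) + 3) * (2 * ((m : ℤ) + 1) + 2)) =
          ((B : ℤ) + B + 2) * t := by exact_mod_cast ht
      rw [hkz] at htz
      have h2 : 2 * ((t : ℤ) + (m + 2)) = 2 * ((m + 3) * (2 * m + 4 - k * t)) := by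
        linear_combination -htz
      linarith
    exact_mod_cast hz
  have ht2 : t < 2 * m + 4 := by
    have hk0 : 0 < k := Nat.pos_of_ne_zero fun e => by rw [e, mul_zero] at hk; omega
    have hBB : 2 * (m + 1 + 1) + 2 ≤ B + B := hk ▸ Nat.le_mul_of_pos_right _ hk0
    nlinarith [Nat.mul_le_mul_right t (show 2 * m + 8 ≤ B + B + 2 by omega)]
  obtain ⟨u, hu⟩ := h1
  have ht1 : t = 1 ∨ t = m + 4 := by
    rcases (show u = 1 ∨ u = 2 ∨ u = 0 ∨ 3 ≤ u by omega) with rfl | rfl | rfl | h3
    · left; omega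
    · right; omega
    · omega
    · nlinarith [Nat.mul_le_mul_left (m + 3) h3]
  rcases ht1 with rfl | rfl
  · rw [mul_one] at ht
    have h5 := hb4
    rw [show (2 * m + 5) * (2 * m + 4) = B + B + 2 by linarith] at h5
    have := Nat.le_of_dvd (by positivity)
      ((Nat.mul_dvd_mul_iff_left (by omega : 0 < B + B + 2)).1 h5)
    nlinarith
  · have h24 : m + 4 ∣ 6 := by
      have he : (2 * m + 5) * (m + 2) = (m + 4) * (B + 1) := by linarith
      have : (m + 4) * (B + 1) + 7 * (m + 4) = (m + 4) * (2 * (m + 4)) + 6 := by linarith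
      exact (Nat.dvd_add_right (dvd_mul_right (m + 4) (2 * (m + 4)))).1 ⟨B + 1 + 7, by linarith⟩
    have hm2 : m ≤ 2 := by have := Nat.le_of_dvd (by norm_num) h24; omega
    interval_cases m <;> norm_num at h24
    all_goals
      have hB : B = 5 := by omega
      subst hB
      exact h 2 Nat.prime_two (by omega) (by rw [hC, hN]; decide)

/-- Two or more classes of one size. -/
theorem equal_noSmall (hr5 : 5 ≤ r) {b : ℕ} (hb : 3 ≤ b) (hbr : b < r)
    (h : NoSmall r ((2 * b - 1).choose (b - 1))) : b = 4 ∧ r = 5 := by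
  set N := 2 * b - 1 with hN
  have hsym : N.choose b = N.choose (b - 1) :=
    Nat.choose_symm_of_eq_add (by omega)
  have e1 := choose_step N b
  rw [hsym, show N - b = b - 1 by omega] at e1
  have hb1 : b + 1 = r := by
    by_contra hne
    have hd : b + 1 ∣ N.choose (b - 1) * (b - 1) := ⟨_, e1.symm.trans (mul_comm _ _)⟩
    have := Nat.le_of_dvd (by omega) (h.cancel (small_of_lt (by omega) (by omega)) hd)
    omega
  have hodd : ∀ {B : ℕ}, b + 2 = 2 * B → b + 2 ∣ (b - 1) * (b - 2) := fun {B} hB => by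
    refine h.cancel (by rw [hB]; exact small_two_mul (by omega) (by omega) (by omega)) ?_
    have e2 := choose_step N (b + 1)
    rw [show N - (b + 1) = b - 2 by omega] at e2
    refine ⟨N.choose (b + 1 + 1) * (b + 1), ?_⟩
    rw [← mul_assoc, ← e1, mul_right_comm, ← e2]
    ring
  rcases Nat.even_or_odd b with ⟨B, hB⟩ | ⟨B, hB⟩
  · have hd := hodd (B := B + 1) (by omega)
    obtain ⟨k, hk⟩ := hd
    have h12 : b + 2 ∣ 12 := by
      obtain ⟨j, rfl⟩ : ∃ j, b = j + 3 := ⟨b - 3, by omega⟩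
      simp only [show j + 3 - 1 = j + 2 by omega, show j + 3 - 2 = j + 1 by omega] at hk
      have : (j + 3 + 2) * k + 2 * (j + 3 + 2) = (j + 3 + 2) * j + 12 := by linarith
      exact (Nat.dvd_add_right (Dvd.intro j rfl)).1 ⟨k + 2, by linarith⟩
    have hb10 : b ≤ 10 := by have := Nat.le_of_dvd (by norm_num) h12; omega
    interval_cases b <;> norm_num at h12
    all_goals
      first
      | omega
      | exact absurd (by rw [hN]; decide) (h 2 Nat.prime_two (by omega))
  · exfalso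
    have h2 : 2 < b + 1 ∧ 2 ∣ b + 1 := ⟨by omega, ⟨B + 1, by omega⟩⟩
    have hd : b + 1 ∣ N.choose (b - 1) * (b - 1) := ⟨_, e1.symm.trans (mul_comm _ _)⟩
    have hsmall : ∀ P : ℕ, P.Prime → P ∣ b + 1 → P < r := fun P hP hdv => by
      refine small_two_mul (r := r) (by omega) (by omega : 0 < B + 1) (by omega) P hP ?_
      rwa [show 2 * (B + 1) = b + 1 by omega]
    have := Nat.le_of_dvd (by omega) (h.cancel hsmall hd)
    omega

end Cfsg.Agent.Perm.HallSym
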