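import Cfsg.Agent.Lib.Perm.HallSymCycles

/-!
# The partition defined by the 3-cycles of a subgroup

The relation "some 3-cycle of `M` moves `x` to `y`" is an equivalence, `M` contains the
alternating group of each class, and every normaliser of `M` preserves the partition.
-/

set_option autoImplicit false

namespace Cfsg.Agent.Perm.HallSym

open Equiv Equiv.Perm Finset

variable {α : Type*} [DecidableEq α]

/-- The 3-cycle `a → b → d → a`. -/
def cyc (a b d : α) : Perm α := swap a b * swap b d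

theorem cyc_apply_fst {a b d : α} (hab : a ≠ b) (had : a ≠ d) : cyc a b d a = b := by
  rw [cyc, Perm.mul_apply, swap_apply_of_ne_of_ne hab had, swap_apply_left]

theorem cyc_apply_snd {a b d : α} (had : a ≠ d) (hbd : b ≠ d) : cyc a b d b = d := by
  rw [cyc, Perm.mul_apply, swap_apply_left, swap_apply_of_ne_of_ne had.symm hbd.symm]

theorem cyc_apply_thd (a b d : α) : cyc a b d d = a := by
  rw [cyc, Perm.mul_apply, swap_apply_right, swap_apply_right]

theorem cyc_apply_of_ne {a b d x : α} (ha : x ≠ a) (hb : x ≠ b) (hd : x ≠ d) :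
    cyc a b d x = x := by
  rw [cyc, Perm.mul_apply, swap_apply_of_ne_of_ne hb hd, swap_apply_of_ne_of_ne ha hb]

theorem cyc_conj (g : Perm α) (a b d : α) : g * cyc a b d * g⁻¹ = cyc (g a) (g b) (g d) := by
  rw [cyc, cyc, swap_apply_apply, swap_apply_apply]
  group

theorem cyc_rot {a b d : α} (hab : a ≠ b) (had : a ≠ d) (hbd : b ≠ d) :
    cyc b d a = cyc a b d := by
  ext x
  by_cases h1 : x = a
  · subst h1; rw [cyc_apply_thd, cyc_apply_fst hab had]
  by_cases h2 : x = b
  · subst h2; rw [cyc_apply_fst hbd hab.symm, cyc_apply_snd had hbd]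
  by_cases h3 : x = d
  · subst h3; rw [cyc_apply_snd hab.symm had.symm, cyc_apply_thd]
  rw [cyc_apply_of_ne h2 h3 h1, cyc_apply_of_ne h1 h2 h3]

theorem cyc_inv (a b d : α) : (cyc a b d)⁻¹ = cyc d b a := by
  rw [cyc, cyc, mul_inv_rev, swap_inv, swap_inv, swap_comm b d, swap_comm a b]

variable {M : Subgroup (Perm α)}

theorem cyc_step {a b d z : α} (hab : a ≠ b) (had : a ≠ d) (haz : a ≠ z) (hbd : b ≠ d)
    (hbz : b ≠ z) (hdz : d ≠ z) (h1 : cyc a b z ∈ M) (h2 : cyc a d z ∈ M) : cyc a b d ∈ M := by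
  have h : cyc a d z * cyc a b z * (cyc a d z)⁻¹ ∈ M := mul_mem (mul_mem h2 h1) (inv_mem h2)
  rw [cyc_conj, cyc_apply_fst had haz, cyc_apply_thd,
    cyc_apply_of_ne hab.symm hbd hbz] at h
  have := inv_mem h
  rwa [cyc_inv] at this

variable [Fintype α]

/-- Some 3-cycle of `M` moves `x` to `y`, or `x = y`. -/
def Rel (M : Subgroup (Perm α)) (x y : α) : Prop :=
  x = y ∨ ∃ s ∈ M, IsThreeCycle s ∧ s x = y

theorem Rel.symm {x y : α} (h : Rel M x y) : Rel M y x := by
  rcases h with rfl | ⟨s, hs, h3, rfl⟩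
  · exact Or.inl rfl
  · exact Or.inr ⟨s⁻¹, inv_mem hs, h3.inv, s.symm_apply_apply x⟩

theorem Rel.conj {g : Perm α} (hg : ∀ m ∈ M, g * m * g⁻¹ ∈ M) {x y : α} (h : Rel M x y) :
    Rel M (g x) (g y) := by
  rcases h with rfl | ⟨s, hs, h3, rfl⟩
  · exact Or.inl rfl
  · refine Or.inr ⟨g * s * g⁻¹, hg s hs, ?_, ?_⟩
    · show (g * s * g⁻¹).cycleType = {3}
      rw [cycleType_conj]; exact h3
    · simp [Perm.mul_apply]

theorem Rel.trans {x y w : α} (h : Rel M x y) (h' : Rel M y w) : Rel M x w := by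
  by_cases hxw : x = w
  · exact Or.inl hxw
  rcases h with rfl | ⟨s, hs, hs3, rfl⟩
  · exact h'
  rcases h' with rfl | ⟨t, ht, ht3, rfl⟩
  · exact Or.inr ⟨s, hs, hs3, rfl⟩
  by_cases htx : t x = x
  · refine Or.inr ⟨t * s * t⁻¹, mul_mem (mul_mem ht hs) (inv_mem ht), ?_, ?_⟩
    · show (t * s * t⁻¹).cycleType = {3}
      rw [cycleType_conj]; exact hs3
    · rw [Perm.mul_apply, Perm.mul_apply]
      conv_lhs => rw [← htx, show t⁻¹ (t x) = x from t.symm_apply_apply x]
  · by_cases hw : t (t (s x)) = t (s x)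
    · rw [t.injective hw]
      exact Or.inr ⟨s, hs, hs3, rfl⟩
    obtain ⟨i, hi⟩ := ht3.isCycle.exists_pow_eq htx hw
    have ho : t ^ 3 = 1 := by rw [← ht3.orderOf, pow_orderOf_eq_one]
    rw [← Nat.mod_add_div i 3, pow_add, pow_mul, ho, one_pow, mul_one] at hi
    rcases (show i % 3 = 0 ∨ i % 3 = 1 ∨ i % 3 = 2 by omega) with e | e | e <;> rw [e] at hi
    · exact absurd hi hxw
    · rw [pow_one] at hi
      exact Or.inr ⟨t, ht, ht3, hi⟩
    · refine Or.inr ⟨t⁻¹, inv_mem ht, ht3.inv, ?_⟩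
      rw [show t⁻¹ = t ^ 2 from inv_eq_of_mul_eq_one_left (by rw [← pow_succ, ho])]
      exact hi

/-- The class of a point. -/
noncomputable def cls (M : Subgroup (Perm α)) (x : α) : Finset α :=
  haveI := Classical.decPred (Rel M x)
  univ.filter (Rel M x)

theorem mem_cls {x y : α} : y ∈ cls M x ↔ Rel M x y := by
  simp [cls]

theorem mem_cls_self (x : α) : x ∈ cls M x := mem_cls.2 (Or.inl rfl)

theorem cls_eq {x y : α} (h : Rel M x y) : cls M x = cls M y := by
  ext z
  rw [mem_cls, mem_cls]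
  exact ⟨fun h' => h.symm.trans h', fun h' => h.trans h'⟩

theorem cls_eq_iff {x y : α} : cls M x = cls M y ↔ Rel M x y :=
  ⟨fun h => mem_cls.1 (h ▸ mem_cls_self y), cls_eq⟩

theorem rel_conj_iff {g : Perm α} (hg : ∀ m, m ∈ M ↔ g * m * g⁻¹ ∈ M) {x y : α} :
    Rel M (g x) (g y) ↔ Rel M x y := by
  refine ⟨fun h => ?_, Rel.conj fun m hm => (hg m).1 hm⟩
  have hg' : ∀ m ∈ M, g⁻¹ * m * g⁻¹⁻¹ ∈ M := fun m hm => (hg _).2 (by
    rw [show g * (g⁻¹ * m * g⁻¹⁻¹) * g⁻¹ = m by group]; exact hm)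
  have := h.conj hg'
  rwa [show g⁻¹ (g x) = x from g.symm_apply_apply x,
    show g⁻¹ (g y) = y from g.symm_apply_apply y] at this

/-- A 3-cycle lies in one class. -/
theorem rel_of_mem_support {s : Perm α} (hs : s ∈ M) (h3 : IsThreeCycle s) {x y : α}
    (hx : x ∈ s.support) (hy : y ∈ s.support) : Rel M x y := by
  rw [h3.support_eq_iff_mem_support.2 hx] at hy
  simp only [mem_insert, mem_singleton] at hy
  rcases hy with rfl | rfl | rfl
  · exact Or.inl rfl
  · exact Or.inr ⟨s, hs, h3, rfl⟩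
  · exact Rel.trans (Or.inr ⟨s, hs, h3, rfl⟩) (Or.inr ⟨s, hs, h3, rfl⟩)

/-- A class is a single point or has at least three. -/
theorem card_cls (x : α) : (cls M x).card = 1 ∨ 3 ≤ (cls M x).card := by
  by_cases h : ∀ y, Rel M x y → y = x
  · left
    rw [card_eq_one]
    exact ⟨x, subset_antisymm (fun y hy => mem_singleton.2 (h y (mem_cls.1 hy)))
      (singleton_subset_iff.2 (mem_cls_self x))⟩
  · push Not at h
    obtain ⟨y, hy, hyx⟩ := h
    rcases hy with rfl | ⟨s, hs, h3, rfl⟩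
    · exact absurd rfl hyx
    right
    rw [← h3.card_support]
    exact card_le_card fun z hz =>
      mem_cls.2 (rel_of_mem_support hs h3 (mem_support.2 hyx) hz)

/-- A cycle of prime length through a non-trivial class lies inside it. -/
theorem support_subset_cls {c : Perm α} (hcM : c ∈ M) (hc : c.IsCycle)
    (hp : c.support.card.Prime) {x : α} (hx : x ∈ c.support) (h2 : 1 < (cls M x).card) :
    c.support ⊆ cls M x := by
  have hnorm : ∀ g ∈ M, ∀ m ∈ M, g * m * g⁻¹ ∈ M := fun g hg m hm =>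
    mul_mem (mul_mem hg hm) (inv_mem hg)
  obtain ⟨y, hy, hyx⟩ := exists_mem_ne h2 x
  rw [mem_cls] at hy
  obtain ⟨g, hg, hg1, hgx⟩ : ∃ g ∈ Subgroup.zpowers c, g ≠ 1 ∧ Rel M x (g x) := by
    have hc1 : c ≠ 1 := hc.ne_one
    by_cases hys : y ∈ c.support
    · obtain ⟨i, hi⟩ := hc.exists_pow_eq (mem_support.1 hx) (mem_support.1 hys)
      exact ⟨c ^ i, Subgroup.npow_mem_zpowers c i, fun e => hyx (by rw [← hi, e]; rfl),
        by rw [hi]; exact hy⟩
    · refine ⟨c, Subgroup.mem_zpowers c, hc1, hy.trans ?_⟩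
      have := (hy.conj (hnorm c hcM)).symm
      rwa [notMem_support.1 hys] at this
  have hgM : g ∈ M := (Subgroup.zpowers_le.2 hcM) hg
  have hpow : ∀ k : ℕ, Rel M x ((g ^ k) x) := by
    intro k
    induction k with
    | zero => exact Or.inl rfl
    | succ k ih =>
      rw [pow_succ', Perm.mul_apply]
      exact hgx.trans (ih.conj (hnorm g hgM))
  intro z hz
  obtain ⟨k, hk⟩ := exists_pow_apply_eq hc hp hg hg1 hx hz
  exact mem_cls.2 (hk ▸ hpow k)

/-- All 3-cycles within a class lie in `M`. -/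
theorem cyc_mem {a b d : α} (hab : a ≠ b) (had : a ≠ d) (hbd : b ≠ d) (h1 : Rel M a b)
    (h2 : Rel M b d) : cyc a b d ∈ M := by
  have get : ∀ {p q : α}, p ≠ q → Rel M p q → ∃ r, p ≠ r ∧ q ≠ r ∧ cyc p q r ∈ M := by
    intro p q hpq h
    rcases h with rfl | ⟨s, hs, h3, rfl⟩
    · exact absurd rfl hpq
    have hp : p ∈ s.support := mem_support.2 (Ne.symm hpq)
    have hn := h3.nodup_iff_mem_support.2 hp
    simp only [List.nodup_cons, List.mem_cons, List.not_mem_nil, or_false, not_or,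
      List.nodup_nil, and_true, not_false_eq_true] at hn
    refine ⟨s (s p), hn.1.2, hn.2, ?_⟩
    rwa [cyc, ← h3.eq_swap_mul_swap_iff_mem_support.2 hp]
  obtain ⟨z, haz, hbz, hs⟩ := get hab h1
  by_cases hzd : z = d
  · exact hzd ▸ hs
  obtain ⟨v, hbv, hdv, ht⟩ := get hbd h2
  by_cases hva : v = a
  · rw [hva] at ht
    rwa [cyc_rot hab had hbd] at ht
  have hdz : d ≠ z := Ne.symm hzd
  set w := cyc b d v z with hw
  have hu : cyc a d w ∈ M := by
    have := mul_mem (mul_mem ht hs) (inv_mem ht)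
    rwa [cyc_conj, cyc_apply_of_ne hab had (Ne.symm hva), cyc_apply_fst hbd hbv, ← hw] at this
  have hwa : w ≠ a := fun e => haz.symm ((cyc b d v).injective
    (hw ▸ e.trans (cyc_apply_of_ne hab had (Ne.symm hva)).symm))
  have hwd : w ≠ d := fun e => hbz.symm ((cyc b d v).injective
    (hw ▸ e.trans (cyc_apply_fst hbd hbv).symm))
  by_cases hwb : w = b
  · rw [hwb] at hu
    have := inv_mem hu
    rw [cyc_inv] at this
    rwa [cyc_rot hab had hbd] at this
  by_cases hwz : w = z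
  · exact cyc_step hab had haz hbd hbz hdz hs (hwz ▸ hu)
  refine cyc_step hab had haz hbd hbz hdz hs ?_
  have h3 := mul_mem (mul_mem hu hs) (inv_mem hu)
  rw [cyc_conj, cyc_apply_fst had hwa.symm, cyc_apply_of_ne hab.symm hbd (Ne.symm hwb),
    cyc_apply_of_ne haz.symm hdz.symm (Ne.symm hwz)] at h3
  have h4 := mul_mem (mul_mem hs h3) (inv_mem hs)
  rw [cyc_conj, cyc_apply_snd haz hbz, cyc_apply_thd,
    cyc_apply_of_ne had.symm hbd.symm hdz] at h4
  rwa [cyc_rot had haz hdz] at h4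

/-- The primes up to the size of a class divide the order of `M`. -/
theorem dvd_card_of_le_cls {x : α} {P : ℕ} (hP : P.Prime) (hP2 : P ≠ 2)
    (hle : P ≤ (cls M x).card) : P ∣ Nat.card M := by
  set B := cls M x with hB
  let φ : Perm B →* Perm α := Equiv.Perm.ofSubtype
  have hle' : (alternatingGroup B).map φ ≤ M := by
    rw [← closure_three_cycles_eq_alternating, MonoidHom.map_closure, Subgroup.closure_le]
    rintro _ ⟨σ, hσ, rfl⟩
    obtain ⟨u, hu⟩ := hσ.isCycle.nonempty_support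
    have hn := hσ.nodup_iff_mem_support.2 hu
    simp only [List.nodup_cons, List.mem_cons, List.not_mem_nil, or_false, not_or,
      List.nodup_nil, and_true, not_false_eq_true] at hn
    have hr : ∀ p q : B, Rel M (p : α) q := fun p q =>
      (mem_cls.1 p.2).symm.trans (mem_cls.1 q.2)
    rw [SetLike.mem_coe, hσ.eq_swap_mul_swap_iff_mem_support.2 hu, map_mul]
    simp only [φ, ofSubtype_swap_eq]
    exact cyc_mem (Subtype.coe_ne_coe.2 hn.1.1) (Subtype.coe_ne_coe.2 hn.1.2)
      (Subtype.coe_ne_coe.2 hn.2) (hr _ _) (hr _ _)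
  refine Dvd.dvd.trans ?_ (Subgroup.card_dvd_of_le hle')
  rw [Subgroup.card_map_of_injective (Equiv.Perm.ofSubtype_injective)]
  have h2 : 2 * Nat.card (alternatingGroup B) = (B.card).factorial := by
    haveI : Nontrivial B := Fintype.one_lt_card_iff_nontrivial.1 (by
      rw [Fintype.card_coe]; exact lt_of_lt_of_le hP.one_lt hle)
    rw [two_mul_nat_card_alternatingGroup, Nat.card_perm, Nat.card_eq_fintype_card,
      Fintype.card_coe]
  have hd : P ∣ 2 * Nat.card (alternatingGroup B) := h2 ▸ hP.dvd_factorial.2 hle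
  rcases hP.dvd_mul.1 hd with h | h
  · exact absurd ((Nat.prime_dvd_prime_iff_eq hP Nat.prime_two).1 h) hP2
  · exact h

end Cfsg.Agent.Perm.HallSym
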