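import Cfsg.Prelude.Def_OddOrderLocal
import Cfsg.Agent.Lib.Perm.HallSymPartition
import Cfsg.Agent.Lib.Perm.HallSymChoose

/-!
# The Hall subgroups of alternating groups involving some but not all primes

They are the stabilisers of a point (prime degree) or of a partition `4 + 3`, `4 + 4`, intersected
with the alternating group.
-/

set_option autoImplicit false

namespace Cfsg.Agent.Perm.HallSym

open Equiv Equiv.Perm Finset
open scoped Nat

variable {α : Type*}

/-- The permutations preserving a relation. -/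
def pres (r : α → α → Prop) : Subgroup (Perm α) where
  carrier := {g | ∀ x y, r (g x) (g y) ↔ r x y}
  mul_mem' := fun {a b} ha hb x y => (ha (b x) (b y)).trans (hb x y)
  one_mem' := fun _ _ => Iff.rfl
  inv_mem' := fun {a} ha x y => by
    have := ha (a⁻¹ x) (a⁻¹ y)
    rw [show a (a⁻¹ x) = x from a.apply_symm_apply x,
      show a (a⁻¹ y) = y from a.apply_symm_apply y] at this
    exact this.symm

/-- The permutations preserving a function. -/
def presFun {ι : Type*} (f : α → ι) : Subgroup (Perm α) where
  carrier := {g | ∀ x, f (g x) = f x}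
  mul_mem' := fun {a b} ha hb x => (ha (b x)).trans (hb x)
  one_mem' := fun _ => rfl
  inv_mem' := fun {a} ha x => by
    have := ha (a⁻¹ x)
    rw [show a (a⁻¹ x) = x from a.apply_symm_apply x] at this
    exact this.symm

/-- The stabiliser of the partition of `α` into a set and its complement. -/
def bip (B : Finset α) : Subgroup (Perm α) := pres fun x y => (x ∈ B ↔ y ∈ B)

theorem mem_bip {B : Finset α} {g : Perm α} :
    g ∈ bip B ↔ ∀ x y, (g x ∈ B ↔ g y ∈ B) ↔ (x ∈ B ↔ y ∈ B) := Iff.rfl

variable [Fintype α] [DecidableEq α]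

/-- The order of a group preserving a function divides the product of the factorials. -/
theorem card_dvd_of_preserves {ι : Type*} [Fintype ι] [DecidableEq ι] (f : α → ι)
    {W : Subgroup (Perm α)} (hW : ∀ g ∈ W, ∀ x, f (g x) = f x) :
    Nat.card W ∣ ∏ i, ((univ.filter fun x => f x = i).card)! := by
  classical
  refine (Subgroup.card_dvd_of_le (show W ≤ presFun f from hW)).trans (dvd_of_eq ?_)
  have e : Nat.card (presFun f) = Nat.card {g : Perm α // f ∘ g = f} :=
    Nat.card_congr (Equiv.subtypeEquivRight fun g =>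
      ⟨fun h => funext h, fun h x => congrFun h x⟩)
  rw [e, Nat.card_eq_fintype_card, DomMulAct.stabilizer_card]
  exact prod_congr rfl fun i _ => by rw [Fintype.card_subtype]

/-- A permutation in `bip B` of odd prime order fixes `B`. -/
theorem prime_dvd_card_bip {B : Finset α} {P : ℕ} (hP : P.Prime) (hP2 : P ≠ 2)
    (h : P ∣ Nat.card (bip B)) : P ≤ B.card ∨ P ≤ Fintype.card α - B.card := by
  classical
  have : Fact P.Prime := ⟨hP⟩
  obtain ⟨g, hg⟩ := exists_prime_orderOf_dvd_card' (G := bip B) P h
  set f : α → Bool := fun x => decide (x ∈ B) with hf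
  have hsq : (g : Perm α) * g ∈ presFun f := fun x => by
    have h1 := mem_bip.1 g.2 x ((g : Perm α) x)
    simp only [hf, Perm.mul_apply, decide_eq_decide]
    tauto
  have hgm : (g : Perm α) ∈ presFun f := by
    obtain ⟨j, hj⟩ := hP.odd_of_ne_two hP2
    have : ((g : Perm α) * g) ^ (j + 1) = g := by
      rw [← pow_two, ← pow_mul, show 2 * (j + 1) = P + 1 by omega, pow_succ,
        show (g : Perm α) ^ P = 1 by rw [← hg, ← Subgroup.coe_pow, pow_orderOf_eq_one]; rfl,
        one_mul]
    rw [← this]
    exact pow_mem hsq _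
  have hd : P ∣ ∏ i : Bool, ((univ.filter fun x => f x = i).card)! := by
    refine Dvd.dvd.trans ?_ (card_dvd_of_preserves f (W := presFun f) fun g hg => hg)
    rw [← hg, ← Subgroup.orderOf_coe]
    exact Subgroup.orderOf_dvd_natCard _ hgm
  rw [Fintype.prod_bool] at hd
  have h1 : (univ.filter fun x => f x = true) = B := by ext; simp [hf]
  have h2 : (univ.filter fun x => f x = false) = univ \ B := by ext; simp [hf]
  rw [h1, h2, card_sdiff_of_subset (subset_univ _), card_univ] at hd
  rcases hP.dvd_mul.1 hd with h | h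
  · exact Or.inl (hP.dvd_factorial.1 h)
  · exact Or.inr (hP.dvd_factorial.1 h)

variable {π : Set ℕ} {M : Subgroup (Perm α)}

/-- The three kinds of exceptional Hall subgroups. -/
def Shape (π : Set ℕ) (B : Finset α) : Prop :=
  ((Fintype.card α).Prime ∧ B.card = Fintype.card α - 1 ∧
      ∀ P : ℕ, P.Prime → P ≤ Fintype.card α → (P ∈ π ↔ P < Fintype.card α)) ∨
    ((Fintype.card α = 7 ∨ Fintype.card α = 8) ∧ B.card = 4 ∧
      ∀ P : ℕ, P.Prime → P ≤ Fintype.card α → (P ∈ π ↔ (P = 2 ∨ P = 3)))

/-- What the classification says about `M`. -/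
structure Exceptional (π : Set ℕ) (M : Subgroup (Perm α)) (B : Finset α) : Prop where
  shape : Shape π B
  norm : ∀ g : Perm α, (∀ m, m ∈ M ↔ g * m * g⁻¹ ∈ M) → g ∈ bip B
  hall : IsPiHall π (bip B)
  eq : M = bip B ⊓ alternatingGroup α

/-- The points whose class has size `b`. -/
noncomputable def ofSize (M : Subgroup (Perm α)) (b : ℕ) : Finset α :=
  univ.filter fun x => (cls M x).card = b

theorem mem_ofSize {b : ℕ} {x : α} : x ∈ ofSize M b ↔ (cls M x).card = b := by
  simp [ofSize]

/-- The facts about `M` used in the case division. -/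
structure Setting (π : Set ℕ) (M : Subgroup (Perm α)) (r : ℕ) : Prop where
  alt : AltHall π M
  prime : r.Prime
  five_le : 5 ≤ r
  le_card : r ≤ Fintype.card α
  two : 2 ∈ π
  cls_lt : ∀ x, (cls M x).card < r
  singles : (ofSize M 1).card ≤ 2
  mem_iff : ∀ P : ℕ, P.Prime → P ≤ Fintype.card α → (P ∈ π ↔ P < r)

/-- The setting holds when two primes occur and some prime does not. -/
theorem AltHall.exists_setting (h : AltHall π M)
    (h2 : ∃ p q : ℕ, p.Prime ∧ q.Prime ∧ p ≠ q ∧ p ∈ π ∧ q ∈ π ∧ p ≤ Fintype.card α ∧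
      q ≤ Fintype.card α)
    (hns : ∃ r : ℕ, r.Prime ∧ r ≤ Fintype.card α ∧ r ∉ π) : ∃ r, Setting π M r := by
  classical
  obtain ⟨p, q, hp, hq, hpq, hpπ, hqπ, hpn, hqn⟩ := h2
  have hπ2 : 2 ∈ π := by
    rcases Nat.lt_or_gt_of_ne hpq with hlt | hlt
    · exact h.two_mem hp hq hlt hpπ hqπ hqn
    · exact h.two_mem hq hp hlt hqπ hpπ hpn
  obtain ⟨p', hp', hp'π, hp'2, hp'n⟩ :
      ∃ P : ℕ, P.Prime ∧ P ∈ π ∧ P ≠ 2 ∧ P ≤ Fintype.card α := by
    by_cases e : p = 2
    · exact ⟨q, hq, hqπ, fun e' => hpq (e.trans e'.symm), hqn⟩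
    · exact ⟨p, hp, hpπ, e, hpn⟩
  have hπ3 : 3 ∈ π := h.three_mem hπ2 hp' hp'π hp'2 hp'n
  obtain ⟨r, ⟨hr, hrn, hrπ⟩, hmin⟩ :
      ∃ r, (r.Prime ∧ r ≤ Fintype.card α ∧ r ∉ π) ∧
        ∀ P, (P.Prime ∧ P ≤ Fintype.card α ∧ P ∉ π) → r ≤ P :=
    ⟨Nat.find hns, Nat.find_spec hns, fun P hP => Nat.find_min' hns hP⟩
  have hr5 : 5 ≤ r := by
    have h2' := hr.two_le
    have : r ≠ 2 ∧ r ≠ 3 ∧ r ≠ 4 := ⟨fun e => hrπ (e ▸ hπ2), fun e => hrπ (e ▸ hπ3),
      fun e => by rw [e] at hr; exact absurd hr (by decide)⟩
    omega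
  have hcls : ∀ x, (cls M x).card < r := fun x => by
    by_contra hle
    exact hrπ (h.pi r hr (dvd_card_of_le_cls hr (by omega) (not_lt.1 hle)))
  have hs2 : (ofSize M 1).card ≤ 2 := by
    by_contra hgt
    obtain ⟨c, hcM, -, hc3, x, hx, hxs⟩ := h.exists_cycle Nat.prime_three hπ3 (by decide)
      (ofSize M 1)
      (lt_of_le_of_lt (Nat.le_of_lt_succ (Nat.mod_lt _ (by norm_num))) (not_le.1 hgt))
    have h3 : IsThreeCycle c := card_support_eq_three_iff.1 hc3
    have hle : c.support ⊆ cls M x := fun y hy => mem_cls.2 (rel_of_mem_support hcM h3 hxs hy)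
    have := card_le_card hle
    rw [hc3, mem_ofSize.1 hx] at this
    omega
  refine ⟨r, h, hr, hr5, hrn, hπ2, hcls, hs2, fun P hP hPn => ⟨fun hPπ => ?_, fun hlt => ?_⟩⟩
  · by_contra hge
    obtain ⟨c, hcM, hc, hcP, -⟩ := h.exists_cycle hP hPπ (by omega) univ
      (by rw [card_univ]; exact lt_of_lt_of_le (Nat.mod_lt _ hP.pos) hPn)
    obtain ⟨x, hx, hx1⟩ := exists_mem_notMem_of_card_lt_card (s := ofSize M 1) (t := c.support)
      (by omega)
    rw [mem_ofSize] at hx1
    have := card_le_card (support_subset_cls hcM hc (hcP ▸ hP) hx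
      (by have := card_cls (M := M) x; omega))
    have := hcls x
    omega
  · by_contra hP'
    have := hmin P ⟨hP, hPn, hP'⟩
    omega

namespace Setting

variable {r : ℕ} (T : Setting π M r)
include T

theorem exists_nontrivial : ∃ x, 3 ≤ (cls M x).card := by
  obtain ⟨x, -, hx⟩ := exists_mem_notMem_of_card_lt_card (s := ofSize M 1) (t := univ)
    (by
      rw [card_univ]
      have := T.singles
      have := T.five_le
      have := T.le_card
      omega)
  exact ⟨x, (card_cls x).resolve_left fun e => hx (mem_ofSize.2 e)⟩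

omit T in
theorem mem_pres_of_normalizing {g : Perm α} (hg : ∀ m, m ∈ M ↔ g * m * g⁻¹ ∈ M) :
    g ∈ pres (Rel M) := fun _ _ => rel_conj_iff hg

omit T in
theorem le_pres : M ≤ pres (Rel M) := fun g hg => mem_pres_of_normalizing fun m =>
  ⟨fun hm => mul_mem (mul_mem hg hm) (inv_mem hg), fun hm => by
    have := mul_mem (mul_mem (inv_mem hg) hm) hg
    rwa [show g⁻¹ * (g * m * g⁻¹) * g = m by group] at this⟩

/-- The stabiliser of the partition has index prime to `π`. -/
theorem not_dvd_index {P : ℕ} (hP : P.Prime) (hPπ : P ∈ π) :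
    ¬ P ∣ (pres (Rel M)).index := by
  set W := pres (Rel M) with hW
  obtain ⟨x, hx⟩ := T.exists_nontrivial
  obtain ⟨y, hy, hxy⟩ := exists_mem_ne (show 1 < (cls M x).card by omega) x
  haveI : Nontrivial α := ⟨y, x, hxy⟩
  have hoddW : ¬ W ≤ alternatingGroup α := by
    intro hle
    have hswap : swap x y ∈ W := fun a b => by
      have key : ∀ z, Rel M z (swap x y z) := fun z => by
        rcases eq_or_ne z x with rfl | h1
        · rw [swap_apply_left]; exact mem_cls.1 hy
        rcases eq_or_ne z y with rfl | h2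
        · rw [swap_apply_right]; exact (mem_cls.1 hy).symm
        rw [swap_apply_of_ne_of_ne h1 h2]; exact Or.inl rfl
      exact ⟨fun h' => ((key a).trans h').trans (key b).symm,
        fun h' => ((key a).symm.trans h').trans (key b)⟩
    have := mem_alternatingGroup.1 (hle hswap)
    rw [sign_swap hxy.symm] at this
    exact absurd this (by decide)
  intro hd
  have hsup : W ⊔ alternatingGroup α = ⊤ := by
    have hdvd : (W ⊔ alternatingGroup α).index ∣ 2 := alternatingGroup.index_eq_two (α := α) ▸
      Subgroup.index_dvd_of_le le_sup_right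
    rcases (Nat.dvd_prime Nat.prime_two).1 hdvd with e | e
    · exact Subgroup.index_eq_one.1 e
    · exact absurd (le_sup_left.trans_eq (eq_alternatingGroup_of_index_eq_two e)) hoddW
  have e1 : (alternatingGroup α).relIndex W = 2 := by
    rw [← Subgroup.relIndex_sup_right W (alternatingGroup α), hsup, Subgroup.relIndex_top_right,
      alternatingGroup.index_eq_two]
  have e2 := Subgroup.relIndex_mul_index (inf_le_left : W ⊓ alternatingGroup α ≤ W)
  have e3 := Subgroup.relIndex_mul_index
    (inf_le_right : W ⊓ alternatingGroup α ≤ alternatingGroup α)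
  rw [Subgroup.inf_relIndex_left, e1] at e2
  rw [Subgroup.inf_relIndex_right, alternatingGroup.index_eq_two, ← e2] at e3
  have e4 := Subgroup.relIndex_mul_relIndex M (W ⊓ alternatingGroup α) (alternatingGroup α)
    (le_inf le_pres T.alt.le) inf_le_right
  rw [Subgroup.inf_relIndex_right, show W.relIndex (alternatingGroup α) = W.index by omega] at e4
  exact T.alt.hall P hP hPπ (e4 ▸ dvd_mul_of_dvd_right hd _)

/-- A bound on the order of the stabiliser gives a number without small prime divisors. -/
theorem noSmall {D N : ℕ} (hD : Nat.card (pres (Rel M)) ∣ D)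
    (hDN : D * N = (Fintype.card α)!) : NoSmall r N := by
  intro P hP hPr hPN
  refine T.not_dvd_index hP ((T.mem_iff P hP (hPr.le.trans T.le_card)).2 hPr) (hPN.trans ?_)
  obtain ⟨k, rfl⟩ := hD
  have h' : Nat.card (pres (Rel M)) * (pres (Rel M)).index = (Fintype.card α)! := by
    rw [Subgroup.card_mul_index, Nat.card_perm, Nat.card_eq_fintype_card]
  rw [← h', mul_assoc] at hDN
  exact Dvd.intro_left k (Nat.eq_of_mul_eq_mul_left Nat.card_pos hDN)

omit T in
theorem cls_apply {g : Perm α} (hg : g ∈ pres (Rel M)) (x : α) :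
    cls M (g x) = (cls M x).map g.toEmbedding := by
  ext z
  rw [mem_cls, mem_map_equiv, mem_cls]
  conv_lhs => rw [← g.apply_symm_apply z]
  exact hg x (g.symm z)

omit T in
theorem card_cls_apply {g : Perm α} (hg : g ∈ pres (Rel M)) (x : α) :
    (cls M (g x)).card = (cls M x).card := by
  rw [cls_apply hg, card_map]

omit T in
theorem cls_subset_ofSize {b : ℕ} {x : α} (hx : x ∈ ofSize M b) : cls M x ⊆ ofSize M b :=
  fun y hy => mem_ofSize.2 (by rw [← cls_eq (mem_cls.1 hy)]; exact mem_ofSize.1 hx)

theorem noSmall_choose (b : ℕ) :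
    NoSmall r ((Fintype.card α).choose (ofSize M b).card) := by
  refine T.noSmall (card_dvd_of_preserves (fun x => decide ((cls M x).card = b))
    fun g hg x => by simp only [card_cls_apply hg]) ?_
  rw [Fintype.prod_bool]
  have h1 : (univ.filter fun x => decide ((cls M x).card = b) = true) = ofSize M b := by
    ext; simp [ofSize]
  have h2 : (univ.filter fun x => decide ((cls M x).card = b) = false) = univ \ ofSize M b := by
    ext; simp [ofSize]
  rw [h1, h2, card_sdiff_of_subset (subset_univ _), card_univ]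
  have := Nat.choose_mul_factorial_mul_factorial
    (show (ofSize M b).card ≤ Fintype.card α from card_le_univ _)
  linarith

theorem noSmall_pair {b c : ℕ} (hbc : b ≠ c) :
    NoSmall r (((ofSize M b).card + (ofSize M c).card).choose (ofSize M c).card) := by
  set u := (ofSize M b).card
  set v := (ofSize M c).card
  have hdis : Disjoint (ofSize M b) (ofSize M c) := disjoint_left.2 fun x h1 h2 =>
    hbc ((mem_ofSize.1 h1).symm.trans (mem_ofSize.1 h2))
  have huv : u + v ≤ Fintype.card α := by
    rw [← card_union_of_disjoint hdis]; exact card_le_univ _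
  let f : α → Fin 3 := fun x =>
    if (cls M x).card = b then 0 else if (cls M x).card = c then 1 else 2
  have hN : NoSmall r ((Fintype.card α).choose (u + v) * (u + v).choose v) := by
    refine T.noSmall (card_dvd_of_preserves f fun g hg x => by
      simp only [f, card_cls_apply hg]) ?_
    have h0 : (univ.filter fun x => f x = 0) = ofSize M b := by
      ext x
      by_cases e : (cls M x).card = b <;> by_cases e' : (cls M x).card = c <;>
        simp [f, ofSize, e, e']
    have h1 : (univ.filter fun x => f x = 1) = ofSize M c := by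
      ext x
      by_cases e : (cls M x).card = b <;> by_cases e' : (cls M x).card = c <;>
        simp [f, ofSize, e, e', hbc, Ne.symm hbc]
    have h2 : (univ.filter fun x => f x = 2) = univ \ (ofSize M b ∪ ofSize M c) := by
      ext x
      by_cases e : (cls M x).card = b <;> by_cases e' : (cls M x).card = c <;>
        simp [f, ofSize, e, e', hbc, Ne.symm hbc]
    rw [Fin.prod_univ_three, h0, h1, h2, card_sdiff_of_subset (subset_univ _), card_univ,
      card_union_of_disjoint hdis]
    have e1 := Nat.choose_mul_factorial_mul_factorial huv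
    have e2 := Nat.choose_mul_factorial_mul_factorial (Nat.le_add_left v u)
    rw [Nat.add_sub_cancel] at e2
    calc u ! * v ! * (Fintype.card α - (u + v))! *
          ((Fintype.card α).choose (u + v) * (u + v).choose v)
        = (Fintype.card α).choose (u + v) * ((u + v).choose v * v ! * u !) *
            (Fintype.card α - (u + v))! := by ring
      _ = (Fintype.card α)! := by rw [e2, e1]
  exact hN.of_dvd (dvd_mul_left _ _)

/-- Several classes of one size. -/
theorem several {b : ℕ} (hb : 3 ≤ b) (hbr : b < r) (hbu : b < (ofSize M b).card) :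
    b = 4 ∧ r = 5 ∧ (ofSize M b).card = 8 := by
  classical
  set Cb := (ofSize M b).image (cls M) with hCb
  have hCbm : ∀ {K}, K ∈ Cb → K.card = b := fun {K} hK => by
    obtain ⟨x, hx, rfl⟩ := mem_image.1 hK
    exact mem_ofSize.1 hx
  set m := Cb.card with hm
  have hu : (ofSize M b).card = m * b := by
    rw [card_eq_sum_card_image (cls M) (ofSize M b), sum_const_nat (m := b), hm]
    intro K hK
    refine (congrArg Finset.card ?_).trans (hCbm hK)
    obtain ⟨x, hx, rfl⟩ := mem_image.1 hK
    ext y
    rw [mem_filter, mem_cls]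
    exact ⟨fun h' => (cls_eq_iff.1 h'.2).symm,
      fun h' => ⟨cls_subset_ofSize hx (mem_cls.2 h'), (cls_eq h').symm⟩⟩
  let f : α → Option Cb := fun x =>
    if hx : (cls M x).card = b then some ⟨cls M x, mem_image_of_mem _ (mem_ofSize.2 hx)⟩
    else none
  have hmapK : ∀ g ∈ pres (Rel M), ∀ K ∈ Cb, K.map (g : Perm α).toEmbedding ∈ Cb :=
    fun g hg K hK => by
      obtain ⟨x, hx, rfl⟩ := mem_image.1 hK
      rw [← cls_apply hg]
      exact mem_image_of_mem _ (mem_ofSize.2 ((card_cls_apply hg x).trans (mem_ofSize.1 hx)))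
  let ρ0 : pres (Rel M) → Cb → Cb := fun g K =>
    ⟨K.1.map (g : Perm α).toEmbedding, hmapK g g.2 K K.2⟩
  have hρ0 : ∀ g h : pres (Rel M), ∀ K, ρ0 (g * h) K = ρ0 g (ρ0 h K) := fun g h K => by
    refine Subtype.ext ?_
    show K.1.map ((g * h : pres (Rel M)) : Perm α).toEmbedding =
      (K.1.map (h : Perm α).toEmbedding).map (g : Perm α).toEmbedding
    rw [map_map]
    rfl
  let ρ : pres (Rel M) →* Perm Cb := MonoidHom.mk' (fun g => Equiv.ofBijective (ρ0 g)
    (Finite.injective_iff_bijective.1 fun K K' e =>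
      Subtype.ext (map_injective _ (congrArg Subtype.val e))))
    fun g h => Equiv.ext fun K => hρ0 g h K
  have hker : Nat.card ρ.ker ∣ ∏ i : Option Cb, ((univ.filter fun x => f x = i).card)! := by
    rw [← Subgroup.card_map_of_injective (pres (Rel M)).subtype_injective]
    refine card_dvd_of_preserves f ?_
    rintro _ ⟨g, hg, rfl⟩ x
    show f ((g : Perm α) x) = f x
    by_cases hx : (cls M x).card = b
    · simp only [f, dif_pos hx, dif_pos ((card_cls_apply g.2 x).trans hx), Option.some.injEq,
        Subtype.mk.injEq]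
      have := congrArg
        (fun σ : Perm Cb => (σ ⟨cls M x, mem_image_of_mem _ (mem_ofSize.2 hx)⟩).1)
        (MonoidHom.mem_ker.1 hg)
      rw [cls_apply g.2]
      exact this
    · simp only [f, dif_neg hx, dif_neg fun e => hx ((card_cls_apply g.2 x).symm.trans e)]
  have hnone : (univ.filter fun x => f x = none).card = Fintype.card α - (ofSize M b).card := by
    rw [← card_univ (α := α), ← card_sdiff_of_subset (subset_univ _)]
    congr 1
    ext x
    by_cases hx : (cls M x).card = b <;> simp [f, ofSize, hx]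
  have hsome : ∀ K : Cb, (univ.filter fun x => f x = some K).card = b := by
    intro K
    obtain ⟨x, hx, hxK⟩ := mem_image.1 K.2
    refine (congrArg Finset.card ?_).trans ((congrArg Finset.card hxK).trans (hCbm K.2))
    ext y
    rw [mem_filter, mem_cls]
    constructor
    · rintro ⟨-, hy⟩
      by_cases hyb : (cls M y).card = b
      · simp only [f, dif_pos hyb, Option.some.injEq] at hy
        exact (cls_eq_iff.1 ((congrArg Subtype.val hy).trans hxK.symm)).symm
      · simp [f, hyb] at hy
    · intro h'
      have hyb : (cls M y).card = b := mem_ofSize.1 (cls_subset_ofSize hx (mem_cls.2 h'))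
      refine ⟨mem_univ _, ?_⟩
      simp only [f, dif_pos hyb, Option.some.injEq]
      exact Subtype.ext ((cls_eq h').symm.trans hxK)
  have hcard : Nat.card (pres (Rel M)) ∣
      m ! * ((Fintype.card α - (ofSize M b).card)! * b ! ^ m) := by
    rw [Fintype.prod_option, hnone, prod_congr rfl (g := fun _ => b !) fun K _ => by rw [hsome K],
      prod_const, card_univ, Fintype.card_coe, ← hm] at hker
    rw [← ρ.ker.card_mul_index, Subgroup.index_ker, mul_comm]
    refine mul_dvd_mul ?_ hker
    refine (Subgroup.card_subgroup_dvd_card _).trans (dvd_of_eq ?_)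
    rw [Nat.card_perm, Nat.card_eq_fintype_card, Fintype.card_coe]
  have hN : NoSmall r ((Fintype.card α).choose (ofSize M b).card * Nat.uniformBell m b) := by
    refine T.noSmall hcard ?_
    have e1 := Nat.choose_mul_factorial_mul_factorial
      (show (ofSize M b).card ≤ Fintype.card α from card_le_univ _)
    have e2 := Nat.uniformBell_mul_eq m (show b ≠ 0 by omega)
    rw [← hu] at e2
    calc m ! * ((Fintype.card α - (ofSize M b).card)! * b ! ^ m) *
          ((Fintype.card α).choose (ofSize M b).card * Nat.uniformBell m b)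
        = (Fintype.card α).choose (ofSize M b).card * (Nat.uniformBell m b * b ! ^ m * m !) *
            (Fintype.card α - (ofSize M b).card)! := by ring
      _ = (Fintype.card α)! := by rw [e2, e1]
  have hm2 : 2 ≤ m := by
    by_contra h'
    have : m * b ≤ 1 * b := Nat.mul_le_mul_right b (by omega)
    omega
  have hmono : ∀ i j, i ≤ j → Nat.uniformBell i b ∣ Nat.uniformBell j b := by
    intro i j hij
    induction j, hij using Nat.le_induction with
    | base => exact dvd_rfl
    | succ k _ ih => rw [Nat.uniformBell_succ_left]; exact ih.trans (dvd_mul_left _ _)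
  have hbell : ∀ {i}, i ≤ m → NoSmall r (Nat.uniformBell i b) :=
    fun {i} hi => (hN.of_dvd (dvd_mul_left _ _)).of_dvd (hmono i m hi)
  have h2 := hbell hm2
  rw [Nat.uniformBell_succ_left, Nat.uniformBell_one_left, mul_one, one_mul,
    show b + b - 1 = 2 * b - 1 by omega] at h2
  obtain ⟨rfl, hr'⟩ := equal_noSmall T.five_le hb hbr h2
  refine ⟨rfl, hr', ?_⟩
  by_contra hne
  exact hbell (show 3 ≤ m by omega) 3 Nat.prime_three (by omega)
    (by rw [Nat.uniformBell_eq]; decide)

/-- With two classes the group is exceptional. -/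
theorem exceptional {x y : α} (hne : cls M x ≠ cls M y)
    (hsum : (cls M x).card + (cls M y).card = Fintype.card α)
    (hkind : ((cls M y).card = 1 ∧ Fintype.card α = r) ∨
      ((Fintype.card α = 7 ∨ Fintype.card α = 8) ∧ (cls M x).card = 4 ∧ r = 5)) :
    Exceptional π M (cls M x) := by
  have hdis : Disjoint (cls M x) (cls M y) := disjoint_left.2 fun z h1 h2 =>
    hne ((cls_eq (mem_cls.1 h1)).trans (cls_eq (mem_cls.1 h2)).symm)
  have hcompl : ∀ z, z ∉ cls M x → z ∈ cls M y := fun z hz => by
    have hu : cls M x ∪ cls M y = univ := eq_univ_of_card _ (by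
      rw [card_union_of_disjoint hdis, hsum])
    have := mem_univ z
    rw [← hu, mem_union] at this
    exact this.resolve_left hz
  have hrel : pres (Rel M) = bip (cls M x) := by
    rw [bip]
    congr 1
    funext a b
    refine propext ⟨fun hab => ⟨fun ha => ?_, fun hb => ?_⟩, fun hab => ?_⟩
    · exact mem_cls.2 ((mem_cls.1 ha).trans hab)
    · exact mem_cls.2 ((mem_cls.1 hb).trans hab.symm)
    · by_cases ha : a ∈ cls M x
      · exact (mem_cls.1 ha).symm.trans (mem_cls.1 (hab.1 ha))
      · exact (mem_cls.1 (hcompl a ha)).symm.trans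
          (mem_cls.1 (hcompl b fun hb => ha (hab.2 hb)))
  have h5 := T.five_le
  have hshape : Shape π (cls M x) := by
    rcases hkind with ⟨hy1, hnr⟩ | ⟨h78, hx4, hr⟩
    · exact Or.inl ⟨hnr ▸ T.prime, by omega, fun P hP hPn => hnr ▸ T.mem_iff P hP hPn⟩
    · refine Or.inr ⟨h78, hx4, fun P hP hPn => (T.mem_iff P hP hPn).trans ⟨fun hlt => ?_, ?_⟩⟩
      · have := hP.two_le
        have : P ≠ 4 := fun e => by rw [e] at hP; exact absurd hP (by decide)
        omega
      · rintro (rfl | rfl) <;> omega
  have hpi : ∀ P : ℕ, P.Prime → P ∣ Nat.card (bip (cls M x)) → P ∈ π := by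
    intro P hP hd
    by_cases hP2 : P = 2
    · exact hP2 ▸ T.two
    have hlt : P < r := by
      have hx' := T.cls_lt x
      have hy' := T.cls_lt y
      rcases prime_dvd_card_bip hP hP2 hd with h' | h' <;> omega
    exact (T.mem_iff P hP (hlt.le.trans T.le_card)).2 hlt
  refine ⟨hshape, fun g hg => hrel ▸ mem_pres_of_normalizing hg,
    ⟨hpi, fun P hP hPπ => hrel ▸ T.not_dvd_index hP hPπ⟩,
    le_antisymm (le_inf (hrel ▸ le_pres) T.alt.le) ?_⟩
  rw [← Subgroup.relIndex_eq_one]
  refine Nat.eq_one_of_dvd_coprimes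
    (Nat.coprime_of_dvd (m := Nat.card (bip (cls M x))) (n := M.relIndex (alternatingGroup α))
      fun P hP hP1 hP2 => T.alt.hall P hP (hpi P hP hP1) hP2) ?_ ?_
  · exact (Subgroup.index_dvd_card _).trans (Subgroup.card_dvd_of_le inf_le_left)
  · exact Dvd.intro _ (Subgroup.relIndex_mul_relIndex M _ _ (le_inf (hrel ▸ le_pres) T.alt.le)
      inf_le_right)

/-- The case division. -/
theorem exists_exceptional : ∃ B, Exceptional π M B := by
  classical
  have h5 := T.five_le
  have hrn := T.le_card
  have hS_eq : ∀ {b x}, x ∈ ofSize M b → (ofSize M b).card ≤ b → ofSize M b = cls M x :=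
    fun {b x} hx hle =>
      (eq_of_subset_of_card_le (cls_subset_ofSize hx)
        (by rw [mem_ofSize.1 hx]; exact hle)).symm
  by_cases hbig : ∃ b, 3 ≤ b ∧ b < r ∧ b < (ofSize M b).card
  · obtain ⟨b, hb3, hbr, hbu⟩ := hbig
    obtain ⟨rfl, rfl, hu8⟩ := T.several hb3 hbr hbu
    have h3 : (ofSize M 3).card ≤ 3 := by
      by_contra h'
      exact absurd (T.several le_rfl (by omega) (by omega)).1 (by decide)
    have hcover : univ ⊆ ofSize M 1 ∪ ofSize M 3 ∪ ofSize M 4 := fun x _ => by
      simp only [mem_union, mem_ofSize]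
      have := T.cls_lt x
      have := card_cls (M := M) x
      omega
    have hn13 : Fintype.card α ≤ 13 := by
      have h1 := card_le_card hcover
      have := card_union_le (ofSize M 1 ∪ ofSize M 3) (ofSize M 4)
      have := card_union_le (ofSize M 1) (ofSize M 3)
      have := T.singles
      rw [card_univ] at h1
      omega
    have hn8 : 8 ≤ Fintype.card α := hu8 ▸ card_le_univ _
    have hn_eq : Fintype.card α = 8 := by
      have h8 := T.noSmall_choose 4
      rw [hu8] at h8
      generalize Fintype.card α = n at h8 hn8 hn13 ⊢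
      by_contra hne
      interval_cases n
      · omega
      all_goals
        first
        | exact h8 2 Nat.prime_two (by omega) (by decide)
        | exact h8 3 Nat.prime_three (by omega) (by decide)
    obtain ⟨x, hx⟩ := card_pos.1 (show 0 < (ofSize M 4).card by omega)
    obtain ⟨y, hy, hyx⟩ := exists_mem_notMem_of_card_lt_card (s := cls M x) (t := ofSize M 4)
      (by rw [mem_ofSize.1 hx, hu8]; omega)
    exact ⟨_, T.exceptional (x := x) (y := y) (fun e => hyx (e ▸ mem_cls_self y))
      (by rw [mem_ofSize.1 hx, mem_ofSize.1 hy, hn_eq])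
      (Or.inr ⟨Or.inr hn_eq, mem_ofSize.1 hx, rfl⟩)⟩
  push Not at hbig
  have hsingle : ∀ {x}, 3 ≤ (cls M x).card → ofSize M (cls M x).card = cls M x :=
    fun {x} hx => hS_eq (mem_ofSize.2 rfl) (hbig _ hx (T.cls_lt x))
  obtain ⟨x3, hx3⟩ := T.exists_nontrivial
  obtain ⟨x, -, hmax⟩ :=
    exists_max_image univ (fun x => (cls M x).card) ⟨x3, mem_univ _⟩
  have hb3 : 3 ≤ (cls M x).card := hx3.trans (hmax x3 (mem_univ _))
  have hbr := T.cls_lt x
  by_cases hsecond : ∃ y, 3 ≤ (cls M y).card ∧ cls M y ≠ cls M x
  · obtain ⟨y, hy3', hyx⟩ := hsecond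
    have hne : (cls M x).card ≠ (cls M y).card := fun e => hyx (by
      rw [← hsingle hy3', ← hsingle hb3, e])
    have hp' := T.noSmall_pair hne
    rw [hsingle hb3, hsingle hy3'] at hp'
    obtain ⟨e4, e3, hr⟩ :=
      pair_noSmall T.prime h5 (by omega) (hmax y (mem_univ _)) hbr hp'
    have hs4 := hsingle hb3
    have hs3 := hsingle hy3'
    rw [e4] at hs4
    rw [e3] at hs3
    have hcover : univ = ofSize M 1 ∪ (cls M x ∪ cls M y) := by
      refine (subset_antisymm (subset_univ _) fun z _ => ?_).symm
      rw [← hs4, ← hs3]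
      simp only [mem_union, mem_ofSize]
      have := T.cls_lt z
      have := card_cls (M := M) z
      omega
    have hn7 : Fintype.card α = (ofSize M 1).card + 7 := by
      rw [← card_univ, hcover, card_union_of_disjoint, card_union_of_disjoint, e4, e3]
      · exact disjoint_left.2 fun z h1 h2 => hyx ((cls_eq (mem_cls.1 h2)).trans
          (cls_eq (mem_cls.1 h1)).symm)
      · refine disjoint_left.2 fun z h1 h2 => ?_
        rw [← hs4, ← hs3, mem_union, mem_ofSize, mem_ofSize, mem_ofSize.1 h1] at h2
        omega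
    have hs0 : (ofSize M 1).card = 0 := by
      have h1 := T.noSmall_choose 1
      have hs2 := T.singles
      rw [hn7] at h1
      generalize (ofSize M 1).card = s at h1 hs2 ⊢
      interval_cases s
      · rfl
      · exact absurd (by decide) (h1 2 Nat.prime_two (by omega))
      · exact absurd (by decide) (h1 2 Nat.prime_two (by omega))
    exact ⟨_, T.exceptional (x := x) (y := y) (Ne.symm hyx) (by omega) (Or.inr ⟨Or.inl (by omega), e4, hr⟩)⟩
  push Not at hsecond
  have hcover : univ = ofSize M 1 ∪ cls M x := by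
    refine (subset_antisymm (subset_univ _) fun z _ => ?_).symm
    rw [mem_union]
    rcases card_cls (M := M) z with e | e
    · exact Or.inl (mem_ofSize.2 e)
    · exact Or.inr (hsecond z e ▸ mem_cls_self z)
  have hdisj : Disjoint (ofSize M 1) (cls M x) := disjoint_left.2 fun z h1 h2 => by
    have h' := mem_ofSize.1 h1
    rw [← cls_eq (mem_cls.1 h2)] at h'
    omega
  have hn' : Fintype.card α = (ofSize M 1).card + (cls M x).card := by
    rw [← card_univ, hcover, card_union_of_disjoint hdisj]
  have hp' := T.noSmall_pair (b := (cls M x).card) (c := 1) (by omega)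
  rw [hsingle hb3] at hp'
  have hs2 := T.singles
  rcases (show (ofSize M 1).card = 1 ∨ (ofSize M 1).card = 2 by omega) with e | e <;>
    rw [e] at hp'
  · have hb1 := succ_eq_of_noSmall le_rfl (by omega) hbr hp'
    obtain ⟨y, hy⟩ := card_pos.1 (show 0 < (ofSize M 1).card by omega)
    refine ⟨_, T.exceptional (x := x) (y := y) (fun h' => ?_) (by rw [mem_ofSize.1 hy]; omega)
      (Or.inl ⟨mem_ofSize.1 hy, by omega⟩)⟩
    rw [h', mem_ofSize.1 hy] at hb3
    omega
  · obtain ⟨-, e3, -⟩ := pair_noSmall T.prime h5 le_rfl (by omega) hbr hp'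
    omega

end Setting

/-- **Classification.** -/
theorem AltHall.classify (h : AltHall π M)
    (h2 : ∃ p q : ℕ, p.Prime ∧ q.Prime ∧ p ≠ q ∧ p ∈ π ∧ q ∈ π ∧ p ≤ Fintype.card α ∧
      q ≤ Fintype.card α)
    (hns : ∃ r : ℕ, r.Prime ∧ r ≤ Fintype.card α ∧ r ∉ π) : ∃ B, Exceptional π M B :=
  let ⟨_, T⟩ := h.exists_setting h2 hns
  T.exists_exceptional

end Cfsg.Agent.Perm.HallSym
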