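import Cfsg.Prelude.Def_HallClasses
import Cfsg.Agent.Lib.Perm.HallSymMain

/-!
# Hall subgroups of symmetric and alternating groups: consequences of the classification
-/

set_option autoImplicit false

namespace Cfsg.Agent.Perm.HallSym

open Equiv Equiv.Perm Finset
open scoped Nat

section General

universe u

variable {G : Type u} [Group G] [Finite G] {π : Set ℕ}

/-- A Hall subgroup is a maximal `π`-subgroup. -/
theorem maximal_of_isPiHall {H : Subgroup G} (h : IsPiHall π H) :
    Maximal (IsPiSubgroup π) H := by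
  refine ⟨h.1, fun K hK hle => ?_⟩
  rw [← Subgroup.relIndex_eq_one]
  refine Nat.eq_one_of_dvd_coprimes
    (Nat.coprime_of_dvd (m := Nat.card K) (n := H.index) fun p hp h1 h2 =>
      h.2 p hp (hK p hp h1) h2) ?_ (Subgroup.relIndex_dvd_index_of_le hle)
  exact Subgroup.index_dvd_card _

/-- Every `π`-subgroup lies in a maximal one. -/
theorem exists_maximal {K : Subgroup G} (hK : IsPiSubgroup π K) :
    ∃ L, K ≤ L ∧ Maximal (IsPiSubgroup π) L := by
  classical
  obtain ⟨L, ⟨hL, hKL⟩, hmax⟩ := Set.Finite.exists_maximalFor (fun L : Subgroup G => L)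
    {L | IsPiSubgroup π L ∧ K ≤ L} (Set.toFinite _) ⟨K, hK, le_rfl⟩
  exact ⟨L, hKL, hL, fun L' hL' hle => hmax ⟨hL', hKL.trans hle⟩ hle⟩

/-- `D_π` gives a Hall subgroup. -/
theorem isEPiGroup_of_isDPiGroup (h : IsDPiGroup π G) : IsEPiGroup π G := by
  classical
  obtain ⟨H, -, hH⟩ := exists_maximal (G := G) (π := π) (K := ⊥) fun p hp hd => by
    rw [Subgroup.card_bot, Nat.dvd_one] at hd
    exact absurd hd hp.ne_one
  refine ⟨H, hH.1, fun p hp hpπ hd => ?_⟩
  have : Fact p.Prime := ⟨hp⟩
  let P : Sylow p G := default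
  obtain ⟨L, hPL, hL⟩ := exists_maximal (G := G) (π := π) (K := (P : Subgroup G)) fun q hq hd => by
    obtain ⟨k, hk⟩ := P.2.exists_card_eq
    rw [hk] at hd
    exact (Nat.prime_dvd_prime_iff_eq hq hp).1 (hq.dvd_of_dvd_pow hd) ▸ hpπ
  obtain ⟨g, rfl⟩ := h H L hH hL
  have h1 := Subgroup.card_dvd_of_le hPL
  rw [Subgroup.card_map_of_injective (MulAut.conj g).injective] at h1
  have h2 : H.index ∣ (P : Subgroup G).index := by
    obtain ⟨k, hk⟩ := h1
    have e1 := (P : Subgroup G).card_mul_index
    rw [← H.card_mul_index, hk, mul_assoc] at e1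
    exact Dvd.intro_left k (Nat.eq_of_mul_eq_mul_left Nat.card_pos e1).symm
  exact P.not_dvd_index (hd.trans h2)

/-- With `D_π` all Hall subgroups are conjugate. -/
theorem isCPiGroup_of_isDPiGroup (h : IsDPiGroup π G) : IsCPiGroup π G :=
  ⟨isEPiGroup_of_isDPiGroup h, fun _ _ hH hK =>
    h _ _ (maximal_of_isPiHall hH) (maximal_of_isPiHall hK)⟩

/-- With `D_π` every `π`-subgroup lies in a conjugate of any Hall subgroup. -/
theorem exists_conj_of_isDPiGroup (h : IsDPiGroup π G) {H K : Subgroup G} (hH : IsPiHall π H)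
    (hK : IsPiSubgroup π K) : ∃ g : G, K ≤ H.map (MulAut.conj g).toMonoidHom := by
  obtain ⟨L, hKL, hL⟩ := exists_maximal hK
  obtain ⟨g, rfl⟩ := h H L (maximal_of_isPiHall hH) hL
  exact ⟨g, hKL⟩

/-- **The trivial cases**: at most one prime of `π`, or all primes, divide the order. -/
theorem isDPiGroup_of_trivial
    (h : (∀ r s : ℕ, r.Prime → s.Prime → r ∈ π → s ∈ π → r ∣ Nat.card G → s ∣ Nat.card G → r = s) ∨
      ∀ r : ℕ, r.Prime → r ∣ Nat.card G → r ∈ π) : IsDPiGroup π G := by
  intro H K hH hK
  rcases h with h | h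
  · by_cases hex : ∃ p : ℕ, p.Prime ∧ p ∈ π ∧ p ∣ Nat.card G
    · obtain ⟨p, hp, hpπ, hpd⟩ := hex
      have : Fact p.Prime := ⟨hp⟩
      have key : ∀ L : Subgroup G, Maximal (IsPiSubgroup π) L →
          ∃ P : Sylow p G, (P : Subgroup G) = L := by
        intro L hL
        have hLp : IsPGroup p L := IsPGroup.iff_card.2 ⟨_,
          Nat.eq_prime_pow_of_unique_prime_dvd Nat.card_pos.ne' fun {q} hq hd => by
            have hdG := hd.trans (Subgroup.card_subgroup_dvd_card L)
            exact h q p hq hp (hL.1 q hq hd) hpπ hdG hpd⟩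
        obtain ⟨P, hP⟩ := hLp.exists_le_sylow
        refine ⟨P, le_antisymm (hL.2 (fun q hq hd => ?_) hP) hP⟩
        obtain ⟨k, hk⟩ := P.2.exists_card_eq
        rw [hk] at hd
        exact (Nat.prime_dvd_prime_iff_eq hq hp).1 (hq.dvd_of_dvd_pow hd) ▸ hpπ
      obtain ⟨P, rfl⟩ := key H hH
      obtain ⟨Q, rfl⟩ := key K hK
      obtain ⟨g, hg⟩ := MulAction.exists_smul_eq G P Q
      exact ⟨g, by rw [← hg]; rfl⟩
    · push Not at hex
      have key : ∀ L : Subgroup G, IsPiSubgroup π L → L = ⊥ := by
        intro L hL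
        rw [← Subgroup.card_eq_one]
        by_contra hne
        obtain ⟨q, hq, hd⟩ := Nat.exists_prime_and_dvd hne
        exact hex q hq (hL q hq hd) (hd.trans (Subgroup.card_subgroup_dvd_card L))
      exact ⟨1, by rw [key H hH.1, key K hK.1, Subgroup.map_bot]⟩
  · have key : ∀ L : Subgroup G, Maximal (IsPiSubgroup π) L → L = ⊤ := fun L hL =>
      top_le_iff.1 (hL.2 (fun q hq hd => h q hq (by rwa [Subgroup.card_top] at hd)) le_top)
    refine ⟨1, ?_⟩
    rw [key H hH, key K hK, Subgroup.map_top_of_surjective _ (MulAut.conj (1 : G)).surjective]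

end General

variable {α : Type*} [Fintype α] [DecidableEq α] {π : Set ℕ}

/-- The order of the group preserving a function. -/
theorem card_presFun {ι : Type*} [Fintype ι] [DecidableEq ι] (f : α → ι) :
    Nat.card (presFun f) = ∏ i, ((univ.filter fun x => f x = i).card)! := by
  have e : Nat.card (presFun f) = Nat.card {g : Perm α // f ∘ g = f} :=
    Nat.card_congr (Equiv.subtypeEquivRight fun g =>
      ⟨fun h => funext h, fun h x => congrFun h x⟩)
  rw [e, Nat.card_eq_fintype_card, DomMulAct.stabilizer_card]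
  exact prod_congr rfl fun i _ => by rw [Fintype.card_subtype]

/-- The index of a set stabiliser. -/
theorem index_presFun_decide (B : Finset α) :
    (presFun fun x => decide (x ∈ B)).index = (Fintype.card α).choose B.card := by
  have h1 : (univ.filter fun x => decide (x ∈ B) = true) = B := by ext; simp
  have h2 : (univ.filter fun x => decide (x ∈ B) = false) = univ \ B := by ext; simp
  have hc := (presFun fun x => decide (x ∈ B)).card_mul_index
  rw [card_presFun, Fintype.prod_bool, h1, h2, card_sdiff_of_subset (subset_univ _), card_univ,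
    Nat.card_perm, Nat.card_eq_fintype_card,
    ← Nat.choose_mul_factorial_mul_factorial (card_le_univ B)] at hc
  refine Nat.eq_of_mul_eq_mul_left
    (Nat.mul_pos (Nat.factorial_pos B.card) (Nat.factorial_pos (Fintype.card α - B.card))) ?_
  rw [hc]
  ring

theorem presFun_le_bip (B : Finset α) : presFun (fun x => decide (x ∈ B)) ≤ bip B := by
  intro g hg x y
  have hx : (g x ∈ B ↔ x ∈ B) := decide_eq_decide.1 (hg x)
  have hy : (g y ∈ B ↔ y ∈ B) := decide_eq_decide.1 (hg y)
  show (g x ∈ B ↔ g y ∈ B) ↔ (x ∈ B ↔ y ∈ B)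
  rw [hx, hy]

/-- Two sets of the same size correspond under a permutation. -/
theorem exists_perm_mem_iff {B B' : Finset α} (h : B.card = B'.card) :
    ∃ g : Perm α, ∀ x, g x ∈ B' ↔ x ∈ B := by
  let e : {x // x ∈ B} ≃ {x // x ∈ B'} := Finset.equivOfCardEq h
  exact ⟨e.extendSubtype, fun x => ⟨fun hx => by_contra fun hn =>
    e.extendSubtype_not_mem x hn hx, fun hx => e.extendSubtype_mem x hx⟩⟩

/-- … even an even one, if the sets have two points. -/
theorem exists_even_perm_mem_iff {B B' : Finset α} (h : B.card = B'.card) (h2 : 1 < B.card) :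
    ∃ g ∈ alternatingGroup α, ∀ x, g x ∈ B' ↔ x ∈ B := by
  obtain ⟨g, hg⟩ := exists_perm_mem_iff h
  rcases Int.units_eq_one_or (Perm.sign g) with hs | hs
  · exact ⟨g, mem_alternatingGroup.2 hs, hg⟩
  obtain ⟨u, hu, v, hv, huv⟩ := one_lt_card.1 h2
  refine ⟨g * swap u v, mem_alternatingGroup.2 (by rw [map_mul, sign_swap huv, hs]; rfl),
    fun x => ?_⟩
  rw [Perm.mul_apply, hg]
  by_cases h1 : x = u
  · subst h1; rw [swap_apply_left]; exact ⟨fun _ => hu, fun _ => hv⟩
  by_cases h2 : x = v
  · subst h2; rw [swap_apply_right]; exact ⟨fun _ => hv, fun _ => hu⟩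
  rw [swap_apply_of_ne_of_ne h1 h2]

theorem mem_bip_conj {B B' : Finset α} {g : Perm α} (hg : ∀ x, g x ∈ B' ↔ x ∈ B) (k : Perm α) :
    g * k * g⁻¹ ∈ bip B' ↔ k ∈ bip B := by
  simp only [mem_bip, Perm.mul_apply, hg]
  refine ⟨fun h x y => ?_, fun h x y => ?_⟩
  · have := h (g x) (g y)
    rwa [show g⁻¹ (g x) = x from g.symm_apply_apply x,
      show g⁻¹ (g y) = y from g.symm_apply_apply y, hg, hg] at this
  · have hx : (x ∈ B' ↔ g⁻¹ x ∈ B) := by
      conv_lhs => rw [← g.apply_symm_apply x]
      exact hg _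
    have hy : (y ∈ B' ↔ g⁻¹ y ∈ B) := by
      conv_lhs => rw [← g.apply_symm_apply y]
      exact hg _
    rw [hx, hy]
    exact h _ _

/-- The two shapes fix the size of the set. -/
theorem Shape.card_eq {B B' : Finset α} (h : Shape π B) (h' : Shape π B') :
    B.card = B'.card := by
  rcases h with ⟨hp, hB, hπ⟩ | ⟨h78, hB, hπ⟩ <;> rcases h' with ⟨hp', hB', hπ'⟩ | ⟨h78', hB', hπ'⟩
  · omega
  · exfalso
    rcases h78' with e | e
    · have h5 := (hπ 5 (by decide) (by omega)).2 (by omega)
      have := (hπ' 5 (by decide) (by omega)).1 h5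
      omega
    · rw [e] at hp; exact absurd hp (by decide)
  · exfalso
    rcases h78 with e | e
    · have h5 := (hπ' 5 (by decide) (by omega)).2 (by omega)
      have := (hπ 5 (by decide) (by omega)).1 h5
      omega
    · rw [e] at hp'; exact absurd hp' (by decide)
  · omega

theorem Shape.two_le_card {B : Finset α} (h : Shape π B) (h3 : 3 ≤ Fintype.card α) :
    1 < B.card := by
  rcases h with ⟨-, hB, -⟩ | ⟨-, hB, -⟩ <;> omega

/-- **The exceptional subgroups are Hall subgroups.** -/
theorem Shape.isPiHall {B : Finset α} (h : Shape π B) (h3 : 3 ≤ Fintype.card α) :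
    IsPiHall π (bip B) := by
  refine ⟨fun P hP hd => ?_, fun P hP hPπ hd => ?_⟩
  · rcases h with ⟨hn, hB, hπ⟩ | ⟨h78, hB, hπ⟩
    · by_cases hP2 : P = 2
      · exact (hπ P hP (by omega)).2 (by omega)
      · rcases prime_dvd_card_bip hP hP2 hd with e | e <;>
          exact (hπ P hP (by omega)).2 (by omega)
    · by_cases hP2 : P = 2
      · exact (hπ P hP (by omega)).2 (Or.inl hP2)
      · have hP4 : P ≠ 4 := fun e => by rw [e] at hP; exact absurd hP (by decide)
        rcases prime_dvd_card_bip hP hP2 hd with e | e <;>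
          exact (hπ P hP (by omega)).2 (Or.inr (by have := hP.two_le; omega))
  · have hd' : P ∣ (Fintype.card α).choose B.card :=
      index_presFun_decide B ▸ hd.trans (Subgroup.index_dvd_of_le (presFun_le_bip B))
    have hPn : P ≤ Fintype.card α := by
      refine hP.dvd_factorial.1 ?_
      rw [← Nat.choose_mul_factorial_mul_factorial (card_le_univ B)]
      exact (hd'.mul_right _).mul_right _
    rcases h with ⟨hn, hB, hπ⟩ | ⟨h78, hB, hπ⟩
    · have hlt := (hπ P hP hPn).1 hPπ
      rw [hB, show (Fintype.card α).choose (Fintype.card α - 1) = Fintype.card α by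
        rw [Nat.choose_symm (by omega), Nat.choose_one_right]] at hd'
      have := (Nat.prime_dvd_prime_iff_eq hP hn).1 hd'
      omega
    · have h23 := (hπ P hP hPn).1 hPπ
      rcases h78 with e | e
      · rw [e, hB] at hd'
        rcases h23 with rfl | rfl <;> exact absurd hd' (by decide)
      · -- the set and its complement may be exchanged
        have hcompl : B.card = (Bᶜ : Finset α).card := by rw [card_compl, hB, e]
        obtain ⟨g, hg⟩ := exists_perm_mem_iff hcompl
        have hgB : ∀ x, g x ∈ B ↔ x ∉ B := fun x => by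
          rw [← hg x, mem_compl, not_not]
        have hgbip : g ∈ bip B := mem_bip.2 fun x y => by rw [hgB, hgB]; exact not_iff_not
        have hrel : (presFun fun x => decide (x ∈ B)).relIndex (bip B) = 2 := by
          rw [Subgroup.relIndex_eq_two_iff]
          refine ⟨g, hgbip, fun k hk => ?_⟩
          have hk' : (∀ x, k x ∈ B ↔ x ∈ B) ↔ ¬ ∀ x, k x ∈ B ↔ x ∉ B := by
            constructor
            · intro h1 h2
              obtain ⟨x, hx⟩ := card_pos.1 (show 0 < B.card by omega)
              exact (h2 x).1 ((h1 x).2 hx) hx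
            · intro h1
              push Not at h1
              obtain ⟨x, hx⟩ := h1
              intro y
              have := mem_bip.1 hk x y
              tauto
          have hmem : ∀ t : Perm α, t ∈ presFun (fun x => decide (x ∈ B)) ↔
              ∀ x, t x ∈ B ↔ x ∈ B := fun t =>
            ⟨fun h x => decide_eq_decide.1 (h x), fun h x => decide_eq_decide.2 (h x)⟩
          rw [hmem, hmem, xor_iff_iff_not]
          constructor
          · intro h1
            rw [hk', not_not]
            intro x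
            have := h1 (g⁻¹ x)
            rw [Perm.mul_apply, show g (g⁻¹ x) = x from g.apply_symm_apply x] at this
            have hx := hgB (g⁻¹ x)
            rw [show g (g⁻¹ x) = x from g.apply_symm_apply x] at hx
            tauto
          · intro h1 x
            rw [hk', not_not] at h1
            rw [Perm.mul_apply, h1, hgB, not_not]
        have hidx := Subgroup.relIndex_mul_index (presFun_le_bip B)
        rw [hrel, index_presFun_decide, e, hB, show Nat.choose 8 4 = 70 by decide] at hidx
        rcases h23 with rfl | rfl <;> omega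

/-- A Hall subgroup of the symmetric group meets the alternating group in one. -/
theorem altHall_inf {H : Subgroup (Perm α)} (h : IsPiHall π H) :
    AltHall π (H ⊓ alternatingGroup α) := by
  refine ⟨inf_le_right, fun p hp hd => h.1 p hp (hd.trans (Subgroup.card_dvd_of_le inf_le_left)),
    fun p hp hpπ hd => ?_⟩
  rcases subsingleton_or_nontrivial α with hs | hs
  · have : alternatingGroup α = ⊥ := Subsingleton.elim _ _
    rw [this, Subgroup.relIndex_bot_right, Nat.dvd_one] at hd
    exact hp.ne_one hd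
  refine h.2 p hp hpπ (hd.trans ?_)
  rw [Subgroup.inf_relIndex_right]
  have e2 := Subgroup.relIndex_mul_index (inf_le_left : H ⊓ alternatingGroup α ≤ H)
  have e3 := Subgroup.relIndex_mul_index
    (inf_le_right : H ⊓ alternatingGroup α ≤ alternatingGroup α)
  rw [Subgroup.inf_relIndex_left] at e2
  rw [Subgroup.inf_relIndex_right, alternatingGroup.index_eq_two, ← e2] at e3
  have hdvd : (alternatingGroup α).relIndex H ∣ 2 :=
    alternatingGroup.index_eq_two (α := α) ▸ Subgroup.relIndex_dvd_index_of_normal _ _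
  rcases (Nat.dvd_prime Nat.prime_two).1 hdvd with e | e <;> rw [e] at e3
  · exact Dvd.intro _ (by linarith : H.relIndex (alternatingGroup α) * 2 = H.index)
  · exact dvd_of_eq (by omega)

/-- A Hall subgroup of the alternating group, pushed into the symmetric group. -/
theorem altHall_map {M : Subgroup (alternatingGroup α)} (h : IsPiHall π M) :
    AltHall π (M.map (alternatingGroup α).subtype) := by
  refine ⟨Subgroup.map_subtype_le M, fun p hp hd => h.1 p hp ?_, fun p hp hpπ hd => h.2 p hp hpπ ?_⟩
  · rwa [Subgroup.card_map_of_injective (alternatingGroup α).subtype_injective] at hd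
  · rwa [Subgroup.relIndex, Subgroup.subgroupOf,
      Subgroup.comap_map_eq_self_of_injective (alternatingGroup α).subtype_injective] at hd

/-- The traces of Hall subgroups of the symmetric group are Hall subgroups. -/
theorem isPiHall_subgroupOf {H : Subgroup (Perm α)} (h : IsPiHall π H) :
    IsPiHall π (H.subgroupOf (alternatingGroup α)) := by
  have h' := altHall_inf h
  refine ⟨fun p hp hd => h'.pi p hp ?_, fun p hp hpπ hd => h'.hall p hp hpπ ?_⟩
  · rw [← Subgroup.card_map_of_injective (alternatingGroup α).subtype_injective,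
      Subgroup.subgroupOf_map_subtype] at hd
    exact hd
  · rwa [Subgroup.inf_relIndex_right]

/-- Hall subgroups of the symmetric group in the exceptional case. -/
theorem eq_bip {H : Subgroup (Perm α)} (h : IsPiHall π H)
    (h2 : ∃ p q : ℕ, p.Prime ∧ q.Prime ∧ p ≠ q ∧ p ∈ π ∧ q ∈ π ∧ p ≤ Fintype.card α ∧
      q ≤ Fintype.card α)
    (hns : ∃ r : ℕ, r.Prime ∧ r ≤ Fintype.card α ∧ r ∉ π) :
    ∃ B, Shape π B ∧ H = bip B := by
  obtain ⟨B, hB⟩ := (altHall_inf h).classify h2 hns
  have hle : H ≤ bip B := fun g hg => hB.norm g fun m => by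
    simp only [Subgroup.mem_inf]
    refine and_congr ?_ ?_
    · exact ⟨fun hm => mul_mem (mul_mem hg hm) (inv_mem hg), fun hm => by
        have := mul_mem (mul_mem (inv_mem hg) hm) hg
        rwa [show g⁻¹ * (g * m * g⁻¹) * g = m by group] at this⟩
    · rw [mem_alternatingGroup, mem_alternatingGroup, map_mul, map_mul, map_inv,
        mul_comm (Perm.sign g), mul_assoc, mul_inv_cancel, mul_one]
  exact ⟨B, hB.shape, le_antisymm hle ((maximal_of_isPiHall h).2 hB.hall.1 hle)⟩

/-- A Hall subgroup of the alternating group in the exceptional case. -/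
theorem eq_subgroupOf_bip {M : Subgroup (alternatingGroup α)} (h : IsPiHall π M)
    (h2 : ∃ p q : ℕ, p.Prime ∧ q.Prime ∧ p ≠ q ∧ p ∈ π ∧ q ∈ π ∧ p ≤ Fintype.card α ∧
      q ≤ Fintype.card α)
    (hns : ∃ r : ℕ, r.Prime ∧ r ≤ Fintype.card α ∧ r ∉ π) :
    ∃ B, Shape π B ∧ IsPiHall π (bip B) ∧ M = (bip B).subgroupOf (alternatingGroup α) := by
  obtain ⟨B, hB⟩ := (altHall_map h).classify h2 hns
  refine ⟨B, hB.shape, hB.hall, ?_⟩
  rw [← Subgroup.inf_subgroupOf_right, ← hB.eq]
  exact (Subgroup.comap_map_eq_self_of_injective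
    (alternatingGroup α).subtype_injective M).symm

/-- A conjugate of a Hall subgroup is one. -/
theorem isPiHall_map_conj {G : Type*} [Group G] {H : Subgroup G} (h : IsPiHall π H) (g : G) :
    IsPiHall π (H.map (MulAut.conj g).toMonoidHom) :=
  ⟨fun p hp hd => h.1 p hp (by
      rwa [Subgroup.card_map_of_injective (MulAut.conj g).injective] at hd),
    fun p hp hpπ hd => h.2 p hp hpπ (by
      rwa [Subgroup.index_map_of_bijective (MulAut.conj g).bijective] at hd)⟩

/-- The exceptional subgroups of one size are conjugate. -/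
theorem map_conj_bip {B B' : Finset α} {g : Perm α} (hg : ∀ x, g x ∈ B' ↔ x ∈ B) :
    (bip B).map (MulAut.conj g).toMonoidHom = bip B' := by
  ext k
  constructor
  · rintro ⟨l, hl, rfl⟩
    exact (mem_bip_conj hg l).2 hl
  · intro hk
    refine ⟨g⁻¹ * k * g, (mem_bip_conj hg _).1 ?_, ?_⟩
    · rwa [show g * (g⁻¹ * k * g) * g⁻¹ = k by group]
    · show g * (g⁻¹ * k * g) * g⁻¹ = k
      group

/-- When there are not two primes of `π` and one outside, `D_π` holds. -/
theorem isDPiGroup_of_not {G : Type*} [Group G] [Finite G] {n : ℕ} (hd : Nat.card G ∣ n !)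
    (h : ¬ ((∃ p q : ℕ, p.Prime ∧ q.Prime ∧ p ≠ q ∧ p ∈ π ∧ q ∈ π ∧ p ≤ n ∧ q ≤ n) ∧
      ∃ r : ℕ, r.Prime ∧ r ≤ n ∧ r ∉ π)) : IsDPiGroup π G := by
  refine isDPiGroup_of_trivial ?_
  have hle : ∀ r : ℕ, r.Prime → r ∣ Nat.card G → r ≤ n :=
    fun r hr hrd => hr.dvd_factorial.1 (hrd.trans hd)
  rcases not_and_or.1 h with h | h
  · exact Or.inl fun r s hr hs hrπ hsπ hrd hsd => by_contra fun hne =>
      h ⟨r, s, hr, hs, hne, hrπ, hsπ, hle r hr hrd, hle s hs hsd⟩
  · exact Or.inr fun r hr hrd => by_contra fun hrπ => h ⟨r, hr, hle r hr hrd, hrπ⟩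

omit [DecidableEq α] in
theorem three_le_card (h2 : ∃ p q : ℕ, p.Prime ∧ q.Prime ∧ p ≠ q ∧ p ∈ π ∧ q ∈ π ∧
    p ≤ Fintype.card α ∧ q ≤ Fintype.card α) : 3 ≤ Fintype.card α := by
  obtain ⟨p, q, hp, hq, hpq, -, -, h1, h1'⟩ := h2
  have := hp.two_le
  have := hq.two_le
  omega

end Cfsg.Agent.Perm.HallSym
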