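import Mathlib

/-!
# Hall subgroups of alternating groups: the primes 2 and 3

If a Hall `π`-subgroup of an alternating group involves two primes then 2 and 3 lie in `π`: two
intersecting cycles of odd prime orders give an element of even order, and a cycle meeting a
four-group of double transpositions gives an element of order divisible by 3.
-/

set_option autoImplicit false

namespace Cfsg.Agent.Perm.HallSym

open Equiv Equiv.Perm Finset

variable {α : Type*}

/-- A Hall `π`-subgroup of the alternating group, as a subgroup of the symmetric group. -/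
structure AltHall [Fintype α] [DecidableEq α] (π : Set ℕ) (M : Subgroup (Perm α)) : Prop where
  le : M ≤ alternatingGroup α
  pi : ∀ p : ℕ, p.Prime → p ∣ Nat.card M → p ∈ π
  hall : ∀ p : ℕ, p.Prime → p ∈ π → ¬ p ∣ M.relIndex (alternatingGroup α)

theorem viaEmbeddingHom_conj {β : Type*} (g : Perm α) (ι : β ↪ α) (k : Perm β) :
    g * viaEmbeddingHom ι k * g⁻¹ = viaEmbeddingHom (ι.trans g.toEmbedding) k := by
  ext x
  rw [Perm.mul_apply, Perm.mul_apply]
  by_cases h : g⁻¹ x ∈ Set.range ι
  · obtain ⟨b, hb⟩ := h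
    have hx : x = (ι.trans g.toEmbedding) b := by
      show x = g (ι b)
      rw [hb]
      exact (g.apply_symm_apply x).symm
    rw [← hb, viaEmbeddingHom_apply, viaEmbedding_apply, hx, viaEmbeddingHom_apply,
      viaEmbedding_apply]
    rfl
  · rw [viaEmbeddingHom_apply, viaEmbedding_apply_of_notMem _ _ _ h, viaEmbeddingHom_apply,
      viaEmbedding_apply_of_notMem _ _ _ (by
        rintro ⟨b, rfl⟩
        exact h ⟨b, (g.symm_apply_apply (ι b)).symm⟩)]
    exact g.apply_symm_apply x

theorem viaEmbeddingHom_swap {β : Type*} [DecidableEq α] [DecidableEq β] (ι : β ↪ α) (i j : β) :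
    viaEmbeddingHom ι (swap i j) = swap (ι i) (ι j) := by
  ext x
  rw [viaEmbeddingHom_apply]
  by_cases h : x ∈ Set.range ι
  · obtain ⟨b, rfl⟩ := h
    rw [viaEmbedding_apply, Function.Injective.map_swap ι.injective]
  · rw [viaEmbedding_apply_of_notMem _ _ _ h, swap_apply_of_ne_of_ne]
    · exact fun e => h ⟨i, e.symm⟩
    · exact fun e => h ⟨j, e.symm⟩

variable [Fintype α] [DecidableEq α] {π : Set ℕ} {M : Subgroup (Perm α)}

/-- Every `p`-subgroup of the alternating group, `p ∈ π`, has a conjugate in `M`. -/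
theorem AltHall.exists_conj (h : AltHall π M) {p : ℕ} (hp : p.Prime) (hpπ : p ∈ π)
    {E : Subgroup (Perm α)} (hE : E ≤ alternatingGroup α) (hEp : IsPGroup p E) :
    ∃ g : Perm α, ∀ e ∈ E, g * e * g⁻¹ ∈ M := by
  classical
  have : Fact p.Prime := ⟨hp⟩
  let E' : Subgroup (alternatingGroup α) := E.subgroupOf (alternatingGroup α)
  have hE' : IsPGroup p E' :=
    hEp.of_injective (Subgroup.subgroupOfEquivOfLe hE).toMonoidHom (MulEquiv.injective _)
  obtain ⟨x, hx⟩ := hE'.nonempty_fixed_point_of_prime_not_dvd_card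
    (↥(alternatingGroup α) ⧸ M.subgroupOf (alternatingGroup α)) (h.hall p hp hpπ)
  induction x using QuotientGroup.induction_on with
  | H g =>
    refine ⟨(g : Perm α)⁻¹, fun e he => ?_⟩
    have h' := hx ⟨⟨e, hE he⟩, he⟩
    have h'' : ((⟨e, hE he⟩ * g : alternatingGroup α) : ↥(alternatingGroup α) ⧸
        M.subgroupOf (alternatingGroup α)) = g := h'
    rw [eq_comm, QuotientGroup.eq, Subgroup.mem_subgroupOf] at h''
    simpa [mul_assoc] using h''

/-- Copies of a commuting set of even elements of exponent `p` on disjoint blocks give a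
`p`-subgroup, so some such copy in `M` meets any given large set. -/
theorem AltHall.exists_block (h : AltHall π M) {p : ℕ} (hp : p.Prime) (hpπ : p ∈ π) {s : ℕ}
    (K : List (Perm (Fin s))) (hcomm : ∀ x ∈ K, ∀ y ∈ K, x * y = y * x)
    (hpow : ∀ x ∈ K, x ^ p = 1) (hsign : ∀ x ∈ K, Perm.sign x = 1) (X : Finset α)
    (hX : Fintype.card α % s < X.card) :
    ∃ ι : Fin s ↪ α, (∃ i, ι i ∈ X) ∧ ∀ k ∈ K, viaEmbeddingHom ι k ∈ M := by
  classical
  set n := Fintype.card α with hn
  let B := Fin (n / s) × Fin s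
  let e : B ↪ α := (finProdFinEquiv.toEmbedding.trans
    (Fin.castLEEmb (Nat.div_mul_le_self n s))).trans (Fintype.equivFin α).symm.toEmbedding
  let ι : Fin (n / s) → Fin s ↪ α := fun j =>
    ⟨fun i => e (j, i), fun a b hab => (Prod.ext_iff.1 (e.injective hab)).2⟩
  let S : Set (Perm α) := {g | ∃ j, ∃ k ∈ K, viaEmbeddingHom (ι j) k = g}
  have hSc : ∀ x ∈ S, ∀ y ∈ S, x * y = y * x := by
    rintro _ ⟨j, k, hk, rfl⟩ _ ⟨j', k', hk', rfl⟩
    by_cases hj : j = j'
    · subst hj
      rw [← map_mul, ← map_mul, hcomm k hk k' hk']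
    refine (Perm.Disjoint.commute fun x => ?_).eq
    by_cases hx : x ∈ Set.range (ι j)
    · right
      rw [viaEmbeddingHom_apply, viaEmbedding_apply_of_notMem]
      rintro ⟨i', hi'⟩
      obtain ⟨i, rfl⟩ := hx
      exact hj (Prod.ext_iff.1 (e.injective hi')).1.symm
    · left
      rw [viaEmbeddingHom_apply, viaEmbedding_apply_of_notMem _ _ _ hx]
  have : IsMulCommutative (Subgroup.closure S) := Subgroup.isMulCommutative_closure hSc
  have hpowE : ∀ x ∈ Subgroup.closure S, x ^ p = 1 := by
    intro x hx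
    induction hx using Subgroup.closure_induction with
    | mem x hx =>
      obtain ⟨j, k, hk, rfl⟩ := hx
      rw [← map_pow, hpow k hk, map_one]
    | one => exact one_pow p
    | mul x y hx hy ihx ihy =>
      have hc : Commute x y :=
        congrArg Subtype.val (mul_comm' (⟨x, hx⟩ : Subgroup.closure S) ⟨y, hy⟩)
      rw [hc.mul_pow, ihx, ihy, one_mul]
    | inv x _ ihx => rw [inv_pow, ihx, inv_one]
  have hEA : Subgroup.closure S ≤ alternatingGroup α := by
    rw [Subgroup.closure_le]
    rintro _ ⟨j, k, hk, rfl⟩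
    rw [SetLike.mem_coe, mem_alternatingGroup, viaEmbeddingHom_apply]
    convert (sign_extendDomain k _).trans (hsign k hk) using 3
    rfl
  obtain ⟨g, hg⟩ := h.exists_conj hp hpπ hEA
    (fun x => ⟨1, Subtype.ext (by rw [pow_one, SubgroupClass.coe_pow, hpowE x x.2]; rfl)⟩)
  by_contra hcon
  push Not at hcon
  have hsub : X ⊆ univ \ (univ.map e).map g.toEmbedding := by
    intro x hx
    rw [mem_sdiff]
    refine ⟨mem_univ x, fun hmem => ?_⟩
    obtain ⟨y, hy, rfl⟩ := mem_map.1 hmem
    obtain ⟨⟨j, i⟩, -, rfl⟩ := mem_map.1 hy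
    obtain ⟨k, hk, hkM⟩ := hcon ((ι j).trans g.toEmbedding) ⟨i, hx⟩
    refine hkM ?_
    rw [← viaEmbeddingHom_conj]
    exact hg _ (Subgroup.subset_closure ⟨j, k, hk, rfl⟩)
  have hc := card_le_card hsub
  rw [card_sdiff_of_subset (subset_univ _), card_map, card_map, card_univ, card_univ,
    Fintype.card_prod, Fintype.card_fin, Fintype.card_fin, ← hn] at hc
  have := Nat.div_add_mod n s
  rw [Nat.mul_comm] at this
  omega

/-- For an odd prime `p ∈ π` some `p`-cycle of `M` moves a point of any set of more than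
`n mod p` points. -/
theorem AltHall.exists_cycle (h : AltHall π M) {p : ℕ} (hp : p.Prime) (hpπ : p ∈ π) (hp2 : p ≠ 2)
    (X : Finset α) (hX : Fintype.card α % p < X.card) :
    ∃ c ∈ M, c.IsCycle ∧ c.support.card = p ∧ ∃ x ∈ X, x ∈ c.support := by
  obtain ⟨m, rfl⟩ : ∃ m, p = m + 2 := ⟨p - 2, by have := hp.two_le; omega⟩
  have hrot : (finRotate (m + 2)) ^ (m + 2) = 1 := by
    have h1 := pow_orderOf_eq_one (finRotate (m + 2))
    rwa [(isCycle_finRotate (n := m)).orderOf, support_finRotate, card_univ, Fintype.card_fin] at h1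
  have hsign : Perm.sign (finRotate (m + 2)) = 1 := by
    rw [sign_finRotate]
    obtain ⟨t, ht⟩ := hp.odd_of_ne_two hp2
    exact Even.neg_one_pow ⟨t, by omega⟩
  obtain ⟨ι, ⟨i, hi⟩, hk⟩ := h.exists_block hp hpπ [finRotate (m + 2)]
    (by simp) (by simpa using hrot) (by simpa using hsign) X hX
  set c := viaEmbeddingHom ι (finRotate (m + 2)) with hc
  have hsupp : c.support = univ.map ι := by
    ext x
    rw [mem_support, mem_map, hc, viaEmbeddingHom_apply]
    constructor
    · intro hne
      by_contra hx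
      exact hne (viaEmbedding_apply_of_notMem _ _ _ fun ⟨b, hb⟩ => hx ⟨b, mem_univ _, hb⟩)
    · rintro ⟨b, -, rfl⟩ hfix
      rw [viaEmbedding_apply] at hfix
      have : b ∈ (finRotate (m + 2)).support := by rw [support_finRotate]; exact mem_univ _
      exact mem_support.1 this (ι.injective hfix)
  have hcard : c.support.card = m + 2 := by
    rw [hsupp, card_map, card_univ, Fintype.card_fin]
  have hc1 : c ≠ 1 := fun e => by rw [e, Perm.support_one, card_empty] at hcard; omega
  have : Fact (m + 2).Prime := ⟨hp⟩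
  have hord : orderOf c = m + 2 :=
    orderOf_eq_prime (by rw [hc, ← map_pow, hrot, map_one]) hc1
  refine ⟨c, hk _ (by simp), isCycle_of_prime_order (hord ▸ hp) (by rw [hord, hcard]; omega),
    hcard, ι i, hi, ?_⟩
  rw [hsupp]
  exact mem_map_of_mem ι (mem_univ i)

/-- The three double transpositions on some four points meeting a set of more than three points
lie in `M`. -/
theorem AltHall.exists_quad (h : AltHall π M) (h2 : 2 ∈ π) (X : Finset α) (hX : 3 < X.card) :
    ∃ D : Finset α, D.card = 4 ∧ (∃ x ∈ D, x ∈ X) ∧ ∀ u ∈ D, ∀ a ∈ D, ∀ v ∈ D, ∀ w ∈ D,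
      u ≠ a → v ≠ w → u ≠ v → u ≠ w → a ≠ v → a ≠ w → swap u a * swap v w ∈ M := by
  have key : ∀ u a v w : Fin 4, (u ≠ a ∧ v ≠ w ∧ u ≠ v ∧ u ≠ w ∧ a ≠ v ∧ a ≠ w) →
      swap u a * swap v w ∈ [(swap 0 1 * swap 2 3 : Perm (Fin 4)), swap 0 2 * swap 1 3,
        swap 0 3 * swap 1 2] := by
    decide
  obtain ⟨ι, ⟨i, hi⟩, hk⟩ := h.exists_block Nat.prime_two h2
    [swap 0 1 * swap 2 3, swap 0 2 * swap 1 3, swap 0 3 * swap (1 : Fin 4) 2]
    (by decide) (by decide) (by decide) X (lt_of_le_of_lt (by omega) hX)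
  refine ⟨univ.map ι, by simp, ⟨ι i, mem_map_of_mem ι (mem_univ i), hi⟩, ?_⟩
  simp only [mem_map, mem_univ, true_and, forall_exists_index, forall_apply_eq_imp_iff]
  intro u a v w hua hvw huv huw hav haw
  rw [← viaEmbeddingHom_swap, ← viaEmbeddingHom_swap, ← map_mul]
  exact hk _ (key u a v w ⟨fun e => hua (congrArg ι e), fun e => hvw (congrArg ι e),
    fun e => huv (congrArg ι e), fun e => huw (congrArg ι e), fun e => hav (congrArg ι e),
    fun e => haw (congrArg ι e)⟩)

/-- A power of a cycle of prime length which moves a point generates the same transitive group. -/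
theorem exists_pow_apply_eq {c g : Perm α} (hc : c.IsCycle) (hp : c.support.card.Prime)
    (hg : g ∈ Subgroup.zpowers c) (hg1 : g ≠ 1) {x y : α} (hx : x ∈ c.support)
    (hy : y ∈ c.support) : ∃ k : ℕ, (g ^ k) x = y := by
  have hle : Subgroup.zpowers g ≤ Subgroup.zpowers c := Subgroup.zpowers_le.2 hg
  have hdvd := Subgroup.card_dvd_of_le hle
  rw [Nat.card_zpowers, Nat.card_zpowers, hc.orderOf] at hdvd
  have hge : Subgroup.zpowers g = Subgroup.zpowers c := by
    refine Subgroup.eq_of_le_of_card_ge hle ?_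
    rw [Nat.card_zpowers, Nat.card_zpowers, hc.orderOf]
    rcases (Nat.dvd_prime hp).1 hdvd with e | e
    · exact absurd (orderOf_eq_one_iff.1 e) hg1
    · exact e.ge
  obtain ⟨i, hi⟩ := hc.exists_pow_eq (mem_support.1 hx) (mem_support.1 hy)
  obtain ⟨k, hk⟩ : c ^ i ∈ Submonoid.powers g := by
    rw [mem_powers_iff_mem_zpowers, hge]
    exact Subgroup.npow_mem_zpowers c i
  exact ⟨k, by rw [show g ^ k = c ^ i from hk, hi]⟩

theorem apply_pow_mem {g : Perm α} {D : Finset α} (hD : ∀ x ∈ D, g x ∈ D) (k : ℕ) :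
    ∀ x ∈ D, (g ^ k) x ∈ D := by
  induction k with
  | zero => simp
  | succ k ih =>
    intro x hx
    rw [pow_succ', Perm.mul_apply]
    exact hD _ (ih x hx)

/-- A small set meeting a cycle of prime length has a translate meeting it properly. -/
theorem exists_translate {c : Perm α} (hc : c.IsCycle) (hp : c.support.card.Prime) {D : Finset α}
    (hD : D.card < c.support.card) (hD2 : 2 ≤ D.card) {x : α} (hxD : x ∈ D)
    (hx : x ∈ c.support) :
    ∃ g ∈ Subgroup.zpowers c,
      ((D ∩ D.map g.toEmbedding).Nonempty ∧ D.map g.toEmbedding ≠ D) := by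
  have key : ∀ g ∈ Subgroup.zpowers c, g x ≠ x → D.map g.toEmbedding ≠ D := by
    intro g hg hgx he
    have hsub : c.support ⊆ D := fun y hy => by
      obtain ⟨k, hk⟩ := exists_pow_apply_eq hc hp hg (fun e => hgx (by rw [e]; rfl)) hx hy
      rw [← hk]
      refine apply_pow_mem (fun z hz => ?_) k x hxD
      rw [← he]
      exact mem_map_of_mem _ hz
    exact absurd (card_le_card hsub) (not_le.2 hD)
  by_cases hfix : ∃ y ∈ D, y ∉ c.support
  · obtain ⟨y, hyD, hy⟩ := hfix
    refine ⟨c, Subgroup.mem_zpowers c, ⟨y, mem_inter.2 ⟨hyD, mem_map.2 ⟨y, hyD, ?_⟩⟩⟩,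
      key c (Subgroup.mem_zpowers c) (mem_support.1 hx)⟩
    exact notMem_support.1 hy
  · push Not at hfix
    obtain ⟨y, hyD, hyx⟩ := exists_mem_ne (show 1 < D.card by omega) x
    obtain ⟨i, hi⟩ := hc.exists_pow_eq (mem_support.1 hx) (mem_support.1 (hfix y hyD))
    exact ⟨c ^ i, Subgroup.npow_mem_zpowers c i,
      ⟨y, mem_inter.2 ⟨hyD, mem_map.2 ⟨x, hxD, hi⟩⟩⟩,
      key _ (Subgroup.npow_mem_zpowers c i) (by rw [hi]; exact hyx)⟩

/-- **If 2 and another prime occur then so does 3.** -/
theorem AltHall.three_mem (h : AltHall π M) (h2 : 2 ∈ π) {p : ℕ} (hp : p.Prime) (hpπ : p ∈ π)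
    (hp2 : p ≠ 2) (hpn : p ≤ Fintype.card α) : 3 ∈ π := by
  by_cases hp3 : p = 3
  · exact hp3 ▸ hpπ
  have hp5 : 5 ≤ p := by
    have h4 : p ≠ 4 := fun e => by rw [e] at hp; exact absurd hp (by decide)
    have := hp.two_le
    omega
  obtain ⟨c, hcM, hc, hcp, -⟩ := h.exists_cycle hp hpπ hp2 univ
    (by rw [card_univ]; exact lt_of_lt_of_le (Nat.mod_lt _ (by omega)) hpn)
  obtain ⟨D, hD, ⟨x, hxD, hx⟩, hV⟩ := h.exists_quad h2 c.support (by omega)
  obtain ⟨g, hg, ⟨u, hu⟩, hne⟩ :=
    exists_translate hc (hcp ▸ hp) (by omega) (by omega) hxD hx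
  have hgM : g ∈ M := (Subgroup.zpowers_le.2 hcM) hg
  rw [mem_inter] at hu
  obtain ⟨a, haD, haD'⟩ := not_subset.1 fun hsub =>
    hne (eq_of_subset_of_card_le hsub (by rw [card_map])).symm
  obtain ⟨b, hbD', hbD⟩ := not_subset.1 fun hsub =>
    hne (eq_of_subset_of_card_le hsub (by rw [card_map]))
  have hua : u ≠ a := fun e => haD' (e ▸ hu.2)
  have hub : u ≠ b := fun e => hbD (e ▸ hu.1)
  have hab : a ≠ b := fun e => hbD (e ▸ haD)
  obtain ⟨v, w, hvw, hvweq⟩ := card_eq_two.1 (show (D \ {u, a}).card = 2 by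
    rw [card_sdiff_of_subset (by simp [insert_subset_iff, hu.1, haD]), card_pair hua, hD])
  obtain ⟨v', w', hvw', hvweq'⟩ :=
    card_eq_two.1 (show (D.map g.toEmbedding \ {u, b}).card = 2 by
      rw [card_sdiff_of_subset (by
        intro t ht
        simp only [mem_insert, mem_singleton] at ht
        rcases ht with rfl | rfl
        exacts [hu.2, hbD']), card_pair hub, card_map, hD])
  have hv : v ∈ D \ {u, a} := by rw [hvweq]; simp
  have hw : w ∈ D \ {u, a} := by rw [hvweq]; simp
  have hv' : v' ∈ D.map g.toEmbedding \ {u, b} := by rw [hvweq']; simp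
  have hw' : w' ∈ D.map g.toEmbedding \ {u, b} := by rw [hvweq']; simp
  simp only [mem_sdiff, mem_insert, mem_singleton, not_or] at hv hw hv' hw'
  have hd : swap u a * swap v w ∈ M := hV u hu.1 a haD v hv.1 w hw.1 hua hvw (Ne.symm hv.2.1)
    (Ne.symm hw.2.1) (Ne.symm hv.2.2) (Ne.symm hw.2.2)
  have hd' : swap u b * swap v' w' ∈ M := by
    obtain ⟨u0, hu0, rfl⟩ := mem_map.1 hu.2
    obtain ⟨b0, hb0, rfl⟩ := mem_map.1 hbD'
    obtain ⟨v0, hv0, rfl⟩ := mem_map.1 hv'.1
    obtain ⟨w0, hw0, rfl⟩ := mem_map.1 hw'.1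
    have hm : swap u0 b0 * swap v0 w0 ∈ M :=
      hV u0 hu0 b0 hb0 v0 hv0 w0 hw0 (fun e => hub (by rw [e])) (fun e => hvw' (by rw [e]))
        (fun e => hv'.2.1 (by rw [e])) (fun e => hw'.2.1 (by rw [e]))
        (fun e => hv'.2.2 (by rw [e])) (fun e => hw'.2.2 (by rw [e]))
    have := mul_mem (mul_mem hgM hm) (inv_mem hgM)
    rw [show g * (swap u0 b0 * swap v0 w0) * g⁻¹ =
        (g * swap u0 b0 * g⁻¹) * (g * swap v0 w0 * g⁻¹) by group,
      ← swap_apply_apply, ← swap_apply_apply] at this
    exact this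
  set T := swap u a * swap u b with hT
  set Y := swap v w * swap v' w' with hY
  have hcom : Commute (swap v w) (swap u b) := by
    refine (Perm.Disjoint.commute fun t => ?_)
    by_cases h1 : t = u ∨ t = b
    · refine Or.inl (swap_apply_of_ne_of_ne ?_ ?_)
      · rcases h1 with rfl | rfl
        · exact Ne.symm hv.2.1
        · exact fun e => hbD (e ▸ hv.1)
      · rcases h1 with rfl | rfl
        · exact Ne.symm hw.2.1
        · exact fun e => hbD (e ▸ hw.1)
    · simp only [not_or] at h1
      exact Or.inr (swap_apply_of_ne_of_ne h1.1 h1.2)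
  have he : swap u a * swap v w * (swap u b * swap v' w') = T * Y := by
    rw [hT, hY, mul_assoc, ← mul_assoc (swap v w), hcom.eq, mul_assoc, mul_assoc]
  have hYfix : ∀ t : α, (t = u ∨ t = a ∨ t = b) → Y t = t := by
    intro t ht
    have hs : swap v' w' t = t := by
      refine swap_apply_of_ne_of_ne ?_ ?_ <;> rcases ht with rfl | rfl | rfl
      · exact Ne.symm hv'.2.1
      · exact fun e => haD' (e ▸ hv'.1)
      · exact Ne.symm hv'.2.2
      · exact Ne.symm hw'.2.1
      · exact fun e => haD' (e ▸ hw'.1)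
      · exact Ne.symm hw'.2.2
    rw [hY, Perm.mul_apply, hs]
    refine swap_apply_of_ne_of_ne ?_ ?_ <;> rcases ht with rfl | rfl | rfl
    · exact Ne.symm hv.2.1
    · exact Ne.symm hv.2.2
    · exact fun e => hbD (e ▸ hv.1)
    · exact Ne.symm hw.2.1
    · exact Ne.symm hw.2.2
    · exact fun e => hbD (e ▸ hw.1)
  have hTu : T u = b := by
    rw [hT, Perm.mul_apply, swap_apply_left, swap_apply_of_ne_of_ne (Ne.symm hub) (Ne.symm hab)]
  have hTb : T b = a := by rw [hT, Perm.mul_apply, swap_apply_right, swap_apply_left]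
  have hT3 : (T ^ 3) = 1 := by
    rw [hT, ← (isThreeCycle_swap_mul_swap_same hua hub hab).orderOf, pow_orderOf_eq_one]
  have hTY : Commute T Y := by
    refine (Perm.Disjoint.commute fun t => ?_)
    by_cases h1 : t = u ∨ t = a ∨ t = b
    · exact Or.inr (hYfix t h1)
    · simp only [not_or] at h1
      exact Or.inl (by
        rw [hT, Perm.mul_apply, swap_apply_of_ne_of_ne h1.1 h1.2.2,
          swap_apply_of_ne_of_ne h1.1 h1.2.1])
  have hord : 3 ∣ orderOf (T * Y) := by
    set k := orderOf (T * Y) with hk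
    have h1 : (T ^ k) u = u := by
      have hYk : (Y ^ k) u = u := Perm.pow_apply_eq_self_of_apply_eq_self (hYfix u (Or.inl rfl)) k
      have h := congrArg (fun f : Perm α => f u) (pow_orderOf_eq_one (T * Y))
      simp only [← hk, hTY.mul_pow, Perm.mul_apply, Perm.one_apply, hYk] at h
      exact h
    rw [← Nat.mod_add_div k 3, pow_add, pow_mul, hT3, one_pow, mul_one] at h1
    rcases (show k % 3 = 0 ∨ k % 3 = 1 ∨ k % 3 = 2 by omega) with e | e | e
    · exact Nat.dvd_of_mod_eq_zero e
    · rw [e, pow_one, hTu] at h1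
      exact absurd h1 (Ne.symm hub)
    · rw [e, pow_two, Perm.mul_apply, hTu, hTb] at h1
      exact absurd h1 (Ne.symm hua)
  refine h.pi 3 (by decide) (hord.trans ?_)
  rw [← he]
  exact Subgroup.orderOf_dvd_natCard M (mul_mem hd hd')

/-- In a group of odd order two intersecting cycles of prime length `p` have the same support. -/
theorem no_meeting_cycles (hM : Odd (Nat.card M)) {p : ℕ} (hp : p.Prime) (hp2 : p ≠ 2) :
    ∀ (j : ℕ) (d d' : Perm α), d ∈ M → d' ∈ M → d.IsCycle → d'.IsCycle → d.support.card = p →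
      d'.support.card = p → (d.support ∩ d'.support).Nonempty → d.support ≠ d'.support →
      p - (d.support ∩ d'.support).card = j → False := by
  intro j
  induction j using Nat.strong_induction_on with
  | _ j ih =>
  intro d d' hd hd' hdc hdc' hdp hdp' hne hdiff hj
  set T := d.support ∩ d'.support with hT
  have hTc : (d.support ∩ d'.support).card = T.card := by rw [hT]
  have hklt : T.card < p := by
    rw [← hdp]
    refine card_lt_card ((ssubset_iff_subset_ne).2 ⟨inter_subset_left, fun e => hdiff ?_⟩)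
    exact eq_of_subset_of_card_le (inter_eq_left.1 e) (by omega)
  obtain ⟨u, hu⟩ := hne
  have huT := hu
  rw [hT, mem_inter] at hu
  by_cases hbig : T.card + 1 = p
  · set L := Subgroup.closure ({d, d'} : Set (Perm α)) with hL
    have hLM : L ≤ M := by
      rw [hL, Subgroup.closure_le]
      intro f hf
      simp only [Set.mem_insert_iff, Set.mem_singleton_iff] at hf
      rcases hf with rfl | rfl <;> assumption
    set U := d.support ∪ d'.support with hU
    have horb : MulAction.orbit L u = (U : Set α) := by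
      refine Set.Subset.antisymm ?_ ?_
      · rintro _ ⟨⟨g, hg⟩, rfl⟩
        have key : ∀ g ∈ Submonoid.closure ({d, d'} : Set (Perm α)), ∀ y ∈ U, g y ∈ U := by
          intro g hg
          induction hg using Submonoid.closure_induction with
          | mem f hf =>
            intro y hy
            have hfU : f.support ⊆ U := by
              simp only [Set.mem_insert_iff, Set.mem_singleton_iff] at hf
              rcases hf with rfl | rfl
              exacts [subset_union_left, subset_union_right]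
            by_cases hfy : y ∈ f.support
            · exact hfU (apply_mem_support.2 hfy)
            · rwa [notMem_support.1 hfy]
          | one => intro y hy; exact hy
          | mul f f' _ _ i1 i2 => intro y hy; exact i1 _ (i2 y hy)
        refine key g ?_ u (mem_union_left _ hu.1)
        rw [← Subgroup.closure_toSubmonoid_of_finite]
        exact hg
      · intro y hy
        rw [mem_coe, hU, mem_union] at hy
        rcases hy with hy | hy
        · obtain ⟨i, hi⟩ := hdc.exists_pow_eq (mem_support.1 hu.1) (mem_support.1 hy)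
          exact ⟨⟨d ^ i, pow_mem (Subgroup.subset_closure (Set.mem_insert _ _)) i⟩, hi⟩
        · obtain ⟨i, hi⟩ := hdc'.exists_pow_eq (mem_support.1 hu.2) (mem_support.1 hy)
          exact ⟨⟨d' ^ i, pow_mem (Subgroup.subset_closure
            (Set.mem_insert_of_mem _ (Set.mem_singleton _))) i⟩, hi⟩
    have hcard : U.card = p + 1 := by
      have := card_union_add_card_inter d.support d'.support
      rw [← hU, ← hT] at this
      omega
    have hdvd : p + 1 ∣ Nat.card M := by
      refine Dvd.dvd.trans ?_ (Subgroup.card_dvd_of_le hLM)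
      have h2 : (MulAction.stabilizer L u).index = p + 1 := by
        rw [MulAction.index_stabilizer, horb, Set.ncard_coe_finset, hcard]
      rw [← h2]
      exact Subgroup.index_dvd_card _
    have h1 := hM.of_dvd_nat hdvd
    rw [Nat.odd_add_one] at h1
    exact h1 (hp.odd_of_ne_two hp2)
  obtain ⟨a, ha, b, hb, hab⟩ := one_lt_card.1
    (show 1 < (d.support \ T).card by
      rw [card_sdiff_of_subset inter_subset_left, hdp]; omega)
  rw [mem_sdiff] at ha hb
  obtain ⟨i, hi⟩ := hdc.exists_pow_eq (mem_support.1 ha.1) (mem_support.1 hb.1)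
  set g := d ^ i with hg
  have hgS : ∀ y, y ∈ d.support → g y ∈ d.support := fun y hy => by
    rw [hg, pow_apply_mem_support]; exact hy
  set d'' := g * d' * g⁻¹ with hd''
  have hs'' : d''.support = d'.support.map g.toEmbedding := support_conj
  set I := d'.support ∩ d''.support with hI
  set A := d'.support \ d.support with hA
  set B := T ∩ T.map g.toEmbedding with hB
  have hsub : A ∪ B ⊆ I := by
    intro y hy
    rw [hI, mem_inter, hs'']
    rcases mem_union.1 hy with hy | hy
    · rw [hA, mem_sdiff] at hy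
      refine ⟨hy.1, mem_map.2 ⟨y, hy.1, ?_⟩⟩
      exact Perm.pow_apply_eq_self_of_apply_eq_self (notMem_support.1 hy.2) i
    · rw [hB, mem_inter] at hy
      refine ⟨(mem_inter.1 hy.1).2, ?_⟩
      obtain ⟨z, hz, rfl⟩ := mem_map.1 hy.2
      exact mem_map_of_mem _ (mem_inter.1 hz).2
  have hAc : A.card + T.card = p := by
    rw [hA, hT, inter_comm, card_sdiff_add_card_inter, hdp']
  have hBc : 2 * T.card + 1 ≤ B.card + p := by
    have h1 := card_union_add_card_inter T (T.map g.toEmbedding)
    rw [← hB, card_map] at h1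
    have h2 : T ∪ T.map g.toEmbedding ⊆ d.support.erase b := by
      intro y hy
      rw [mem_erase]
      rcases mem_union.1 hy with hy | hy
      · exact ⟨fun e => hb.2 (e ▸ hy), (mem_inter.1 hy).1⟩
      · obtain ⟨z, hz, rfl⟩ := mem_map.1 hy
        exact ⟨fun e => ha.2 (g.injective (e.trans hi.symm) ▸ hz),
          hgS z (mem_inter.1 hz).1⟩
    have h3 := card_le_card h2
    rw [card_erase_of_mem hb.1, hdp] at h3
    have := hp.two_le
    omega
  have hdisj : Disjoint A B := disjoint_left.2 fun y hy hy' => by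
    rw [hA, mem_sdiff] at hy
    rw [hB, mem_inter, hT, mem_inter] at hy'
    exact hy.2 hy'.1.1
  have hIc : T.card < I.card := by
    have := card_le_card hsub
    rw [card_union_of_disjoint hdisj] at this
    omega
  have hdiff' : d'.support ≠ d''.support := by
    intro e
    have hTinv : ∀ y ∈ T, g y ∈ T := fun y hy => by
      rw [hT, mem_inter] at hy ⊢
      exact ⟨hgS y hy.1, by rw [e, hs'']; exact mem_map_of_mem _ hy.2⟩
    obtain ⟨k, hk⟩ := exists_pow_apply_eq hdc (hdp ▸ hp) (Subgroup.npow_mem_zpowers d i)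
      (fun e' : g = 1 => hab (by rw [← hi, e']; rfl)) hu.1 ha.1
    exact ha.2 (hk ▸ apply_pow_mem hTinv k u huT)
  refine ih (p - I.card) (by omega) d' d'' hd'
    (mul_mem (mul_mem (pow_mem hd i) hd') (inv_mem (pow_mem hd i))) hdc' hdc'.conj hdp'
    (by rw [hs'', card_map, hdp']) (card_pos.1 (show 0 < I.card by omega)) hdiff' rfl

/-- **If two primes occur then so does 2.** -/
theorem AltHall.two_mem (h : AltHall π M) {p q : ℕ} (hp : p.Prime) (hq : q.Prime) (hpq : p < q)
    (hpπ : p ∈ π) (hqπ : q ∈ π) (hqn : q ≤ Fintype.card α) : 2 ∈ π := by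
  by_contra h2
  have hp2 : p ≠ 2 := fun e => h2 (e ▸ hpπ)
  have hq2 : q ≠ 2 := fun e => h2 (e ▸ hqπ)
  have hM : Odd (Nat.card M) := by
    rw [← Nat.not_even_iff_odd, even_iff_two_dvd]
    exact fun hd => h2 (h.pi 2 Nat.prime_two hd)
  obtain ⟨c, hcM, hc, hcq, -⟩ := h.exists_cycle hq hqπ hq2 univ
    (by rw [card_univ]; exact lt_of_lt_of_le (Nat.mod_lt _ hq.pos) hqn)
  obtain ⟨d, hdM, hd, hdp, x, hx, hxd⟩ := h.exists_cycle hp hpπ hp2 c.support
    (by rw [hcq]; exact (Nat.mod_lt _ hp.pos).trans hpq)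
  obtain ⟨g, hg, hne, hdiff⟩ := exists_translate hc (hcq ▸ hq) (D := d.support) (by omega)
    (by rw [hdp]; exact hp.two_le) hxd hx
  have hgM : g ∈ M := (Subgroup.zpowers_le.2 hcM) hg
  have hs : (g * d * g⁻¹).support = d.support.map g.toEmbedding := support_conj
  exact no_meeting_cycles hM hp hp2 _ d (g * d * g⁻¹) hdM
    (mul_mem (mul_mem hgM hdM) (inv_mem hgM)) hd hd.conj hdp (by rw [hs, card_map, hdp])
    (by rw [hs]; exact hne) (by rw [hs]; exact Ne.symm hdiff) rfl

end Cfsg.Agent.Perm.HallSym
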