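import Mathlib

/-!
# Multiple transitivity from pointwise stabilisers
-/

set_option autoImplicit false

namespace Cfsg.Agent.Perm

open Finset

variable {G α : Type*} [Group G] [MulAction G α] [Fintype α] [DecidableEq α]

/-- If for every `(k-1)`-set `S` the pointwise stabiliser of `S` is transitive on the complement and
`k < |α|` then the action is `k`-transitive. -/
theorem isMultiplyPretransitive_of_pointwise {k : ℕ} (hkn : k < Fintype.card α)
    (h : ∀ S : Finset α, S.card = k - 1 → ∀ a b : α, a ∉ S → b ∉ S →
      ∃ g : G, (∀ x ∈ S, g • x = x) ∧ g • a = b) :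
    MulAction.IsMultiplyPretransitive G α k := by
  have key : ∀ i, i ≤ k → ∀ x y : Fin i → α, Function.Injective x → Function.Injective y →
      ∃ g : G, ∀ j, g • x j = y j := by
    intro i
    induction i with
    | zero => exact fun _ _ _ _ _ => ⟨1, fun j => j.elim0⟩
    | succ i ih =>
      intro hik x y hx hy
      obtain ⟨g, hg⟩ := ih (by omega) (fun j => x j.castSucc) (fun j => y j.castSucc)
        (hx.comp (Fin.castSucc_injective i)) (hy.comp (Fin.castSucc_injective i))
      let a := g • x (Fin.last i)
      let b := y (Fin.last i)
      let U : Finset α := univ.image fun j : Fin i => y j.castSucc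
      have ha : a ∉ U := by
        intro ha
        obtain ⟨j, -, hj⟩ := mem_image.1 ha
        exact (Fin.castSucc_lt_last j).ne (hx (smul_left_cancel g ((hg j).trans hj)))
      have hb : b ∉ U := by
        intro hb
        obtain ⟨j, -, hj⟩ := mem_image.1 hb
        exact (Fin.castSucc_lt_last j).ne (hy hj)
      have hsub : U ⊆ (univ.erase a).erase b := by
        intro u hu
        simp only [mem_erase, mem_univ, and_true]
        exact ⟨fun e => hb (e ▸ hu), fun e => ha (e ▸ hu)⟩
      have hU : U.card = i := by
        simp only [U]
        rw [card_image_of_injective _ (fun u v huv => Fin.castSucc_injective i (hy huv)), card_univ, Fintype.card_fin]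
      obtain ⟨S, hUS, hS, hSc⟩ := exists_subsuperset_card_eq hsub (n := k - 1) (by omega) (by
        have := pred_card_le_card_erase (a := a) (s := (univ : Finset α))
        have := pred_card_le_card_erase (a := b) (s := univ.erase a)
        have := card_erase_of_mem (mem_univ a)
        rw [card_univ] at *
        omega)
      have haS : a ∉ S := fun h' => (mem_erase.1 (mem_erase.1 (hS h')).2).1 rfl
      have hbS : b ∉ S := fun h' => (mem_erase.1 (hS h')).1 rfl
      obtain ⟨t, ht, htab⟩ := h S hSc a b haS hbS
      refine ⟨t * g, Fin.lastCases ?_ fun j => ?_⟩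
      · rw [mul_smul]; exact htab
      · rw [mul_smul, hg j]; exact ht _ (hUS (mem_image_of_mem _ (mem_univ j)))
  refine ⟨fun x y => ?_⟩
  obtain ⟨g, hg⟩ := key k le_rfl x y x.injective y.injective
  exact ⟨g, Function.Embedding.ext fun j => hg j⟩

end Cfsg.Agent.Perm
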