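import Cfsg.Agent.Lib.Perm.Transitive
import Cfsg.Agent.Lib.Perm.PointwiseTrans
import Cfsg.Agent.Lib.Perm.PrimeDegreeSimple
import Mathlib

/-!
# Homogeneous permutation groups: basics for the Livingstone–Wagner theorem
-/

set_option autoImplicit false

namespace Cfsg.Agent.Perm

open MulAction Finset Pointwise

variable {G α : Type*} [Group G] [MulAction G α] [DecidableEq α]

/-- `k`-homogeneity elementwise. -/
theorem exists_smul_finset_eq {k : ℕ} (hh : IsPretransitive G (Set.powersetCard α k))
    {s t : Finset α} (hs : s.card = k) (ht : t.card = k) : ∃ g : G, g • s = t := by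
  obtain ⟨g, hg⟩ := hh.exists_smul_eq (Set.powersetCard.ofCard hs) (Set.powersetCard.ofCard ht)
  exact ⟨g, congrArg Subtype.val hg⟩

/-- 1-homogeneity is transitivity. -/
theorem isPretransitive_of_one_homogeneous (hh : IsPretransitive G (Set.powersetCard α 1)) :
    IsPretransitive G α := by
  refine ⟨fun a b => ?_⟩
  obtain ⟨g, hg⟩ := exists_smul_finset_eq hh (card_singleton a) (card_singleton b)
  exact ⟨g, by simpa [smul_finset_singleton] using hg⟩

/-- Fixing subgroups of translated sets have the same order. -/
theorem card_fixingSubgroup_smul (g : G) (s : Finset α) :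
    Nat.card (fixingSubgroup G ((g • s : Finset α) : Set α)) =
      Nat.card (fixingSubgroup G (s : Set α)) := by
  refine (Nat.card_congr ((MulAut.conj g).toEquiv.subtypeEquiv fun h => ?_)).symm
  simp only [mem_fixingSubgroup_iff, mem_coe, MulEquiv.toEquiv_eq_coe, EquivLike.coe_coe,
    MulAut.conj_apply]
  constructor
  · intro hh y hy
    obtain ⟨x, hx, rfl⟩ := mem_smul_finset.1 hy
    rw [mul_smul, mul_smul, inv_smul_smul, hh x hx]
  · intro hh x hx
    have := hh (g • x) (smul_mem_smul_finset hx)
    rw [mul_smul, mul_smul, inv_smul_smul] at this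
    exact smul_left_cancel g this

variable [Fintype α]

/-- The order of a `k`-homogeneous group is a multiple of `n choose k`. -/
theorem choose_dvd_card [Finite G] {k : ℕ} (hh : IsPretransitive G (Set.powersetCard α k))
    (hk : k ≤ Fintype.card α) : (Fintype.card α).choose k ∣ Nat.card G := by
  have := hh
  obtain ⟨s, -, hs⟩ := exists_subset_card_eq (s := (univ : Finset α)) (n := k)
    (by rw [card_univ]; exact hk)
  have h := index_stabilizer_of_transitive G (Set.powersetCard.ofCard hs)
  rw [Set.powersetCard.card, Nat.card_eq_fintype_card] at h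
  exact h ▸ Subgroup.index_dvd_card _

omit [Fintype α] in
/-- If on each `k`-set all transpositions are induced then the group is `k`-transitive as soon
as it is `k`-homogeneous. -/
theorem isMultiplyPretransitive_of_swaps {k : ℕ} (hh : IsPretransitive G (Set.powersetCard α k))
    (hsw : ∀ y : Fin k ↪ α, ∀ i j : Fin k, i ≠ j → ∃ g : G, g • y i = y j ∧ g • y j = y i ∧
      ∀ l, l ≠ i → l ≠ j → g • y l = y l) : IsMultiplyPretransitive G α k := by
  refine isMultiplyPretransitive_of_forall fun x y hx hy => ?_
  obtain ⟨g, hg⟩ := exists_smul_finset_eq hh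
    (show (univ.image x).card = k by rw [card_image_of_injective _ hx, card_univ, Fintype.card_fin])
    (show (univ.image y).card = k by rw [card_image_of_injective _ hy, card_univ, Fintype.card_fin])
  have hex : ∀ i, ∃ j, y j = g • x i := fun i => by
    have : g • x i ∈ univ.image y := hg ▸ smul_mem_smul_finset (mem_image_of_mem _ (mem_univ i))
    obtain ⟨j, -, hj⟩ := mem_image.1 this
    exact ⟨j, hj⟩
  choose f hf using hex
  have hfi : Function.Injective f := fun i j e =>
    hx (smul_left_cancel g (by rw [← hf i, ← hf j, e]))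
  let π : Equiv.Perm (Fin k) := Equiv.ofBijective f ⟨hfi, Finite.injective_iff_surjective.1 hfi⟩
  have key : ∀ σ : Equiv.Perm (Fin k), ∃ u : G, ∀ i, u • y i = y (σ i) := by
    intro σ
    induction σ using Equiv.Perm.swap_induction_on with
    | one => exact ⟨1, fun i => by simp⟩
    | swap_mul σ a b hab ih =>
      obtain ⟨u, hu⟩ := ih
      obtain ⟨w, wa, wb, wl⟩ := hsw ⟨y, hy⟩ a b hab
      refine ⟨w * u, fun i => ?_⟩
      rw [mul_smul, hu, Equiv.Perm.mul_apply]
      by_cases h1 : σ i = a
      · rw [h1, Equiv.swap_apply_left]; exact wa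
      by_cases h2 : σ i = b
      · rw [h2, Equiv.swap_apply_right]; exact wb
      rw [Equiv.swap_apply_of_ne_of_ne h1 h2]
      exact wl _ h1 h2
  obtain ⟨u, hu⟩ := key π⁻¹
  refine ⟨u * g, fun i => ?_⟩
  rw [mul_smul, ← hf i, hu (f i)]
  exact congrArg y (π.symm_apply_apply i)

omit [Fintype α] in
/-- A semiregular subgroup has order dividing the size of each invariant set. -/
theorem card_dvd_finset_of_semiregular (H : Subgroup G) (R : Finset α)
    (hinv : ∀ g ∈ H, ∀ x ∈ R, g • x ∈ R) (hfree : ∀ g ∈ H, ∀ x ∈ R, g • x = x → g = 1) :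
    Nat.card H ∣ R.card := by
  let O : SubMulAction H α := ⟨(R : Set α), fun g x hx => hinv g g.2 x hx⟩
  have hfreeH : ∀ x : O, stabilizer H x = ⊥ := fun x => (Subgroup.eq_bot_iff_forall _).2
    fun g hg => Subtype.ext (hfree g g.2 x x.2 (congrArg Subtype.val hg))
  have e := Nat.card_congr (selfEquivOrbitsQuotientProd hfreeH)
  rw [Nat.card_prod] at e
  exact Dvd.intro_left _ (e.symm.trans (Nat.card_eq_finsetCard R))

/-- A semiregular subgroup with as many elements as the set is transitive on it. -/
theorem trans_of_semiregular_card [Finite G] (H : Subgroup G) (R : Finset α)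
    (hinv : ∀ g ∈ H, ∀ x ∈ R, g • x ∈ R) (hfree : ∀ g ∈ H, ∀ x ∈ R, g • x = x → g = 1)
    (hcard : R.card ≤ Nat.card H) {a b : α} (ha : a ∈ R) (hb : b ∈ R) :
    ∃ g ∈ H, g • a = b := by
  have hf : Function.Injective (fun g : H => (⟨(g : G) • a, hinv g g.2 a ha⟩ : R)) := by
    intro g g' e
    have e' : (g : G) • a = (g' : G) • a := congrArg Subtype.val e
    have := hfree ((g' : G)⁻¹ * g) (mul_mem (inv_mem g'.2) g.2) a ha
      (by rw [mul_smul, e', inv_smul_smul])
    exact Subtype.ext (inv_mul_eq_one.1 this).symm
  have hbij := (Nat.bijective_iff_injective_and_card _).2 ⟨hf, le_antisymm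
    (Nat.card_le_card_of_injective _ hf) (by rw [Nat.card_eq_finsetCard]; exact hcard)⟩
  obtain ⟨g, hg⟩ := hbij.2 ⟨b, hb⟩
  exact ⟨g, g.2, congrArg Subtype.val hg⟩

omit [DecidableEq α] in
/-- In a 2-homogeneous group of odd order every triple carries a transitive orientation, so
no such group of degree at least 4 is 3-homogeneous. -/
theorem not_three_homogeneous_of_odd [Finite G] [DecidableEq α] (hn : 4 ≤ Fintype.card α)
    (h2 : IsPretransitive G (Set.powersetCard α 2)) (h3 : IsPretransitive G (Set.powersetCard α 3))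
    (htr : IsPretransitive G α) (hodd : Odd (Nat.card G)) : False := by
  classical
  obtain ⟨a, b, hab⟩ := Fintype.exists_pair_of_one_lt_card (show 1 < Fintype.card α by omega)
  let R : α → α → Prop := fun x y => ∃ g : G, g • a = x ∧ g • b = y
  have hRg : ∀ (g : G) x y, R x y → R (g • x) (g • y) := fun g x y ⟨h, h1, h2⟩ =>
    ⟨g * h, by rw [mul_smul, h1], by rw [mul_smul, h2]⟩
  have hne : ∀ {x y}, R x y → x ≠ y := fun {x y} ⟨g, h1, h2⟩ e =>
    hab (smul_left_cancel g (h1.trans (e.trans h2.symm)))
  have htot : ∀ x y, x ≠ y → R x y ∨ R y x := by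
    intro x y hxy
    obtain ⟨g, hg⟩ := exists_smul_finset_eq h2 (card_pair hab) (card_pair hxy)
    have ha : g • a ∈ ({x, y} : Finset α) := hg ▸ smul_mem_smul_finset (by simp)
    have hb : g • b ∈ ({x, y} : Finset α) := hg ▸ smul_mem_smul_finset (by simp)
    simp only [mem_insert, mem_singleton] at ha hb
    have hgab : g • a ≠ g • b := fun e => hab (smul_left_cancel g e)
    rcases ha with ha | ha <;> rcases hb with hb | hb
    · exact absurd (ha.trans hb.symm) hgab
    · exact Or.inl ⟨g, ha, hb⟩
    · exact Or.inr ⟨g, ha, hb⟩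
    · exact absurd (ha.trans hb.symm) hgab
  have hasym : ∀ {x y}, R x y → R y x → False := by
    rintro x y ⟨g, g1, g2⟩ ⟨h, h1, h2⟩
    set u := g⁻¹ * h with hu
    have ua : u • a = b := by rw [hu, mul_smul, h1, inv_smul_eq_iff, g2]
    have ub : u • b = a := by rw [hu, mul_smul, h2, inv_smul_eq_iff, g1]
    obtain ⟨j, hj⟩ : Odd (orderOf u) := hodd.of_dvd_nat (orderOf_dvd_natCard u)
    have h2' : u * u ∈ stabilizer G a := by
      show (u * u) • a = a
      rw [mul_smul, ua, ub]
    have : u ^ orderOf u • a = b := by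
      rw [hj, pow_succ', pow_mul, pow_two, mul_smul,
        show (u * u) ^ j • a = a from (stabilizer G a).pow_mem h2' j, ua]
    rw [pow_orderOf_eq_one, one_smul] at this
    exact hab this
  -- a vertex beating two others
  obtain ⟨x, y, z, hxy, hxz, hyz⟩ : ∃ x y z, R x y ∧ R x z ∧ R y z := by
    obtain ⟨p, q, r, w, hpq, hpr, hpw, hqr, hqw, hrw, -⟩ : ∃ p q r w : α,
        p ≠ q ∧ p ≠ r ∧ p ≠ w ∧ q ≠ r ∧ q ≠ w ∧ r ≠ w ∧ True := by
      obtain ⟨F, -, hF⟩ := exists_subset_card_eq (s := (univ : Finset α)) (n := 4)
        (by rw [card_univ]; exact hn)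
      obtain ⟨p, q, r, w, h1, h2, h3, h4, h5, h6, -⟩ := card_eq_four.1 hF
      exact ⟨p, q, r, w, h1, h2, h3, h4, h5, h6, trivial⟩
    have key : ∀ u v1 v2, R u v1 → R u v2 → v1 ≠ v2 → ∃ x y z, R x y ∧ R x z ∧ R y z :=
      fun u v1 v2 h1 h2 hv => (htot v1 v2 hv).elim (fun h => ⟨u, v1, v2, h1, h2, h⟩)
        (fun h => ⟨u, v2, v1, h2, h1, h⟩)
    rcases htot p q hpq with e1 | e1 <;> rcases htot p r hpr with e2 | e2 <;>
      rcases htot p w hpw with e3 | e3
    · exact key p q r e1 e2 hqr
    · exact key p q r e1 e2 hqr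
    · exact key p q w e1 e3 hqw
    · rcases htot r w hrw with e | e
      · exact key r p w e2 e hpw
      · exact key w p r e3 e hpr
    · exact key p r w e2 e3 hrw
    · rcases htot q w hqw with e | e
      · exact key q p w e1 e hpw
      · exact key w p q e3 e hpq
    · rcases htot q r hqr with e | e
      · exact key q p r e1 e hpr
      · exact key r p q e2 e hpq
    · rcases htot q r hqr with e | e
      · exact key q p r e1 e hpr
      · exact key r p q e2 e hpq
  -- so `R` has no directed triangle
  have htrans : ∀ u v w, R u v → R v w → R u w := by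
    intro u v w huv hvw
    have huw : u ≠ w := fun e => hasym huv (e ▸ hvw)
    refine (htot u w huw).resolve_right fun hwu => ?_
    have hc1 : ({x, y, z} : Finset α).card = 3 := by
      simp [hne hxy, hne hxz, hne hyz]
    have hc2 : ({u, v, w} : Finset α).card = 3 := by
      simp [hne huv, huw, hne hvw]
    obtain ⟨g, hg⟩ := exists_smul_finset_eq h3 hc1 hc2
    have hgy := hRg g x y hxy
    have hgz := hRg g x z hxz
    have hyz' : g • y ≠ g • z := fun e => hne hyz (smul_left_cancel g e)
    have mem : ∀ t ∈ ({x, y, z} : Finset α), g • t = u ∨ g • t = v ∨ g • t = w := fun t ht => by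
      have : g • t ∈ ({u, v, w} : Finset α) := hg ▸ smul_mem_smul_finset ht
      simpa using this
    rcases mem x (by simp) with e | e | e <;> rcases mem y (by simp) with e' | e' | e' <;>
      rcases mem z (by simp) with e'' | e'' | e'' <;> rw [e, e'] at hgy <;> rw [e, e''] at hgz <;>
      first
        | exact hne hgy rfl
        | exact hne hgz rfl
        | exact hyz' (e'.trans e''.symm)
        | exact hasym huv hgy
        | exact hasym huv hgz
        | exact hasym hvw hgy
        | exact hasym hvw hgz
        | exact hasym hwu hgy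
        | exact hasym hwu hgz
  -- the out-degree is constant but decreases along an arc
  let out : α → Finset α := fun u => univ.filter fun v => R u v
  have hout : ∀ u v, (out u).card ≤ (out v).card := by
    intro u v
    obtain ⟨g, rfl⟩ := htr.exists_smul_eq u v
    exact card_le_card_of_injOn (fun t => g • t)
      (fun t ht => by simp only [out, mem_coe, mem_filter, mem_univ, true_and] at ht ⊢
                      exact hRg g u t ht)
      (fun t _ t' _ e => smul_left_cancel g e)
  have hlt : (out y).card < (out x).card := card_lt_card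
    ⟨fun t ht => by
      simp only [out, mem_filter, mem_univ, true_and] at ht ⊢
      exact htrans x y t hxy ht,
     fun h => by
      have : y ∈ out y := h (by simp [out, hxy])
      simp only [out, mem_filter, mem_univ, true_and] at this
      exact hne this rfl⟩
  exact absurd (hout x y) (not_le.2 hlt)

omit [DecidableEq α] in
/-- Sylow's congruence for a faithful action of prime degree. -/
theorem prime_degree_congr [Finite G] [FaithfulSMul G α] {q M : ℕ} [Fact q.Prime]
    (hα : Fintype.card α = q) (hG : Nat.card G = q * M) (hM : ¬ q ∣ M) :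
    ∃ e, e ∣ q - 1 ∧ e ∣ M ∧ M / e ≡ 1 [MOD q] := by
  have hq : q.Prime := Fact.out
  obtain ⟨P⟩ : Nonempty (Sylow q G) := inferInstance
  have hP : Nat.card (P : Subgroup G) = q := by
    have hf : (Nat.card G).factorization q = 1 := by
      rw [hG, Nat.factorization_mul hq.ne_zero (fun h => hM (by rw [h]; exact dvd_zero q)), Finsupp.add_apply,
        hq.factorization_self, Nat.factorization_eq_zero_of_not_dvd hM]
    rw [P.card_eq_multiplicity, hf, pow_one]
  obtain ⟨e, he, hN⟩ :=
    card_normalizer_of_prime_degree (α := α) (by rw [Nat.card_eq_fintype_card, hα]) _ hP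
  have hcount := prime_div_sylow_count P
  rw [hN, hG, Nat.mul_div_mul_left _ _ hq.pos] at hcount
  refine ⟨e, he, ?_, hcount⟩
  have := Subgroup.card_subgroup_dvd_card (Subgroup.normalizer ((P : Subgroup G) : Set G))
  rw [hN, hG] at this
  exact (Nat.mul_dvd_mul_iff_left hq.pos).1 this

end Cfsg.Agent.Perm
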