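import Cfsg.Agent.Lib.Perm.Jordan
import Cfsg.Agent.Lib.Perm.RegularNormal
import Cfsg.Agent.Lib.Perm.DerangeSylow
import Cfsg.Agent.S4219

/-!
# Multiply transitive groups of degree `kp + r`

Groups of degree `kp + r` with `k < p`, `k < r` that are `(r+1)`-transitive contain the alternating
group.
-/

namespace Cfsg.Agent.Perm

open MulAction
open scoped Pointwise

section Orbits

variable {G α : Type*} [Group G] [MulAction G α]

/-- Points fixed by all elements of a subgroup, as an invariant subset of the normaliser. -/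
def fixSet (Q : Subgroup G) : SubMulAction (Subgroup.normalizer (Q : Set G)) α where
  carrier := {a | ∀ q ∈ Q, q • a = a}
  smul_mem' g a ha q hq := by
    have h := ha _ ((Subgroup.mem_normalizer_iff''.1 g.2 q).1 hq)
    change q • ((g : G) • a) = (g : G) • a
    rw [mul_smul, mul_smul, inv_smul_eq_iff] at h
    exact h

theorem mem_fixSet {Q : Subgroup G} {a : α} : a ∈ fixSet Q ↔ ∀ q ∈ Q, q • a = a := Iff.rfl

/-- The normaliser elements fixing every moved orbit of `Q`. -/
def orbitKernel [Finite α] (Q : Subgroup G) : Subgroup (Subgroup.normalizer (Q : Set G)) where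
  carrier := {g | ∀ y, y ∉ fixSet (α := α) Q → (g : G) • y ∈ orbit Q y}
  one_mem' := fun y _ => by rw [OneMemClass.coe_one, one_smul]; exact mem_orbit_self y
  mul_mem' := by
    intro g h hg hh y hy
    have hhy : (h : G) • y ∉ fixSet (α := α) Q := fun he => hy (by
      have := (fixSet (α := α) Q).smul_mem h⁻¹ he
      change (h⁻¹ : Subgroup.normalizer (Q : Set G)) • h • y ∈ fixSet (α := α) Q at this
      rwa [inv_smul_smul] at this)
    rw [Subgroup.coe_mul, mul_smul, ← orbit_eq_iff.2 (hh y hy)]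
    exact hg _ hhy
  inv_mem' := by
    intro g hg y hy
    have hgy : (g⁻¹ : Subgroup.normalizer (Q : Set G)) • y ∉ fixSet (α := α) Q := fun he => hy (by
      have := (fixSet (α := α) Q).smul_mem g he
      rwa [smul_inv_smul] at this)
    have h1 := hg _ hgy
    change g • (g⁻¹ • y) ∈ orbit Q (g⁻¹ • y) at h1
    rw [smul_inv_smul] at h1
    exact mem_orbit_symm.1 h1

theorem mem_orbitKernel [Finite α] {Q : Subgroup G} {g : Subgroup.normalizer (Q : Set G)} :
    g ∈ orbitKernel (α := α) Q ↔ ∀ y, y ∉ fixSet (α := α) Q → (g : G) • y ∈ orbit Q y := Iff.rfl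

theorem smul_orbit_eq {Q : Subgroup G} {g : G} (hg : g ∈ Subgroup.normalizer (Q : Set G)) (y : α) :
    g • orbit Q y = orbit Q (g • y) := by
  ext z
  rw [Set.mem_smul_set]
  constructor
  · rintro ⟨_, ⟨q, rfl⟩, rfl⟩
    refine ⟨⟨g * q * g⁻¹, (Subgroup.mem_normalizer_iff.1 hg q).1 q.2⟩, ?_⟩
    change (g * q * g⁻¹) • g • y = g • (q : G) • y
    rw [smul_smul, smul_smul, inv_mul_cancel_right]
  · rintro ⟨q, rfl⟩
    refine ⟨_, ⟨⟨g⁻¹ * q * g, (Subgroup.mem_normalizer_iff''.1 hg q).1 q.2⟩, rfl⟩, ?_⟩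
    change g • (g⁻¹ * q * g) • y = (q : G) • g • y
    rw [smul_smul, smul_smul, mul_assoc g⁻¹, ← mul_assoc g, mul_inv_cancel, one_mul]

/-- The orbits of `Q` on moved points, permuted by the normaliser. -/
def movedOrbits (Q : Subgroup G) :
    SubMulAction (Subgroup.normalizer (Q : Set G)) (Set α) where
  carrier := {O | ∃ y, y ∉ fixSet (α := α) Q ∧ O = orbit Q y}
  smul_mem' g O := by
    rintro ⟨y, hy, rfl⟩
    refine ⟨g • y, fun h => hy ?_, smul_orbit_eq g.2 y⟩
    have := (fixSet (α := α) Q).smul_mem g⁻¹ h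
    rwa [inv_smul_smul] at this

theorem ker_movedOrbits_le [Finite α] (Q : Subgroup G) :
    (toPermHom (Subgroup.normalizer (Q : Set G)) (movedOrbits (α := α) Q)).ker ≤ orbitKernel (α := α) Q := by
  intro g hg
  rw [mem_orbitKernel]
  intro y hy
  have h := congrArg Subtype.val
    (Equiv.ext_iff.1 (MonoidHom.mem_ker.1 hg) ⟨orbit Q y, y, hy, rfl⟩)
  change (g : G) • orbit Q y = orbit Q y at h
  rw [← h]
  exact Set.smul_mem_smul_set (mem_orbit_self y)

variable {p : ℕ} [Fact p.Prime] [Finite α]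

/-- Orbits of a `p`-group with fewer than `p ^ 2` moved points have size `p`. -/
theorem card_orbit_eq_prime {Q : Subgroup G} (hQ : IsPGroup p Q)
    (hsmall : Nat.card {a : α // a ∉ fixSet (α := α) Q} < p ^ 2) {y : α} (hy : y ∉ fixSet (α := α) Q) :
    Nat.card (orbit Q y) = p := by
  obtain ⟨e, he⟩ := hQ.card_orbit y
  have hle : Nat.card (orbit Q y) ≤ Nat.card {a : α // a ∉ fixSet (α := α) Q} := by
    refine Nat.card_le_card_of_injective (fun z => ⟨z.1, fun hz => hy ?_⟩)
      fun z w h => Subtype.ext (congrArg (fun t : {a : α // a ∉ fixSet (α := α) Q} => t.1) h)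
    obtain ⟨⟨q, hq⟩, hqz⟩ := z.2
    have hqz' : q • y = z.1 := hqz
    have h1 := mem_fixSet.1 hz q⁻¹ (Q.inv_mem hq)
    rw [← hqz', inv_smul_smul] at h1
    intro r hr
    rw [h1, hqz']
    exact mem_fixSet.1 hz r hr
  have he2 : e < 2 := (Nat.pow_lt_pow_iff_right (Fact.out : p.Prime).one_lt).1
    (he ▸ hle.trans_lt hsmall)
  interval_cases e
  · exfalso
    rw [pow_zero, Nat.card_eq_one_iff_unique] at he
    exact hy fun q hq => congrArg Subtype.val (he.1.elim ⟨q • y, ⟨⟨q, hq⟩, rfl⟩⟩ ⟨y, mem_orbit_self y⟩)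
  · rwa [pow_one] at he

/-- On an orbit of size `p` a `p`-group induces a cyclic group of order `p`. -/
theorem exists_generator {Q : Subgroup G} [Finite Q] (hQ : IsPGroup p Q) {y : α}
    (hy : Nat.card (orbit Q y) = p) :
    ∃ σ : Equiv.Perm (orbit Q y), (toPermHom Q (orbit Q y)).range = Subgroup.zpowers σ := by
  haveI := Fintype.ofFinite (orbit Q y)
  classical
  set R := (toPermHom Q (orbit Q y)).range
  obtain ⟨e, he⟩ := IsPGroup.iff_card.1
    (IsPGroup.of_surjective hQ (toPermHom Q (orbit Q y)).rangeRestrict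
      (MonoidHom.rangeRestrict_surjective _))
  have hdvd : Nat.card R ∣ p.factorial := by
    have := Subgroup.card_subgroup_dvd_card R
    rwa [Nat.card_perm, hy] at this
  have he1 : e ≤ 1 := by
    by_contra h
    have h2 : p ^ 2 ∣ p.factorial := (pow_dvd_pow p (by omega)).trans (he ▸ hdvd)
    rw [← Nat.mul_factorial_pred (Fact.out : p.Prime).ne_zero, pow_two] at h2
    have h3 := Nat.dvd_of_mul_dvd_mul_left (Fact.out : p.Prime).pos h2
    rw [(Fact.out : p.Prime).dvd_factorial] at h3
    have := (Fact.out : p.Prime).pos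
    omega
  have : IsCyclic R := by
    interval_cases e
    · haveI := (Nat.card_eq_one_iff_unique.1 (he.trans (pow_zero p))).1
      exact isCyclic_of_subsingleton
    · exact isCyclic_of_prime_card (he.trans (pow_one p))
  obtain ⟨σ, hσ⟩ := Subgroup.isCyclic_iff_exists_zpowers_eq_top R |>.1 this
  exact ⟨σ, hσ.symm⟩

/-- A `p`-group acts abelianly on an orbit of size `p`. -/
theorem comm_on_orbit {Q : Subgroup G} [Finite Q] (hQ : IsPGroup p Q) {y : α}
    (hy : Nat.card (orbit Q y) = p) {q r : G} (hq : q ∈ Q) (hr : r ∈ Q) :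
    q • r • y = r • q • y := by
  obtain ⟨σ, hσ⟩ := exists_generator hQ hy
  obtain ⟨i, hi⟩ := Subgroup.mem_zpowers_iff.1 (hσ.le ⟨⟨q, hq⟩, rfl⟩)
  obtain ⟨j, hj⟩ := Subgroup.mem_zpowers_iff.1 (hσ.le ⟨⟨r, hr⟩, rfl⟩)
  have h : toPermHom Q (orbit Q y) ⟨q, hq⟩ * toPermHom Q (orbit Q y) ⟨r, hr⟩ =
      toPermHom Q (orbit Q y) ⟨r, hr⟩ * toPermHom Q (orbit Q y) ⟨q, hq⟩ := by
    rw [← hi, ← hj, zpow_mul_comm]
  exact congrArg Subtype.val (Equiv.ext_iff.1 h ⟨y, mem_orbit_self y⟩)

/-- Two elements of the derived group of the orbit kernel commute on moved points. -/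
theorem derived_orbitKernel_comm {Q : Subgroup G} [Finite Q] (hQ : IsPGroup p Q)
    (hsmall : Nat.card {a : α // a ∉ fixSet (α := α) Q} < p ^ 2) {y : α} (hy : y ∉ fixSet (α := α) Q)
    {c d : Subgroup.normalizer (Q : Set G)}
    (hc : c ∈ ⁅orbitKernel (α := α) Q, orbitKernel (α := α) Q⁆)
    (hd : d ∈ ⁅orbitKernel (α := α) Q, orbitKernel (α := α) Q⁆) :
    c • d • y = d • c • y := by
  have hK : ⁅orbitKernel (α := α) Q, orbitKernel (α := α) Q⁆ ≤ orbitKernel (α := α) Q :=
    Subgroup.commutator_le_self _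
  have horb : ∀ g ∈ orbitKernel (α := α) Q, ∀ z ∈ orbit Q y, g • z ∈ orbit Q y := by
    intro g hg z hz
    have hzy := orbit_eq_iff.2 hz
    have hz' : z ∉ fixSet (α := α) Q := fun h => hy (fun q hq => by
      obtain ⟨⟨r, hr⟩, rfl⟩ := mem_orbit_symm.1 hz
      change q • r • z = r • z
      rw [h r hr, h q hq])
    exact hzy ▸ mem_orbitKernel.1 hg z hz'
  let O : SubMulAction (orbitKernel (α := α) Q) α :=
    ⟨orbit Q y, fun g z hz => horb g.1 g.2 z hz⟩
  obtain ⟨σ₀, hσ⟩ := exists_generator hQ (card_orbit_eq_prime hQ hsmall hy)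
  let σ : Equiv.Perm O := σ₀
  let ψ := toPermHom (orbitKernel (α := α) Q) O
  -- every element of the kernel acts on `⟨σ⟩` by a power
  have hnorm : ∀ g, ∃ a : ℤ, ψ g * σ * (ψ g)⁻¹ = σ ^ a := by
    intro g
    obtain ⟨q, hq⟩ : σ₀ ∈ (toPermHom Q (orbit Q y)).range :=
      hσ.ge (Subgroup.mem_zpowers σ₀)
    obtain ⟨a, ha⟩ := Subgroup.mem_zpowers_iff.1 (hσ.le
      ⟨⟨(g.1 : G) * q * (g.1 : G)⁻¹, (Subgroup.mem_normalizer_iff.1 g.1.2 q).1 q.2⟩, rfl⟩)
    refine ⟨a, ?_⟩
    rw [mul_inv_eq_iff_eq_mul]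
    refine Equiv.ext fun z => Subtype.ext ?_
    change (g.1 : G) • ((σ z : O) : α) = (((σ₀ ^ a) (g • z) : orbit Q y) : α)
    rw [ha, show σ z = σ₀ z from rfl, ← hq]
    change (g.1 : G) • (q : G) • (z : α) = ((g.1 : G) * q * (g.1 : G)⁻¹) • (g.1 : G) • (z : α)
    rw [smul_smul, smul_smul, inv_mul_cancel_right]
  -- so the derived group centralises `σ`
  have hcen : ⁅(⊤ : Subgroup (orbitKernel (α := α) Q)), (⊤ : Subgroup (orbitKernel (α := α) Q))⁆ ≤
      (Subgroup.centralizer {σ}).comap ψ := by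
    rw [Subgroup.commutator_le]
    intro g _ h _
    rw [Subgroup.mem_comap, Subgroup.mem_centralizer_singleton_iff, commutatorElement_def,
      map_mul, map_mul, map_mul, map_inv, map_inv]
    obtain ⟨a, ha⟩ := hnorm g⁻¹
    obtain ⟨b, hb⟩ := hnorm h⁻¹
    rw [map_inv] at ha hb
    set A := (ψ g)⁻¹ with hA
    set B := (ψ h)⁻¹ with hB
    rw [show ψ g = A⁻¹ by rw [hA, inv_inv], show ψ h = B⁻¹ by rw [hB, inv_inv]]
    have hAB : (A * B) * σ * (A * B)⁻¹ = σ ^ (a * b) := by
      rw [show (A * B) * σ * (A * B)⁻¹ = A * (B * σ * B⁻¹) * A⁻¹ by group, hb, ← conj_zpow, ha,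
        ← zpow_mul]
    have hBA : (B * A) * σ * (B * A)⁻¹ = σ ^ (a * b) := by
      rw [show (B * A) * σ * (B * A)⁻¹ = B * (A * σ * A⁻¹) * B⁻¹ by group, ha, ← conj_zpow, hb,
        ← zpow_mul, mul_comm]
    rw [mul_inv_eq_iff_eq_mul] at hAB hBA
    have hBA' : (B * A)⁻¹ * σ ^ (a * b) = σ * (B * A)⁻¹ := by
      rw [inv_mul_eq_iff_eq_mul, ← mul_assoc, hBA, mul_inv_cancel_right]
    calc A⁻¹ * B⁻¹ * A * B * σ
        = (B * A)⁻¹ * ((A * B) * σ) := by group
      _ = (B * A)⁻¹ * σ ^ (a * b) * (A * B) := by rw [hAB, mul_assoc]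
      _ = σ * (B * A)⁻¹ * (A * B) := by rw [hBA']
      _ = _ := by group
  have hcomm : ∀ u ∈ ⁅orbitKernel (α := α) Q, orbitKernel (α := α) Q⁆, ∀ q : Q, ∀ z : α,
      z ∈ orbit Q y → u • (q : G) • z = (q : G) • u • z := by
    intro u hu q z hz
    have hu' : (⟨u, hK hu⟩ : orbitKernel (α := α) Q) ∈
        ⁅(⊤ : Subgroup (orbitKernel (α := α) Q)), (⊤ : Subgroup (orbitKernel (α := α) Q))⁆ := by
      rw [← Subgroup.map_subtype_commutator, commutator_def, Subgroup.mem_map] at hu
      obtain ⟨v, hv, rfl⟩ := hu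
      exact hv
    have h1 := Subgroup.mem_centralizer_singleton_iff.1 (hcen hu')
    obtain ⟨i, hi⟩ := Subgroup.mem_zpowers_iff.1 (hσ.le ⟨q, rfl⟩)
    have h2 : Commute (ψ ⟨u, hK hu⟩) (σ ^ i) := Commute.zpow_right h1 i
    have h3 := congrArg Subtype.val (Equiv.ext_iff.1 h2.eq ⟨z, hz⟩)
    change u • (((σ₀ ^ i) ⟨z, hz⟩ : orbit Q y) : α) =
      (((σ₀ ^ i) ⟨u • z, horb u (hK hu) z hz⟩ : orbit Q y) : α) at h3
    rw [hi] at h3
    exact h3
  obtain ⟨q, hq⟩ := mem_orbitKernel.1 (hK hc) y hy
  obtain ⟨r, hr⟩ := mem_orbitKernel.1 (hK hd) y hy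
  have hq' : (q : G) • y = c • y := hq
  have hr' : (r : G) • y = d • y := hr
  rw [← hr', ← hq', hcomm c hc r y (mem_orbit_self y), hcomm d hd q y (mem_orbit_self y), ← hq',
    ← hr']
  exact comm_on_orbit hQ (card_orbit_eq_prime hQ hsmall hy) r.2 q.2

/-- The number of moved orbits. -/
theorem card_movedOrbits_mul {Q : Subgroup G} (hQ : IsPGroup p Q)
    (hsmall : Nat.card {a : α // a ∉ fixSet (α := α) Q} < p ^ 2) :
    Nat.card (movedOrbits (α := α) Q) * p = Nat.card {a : α // a ∉ fixSet (α := α) Q} := by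
  haveI := Fintype.ofFinite (movedOrbits (α := α) Q)
  haveI := Fintype.ofFinite α
  have h : Nat.card ((O : movedOrbits (α := α) Q) × (O : Set α)) =
      Nat.card (movedOrbits (α := α) Q) * p := by
    rw [Nat.card_sigma, Finset.sum_const_nat (m := p), Finset.card_univ, Nat.card_eq_fintype_card]
    rintro ⟨O, y, hy, rfl⟩ -
    exact card_orbit_eq_prime hQ hsmall hy
  rw [← h]
  refine Nat.card_eq_of_bijective
    (fun s : (O : movedOrbits (α := α) Q) × (O : Set α) => (⟨s.2.1, ?_⟩ : {a : α // a ∉ fixSet (α := α) Q}))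
    ⟨?_, ?_⟩
  · obtain ⟨⟨O, y, hy, rfl⟩, z, hz⟩ := s
    intro hz'
    change z ∈ fixSet (α := α) Q at hz'
    obtain ⟨⟨r, hr⟩, rfl⟩ := mem_orbit_symm.1 hz
    exact hy fun q hq => by
      change q • r • z = r • z
      rw [hz' r hr, hz' q hq]
  · rintro ⟨⟨O, y, hy, rfl⟩, z, hz⟩ ⟨⟨O', y', hy', rfl⟩, z', hz'⟩ he
    obtain rfl : z = z' := congrArg (fun t : {a : α // a ∉ fixSet (α := α) Q} => t.1) he
    have h1 : orbit Q y = orbit Q y' := (orbit_eq_iff.2 hz).symm.trans (orbit_eq_iff.2 hz')
    exact Sigma.subtype_ext (Subtype.ext h1) rfl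
  · rintro ⟨a, ha⟩
    exact ⟨⟨⟨orbit Q a, a, ha, rfl⟩, a, mem_orbit_self a⟩, rfl⟩

end Orbits

section Main

universe u

variable {α : Type u} [Fintype α] [DecidableEq α]

/-- An element of the normaliser fixing all moved points has its support among the fixed points. -/
theorem mem_ker_moved {G : Subgroup (Equiv.Perm α)} {Q : Subgroup G}
    {g : Subgroup.normalizer (Q : Set G)}
    (h : ∀ y, y ∉ fixSet (α := α) Q → g • y = y) :
    ∀ a ∈ (g : G).1.support, a ∈ fixSet (α := α) Q := by
  intro a ha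
  rw [Equiv.Perm.mem_support] at ha
  exact by_contra fun hc => ha (h a hc)

omit [Fintype α] in
/-- The normaliser of a Sylow subgroup of a stabiliser is transitive on the embeddings into its
fixed points. -/
theorem witt_fixSet [Finite α] {G : Subgroup (Equiv.Perm α)} {t : ℕ}
    (hG : IsMultiplyPretransitive G α t) (x : Fin t ↪ α) {p : ℕ} [Fact p.Prime]
    (P : Sylow p (stabilizer G x)) :
    IsMultiplyPretransitive
      (toPermHom (Subgroup.normalizer (((P : Subgroup (stabilizer G x)).map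
          (stabilizer G x).subtype : Subgroup G) : Set G))
        (fixSet (α := α) ((P : Subgroup (stabilizer G x)).map (stabilizer G x).subtype))).range
      (fixSet (α := α) ((P : Subgroup (stabilizer G x)).map (stabilizer G x).subtype)) t := by
  haveI := Fintype.ofFinite α
  refine ⟨fun a b => ?_⟩
  let e := Function.Embedding.subtype
    (fun y => y ∈ fixSet (α := α) ((P : Subgroup (stabilizer G x)).map (stabilizer G x).subtype))
  obtain ⟨g, hg, hgab⟩ := S4219.result hG x P (a.trans e) (b.trans e)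
    (fun i q => (a i).2 q.1 q.2) (fun i q => (b i).2 q.1 q.2)
  refine ⟨⟨_, ⟨g, hg⟩, rfl⟩, Function.Embedding.ext fun i => Subtype.ext ?_⟩
  exact congrArg (fun f : Fin t ↪ α => f i) hgab

/-- Sharply transitive case: degree 9. -/
theorem alternatingGroup_le_of_four_transitive_nine (G : Subgroup (Equiv.Perm α))
    (h9 : Fintype.card α = 9) (hG : IsMultiplyPretransitive G α 4) : alternatingGroup α ≤ G := by
  classical
  by_contra hcon
  -- no non-trivial element fixes four points
  have hfour : ∀ g ∈ G, ∀ a b c d : α, a ≠ b → a ≠ c → a ≠ d → b ≠ c → b ≠ d → c ≠ d →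
      g a = a → g b = b → g c = c → g d = d → g = 1 := by
    intro g hg a b c d hab hac had hbc hbd hcd ha hb hc hd
    by_contra hg1
    refine hcon (alternatingGroup_le_of_small_support G (k := 4) (by norm_num) (by omega) hG hg hg1 ?_).2
    have hsub : g.support ⊆ ({a, b, c, d} : Finset α)ᶜ := by
      intro e he
      rw [Finset.mem_compl]
      intro h
      simp only [Finset.mem_insert, Finset.mem_singleton] at h
      rw [Equiv.Perm.mem_support] at he
      rcases h with rfl | rfl | rfl | rfl <;> contradiction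
    have := Finset.card_le_card hsub
    rw [Finset.card_compl, h9, Finset.card_insert_of_notMem (by simp [hab, hac, had]),
      Finset.card_insert_of_notMem (by simp [hbc, hbd]), Finset.card_pair hcd] at this
    omega
  -- an element of order two fixing three points
  have : Nonempty (Fin 4 ↪ α) := Function.Embedding.nonempty_of_card_le (by simp [h9])
  obtain ⟨e⟩ := this
  haveI hG3 : IsMultiplyPretransitive G α 3 := by
    haveI := hG
    exact isMultiplyPretransitive_of_le (n := 4) (by norm_num)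
      (by rw [Nat.card_eq_fintype_card]; omega)
  let x : Fin 3 ↪ α := (Fin.castSuccEmb).trans e
  set S := stabilizer G x
  let R : Finset α := Finset.univ.map x
  have hR : R.card = 3 := by simp [R]
  have hSfix : ∀ g : G, g ∈ S ↔ ∀ a ∈ R, (g : Equiv.Perm α) a = a := by
    intro g
    simp only [R, Finset.mem_map, Finset.mem_univ, true_and, forall_exists_index,
      forall_apply_eq_imp_iff, S, mem_stabilizer_iff, Function.Embedding.ext_iff]
    rfl
  have hS : Nat.card S = 6 := by
    let O : SubMulAction S α := ⟨{a | a ∉ R}, fun g a ha h => ha (by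
      have h1 := (hSfix g⁻¹.1).1 g⁻¹.2 _ h
      change ((g : G)⁻¹ : G) • ((g : G) • a) = (g : G) • a at h1
      rw [inv_smul_smul] at h1
      change (g : G) • a ∈ R at h
      rw [← h1] at h
      exact h)⟩
    have hO : Nat.card O = 6 := by
      change Nat.card {a : α // a ∉ R} = 6
      rw [Nat.card_eq_fintype_card, Fintype.card_subtype_compl, Fintype.card_coe, hR, h9]
    have hOt : IsPretransitive S O := ⟨fun a b => by
      obtain ⟨g, hg, hgR, hgab⟩ := exists_fixing_and_moving hG (by omega) (F := R) (by omega)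
        a.2 b.2
      exact ⟨⟨⟨g, hg⟩, (hSfix _).2 hgR⟩, Subtype.ext hgab⟩⟩
    obtain ⟨⟨a₀, ha₀⟩⟩ : Nonempty O := (Nat.card_pos_iff.1 (by omega)).1
    have h := Nat.card_congr (orbitProdStabilizerEquivGroup S (⟨a₀, ha₀⟩ : O))
    rw [Nat.card_prod, orbit_eq_univ, Nat.card_univ, hO] at h
    rw [← h]
    have hb : stabilizer S (⟨a₀, ha₀⟩ : O) = ⊥ := by
      refine (Subgroup.eq_bot_iff_forall _).2 fun g hg => Subtype.ext (Subtype.ext ?_)
      obtain ⟨r₁, r₂, r₃, h12, h13, h23, hR3⟩ := Finset.card_eq_three.1 hR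
      have hm : ∀ r ∈ ({r₁, r₂, r₃} : Finset α), (g.1 : Equiv.Perm α) r = r ∧ r ≠ a₀ :=
        fun r hr => ⟨(hSfix g.1).1 g.2 r (hR3 ▸ hr), fun e => ha₀ (e ▸ hR3 ▸ hr)⟩
      exact hfour _ g.1.2 r₁ r₂ r₃ a₀ h12 h13 (hm r₁ (by simp)).2 h23 (hm r₂ (by simp)).2
        (hm r₃ (by simp)).2 (hm r₁ (by simp)).1 (hm r₂ (by simp)).1 (hm r₃ (by simp)).1
        (congrArg Subtype.val hg)
    rw [hb, Subgroup.card_bot]
  haveI : Fact (Nat.Prime 2) := ⟨Nat.prime_two⟩
  obtain ⟨t, ht⟩ := exists_prime_orderOf_dvd_card' (G := S) 2 (by rw [hS]; norm_num)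
  set τ : Equiv.Perm α := ((t : G) : Equiv.Perm α) with hτ
  have hτ1 : τ ≠ 1 := fun h => by
    have : t = 1 := Subtype.ext (Subtype.ext h)
    rw [this, orderOf_one] at ht
    exact absurd ht (by norm_num)
  have hτ2 : ∀ a, τ (τ a) = a := fun a => by
    have h : t ^ 2 = 1 := ht ▸ pow_orderOf_eq_one t
    exact congrArg (fun u : S => ((u : G) : Equiv.Perm α) a) (pow_two t ▸ h)
  -- `t` moves six points and fixes `R`
  have hout : ∀ a, a ∉ R → τ a ≠ a := by
    intro a ha h
    obtain ⟨r₁, r₂, r₃, h12, h13, h23, hR3⟩ := Finset.card_eq_three.1 hR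
    have hm : ∀ r ∈ ({r₁, r₂, r₃} : Finset α), τ r = r ∧ r ≠ a :=
      fun r hr => ⟨(hSfix t.1).1 t.2 r (hR3 ▸ hr), fun e => ha (e ▸ hR3 ▸ hr)⟩
    exact hτ1 (hfour _ t.1.2 r₁ r₂ r₃ a h12 h13 (hm r₁ (by simp)).2 h23 (hm r₂ (by simp)).2
        (hm r₃ (by simp)).2 (hm r₁ (by simp)).1 (hm r₂ (by simp)).1 (hm r₃ (by simp)).1 h)
  have hin : ∀ a ∈ R, τ a = a := fun a ha => (hSfix t.1).1 t.2 a ha
  let T := Finset.univ.filter fun q : α × α => q.1 ∉ R ∧ q.2 ∉ R ∧ q.2 ≠ q.1 ∧ q.2 ≠ τ q.1
  have hT : T.card = 24 := by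
    have h1 : T = (Rᶜ).biUnion fun a => ((Rᶜ).erase a |>.erase (τ a)).image fun c => (a, c) := by
      ext ⟨a, c⟩
      simp [T]
      tauto
    rw [h1, Finset.card_biUnion, Finset.sum_const_nat (m := 4), Finset.card_compl, h9, hR]
    · intro a ha
      rw [Finset.mem_compl] at ha
      have hta : τ a ∉ R := fun h => hout a ha (by
        have := hin _ h
        rw [hτ2] at this
        exact this.symm)
      rw [Finset.card_image_of_injective _ (fun u v h => (Prod.mk.injEq .. ▸ h).2),
        Finset.card_erase_of_mem (by simp [hta, hout a ha]),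
        Finset.card_erase_of_mem (by simp [ha]), Finset.card_compl, h9, hR]
    · intro a _ b _ hab
      rw [Function.onFun, Finset.disjoint_left]
      intro q hq hq'
      simp only [Finset.mem_image] at hq hq'
      obtain ⟨u, -, rfl⟩ := hq
      obtain ⟨v, -, hv⟩ := hq'
      exact hab (Prod.mk.injEq .. ▸ hv).1.symm
  obtain ⟨a, c, hac⟩ : ∃ a c, (a, c) ∈ T := by
    obtain ⟨⟨a, c⟩, h⟩ := Finset.card_pos.1 (show 0 < T.card by omega)
    exact ⟨a, c, h⟩
  have hd : ∀ a c, (a, c) ∈ T → a ≠ τ a ∧ a ≠ c ∧ a ≠ τ c ∧ τ a ≠ c ∧ τ a ≠ τ c ∧ c ≠ τ c := by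
    intro a c h
    simp only [T, Finset.mem_filter, Finset.mem_univ, true_and] at h
    obtain ⟨ha, hc, hca, hct⟩ := h
    exact ⟨(hout a ha).symm, hca.symm, fun e => hct (by rw [e, hτ2]), hct.symm,
      fun e => hca (τ.injective e).symm, (hout c hc).symm⟩
  let C : Subgroup G := Subgroup.centralizer {(t : G)}
  -- the centraliser is regular on `T`
  have hCT : Nat.card C = 24 := by
    have hcm : ∀ g : C, ∀ u, (g.1 : Equiv.Perm α) (τ u) = τ ((g.1 : Equiv.Perm α) u) := fun g u =>
      congrArg (fun h : G => (h : Equiv.Perm α) u) (Subgroup.mem_centralizer_singleton_iff.1 g.2)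
    have hmap : ∀ g : C, ((g.1 : Equiv.Perm α) a, (g.1 : Equiv.Perm α) c) ∈ T := by
      intro g
      simp only [T, Finset.mem_filter, Finset.mem_univ, true_and] at hac ⊢
      refine ⟨fun h => hout a hac.1 ?_, fun h => hout c hac.2.1 ?_,
        fun e => hac.2.2.1 ((g.1 : Equiv.Perm α).injective e),
        fun e => hac.2.2.2 ((g.1 : Equiv.Perm α).injective (e.trans (hcm g a).symm))⟩
      · exact (g.1 : Equiv.Perm α).injective ((hcm g a).trans (hin _ h))
      · exact (g.1 : Equiv.Perm α).injective ((hcm g c).trans (hin _ h))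
    rw [← hT, ← Nat.card_eq_finsetCard]
    refine Nat.card_eq_of_bijective (fun g : C => (⟨_, hmap g⟩ : T)) ⟨fun g h he => ?_, ?_⟩
    · simp only [Subtype.mk.injEq, Prod.mk.injEq] at he
      obtain ⟨h1, h2, h3, h4, h5, h6⟩ := hd a c hac
      have hk : ∀ u, (g.1 : Equiv.Perm α) u = (h.1 : Equiv.Perm α) u →
          ((h.1⁻¹ * g.1 : G) : Equiv.Perm α) u = u := fun u hu => by
        change (h.1⁻¹ : G) • ((g.1 : G) • u) = u
        rw [inv_smul_eq_iff]; exact hu
      have := hfour _ (h.1⁻¹ * g.1).2 a (τ a) c (τ c) h1 h2 h3 h4 h5 h6 (hk a he.1)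
        (hk _ (by rw [hcm, hcm, he.1])) (hk c he.2) (hk _ (by rw [hcm, hcm, he.2]))
      exact (Subtype.ext (inv_mul_eq_one.1 (Subtype.ext this : h.1⁻¹ * g.1 = 1)).symm)
    · rintro ⟨⟨a', c'⟩, hac'⟩
      obtain ⟨h1, h2, h3, h4, h5, h6⟩ := hd a c hac
      obtain ⟨k1, k2, k3, k4, k5, k6⟩ := hd a' c' hac'
      obtain ⟨g, g1, g2, g3, g4⟩ := exists_smul_eq_four hG h1 h2 h3 h4 h5 h6 k1 k2 k3 k4 k5 k6
      have hgC : g ∈ C := by
        rw [Subgroup.mem_centralizer_singleton_iff]
        have hw : (t : G)⁻¹ * (g * (t : G) * g⁻¹) = 1 := by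
          refine Subtype.ext (hfour _ (((t : G)⁻¹ * (g * (t : G) * g⁻¹)) : G).2
            a' (τ a') c' (τ c') k1 k2 k3 k4 k5 k6 ?_ ?_ ?_ ?_) <;>
            change (((t : G)⁻¹ * (g * (t : G) * g⁻¹)) : G) • (_ : α) = _ <;>
            rw [mul_smul, mul_smul, mul_smul, inv_smul_eq_iff]
          · rw [show g⁻¹ • a' = a from inv_smul_eq_iff.2 g1.symm]; exact g2
          · rw [show g⁻¹ • τ a' = τ a from inv_smul_eq_iff.2 g2.symm]
            change g • τ (τ a) = τ (τ a')
            rw [hτ2, hτ2]; exact g1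
          · rw [show g⁻¹ • c' = c from inv_smul_eq_iff.2 g3.symm]; exact g4
          · rw [show g⁻¹ • τ c' = τ c from inv_smul_eq_iff.2 g4.symm]
            change g • τ (τ c) = τ (τ c')
            rw [hτ2, hτ2]; exact g3
        exact mul_inv_eq_iff_eq_mul.1 (inv_mul_eq_one.1 hw).symm
      exact ⟨⟨g, hgC⟩, Subtype.ext (Prod.ext g1 g3)⟩
  -- the action of the centraliser on `R`
  let O : SubMulAction C α := ⟨{a | a ∈ R}, fun g u hu => by
    by_contra h
    refine hout _ h ?_
    have := congrArg (fun h : G => (h : Equiv.Perm α) u)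
      (Subgroup.mem_centralizer_singleton_iff.1 g.2)
    exact this.symm.trans (congrArg (g.1 : Equiv.Perm α) (hin u hu))⟩
  let φ := toPermHom C O
  have h1 : Nat.card φ.range ∣ 6 := by
    refine (Subgroup.card_subgroup_dvd_card _).trans ?_
    rw [Nat.card_perm, show Nat.card O = 3 from (Nat.card_eq_finsetCard R).trans hR]
    rfl
  have h2 : Nat.card φ.ker ∣ 6 := by
    rw [← hS, ← Subgroup.card_map_of_injective (f := C.subtype) C.subtype_injective]
    refine Subgroup.card_dvd_of_le ?_
    rintro _ ⟨g, hg, rfl⟩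
    exact (hSfix _).2 fun u hu => congrArg Subtype.val (Equiv.ext_iff.1 hg ⟨u, hu⟩)
  have h3 := φ.ker.card_mul_index
  rw [Subgroup.index_ker, hCT] at h3
  have := Nat.mul_dvd_mul h2 h1
  rw [h3] at this
  norm_num at this

/-- If the normaliser of `Q` induces at least the alternating group on the fixed points and some
element of it fixes all moved points but not all fixed points, then a commutator with a 3-cycle
moves at most five points. -/
theorem alternatingGroup_le_of_local_alternating {G : Subgroup (Equiv.Perm α)} {t : ℕ} (ht : 4 ≤ t)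
    (htn : t ≤ Fintype.card α) (hG : IsMultiplyPretransitive G α t) {Q : Subgroup G}
    [Fintype (fixSet (α := α) Q)]
    (hA : alternatingGroup (fixSet (α := α) Q) ≤
      (toPermHom (Subgroup.normalizer (Q : Set G)) (fixSet (α := α) Q)).range)
    (h4 : 4 ≤ Fintype.card (fixSet (α := α) Q))
    {e : Subgroup.normalizer (Q : Set G)} (he : ∀ y, y ∉ fixSet (α := α) Q → e • y = y)
    (he1 : toPermHom _ (fixSet (α := α) Q) e ≠ 1) : alternatingGroup α ≤ G := by
  classical
  set E := toPermHom _ (fixSet (α := α) Q) e with hE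
  obtain ⟨a, hab⟩ : ∃ a, E a ≠ a := by
    by_contra h
    simp only [not_exists, not_not] at h
    exact he1 (Equiv.ext h)
  obtain ⟨w, hw⟩ : ∃ w, w ∉ ({a, E a, E (E a)} : Finset (fixSet (α := α) Q)) := by
    by_contra h
    simp only [not_exists, not_not] at h
    have := Finset.eq_univ_iff_forall.2 h
    have h3 : ({a, E a, E (E a)} : Finset (fixSet (α := α) Q)).card ≤ 3 := Finset.card_le_three
    rw [this, Finset.card_univ] at h3
    omega
  simp only [Finset.mem_insert, Finset.mem_singleton, not_or] at hw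
  obtain ⟨c, hc⟩ := hA (show Equiv.swap a w * Equiv.swap a (E a) ∈ alternatingGroup _ by
    rw [Equiv.Perm.mem_alternatingGroup, map_mul, Equiv.Perm.sign_swap (Ne.symm hw.1),
      Equiv.Perm.sign_swap hab.symm]
    rfl)
  set g := e * c * e⁻¹ * c⁻¹ with hg
  have hfix : ∀ y, y ∉ fixSet (α := α) Q → g • y = y := by
    intro y hy
    have hcy : c⁻¹ • y ∉ fixSet (α := α) Q := fun h => hy (by
      have := (fixSet (α := α) Q).smul_mem c h
      rwa [smul_inv_smul] at this)
    have he' : ∀ z, z ∉ fixSet (α := α) Q → e⁻¹ • z = z := fun z hz =>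
      inv_smul_eq_iff.2 (he z hz).symm
    rw [hg, mul_smul, mul_smul, mul_smul, he' _ hcy, smul_inv_smul, he y hy]
  let F₅ : Finset (fixSet (α := α) Q) := {a, E a, w, E (E a), E w}
  have hsupp : ∀ z : fixSet (α := α) Q, z ∉ F₅ → toPermHom _ (fixSet (α := α) Q) g z = z := by
    intro z hz
    simp only [F₅, Finset.mem_insert, Finset.mem_singleton, not_or] at hz
    obtain ⟨z1, z2, z3, z4, z5⟩ := hz
    rw [hg, map_mul, map_mul, map_mul, map_inv, map_inv, ← hE, hc, mul_inv_rev, Equiv.swap_inv,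
      Equiv.swap_inv]
    simp only [Equiv.Perm.mul_apply]
    rw [Equiv.swap_apply_of_ne_of_ne z1 z3, Equiv.swap_apply_of_ne_of_ne z1 z2]
    have hu : E⁻¹ z ≠ a ∧ E⁻¹ z ≠ E a ∧ E⁻¹ z ≠ w := by
      simp only [ne_eq, Equiv.Perm.inv_eq_iff_eq]
      exact ⟨fun h => z2 h, fun h => z4 h, fun h => z5 h⟩
    rw [Equiv.swap_apply_of_ne_of_ne hu.1 hu.2.1,
      Equiv.swap_apply_of_ne_of_ne hu.1 hu.2.2, apply_inv']
  have hg1 : (g : G).1 ≠ 1 := by
    intro h
    have hg' : g = 1 := Subtype.ext (Subtype.ext h)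
    have h1 : E * (Equiv.swap a w * Equiv.swap a (E a)) =
        (Equiv.swap a w * Equiv.swap a (E a)) * E := by
      rw [← hc, hE, ← map_mul, ← map_mul]
      congr 1
      rw [hg, mul_inv_eq_one, mul_inv_eq_iff_eq_mul] at hg'
      exact hg'
    have h2 := Equiv.ext_iff.1 h1 a
    simp only [Equiv.Perm.mul_apply, Equiv.swap_apply_left] at h2
    rw [Equiv.swap_apply_of_ne_of_ne hab (Ne.symm hw.2.1), Equiv.swap_apply_right,
      Equiv.swap_apply_left] at h2
    exact hw.2.2 h2.symm
  refine (alternatingGroup_le_of_small_support G (k := t) (by omega) htn hG (g : G).2 hg1 ?_).2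
  have hsub : (g : G).1.support ⊆ F₅.map (Function.Embedding.subtype _) := by
    intro y hy
    have hyF := mem_ker_moved hfix y hy
    rw [Finset.mem_map]
    refine ⟨⟨y, hyF⟩, by_contra fun h => Equiv.Perm.mem_support.1 hy ?_, rfl⟩
    exact congrArg Subtype.val (hsupp ⟨y, hyF⟩ h)
  have h5 := Finset.card_le_card hsub
  rw [Finset.card_map] at h5
  have : F₅.card ≤ 5 := Finset.card_le_five
  omega

/-- Large Sylow case of the main theorem. -/
theorem alternatingGroup_le_step {k p r : ℕ} [hp : Fact p.Prime]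
    (ih : ∀ k' r' : ℕ, ∀ {β : Type u} [Fintype β] [DecidableEq β] (L : Subgroup (Equiv.Perm β)),
      Fintype.card β = k' * p + r' → 1 ≤ k' → k' < k → k' < r' → r' = r →
      IsMultiplyPretransitive L β (r' + 1) → alternatingGroup β ≤ L)
    (G : Subgroup (Equiv.Perm α)) (hn : Fintype.card α = k * p + r) (hpk : k < p) (hrk : k < r)
    (hr : 3 ≤ r) (hG : IsMultiplyPretransitive G α (r + 1)) (x : Fin (r + 1) ↪ α)
    (hdvd : p ∣ Nat.card (stabilizer G x)) : alternatingGroup α ≤ G := by
  classical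
  obtain ⟨P⟩ : Nonempty (Sylow p (stabilizer G x)) := inferInstance
  set Q : Subgroup G := (P : Subgroup (stabilizer G x)).map (stabilizer G x).subtype with hQdef
  have hQp : IsPGroup p Q := P.2.map _
  have hW := witt_fixSet hG x P
  have hQ1 : Q ≠ ⊥ := by
    rw [hQdef, ne_eq, Subgroup.map_eq_bot_iff_of_injective _ (Subgroup.subtype_injective _)]
    intro h
    have := P.dvd_card_of_dvd_card hdvd
    rw [h, Subgroup.card_bot, Nat.dvd_one] at this
    exact hp.out.one_lt.ne' this
  have hxF : ∀ i, x i ∈ fixSet (α := α) Q := by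
    rintro i _ ⟨q, -, rfl⟩
    exact congrArg (fun f : Fin (r + 1) ↪ α => f i) (q.2 : (q : G) • x = x)
  have hM' := Fintype.card_subtype_compl (fun a => a ∈ (fixSet (α := α) Q))
  have hFr : r + 1 ≤ Fintype.card (fixSet (α := α) Q) := by
    have := Fintype.card_le_of_injective (fun i => (⟨x i, hxF i⟩ : (fixSet (α := α) Q)))
      fun i j h => x.injective (congrArg Subtype.val h)
    rwa [Fintype.card_fin] at this
  have hFn : Fintype.card (fixSet (α := α) Q) ≤ Fintype.card α := Fintype.card_subtype_le _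
  have hkp : k * p < p ^ 2 := by rw [pow_two]; exact Nat.mul_lt_mul_of_pos_right hpk hp.out.pos
  have hsmall : Nat.card {a : α // a ∉ (fixSet (α := α) Q)} < p ^ 2 := by
    rw [Nat.card_eq_fintype_card, hM']
    change Fintype.card α - Fintype.card (fixSet (α := α) Q) < p ^ 2
    omega
  have hj := card_movedOrbits_mul hQp hsmall
  rw [Nat.card_eq_fintype_card (α := {a : α // a ∉ (fixSet (α := α) Q)}), hM'] at hj
  change _ = Fintype.card α - Fintype.card (fixSet (α := α) Q) at hj
  set j := Nat.card (movedOrbits (α := α) Q) with hjdef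
  have hj1 : 1 ≤ j := by
    by_contra h
    have hj0 : j = 0 := by omega
    rw [hj0, zero_mul] at hj
    refine hQ1 ((Subgroup.eq_bot_iff_forall _).2 fun q hq => Subtype.ext (Equiv.ext fun a => ?_))
    by_cases ha : a ∈ (fixSet (α := α) Q)
    · exact ha q hq
    · exfalso
      have h0 : Fintype.card {a : α // a ∉ (fixSet (α := α) Q)} = 0 := by
        rw [hM']
        change Fintype.card α - Fintype.card (fixSet (α := α) Q) = 0
        omega
      exact (Fintype.card_eq_zero_iff.1 h0).false ⟨a, ha⟩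
  have hjk : j < k := by
    by_contra h
    have : k * p ≤ j * p := Nat.mul_le_mul_right p (by omega)
    omega
  have hFc : Fintype.card (fixSet (α := α) Q) = (k - j) * p + r := by
    rw [Nat.sub_mul]
    have : j * p ≤ k * p := Nat.mul_le_mul_right p hjk.le
    omega
  have hA := ih (k - j) r (toPermHom (Subgroup.normalizer (Q : Set G)) (fixSet (α := α) Q)).range hFc (by omega)
    (by omega) (by omega) rfl hW
  have hF5 : 5 ≤ Fintype.card (fixSet (α := α) Q) := by
    have h1 := Nat.le_mul_of_pos_left p (show 0 < k - j by omega)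
    have := hp.out.two_le
    omega
  -- elements fixing all moved points
  by_cases hE : ∃ e : Subgroup.normalizer (Q : Set G),
      (∀ y, y ∉ (fixSet (α := α) Q) → e • y = y) ∧ toPermHom _ (fixSet (α := α) Q) e ≠ 1
  · obtain ⟨e, he, he1⟩ := hE
    exact alternatingGroup_le_of_local_alternating (by omega) (by omega) hG hA (by omega) he he1
  simp only [not_exists, not_and, not_not] at hE
  exfalso
  have hE' : ∀ e : Subgroup.normalizer (Q : Set G), (∀ y, y ∉ (fixSet (α := α) Q) → e • y = y) → e = 1 := by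
    intro e he
    refine Subtype.ext (Subtype.ext (Equiv.ext fun a => ?_))
    by_cases ha : a ∈ (fixSet (α := α) Q)
    · exact congrArg Subtype.val (Equiv.ext_iff.1 (hE e he) ⟨a, ha⟩)
    · exact he a ha
  set N := Subgroup.normalizer (Q : Set G)
  set ρ := toPermHom N (fixSet (α := α) Q)
  set K := orbitKernel (α := α) Q with hK
  have hKK : K ≤ Subgroup.normalizer (K : Set N) := Subgroup.le_normalizer
  have hKn : K.Normal := by
    refine ⟨fun g hg u => ?_⟩
    rw [hK, mem_orbitKernel] at hg ⊢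
    intro y hy
    have hy' : u⁻¹ • y ∉ (fixSet (α := α) Q) := fun h => hy (by
      have := (fixSet (α := α) Q).smul_mem u h
      rwa [smul_inv_smul] at this)
    have h1 : (u : G) • ((g : G) • (u⁻¹ • y)) ∈ (u : G) • orbit Q (u⁻¹ • y) :=
      Set.smul_mem_smul_set (hg _ hy')
    rw [smul_orbit_eq u.2] at h1
    change (u : G) • (g : G) • (u⁻¹ : N) • y ∈ orbit Q (u • u⁻¹ • y) at h1
    rw [smul_inv_smul] at h1
    change (u * g * u⁻¹) • y ∈ orbit Q y
    rw [mul_smul, mul_smul]
    exact h1
  -- the derived group of `K` is commutative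
  have hD : IsMulCommutative (⁅K, K⁆ : Subgroup N) := ⟨⟨fun c d => Subtype.ext ?_⟩⟩
  swap
  · refine mul_inv_eq_one.1 (hE' _ fun y hy => ?_)
    have hy' : ((d : N) * c)⁻¹ • y ∉ (fixSet (α := α) Q) := fun h => hy (by
      have := (fixSet (α := α) Q).smul_mem ((d : N) * c) h
      rwa [smul_inv_smul] at this)
    have := derived_orbitKernel_comm hQp hsmall hy' c.2 d.2
    rw [Subgroup.coe_mul, Subgroup.coe_mul, mul_smul, mul_smul (c : N), this,
      ← mul_smul (d : N), smul_inv_smul]
  -- so `K` acts trivially on the fixed points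
  haveI : IsMultiplyPretransitive ρ.range (fixSet (α := α) Q) (r + 1) := hW
  have h4 : IsMultiplyPretransitive ρ.range (fixSet (α := α) Q) 4 :=
    isMultiplyPretransitive_of_le (n := r + 1) (by omega) (by rw [Nat.card_eq_fintype_card]; omega)
  haveI : IsPreprimitive ρ.range (fixSet (α := α) Q) := isPreprimitive_of_is_two_pretransitive
    (haveI := h4; isMultiplyPretransitive_of_le (n := 4) (by omega)
      (by rw [Nat.card_eq_fintype_card]; omega))
  haveI : Nonempty (fixSet (α := α) Q) := Fintype.card_pos_iff.1 (by omega)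
  have habel : ∀ A : Subgroup N, A.Normal → IsMulCommutative (A.map ρ.rangeRestrict) →
      A.map ρ.rangeRestrict = ⊥ := by
    intro A hA' hAc
    by_contra hne
    haveI := hA'.map ρ.rangeRestrict ρ.rangeRestrict_surjective
    haveI := hAc
    obtain ⟨ht, hs, -⟩ := regular_of_abelian_normal (α := (fixSet (α := α) Q)) hne
    haveI := ht
    have := regular_normal_four h4 hs
    rw [Nat.card_eq_fintype_card] at this
    omega
  haveI := hKn
  have hD' : (⁅K, K⁆ : Subgroup N).map ρ.rangeRestrict = ⊥ := by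
    refine habel _ inferInstance ⟨⟨?_⟩⟩
    rintro ⟨_, c, hc, rfl⟩ ⟨_, d, hd, rfl⟩
    refine Subtype.ext ?_
    change ρ.rangeRestrict c * ρ.rangeRestrict d = ρ.rangeRestrict d * ρ.rangeRestrict c
    rw [← map_mul, ← map_mul]
    exact congrArg _ (congrArg Subtype.val (hD.is_comm.comm ⟨c, hc⟩ ⟨d, hd⟩))
  have hKb : K.map ρ.rangeRestrict = ⊥ := by
    refine habel K hKn ⟨⟨?_⟩⟩
    rintro ⟨_, c, hc, rfl⟩ ⟨_, d, hd, rfl⟩
    refine Subtype.ext (commutatorElement_eq_one_iff_mul_comm.1 ?_)
    rw [← Subgroup.mem_bot, ← hD']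
    exact ⟨_, Subgroup.commutator_mem_commutator hc hd, map_commutatorElement _ _ _⟩
  have hle : (toPermHom N (movedOrbits (α := α) Q)).ker ≤ ρ.ker := by
    refine (ker_movedOrbits_le Q).trans ?_
    rw [← MonoidHom.ker_rangeRestrict]
    exact (Subgroup.map_eq_bot_iff _).1 hKb
  have h1 : Nat.card ρ.range ≤ k.factorial := by
    rw [← Subgroup.index_ker]
    refine (Nat.le_of_dvd (Nat.pos_of_ne_zero Subgroup.index_ne_zero_of_finite)
      (Subgroup.index_dvd_of_le hle)).trans ?_
    rw [Subgroup.index_ker]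
    refine (Subgroup.card_le_card_group _).trans ?_
    rw [Nat.card_perm]
    exact Nat.factorial_le (by omega)
  haveI : Nontrivial (fixSet (α := α) Q) := Fintype.one_lt_card_iff_nontrivial.1 (by omega)
  have h2 := Subgroup.card_dvd_of_le hA
  have h3 := two_mul_card_alternatingGroup (α := (fixSet (α := α) Q))
  rw [Fintype.card_perm] at h3
  rw [← Nat.card_eq_fintype_card] at h3
  have h5 := Nat.le_of_dvd Nat.card_pos h2
  have h6 : (k + 2).factorial ≤ (Fintype.card (fixSet (α := α) Q)).factorial := Nat.factorial_le (by omega)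
  rw [Nat.factorial_succ, Nat.factorial_succ] at h6
  have h7 : 6 * k.factorial ≤ (k + 1 + 1) * ((k + 1) * k.factorial) := by
    rw [← mul_assoc]
    exact Nat.mul_le_mul_right _ (Nat.mul_le_mul (show 3 ≤ k + 1 + 1 by omega) (show 2 ≤ k + 1 by omega))
  have := Nat.factorial_pos k
  omega

/-- Small Sylow case of the main theorem. -/
theorem alternatingGroup_le_of_small_sylow {k p r : ℕ} [hp : Fact p.Prime]
    (G : Subgroup (Equiv.Perm α)) (hn : Fintype.card α = k * p + r) (hk : 1 ≤ k) (hpk : k < p)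
    (hrk : k < r) (hr : 3 ≤ r) (hkp : 4 ≤ k * p)
    (hG : IsMultiplyPretransitive G α (r + 1)) (x : Fin r ↪ α)
    (hfac : (Nat.card (stabilizer G x)).factorization p = 1) : alternatingGroup α ≤ G := by
  classical
  obtain ⟨P⟩ : Nonempty (Sylow p (stabilizer G x)) := inferInstance
  set Q : Subgroup G := (P : Subgroup (stabilizer G x)).map (stabilizer G x).subtype with hQdef
  have hQp : IsPGroup p Q := P.2.map _
  have hQc : Nat.card Q = p := by
    rw [hQdef, Subgroup.card_map_of_injective (Subgroup.subtype_injective _),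
      P.card_eq_multiplicity, hfac, pow_one]
  haveI hGr : IsMultiplyPretransitive G α r := by
    haveI := hG
    exact isMultiplyPretransitive_of_le (n := r + 1) (by omega)
      (by rw [Nat.card_eq_fintype_card]; omega)
  have hW := witt_fixSet hGr x P
  let R : Finset α := Finset.univ.map x
  have hR : R.card = r := by simp [R]
  have hxF : ∀ i, x i ∈ (fixSet (α := α) Q) := by
    rintro i _ ⟨q, -, rfl⟩
    exact congrArg (fun f : Fin r ↪ α => f i) (q.2 : (q : G) • x = x)
  -- the fixed points are the points of `x`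
  have hFR : ∀ a, a ∈ (fixSet (α := α) Q) ↔ a ∈ R := by
    intro a
    refine ⟨fun ha => by_contra fun haR => ?_, fun ha => ?_⟩
    swap
    · obtain ⟨i, -, rfl⟩ := Finset.mem_map.1 ha
      exact hxF i
    have hS : ∀ g : G, g ∈ stabilizer G x ↔ ∀ b ∈ R, (g : Equiv.Perm α) b = b := by
      intro g
      simp only [R, Finset.mem_map, Finset.mem_univ, true_and, forall_exists_index,
        forall_apply_eq_imp_iff, mem_stabilizer_iff, Function.Embedding.ext_iff]
      rfl
    let O : SubMulAction (stabilizer G x) α := ⟨{b | b ∉ R}, fun g b hb h => hb (by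
      have h1 := (hS g⁻¹.1).1 g⁻¹.2 _ h
      change ((g : G)⁻¹ : G) • ((g : G) • b) = (g : G) • b at h1
      rw [inv_smul_smul] at h1
      change (g : G) • b ∈ R at h
      rw [← h1] at h
      exact h)⟩
    have hO : Nat.card O = k * p := by
      change Nat.card {b : α // b ∉ R} = k * p
      rw [Nat.card_eq_fintype_card, Fintype.card_subtype_compl, Fintype.card_coe, hR, hn,
        Nat.add_sub_cancel]
    have hOt : IsPretransitive (stabilizer G x) O := ⟨fun b c => by
      obtain ⟨g, hg, hgR, hgbc⟩ := exists_fixing_and_moving hG (by omega) (F := R) (by omega)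
        b.2 c.2
      exact ⟨⟨⟨g, hg⟩, (hS _).2 hgR⟩, Subtype.ext hgbc⟩⟩
    have := pow_dvd_card_sylowOrbit hOt P 1 (by rw [hO, pow_one]; exact dvd_mul_left p k)
      (⟨a, haR⟩ : O)
    have hsing : orbit P (⟨a, haR⟩ : O) = {⟨a, haR⟩} := by
      refine Set.eq_singleton_iff_unique_mem.2 ⟨mem_orbit_self _, ?_⟩
      rintro _ ⟨q, rfl⟩
      exact Subtype.ext (ha _ ⟨q.1, q.2, rfl⟩)
    rw [hsing, Nat.card_eq_fintype_card] at this
    simp only [Set.card_singleton, pow_one, Nat.dvd_one] at this
    exact hp.out.one_lt.ne' this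
  have hFc : Fintype.card (fixSet (α := α) Q) = r := by
    rw [← hR, ← Fintype.card_coe]
    exact Fintype.card_congr (Equiv.subtypeEquivRight hFR)
  have hkp2 : k * p < p ^ 2 := by rw [pow_two]; exact Nat.mul_lt_mul_of_pos_right hpk hp.out.pos
  have hsmall : Nat.card {a : α // a ∉ (fixSet (α := α) Q)} < p ^ 2 := by
    rw [Nat.card_eq_fintype_card, Fintype.card_subtype_compl]
    change Fintype.card α - Fintype.card (fixSet (α := α) Q) < p ^ 2
    omega
  have hj := card_movedOrbits_mul hQp hsmall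
  rw [Nat.card_eq_fintype_card (α := {a : α // a ∉ (fixSet (α := α) Q)}), Fintype.card_subtype_compl] at hj
  change _ = Fintype.card α - Fintype.card (fixSet (α := α) Q) at hj
  rw [hFc, hn, Nat.add_sub_cancel] at hj
  have hjk : Nat.card (movedOrbits (α := α) Q) = k := Nat.eq_of_mul_eq_mul_right hp.out.pos hj
  set N := Subgroup.normalizer (Q : Set G)
  set ρ := toPermHom N (fixSet (α := α) Q)
  -- elements fixing all moved points have small support
  by_cases hE : ∃ e : N, (∀ y, y ∉ (fixSet (α := α) Q) → e • y = y) ∧ e ≠ 1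
  · obtain ⟨e, he, he1⟩ := hE
    refine (alternatingGroup_le_of_small_support G (k := r + 1) (by omega) (by omega) hG (e : G).2
      (fun h => he1 (Subtype.ext (Subtype.ext h))) ?_).2
    have := Finset.card_le_card (show (e : G).1.support ⊆ R from
      fun a ha => (hFR a).1 (mem_ker_moved he a ha))
    omega
  simp only [not_exists, not_and, not_not] at hE
  have htop : ρ.range = ⊤ := by
    refine Equiv.Perm.eq_top_of_isMultiplyPretransitive ?_
    haveI := hW
    exact isMultiplyPretransitive_of_le (n := r) (by rw [Nat.card_eq_fintype_card]; omega)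
      (by rw [Nat.card_eq_fintype_card]; omega)
  have hρ : Function.Surjective ρ := MonoidHom.range_eq_top.1 htop
  -- the centraliser of `Q`
  haveI : IsCyclic Q := isCyclic_of_prime_card hQc
  set C := (Subgroup.normalizerMonoidHom Q).ker with hC
  have hcomm : ⁅(⊤ : Subgroup N), (⊤ : Subgroup N)⁆ ≤ C := by
    rw [Subgroup.commutator_le]
    intro g _ h _
    rw [hC, MonoidHom.mem_ker, map_commutatorElement, commutatorElement_eq_one_iff_mul_comm]
    exact (IsCyclic.mulAutMulEquiv Q).injective (by rw [map_mul, map_mul, mul_comm])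
  have hCmem : ∀ g ∈ C, ∀ q : G, q ∈ Q → (g : G) * q = q * g := by
    intro g hg q hq
    have := congrArg Subtype.val (MulEquiv.ext_iff.1 (MonoidHom.mem_ker.1 hg) ⟨q, hq⟩)
    change (g : G) * q * (g : G)⁻¹ = q at this
    exact mul_inv_eq_iff_eq_mul.1 this
  -- the centraliser elements fixing all orbits have order dividing `p`
  have hpow : ∀ g, g ∈ C → g ∈ orbitKernel (α := α) Q → g ^ p = 1 := by
    intro g hgC hgK
    refine hE _ fun y hy => ?_
    obtain ⟨⟨q, hq⟩, hqy⟩ := mem_orbitKernel.1 hgK y hy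
    have hqy' : q • y = (g : G) • y := hqy
    have hi : ∀ i : ℕ, ((g : G) ^ i) • y = q ^ i • y := by
      intro i
      induction i with
      | zero => rfl
      | succ i ih =>
        rw [pow_succ, mul_smul, ← hqy', smul_smul,
          show (g : G) ^ i * q = q * (g : G) ^ i from
            Commute.pow_left (hCmem g hgC q hq) i, mul_smul, ih, smul_smul, ← pow_succ']
    change ((g ^ p : N) : G) • y = y
    rw [SubmonoidClass.coe_pow, hi p]
    have : (⟨q, hq⟩ : Q) ^ p = 1 := hQc ▸ pow_card_eq_one'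
    rw [show q ^ p = 1 from congrArg Subtype.val this, one_smul]
  have hKn : (C ⊓ (orbitKernel (α := α) Q)).Normal := by
    refine ⟨fun g hg u => ⟨(MonoidHom.normal_ker _).conj_mem g hg.1 u, mem_orbitKernel.2 ?_⟩⟩
    intro y hy
    have hy' : u⁻¹ • y ∉ (fixSet (α := α) Q) := fun h => hy (by
      have := (fixSet (α := α) Q).smul_mem u h
      rwa [smul_inv_smul] at this)
    have h1 : (u : G) • ((g : G) • (u⁻¹ • y)) ∈ (u : G) • orbit Q (u⁻¹ • y) :=
      Set.smul_mem_smul_set (mem_orbitKernel.1 hg.2 _ hy')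
    rw [smul_orbit_eq u.2] at h1
    change (u : G) • (g : G) • (u⁻¹ : N) • y ∈ orbit Q (u • u⁻¹ • y) at h1
    rw [smul_inv_smul] at h1
    change (u * g * u⁻¹) • y ∈ orbit Q y
    rw [mul_smul, mul_smul]
    exact h1
  set M := (C ⊓ orbitKernel (α := α) Q).map ρ with hM
  have hMn : M.Normal := hKn.map ρ hρ
  by_cases hMb : M = ⊥
  · -- the image of the centraliser is too large
    exfalso
    have hle : (toPermHom N (movedOrbits (α := α) Q)).ker ⊓ C ≤ ρ.ker := by
      intro g hg
      exact (Subgroup.map_eq_bot_iff _).1 hMb ⟨hg.2, ker_movedOrbits_le Q hg.1⟩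
    set ψ := (toPermHom N (movedOrbits (α := α) Q)).comp C.subtype
    have hψ : ψ.ker ≤ (ρ.comp C.subtype).ker := fun g hg => hle ⟨hg, g.2⟩
    have h1 : Nat.card (C.map ρ) ≤ k.factorial := by
      rw [← MonoidHom.restrict_range, ← Subgroup.index_ker]
      refine (Nat.le_of_dvd (Nat.pos_of_ne_zero Subgroup.index_ne_zero_of_finite)
        (Subgroup.index_dvd_of_le hψ)).trans ?_
      rw [Subgroup.index_ker]
      refine (Subgroup.card_le_card_group _).trans ?_
      rw [Nat.card_perm, hjk]
    have h2 : alternatingGroup (fixSet (α := α) Q) ≤ C.map ρ := by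
      rw [← Equiv.Perm.closure_three_cycles_eq_alternating, Subgroup.closure_le]
      intro σ hσ
      refine Subgroup.map_mono hcomm ?_
      rw [Subgroup.map_commutator, Subgroup.map_top_of_surjective ρ hρ]
      obtain ⟨u, hu⟩ := isConj_iff.1 (Equiv.Perm.isConj_iff_cycleType_eq.2
        ((Equiv.Perm.cycleType_inv σ).symm) : IsConj σ σ⁻¹)
      have h3 : σ ^ 3 = 1 := (Equiv.Perm.IsThreeCycle.orderOf hσ) ▸ pow_orderOf_eq_one σ
      have : u * σ * u⁻¹ * σ⁻¹ = σ := by
        rw [hu]
        calc σ⁻¹ * σ⁻¹ = σ ^ 3 * (σ⁻¹ * σ⁻¹) := by rw [h3, one_mul]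
          _ = σ := by group
      rw [← this, ← commutatorElement_def]
      exact Subgroup.commutator_mem_commutator (Subgroup.mem_top _) (Subgroup.mem_top _)
    haveI : Nontrivial (fixSet (α := α) Q) := Fintype.one_lt_card_iff_nontrivial.1 (by omega)
    have h3 := two_mul_card_alternatingGroup (α := (fixSet (α := α) Q))
    rw [Fintype.card_perm, hFc, ← Nat.card_eq_fintype_card] at h3
    have h4 := Nat.le_of_dvd Nat.card_pos (Subgroup.card_dvd_of_le h2)
    have h5 : (k + 1).factorial ≤ r.factorial := Nat.factorial_le (by omega)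
    rcases Nat.lt_or_ge k 2 with hk2 | hk2
    · have : k = 1 := by omega
      subst this
      have : Nat.factorial 3 ≤ r.factorial := Nat.factorial_le hr
      simp [Nat.factorial] at this h1 h4 h3
      omega
    · rw [Nat.factorial_succ] at h5
      nlinarith [Nat.factorial_pos k]
  -- otherwise `p = 3` and `r = 3`
  have hMp : ∀ m ∈ M, m ^ p = 1 := by
    rintro _ ⟨g, ⟨hgC, hgK⟩, rfl⟩
    rw [← map_pow, hpow g hgC hgK, map_one]
  obtain ⟨m, hm, hm1⟩ : ∃ m ∈ M, m ≠ 1 := by
    by_contra h
    simp only [not_exists, not_and, not_not] at h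
    exact hMb ((Subgroup.eq_bot_iff_forall _).2 h)
  obtain ⟨a, ha⟩ : ∃ a, m a ≠ a := by
    by_contra h
    simp only [not_exists, not_not] at h
    exact hm1 (Equiv.ext h)
  have hp2 : p ≠ 2 := by
    rintro rfl
    have : k = 1 := by omega
    subst this
    omega
  obtain ⟨z, hz⟩ : ∃ z, z ∉ ({a, m a} : Finset (fixSet (α := α) Q)) := by
    by_contra h
    simp only [not_exists, not_not] at h
    have := Finset.eq_univ_iff_forall.2 h
    have h3 : ({a, m a} : Finset (fixSet (α := α) Q)).card ≤ 2 := Finset.card_le_two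
    rw [this, Finset.card_univ, hFc] at h3
    omega
  simp only [Finset.mem_insert, Finset.mem_singleton, not_or] at hz
  have hc : Equiv.swap (m a) (m z) * Equiv.swap a z ∈ M := by
    have h := M.mul_mem hm (hMn.conj_mem _ (M.inv_mem hm) (Equiv.swap a z))
    rw [show m * (Equiv.swap a z * m⁻¹ * (Equiv.swap a z)⁻¹) =
      m * Equiv.swap a z * m⁻¹ * Equiv.swap a z by rw [Equiv.swap_inv]; group,
      show m * Equiv.swap a z * m⁻¹ = Equiv.swap (m a) (m z) by
        rw [← Equiv.swap_apply_apply]] at h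
    exact h
  set c := Equiv.swap (m a) (m z) * Equiv.swap a z with hcdef
  have hnotsq : ∀ g ∈ M, g ^ 2 = 1 → g = 1 := fun g hg h2 => by
    have h := Nat.dvd_gcd (orderOf_dvd_of_pow_eq_one h2) (orderOf_dvd_of_pow_eq_one (hMp g hg))
    rw [(Nat.coprime_primes Nat.prime_two hp.out).2 (Ne.symm hp2)] at h
    exact orderOf_eq_one_iff.1 (Nat.dvd_one.1 h)
  have hc1 : c ≠ 1 := by
    intro h
    have := Equiv.ext_iff.1 h a
    simp only [hcdef, Equiv.Perm.mul_apply, Equiv.swap_apply_left, Equiv.Perm.one_apply] at this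
    rw [Equiv.swap_apply_def] at this
    split_ifs at this with h1 h2
    · exact hz.2 h1
    · exact ha this
    · exact hz.1 this
  have hthree : Equiv.Perm.IsThreeCycle c := by
    by_cases h : m z = a
    · rw [hcdef, h, Equiv.swap_comm (m a) a]
      exact Equiv.Perm.isThreeCycle_swap_mul_swap_same (Ne.symm ha) (Ne.symm hz.1) (Ne.symm hz.2)
    by_cases h' : m z = z
    · rw [hcdef, h', Equiv.swap_comm (m a) z, Equiv.swap_comm a z]
      exact Equiv.Perm.isThreeCycle_swap_mul_swap_same hz.2 hz.1 ha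
    · exfalso
      refine hc1 (hnotsq _ hc ?_)
      have hd : Commute (Equiv.swap (m a) (m z)) (Equiv.swap a z) := by
        refine Equiv.Perm.Disjoint.commute fun u => ?_
        by_cases hu : u = a ∨ u = z
        · left
          rcases hu with rfl | rfl
          · exact Equiv.swap_apply_of_ne_of_ne (Ne.symm ha) (Ne.symm h)
          · exact Equiv.swap_apply_of_ne_of_ne hz.2 (Ne.symm h')
        · rw [not_or] at hu
          exact Or.inr (Equiv.swap_apply_of_ne_of_ne hu.1 hu.2)
      rw [hcdef, hd.mul_pow, pow_two, pow_two, Equiv.swap_mul_self, Equiv.swap_mul_self, one_mul]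
  have hp3 : p = 3 := by
    have h := orderOf_dvd_of_pow_eq_one (hMp c hc)
    rw [hthree.orderOf, Nat.prime_dvd_prime_iff_eq Nat.prime_three hp.out] at h
    exact h.symm
  rcases Nat.lt_or_ge r 4 with hr4 | hr4
  · have hk2 : k = 2 := by subst hp3; omega
    subst hk2 hp3
    obtain rfl : r = 3 := by omega
    exact alternatingGroup_le_of_four_transitive_nine G hn hG
  -- a product of two 3-cycles gives an involution
  exfalso
  obtain ⟨d, hd⟩ : ∃ d, d ∉ c.support := by
    by_contra h
    simp only [not_exists, not_not] at h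
    have := hthree.card_support
    rw [Finset.eq_univ_iff_forall.2 h, Finset.card_univ, hFc] at this
    omega
  obtain ⟨u, hu⟩ : ∃ u, u ∈ c.support := by
    rw [← Finset.Nonempty, ← Finset.card_pos, hthree.card_support]
    norm_num
  have hcu : c (c (c u)) = u := by
    have h3 : c ^ 3 = 1 := hthree.orderOf ▸ pow_orderOf_eq_one c
    have := Equiv.ext_iff.1 h3 u
    simpa [pow_succ] using this
  rw [Equiv.Perm.notMem_support] at hd
  rw [Equiv.Perm.mem_support] at hu
  have huu : c (c u) ≠ u := fun e => hu (by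
    have := hcu
    rwa [e] at this)
  have hud : u ≠ d := fun e => hu (e ▸ hd)
  have hcd : c u ≠ d := fun e => hud (c.injective (e.trans hd.symm))
  have hccd : c (c u) ≠ d := fun e => hcd (c.injective (e.trans hd.symm))
  set s := Equiv.swap (c (c u)) d
  have hmem : s * c * s⁻¹ ∈ M := hMn.conj_mem c hc s
  have hsq := hnotsq (c * (s * c * s⁻¹)) (M.mul_mem hc hmem)
  have h1 : (c * (s * c * s⁻¹)) ^ 2 = 1 := by
    refine Equiv.ext fun v => ?_
    have hsupp : ∀ v, v ≠ u → v ≠ c u → v ≠ c (c u) → c v = v := by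
      intro v h1 h2 h3
      by_contra hv
      have hcard := hthree.card_support
      have hsub : ({v, u, c u, c (c u)} : Finset (fixSet (α := α) Q)) ⊆ c.support := by
        intro w hw
        simp only [Finset.mem_insert, Finset.mem_singleton] at hw
        rw [Equiv.Perm.mem_support]
        rcases hw with rfl | rfl | rfl | rfl
        · exact hv
        · exact hu
        · exact fun e => hu (c.injective e)
        · exact fun e => hu (c.injective (c.injective e))
      have := Finset.card_le_card hsub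
      rw [Finset.card_insert_of_notMem (by simp [h1, h2, h3]),
        Finset.card_insert_of_notMem (by simp [Ne.symm hu, Ne.symm huu]),
        Finset.card_pair (fun e => hu (c.injective e.symm))] at this
      omega
    have hsi : ∀ w, s⁻¹ w = s w := fun w => by rw [Equiv.swap_inv]
    have e1 : (c * (s * c * s⁻¹)) u = c (c u) := by
      simp [hsi, s, Equiv.swap_apply_of_ne_of_ne huu.symm hud, 
        Equiv.swap_apply_of_ne_of_ne (fun e => hu (c.injective e).symm : c u ≠ c (c u)) hcd]
    have e2 : (c * (s * c * s⁻¹)) (c (c u)) = u := by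
      simp [hsi, s, hd, hcu]
    have e3 : (c * (s * c * s⁻¹)) (c u) = d := by
      simp [hsi, s, Equiv.swap_apply_of_ne_of_ne (fun e => hu (c.injective e).symm : c u ≠ c (c u)) hcd,
        hd]
    have e4 : (c * (s * c * s⁻¹)) d = c u := by
      simp [hsi, s, hcu, Equiv.swap_apply_of_ne_of_ne huu.symm hud]
    rw [pow_two, Equiv.Perm.mul_apply, Equiv.Perm.one_apply]
    by_cases v1 : v = u
    · rw [v1, e1, e2]
    by_cases v2 : v = c u
    · rw [v2, e3, e4]
    by_cases v3 : v = c (c u)
    · rw [v3, e2, e1]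
    by_cases v4 : v = d
    · rw [v4, e4, e3]
    have : (c * (s * c * s⁻¹)) v = v := by
      simp [hsi, s, Equiv.swap_apply_of_ne_of_ne v3 v4, hsupp v v1 v2 v3]
    rw [this, this]
  have := Equiv.ext_iff.1 (hsq h1) u
  have hsi' : s⁻¹ = s := Equiv.swap_inv _ _
  simp [hsi', s, Equiv.swap_apply_of_ne_of_ne huu.symm hud,
    Equiv.swap_apply_of_ne_of_ne (fun e => hu (c.injective e).symm : c u ≠ c (c u)) hcd] at this
  exact huu this

/-- A `(r+1)`-transitive group of degree `kp + r` with `k < p`, `k < r`, `(k, r) ≠ (1, 2)` contains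
the alternating group. -/
theorem alternatingGroup_le_of_miller {p : ℕ} (hp : p.Prime) (k : ℕ) :
    ∀ {α : Type u} [Fintype α] [DecidableEq α] (G : Subgroup (Equiv.Perm α)) {r : ℕ},
      Fintype.card α = k * p + r → 1 ≤ k → k < p → k < r → ¬ (k = 1 ∧ r = 2) →
      IsMultiplyPretransitive G α (r + 1) → alternatingGroup α ≤ G := by
  induction k using Nat.strong_induction_on with
  | _ k ih =>
  intro α _ _ G r hn hk hpk hrk hex hG
  classical
  haveI : Fact p.Prime := ⟨hp⟩
  have hr : 3 ≤ r := by omega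
  by_cases hkp : k * p ≤ 3
  · have hkp1 : 2 ≤ k * p := le_trans hp.two_le (Nat.le_mul_of_pos_left p (by omega))
    haveI : IsMultiplyPretransitive G α (Nat.card α - 2) := by
      haveI := hG
      exact isMultiplyPretransitive_of_le (n := r + 1)
        (by rw [Nat.card_eq_fintype_card]; omega) (by rw [Nat.card_eq_fintype_card]; omega)
    refine Equiv.Perm.alternatingGroup_le_of_index_le_two ?_
    obtain ⟨s, -, hs⟩ := Finset.exists_subset_card_eq (s := (Finset.univ : Finset α))
      (n := Fintype.card α - 2) (by rw [Finset.card_univ]; omega)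
    have h1 := IsMultiplyPretransitive.index_of_fixingSubgroup_mul
      (k := Nat.card α - 2) ‹_› (s := (s : Set α))
      (by rw [Set.ncard_coe_finset, hs, Nat.card_eq_fintype_card])
    have h2 := (fixingSubgroup G (s : Set α)).index_mul_card
    have h3 := G.index_mul_card
    rw [Nat.card_perm, Nat.card_eq_fintype_card (α := α)] at h3
    rw [Nat.card_eq_fintype_card (α := α), show Fintype.card α - (Fintype.card α - 2) = 2 by omega,
      Nat.factorial_two] at h1
    have h4 : 0 < Nat.card (fixingSubgroup G (s : Set α)) := Nat.card_pos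
    by_contra h
    rw [← h2] at h3
    nlinarith [Nat.factorial_pos (Fintype.card α)]
  obtain ⟨x'⟩ : Nonempty (Fin (r + 1) ↪ α) :=
    Function.Embedding.nonempty_of_card_le (by simp only [Fintype.card_fin]; omega)
  by_cases hdvd : p ∣ Nat.card (stabilizer G x')
  · exact alternatingGroup_le_step (k := k) (fun k' r' {β} _ _ L hc h1 hlt h2 h3 hL =>
      ih k' hlt L hc h1 (hlt.trans hpk) h2 (by omega) hL) G hn hpk hrk hr hG x' hdvd
  let x : Fin r ↪ α := Fin.castSuccEmb.trans x'
  refine alternatingGroup_le_of_small_sylow G hn hk hpk hrk hr (by omega) hG x ?_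
  have h1 : ∀ t, t ≤ r + 1 → ∀ y : Fin t ↪ α,
      Nat.card G = (Nat.card α).descFactorial t * Nat.card (stabilizer G y) := by
    intro t ht y
    haveI : IsMultiplyPretransitive G α t := by
      haveI := hG
      exact isMultiplyPretransitive_of_le (n := r + 1) ht
        (by rw [Nat.card_eq_fintype_card]; omega)
    have : IsPretransitive G (Fin t ↪ α) := ‹IsMultiplyPretransitive G α t›
    rw [← Nat.card_congr (orbitProdStabilizerEquivGroup G y), Nat.card_prod]
    congr 1
    rw [← card_embedding]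
    refine Nat.card_congr (Equiv.subtypeUnivEquiv fun z => ?_)
    obtain ⟨g, hg⟩ := this.exists_smul_eq y z
    exact ⟨g, Function.Embedding.ext fun i => congrArg (fun f : Fin t ↪ α => f i) hg⟩
  have h2 := (h1 (r + 1) le_rfl x').symm.trans (h1 r (by omega) x)
  rw [Nat.descFactorial_succ, Nat.card_eq_fintype_card (α := α), hn, Nat.add_sub_cancel] at h2
  have h3 : Nat.card (stabilizer G x) = k * p * Nat.card (stabilizer G x') := by
    have hd : 0 < (k * p + r).descFactorial r := Nat.descFactorial_pos.2 (by omega)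
    exact Nat.eq_of_mul_eq_mul_left hd (by rw [← h2]; ring)
  rw [h3, Nat.factorization_mul (Nat.mul_ne_zero (by omega) hp.ne_zero) Nat.card_pos.ne',
    Nat.factorization_mul (by omega) hp.ne_zero, Finsupp.add_apply, Finsupp.add_apply,
    hp.factorization_self, Nat.factorization_eq_zero_of_not_dvd hdvd,
    Nat.factorization_eq_zero_of_lt hpk]

end Main

end Cfsg.Agent.Perm
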