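import Cfsg.Agent.Lib.Perm.Transitive
import Cfsg.Agent.Lib.Perm.PrimeDegreeSimple

/-!
# Jordan's theorem on sharply multiply transitive groups

A sharply 4-transitive group has degree 4, 5, 6 or 11, a sharply 5-transitive one degree 5, 6, 7
or 12, and for `k ≥ 6` a sharply `k`-transitive group has degree at most `k + 2`.
-/

namespace Cfsg.Agent.Perm

open MulAction

universe u v

section Four

variable {G : Type u} {α : Type v} [Group G] [MulAction G α] [Finite α]

/-- In a sharply 4-transitive group only the identity fixes four points. -/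
theorem eq_one_of_fixes_four (hsharp : ∀ x : Fin 4 ↪ α, stabilizer G x = ⊥) {g : G}
    {a b c d : α} (hab : a ≠ b) (hac : a ≠ c) (had : a ≠ d) (hbc : b ≠ c) (hbd : b ≠ d)
    (hcd : c ≠ d) (ha : g • a = a) (hb : g • b = b) (hc : g • c = c) (hd : g • d = d) : g = 1 := by
  let x : Fin 4 ↪ α := ⟨![a, b, c, d], by
    intro i j
    fin_cases i <;> fin_cases j <;>
      simp [hab, hac, had, hbc, hbd, hcd, hab.symm, hac.symm, had.symm, hbc.symm, hbd.symm,
        hcd.symm]⟩
  have h : g ∈ stabilizer G x := Function.Embedding.ext fun i => by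
    fin_cases i <;> assumption
  rw [hsharp x, Subgroup.mem_bot] at h
  exact h

/-- The centraliser of an involution is regular on pairs of moved points from different
2-cycles. -/
theorem card_centralizer_involution (h4 : IsMultiplyPretransitive G α 4)
    (hsharp : ∀ x : Fin 4 ↪ α, stabilizer G x = ⊥) {t : G} (ht : ∀ u : α, t • t • u = u)
    (hm : 4 ≤ Nat.card {u : α // t • u ≠ u}) :
    Nat.card (Subgroup.centralizer {t}) =
      Nat.card {u : α // t • u ≠ u} * (Nat.card {u : α // t • u ≠ u} - 2) := by
  classical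
  have := Fintype.ofFinite α
  let M := Finset.univ.filter fun u : α => t • u ≠ u
  have hM : Nat.card {u : α // t • u ≠ u} = M.card := by
    rw [Nat.card_eq_fintype_card, Fintype.card_subtype]
  have hMt : ∀ u ∈ M, t • u ∈ M := by
    intro u hu
    simp only [M, Finset.mem_filter, Finset.mem_univ, true_and] at hu ⊢
    exact fun h => hu (smul_left_cancel t h)
  let T := M.biUnion fun a => ((M.erase a).erase (t • a)).image fun c => (a, c)
  have hT : T.card = M.card * (M.card - 2) := by
    rw [Finset.card_biUnion, Finset.sum_const_nat (m := M.card - 2)]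
    · intro a ha
      have hta : t • a ≠ a := (Finset.mem_filter.1 ha).2
      rw [Finset.card_image_of_injective _ (fun u v h => congrArg Prod.snd h),
        Finset.card_erase_of_mem (Finset.mem_erase.2 ⟨hta, hMt a ha⟩),
        Finset.card_erase_of_mem ha]
      omega
    · intro a _ b _ hab
      rw [Function.onFun, Finset.disjoint_left]
      intro q hq hq'
      simp only [Finset.mem_image] at hq hq'
      obtain ⟨u, -, rfl⟩ := hq
      obtain ⟨v, -, hv⟩ := hq'
      exact hab (congrArg Prod.fst hv).symm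
  have hmemT : ∀ a c, (a, c) ∈ T ↔ t • a ≠ a ∧ t • c ≠ c ∧ c ≠ a ∧ c ≠ t • a := by
    intro a c
    simp only [T, M, Finset.mem_biUnion, Finset.mem_image, Finset.mem_erase, Finset.mem_filter,
      Finset.mem_univ, true_and, Prod.mk.injEq]
    constructor
    · rintro ⟨a', ha, c', ⟨h1, h2, h3⟩, rfl, rfl⟩
      exact ⟨ha, h3, h2, h1⟩
    · rintro ⟨h1, h2, h3, h4⟩
      exact ⟨a, h1, c, ⟨h4, h3, h2⟩, rfl, rfl⟩
  have hd : ∀ a c, (a, c) ∈ T →
      a ≠ t • a ∧ a ≠ c ∧ a ≠ t • c ∧ t • a ≠ c ∧ t • a ≠ t • c ∧ c ≠ t • c := by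
    intro a c h
    obtain ⟨ha, hc, hca, hct⟩ := (hmemT a c).1 h
    exact ⟨ha.symm, hca.symm, fun e => hct (by rw [e, ht]), hct.symm,
      fun e => hca (smul_left_cancel t e).symm, hc.symm⟩
  obtain ⟨a, c, hac⟩ : ∃ a c, (a, c) ∈ T := by
    rw [hM] at hm
    obtain ⟨⟨a, c⟩, h⟩ := Finset.card_pos.1 (show 0 < T.card by
      rw [hT]; exact Nat.mul_pos (by omega) (by omega))
    exact ⟨a, c, h⟩
  set C := Subgroup.centralizer {t}
  have hcm : ∀ g : C, ∀ u : α, (g : G) • t • u = t • (g : G) • u := fun g u => by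
    rw [smul_smul, smul_smul, Subgroup.mem_centralizer_singleton_iff.1 g.2]
  have hmap : ∀ g : C, ((g : G) • a, (g : G) • c) ∈ T := by
    intro g
    obtain ⟨ha, hc, hca, hct⟩ := (hmemT a c).1 hac
    rw [hmemT]
    refine ⟨fun e => ha (smul_left_cancel (g : G) ((hcm g a).trans e)),
      fun e => hc (smul_left_cancel (g : G) ((hcm g c).trans e)),
      fun e => hca (smul_left_cancel (g : G) e),
      fun e => hct (smul_left_cancel (g : G) (e.trans (hcm g a).symm))⟩
  rw [hM, ← hT, ← Nat.card_eq_finsetCard]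
  refine Nat.card_eq_of_bijective (fun g : C => (⟨_, hmap g⟩ : T)) ⟨fun g h he => ?_, ?_⟩
  · simp only [Subtype.mk.injEq, Prod.mk.injEq] at he
    obtain ⟨h1, h2, h3, h4', h5, h6⟩ := hd a c hac
    have hk : ∀ u : α, (g : G) • u = (h : G) • u → ((h : G)⁻¹ * g) • u = u := fun u hu => by
      rw [mul_smul, inv_smul_eq_iff]; exact hu
    have := eq_one_of_fixes_four hsharp h1 h2 h3 h4' h5 h6 (hk a he.1)
      (hk _ (by rw [hcm, hcm, he.1])) (hk c he.2) (hk _ (by rw [hcm, hcm, he.2]))
    exact Subtype.ext (inv_mul_eq_one.1 this).symm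
  · rintro ⟨⟨a', c'⟩, hac'⟩
    obtain ⟨h1, h2, h3, h4', h5, h6⟩ := hd a c hac
    obtain ⟨k1, k2, k3, k4, k5, k6⟩ := hd a' c' hac'
    obtain ⟨g, g1, g2, g3, g4⟩ := exists_smul_eq_four h4 h1 h2 h3 h4' h5 h6 k1 k2 k3 k4 k5 k6
    have hgC : g ∈ C := by
      rw [Subgroup.mem_centralizer_singleton_iff]
      have hw : t⁻¹ * (g * t * g⁻¹) = 1 := by
        refine eq_one_of_fixes_four hsharp k1 k2 k3 k4 k5 k6 ?_ ?_ ?_ ?_ <;>
          rw [mul_smul, mul_smul, mul_smul, inv_smul_eq_iff]
        · rw [show g⁻¹ • a' = a from inv_smul_eq_iff.2 g1.symm]; exact g2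
        · rw [show g⁻¹ • t • a' = t • a from inv_smul_eq_iff.2 g2.symm, ht, ht]; exact g1
        · rw [show g⁻¹ • c' = c from inv_smul_eq_iff.2 g3.symm]; exact g4
        · rw [show g⁻¹ • t • c' = t • c from inv_smul_eq_iff.2 g4.symm, ht, ht]; exact g3
      exact mul_inv_eq_iff_eq_mul.1 (inv_mul_eq_one.1 hw).symm
    exact ⟨⟨g, hgC⟩, Subtype.ext (Prod.ext g1 g3)⟩

/-- Jordan: a sharply 4-transitive group has degree at most 6 or equal to 11. -/
theorem card_of_sharply_four (hn : 4 ≤ Nat.card α) (h4 : IsMultiplyPretransitive G α 4)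
    (hsharp : ∀ x : Fin 4 ↪ α, stabilizer G x = ⊥) :
    Nat.card α = 4 ∨ Nat.card α = 5 ∨ Nat.card α = 6 ∨ Nat.card α = 11 := by
  classical
  by_contra hcon
  simp only [not_or] at hcon
  set n := Nat.card α with hndef
  have hn7 : 7 ≤ n := by omega
  have := Fintype.ofFinite α
  haveI := h4
  obtain ⟨x₄⟩ : Nonempty (Fin 4 ↪ α) := Function.Embedding.nonempty_of_card_le (by
    rw [Fintype.card_fin, ← Nat.card_eq_fintype_card]; omega)
  have hG : Nat.card G = n.descFactorial 4 := card_eq_of_sharply (hsharp x₄)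
  haveI : Finite G := Nat.finite_of_card_ne_zero (by
    rw [hG]; exact (Nat.descFactorial_pos.2 hn).ne')
  haveI : FaithfulSMul G α := ⟨fun {g h} e => (inv_mul_eq_one.1 (eq_one_of_fixes_four hsharp
    (x₄.injective.ne (show (0 : Fin 4) ≠ 1 by decide)) (x₄.injective.ne (show (0 : Fin 4) ≠ 2 by decide))
    (x₄.injective.ne (show (0 : Fin 4) ≠ 3 by decide)) (x₄.injective.ne (show (1 : Fin 4) ≠ 2 by decide))
    (x₄.injective.ne (show (1 : Fin 4) ≠ 3 by decide)) (x₄.injective.ne (show (2 : Fin 4) ≠ 3 by decide))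
    (by rw [mul_smul, inv_smul_eq_iff, e]) (by rw [mul_smul, inv_smul_eq_iff, e])
    (by rw [mul_smul, inv_smul_eq_iff, e]) (by rw [mul_smul, inv_smul_eq_iff, e])) : h = g).symm⟩
  -- stabilisers of two and of three points
  have hstab : ∀ t, t ≤ 4 → ∀ y : Fin t ↪ α,
      n.descFactorial t * Nat.card (stabilizer G y) = n.descFactorial 4 := by
    intro t ht y
    have ht' : IsMultiplyPretransitive G α t := isMultiplyPretransitive_of_le (n := 4) ht hn
    rw [← hG, ← Nat.card_congr (orbitProdStabilizerEquivGroup G y), Nat.card_prod,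
      hndef, ← card_embedding]
    congr 1
    exact (Nat.card_congr (Equiv.subtypeUnivEquiv fun z => ht'.exists_smul_eq y z)).symm
  have hinv : ∀ t : G, orderOf t = 2 → ∀ u : α, t • t • u = u := fun t ht u => by
    rw [smul_smul, ← pow_two, ← ht, pow_orderOf_eq_one, one_smul]
  have hfix : ∀ t : G, orderOf t = 2 → Nat.card {u : α // t • u = u} ≤ 3 := by
    intro t ht
    by_contra h
    rw [Nat.card_eq_fintype_card, Fintype.card_subtype, not_le] at h
    obtain ⟨S, hS, hSc⟩ := Finset.exists_subset_card_eq (n := 4) (s := Finset.univ.filter fun u : α => t • u = u) (by omega)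
    let e := (S.equivFinOfCardEq hSc).symm
    have hf : ∀ i, t • (e i : α) = e i := fun i => (Finset.mem_filter.1 (hS (e i).2)).2
    have hne : ∀ i j : Fin 4, i ≠ j → (e i : α) ≠ e j := fun i j hij h =>
      hij (e.injective (Subtype.ext h))
    have := eq_one_of_fixes_four hsharp (hne 0 1 (by decide)) (hne 0 2 (by decide))
      (hne 0 3 (by decide)) (hne 1 2 (by decide)) (hne 1 3 (by decide)) (hne 2 3 (by decide))
      (hf 0) (hf 1) (hf 2) (hf 3)
    rw [this, orderOf_one] at ht
    exact absurd ht (by norm_num)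
  have hsplit : ∀ t : G,
      Nat.card {u : α // t • u ≠ u} + Nat.card {u : α // t • u = u} = n := fun t => by
    rw [hndef, ← Nat.card_sum, Nat.card_congr ((Equiv.sumComm _ _).trans
      (Equiv.sumCompl fun u : α => t • u = u))]
  -- an involution with at least two fixed points
  haveI : Fact (Nat.Prime 2) := ⟨Nat.prime_two⟩
  let x₂ : Fin 2 ↪ α := (Fin.castLEEmb (by norm_num : 2 ≤ 4)).trans x₄
  have hx₂ := hstab 2 (by norm_num) x₂
  obtain ⟨n', hn'⟩ : ∃ n', n = n' + 4 := ⟨n - 4, by omega⟩
  have hS2 : Nat.card (stabilizer G x₂) = (n' + 2) * (n' + 1) := by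
    rw [hn'] at hx₂
    simp only [Nat.descFactorial_succ, Nat.descFactorial_zero, mul_one, Nat.sub_zero,
      show n' + 4 - 1 = n' + 3 by omega, show n' + 4 - 2 = n' + 2 by omega,
      show n' + 4 - 3 = n' + 1 by omega] at hx₂
    refine Nat.eq_of_mul_eq_mul_left (show 0 < (n' + 3) * (n' + 4) by positivity) ?_
    rw [hx₂]
    ring
  obtain ⟨⟨t, ht2⟩, ht⟩ := exists_prime_orderOf_dvd_card' (G := stabilizer G x₂) 2 (by
    rw [hS2]
    rcases Nat.even_or_odd n' with ⟨k, hk⟩ | ⟨k, hk⟩
    · exact dvd_mul_of_dvd_left ⟨k + 1, by omega⟩ _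
    · exact dvd_mul_of_dvd_right ⟨k + 1, by omega⟩ _)
  rw [Subgroup.orderOf_mk] at ht
  have hf2 : 2 ≤ Nat.card {u : α // t • u = u} := by
    rw [← Nat.card_fin 2]
    exact Nat.card_le_card_of_injective
      (fun i => ⟨x₂ i, congrArg (fun e : Fin 2 ↪ α => e i) (mem_stabilizer_iff.1 ht2)⟩)
      fun i j h => x₂.injective (congrArg Subtype.val h)
  have hf3 := hfix t ht
  set f := Nat.card {u : α // t • u = u} with hfdef
  set m := Nat.card {u : α // t • u ≠ u} with hmdef
  have hmn : m + f = n := hsplit t
  have hC := card_centralizer_involution h4 hsharp (hinv t ht) (by omega)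
  rw [← hmdef] at hC
  -- the moved points come in pairs
  have hm2 : 2 ∣ m := by
    have h2 : (toPermHom G α t) ^ 2 = 1 := by
      rw [← map_pow, ← ht, pow_orderOf_eq_one, map_one]
    have h3 := Equiv.Perm.card_compl_support_modEq (p := 2) (n := 1) (σ := toPermHom G α t)
      (by rwa [pow_one])
    have h4 : (toPermHom G α t).support.card = m := by
      rw [hmdef, Nat.card_eq_fintype_card, Fintype.card_subtype]
      congr 1
    rw [Finset.card_compl, h4, ← Nat.card_eq_fintype_card, ← hndef] at h3
    have := (Nat.modEq_iff_dvd' (by omega)).1 h3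
    omega
  -- the centraliser acting on the fixed points
  set C := Subgroup.centralizer {t}
  let O : SubMulAction C α := ⟨{u | t • u = u}, fun g u (hu : t • u = u) => by
    change t • (g : G) • u = (g : G) • u
    rw [smul_smul, ← Subgroup.mem_centralizer_singleton_iff.1 g.2, mul_smul, hu]⟩
  let φ := toPermHom C O
  have hOc : Nat.card O = f := rfl
  have h1 : Nat.card φ.range ∣ f.factorial := by
    refine (Subgroup.card_subgroup_dvd_card _).trans ?_
    rw [Nat.card_perm, hOc]
  have h3 := φ.ker.index_mul_card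
  rw [Subgroup.index_ker, hC] at h3
  have hker : ∀ g : φ.ker, ∀ u : α, t • u = u → ((g : C) : G) • u = u := fun g u hu =>
    congrArg Subtype.val (Equiv.ext_iff.1 (MonoidHom.mem_ker.1 g.2) ⟨u, hu⟩)
  interval_cases hff : f
  · -- two fixed points: the kernel is semiregular on the moved points
    have hK : Nat.card φ.ker ≤ m := by
      obtain ⟨⟨c, hc⟩⟩ : Nonempty {u : α // t • u ≠ u} := (Nat.card_pos_iff.1 (by omega)).1
      refine Nat.card_le_card_of_injective
        (fun g : φ.ker => (⟨((g : C) : G) • c, ?_⟩ : {u : α // t • u ≠ u})) ?_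
      · rw [smul_smul, ← Subgroup.mem_centralizer_singleton_iff.1 (g : C).2, mul_smul]
        exact fun h => hc (smul_left_cancel _ h)
      · intro g h hgh
        have hgh' : ((g : C) : G) • c = ((h : C) : G) • c := congrArg Subtype.val hgh
        obtain ⟨a, b, hab, hS⟩ := Finset.card_eq_two.1
          (show (Finset.univ.filter fun u : α => t • u = u).card = 2 by
            rw [← Fintype.card_subtype, ← Nat.card_eq_fintype_card, ← hfdef])
        have ha : t • a = a := (Finset.mem_filter.1 (hS.ge (Finset.mem_insert_self a _))).2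
        have hb : t • b = b := (Finset.mem_filter.1 (hS.ge (Finset.mem_insert_of_mem (Finset.mem_singleton_self b)))).2
        have hcm : ∀ g : C, ∀ u : α, (g : G) • t • u = t • (g : G) • u := fun g u => by
          rw [smul_smul, smul_smul, Subgroup.mem_centralizer_singleton_iff.1 g.2]
        have := eq_one_of_fixes_four (g := ((h : C) : G)⁻¹ * ((g : C) : G)) hsharp (c := c)
          (d := t • c) hab (fun e => hc (e ▸ ha))
          (fun e => hc (by rw [e, hinv t ht] at ha; exact ha.symm)) (fun e => hc (e ▸ hb))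
          (fun e => hc (by rw [e, hinv t ht] at hb; exact hb.symm)) (Ne.symm hc)
          (by rw [mul_smul, inv_smul_eq_iff, hker g a ha, hker h a ha])
          (by rw [mul_smul, inv_smul_eq_iff, hker g b hb, hker h b hb])
          (by rw [mul_smul, inv_smul_eq_iff, hgh'])
          (by rw [mul_smul, inv_smul_eq_iff, hcm, hcm, hgh'])
        exact Subtype.ext (Subtype.ext (inv_mul_eq_one.1 this).symm)
    have h4' := Nat.le_of_dvd (Nat.factorial_pos _) h1
    rw [Nat.factorial_two] at h4'
    have : m * (m - 2) ≤ 2 * m := by rw [← h3]; exact Nat.mul_le_mul h4' hK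
    have : m - 2 ≤ 2 := Nat.le_of_mul_le_mul_left (by rw [mul_comm m 2]; exact this) (by omega : 0 < m)
    omega
  · -- three fixed points
    have hK : Nat.card φ.ker ∣ m := by
      obtain ⟨e⟩ : Nonempty (Fin 3 ≃ O) := ⟨(Finite.equivFinOfCardEq hOc).symm⟩
      let x₃ : Fin 3 ↪ α := e.toEmbedding.trans (Function.Embedding.subtype _)
      have h5 := hstab 3 (by norm_num) x₃
      rw [Nat.descFactorial_succ n 3, mul_comm (n - 3)] at h5
      have h6 : Nat.card (stabilizer G x₃) = n - 3 :=
        Nat.eq_of_mul_eq_mul_left (Nat.descFactorial_pos.2 (by omega)) h5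
      rw [show m = n - 3 by omega, ← h6, ← Subgroup.card_map_of_injective (f := C.subtype)
        C.subtype_injective]
      refine Subgroup.card_dvd_of_le ?_
      rintro _ ⟨g, hg, rfl⟩
      exact Function.Embedding.ext fun i => hker ⟨g, hg⟩ _ (e i).2
    have h7 : m * (m - 2) ∣ m * 6 := by
      rw [← h3, mul_comm m 6]
      exact Nat.mul_dvd_mul h1 hK
    have h8 : m - 2 ∣ 6 := Nat.dvd_of_mul_dvd_mul_left (by omega) h7
    have h9 := Nat.le_of_dvd (by norm_num) h8
    have h10 : m = 4 := by
      rcases (show m = 4 ∨ m = 6 ∨ m = 8 by omega) with h | h | h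
      · exact h
      · rw [h] at h8; norm_num at h8
      · omega
    -- degree 7
    have hn7' : n = 7 := by omega
    haveI : Nontrivial α := Finite.one_lt_card_iff_nontrivial.1 (by omega)
    set R := (toPermHom G α).range
    have hR : Nat.card R = 840 := by
      rw [← Nat.card_congr (MonoidHom.ofInjective (toPerm_injective : Function.Injective (toPermHom G α))).toEquiv,
        hG, hn7']
      rfl
    have hidx : R.index = 6 := by
      have := R.index_mul_card
      rw [hR, Nat.card_perm, ← hndef, hn7'] at this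
      rw [show (7 : ℕ).factorial = 5040 from rfl] at this
      omega
    have hcore : R.normalCore.index ∣ (6 : ℕ).factorial := by
      rw [Subgroup.normalCore_eq_ker, Subgroup.index_ker]
      refine (Subgroup.card_subgroup_dvd_card _).trans ?_
      rw [Nat.card_perm, ← Subgroup.index, hidx]
    have hne : R.normalCore ≠ ⊥ := by
      intro h
      rw [h, Subgroup.index_bot, Nat.card_perm, ← hndef, hn7'] at hcore
      norm_num [Nat.factorial] at hcore
    have hA : alternatingGroup α ≤ R :=
      (Equiv.Perm.alternatingGroup_le_of_normal (by omega)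
        ((Subgroup.nontrivial_iff_ne_bot _).2 hne)).trans (Subgroup.normalCore_le _)
    have h11 := Subgroup.card_dvd_of_le hA
    have h12 := two_mul_card_alternatingGroup (α := α)
    rw [Fintype.card_perm, ← Nat.card_eq_fintype_card, ← Nat.card_eq_fintype_card, ← hndef, hn7',
      show (7 : ℕ).factorial = 5040 from rfl] at h12
    rw [hR, show Nat.card (alternatingGroup α) = 2520 by omega] at h11
    norm_num at h11

end Four

section Higher

/-- Transfer of sharp transitivity to a point stabiliser. -/
theorem sharply_stabilizer {G : Type u} {α : Type v} [Group G] [MulAction G α] {k : ℕ}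
    (hk : IsMultiplyPretransitive G α (k + 1)) [Finite α] (hn : k + 1 ≤ Nat.card α)
    (hsharp : ∀ x : Fin (k + 1) ↪ α, stabilizer G x = ⊥) (a : α) :
    IsMultiplyPretransitive (stabilizer G a) (SubMulAction.ofStabilizer G a) k ∧
      ∀ x : Fin k ↪ SubMulAction.ofStabilizer G a, stabilizer (stabilizer G a) x = ⊥ := by
  haveI := hk
  haveI : IsPretransitive G α := by
    rw [← is_one_pretransitive_iff]
    exact isMultiplyPretransitive_of_le (n := k + 1) (by omega) hn
  refine ⟨SubMulAction.ofStabilizer.isMultiplyPretransitive.1 hk, fun x => ?_⟩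
  refine (Subgroup.eq_bot_iff_forall _).2 fun g hg => Subtype.ext ?_
  let y : Fin (k + 1) ↪ α := ⟨Fin.snoc (fun i => (x i : α)) a, by
    rw [Fin.snoc_injective_iff]
    refine ⟨Subtype.coe_injective.comp x.injective, ?_⟩
    rintro ⟨i, hi⟩
    exact (x i).2 hi⟩
  have h : (g : G) ∈ stabilizer G y := by
    refine Function.Embedding.ext fun i => ?_
    change (g : G) • (Fin.snoc (fun i => (x i : α)) a : Fin (k + 1) → α) i = _
    induction i using Fin.lastCases with
    | last => simp [y]; exact g.2
    | cast i =>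
      simp [y]
      exact congrArg Subtype.val
        (congrArg (fun e : Fin k ↪ SubMulAction.ofStabilizer G a => e i) (mem_stabilizer_iff.1 hg))
  rw [hsharp y, Subgroup.mem_bot] at h
  exact h

/-- A sharply 5-transitive group has degree 5, 6, 7 or 12. -/
theorem card_of_sharply_five {G : Type u} {α : Type v} [Group G] [MulAction G α] [Finite α]
    (hn : 5 ≤ Nat.card α) (h5 : IsMultiplyPretransitive G α 5)
    (hsharp : ∀ x : Fin 5 ↪ α, stabilizer G x = ⊥) :
    Nat.card α = 5 ∨ Nat.card α = 6 ∨ Nat.card α = 7 ∨ Nat.card α = 12 := by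
  obtain ⟨a⟩ : Nonempty α := (Nat.card_pos_iff.1 (by omega)).1
  obtain ⟨h4, hs⟩ := sharply_stabilizer h5 hn hsharp a
  have hc := SubMulAction.nat_card_ofStabilizer_add_one_eq (G := G) a
  have := card_of_sharply_four (by omega) h4 hs
  omega

/-- For `k ≥ 6` a sharply `k`-transitive group has degree at most `k + 2`. -/
theorem card_of_sharply_ge_six (k : ℕ) (hk : 6 ≤ k) : ∀ {G : Type u} {α : Type v} [Group G]
    [MulAction G α] [Finite α], k ≤ Nat.card α → IsMultiplyPretransitive G α k →
    (∀ x : Fin k ↪ α, stabilizer G x = ⊥) →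
    Nat.card α = k ∨ Nat.card α = k + 1 ∨ Nat.card α = k + 2 := by
  induction k, hk using Nat.le_induction with
  | base =>
    intro G α _ _ _ hn h6 hsharp
    obtain ⟨a⟩ : Nonempty α := (Nat.card_pos_iff.1 (by omega)).1
    obtain ⟨h5, hs⟩ := sharply_stabilizer h6 hn hsharp a
    have hc := SubMulAction.nat_card_ofStabilizer_add_one_eq (G := G) a
    rcases card_of_sharply_five (by omega) h5 hs with h | h | h | h
    · omega
    · omega
    · omega
    exfalso
    -- degree 13: count Sylow 13-subgroups
    classical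
    have := Fintype.ofFinite α
    have hn13 : Nat.card α = 13 := by omega
    obtain ⟨x⟩ : Nonempty (Fin 6 ↪ α) := Function.Embedding.nonempty_of_card_le (by
      rw [Fintype.card_fin, ← Nat.card_eq_fintype_card]; omega)
    haveI := h6
    have hG : Nat.card G = 1235520 := by
      rw [card_eq_of_sharply (hsharp x), hn13]
      rfl
    haveI : Finite G := Nat.finite_of_card_ne_zero (by rw [hG]; norm_num)
    haveI : FaithfulSMul G α := ⟨fun {g h'} e => by
      have : h'⁻¹ * g ∈ stabilizer G x := Function.Embedding.ext fun i => by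
        change (h'⁻¹ * g) • x i = x i
        rw [mul_smul, inv_smul_eq_iff, e]
      rw [hsharp x, Subgroup.mem_bot, inv_mul_eq_one] at this
      exact this.symm⟩
    haveI : Fact (Nat.Prime 13) := ⟨by norm_num⟩
    obtain ⟨P⟩ : Nonempty (Sylow 13 G) := inferInstance
    have hP : Nat.card (P : Subgroup G) = 13 := by
      have hf : (Nat.card G).factorization 13 = 1 := by
        rw [hG, show (1235520 : ℕ) = 13 * 95040 from rfl,
          Nat.factorization_mul (by norm_num) (by norm_num), Finsupp.add_apply,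
          (by norm_num : Nat.Prime 13).factorization_self,
          Nat.factorization_eq_zero_of_not_dvd (by norm_num)]
      rw [P.card_eq_multiplicity, hf, pow_one]
    obtain ⟨d, hd, hNd⟩ := card_normalizer_of_prime_degree (α := α) (p := 13) hn13 _ hP
    have hcount := prime_div_sylow_count P
    rw [hNd, hG] at hcount
    have hd12 : d ≤ 12 := Nat.le_of_dvd (by norm_num) hd
    unfold Nat.ModEq at hcount
    interval_cases d <;> simp_all
  | succ k hk ih =>
    intro G α _ _ _ hn hk' hsharp
    obtain ⟨a⟩ : Nonempty α := (Nat.card_pos_iff.1 (by omega)).1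
    obtain ⟨h, hs⟩ := sharply_stabilizer hk' hn hsharp a
    have hc := SubMulAction.nat_card_ofStabilizer_add_one_eq (G := G) a
    have := ih (G := stabilizer G a) (α := SubMulAction.ofStabilizer G a) (by omega) h hs
    omega

end Higher

end Cfsg.Agent.Perm
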