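import Cfsg.Agent.Lib.Perm.OddThree
import Cfsg.Agent.Lib.Perm.Homogeneous
import Cfsg.Agent.Lib.Perm.SharplyFour
import Cfsg.Agent.Lib.Perm.Zassenhaus
import Cfsg.Agent.Lib.Perm.MillerBound
import Cfsg.Agent.S0743

/-!
# A `k`-transitive group induces the alternating group on some `(k+1)`-set

The proof is by induction on the degree: a `p`-subgroup of maximal order fixing more than `k`
points reduces the degree, and otherwise the `k`-point stabilisers are semiregular.
-/

set_option autoImplicit false

namespace Cfsg.Agent.Perm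

open MulAction Finset

section Swaps

variable {G α : Type*} [Group G] [MulAction G α] [DecidableEq α]

/-- Every transposition of `Δ` is induced by an element fixing the rest of `Δ`. -/
def SwapsOn (G : Type*) {α : Type*} [Group G] [MulAction G α] (Δ : Finset α) : Prop :=
  ∀ a ∈ Δ, ∀ b ∈ Δ, a ≠ b →
    ∃ g : G, g • a = b ∧ g • b = a ∧ ∀ x ∈ Δ, x ≠ a → x ≠ b → g • x = x

/-- Then every permutation of `Δ` is induced. -/
theorem SwapsOn.exists_realise {Δ : Finset α} (h : SwapsOn G Δ) (σ : Equiv.Perm ↥Δ) :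
    ∃ g : G, ∀ x : ↥Δ, g • (x : α) = σ x := by
  induction σ using Equiv.Perm.swap_induction_on with
  | one => exact ⟨1, fun x => by simp⟩
  | swap_mul σ a b hab ih =>
    obtain ⟨u, hu⟩ := ih
    obtain ⟨w, wa, wb, wx⟩ := h a a.2 b b.2 (fun e => hab (Subtype.ext e))
    refine ⟨w * u, fun x => ?_⟩
    rw [mul_smul, hu, Equiv.Perm.mul_apply]
    by_cases h1 : σ x = a
    · rw [h1, Equiv.swap_apply_left]; exact wa
    by_cases h2 : σ x = b
    · rw [h2, Equiv.swap_apply_right]; exact wb
    rw [Equiv.swap_apply_of_ne_of_ne h1 h2]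
    exact wx _ (σ x).2 (fun e => h1 (Subtype.ext e)) (fun e => h2 (Subtype.ext e))

variable [Fintype α] [Finite G]

/-- If the stabilisers of `k`-sets are semiregular of even order then any two points are exchanged
by an element fixing any `k - 1` further ones. -/
theorem exists_swap_of_even {k : ℕ}
    (hfix : ∀ (g : G) (s : Finset α), k + 1 ≤ s.card → (∀ x ∈ s, g • x = x) → g = 1)
    (heven : ∀ s : Finset α, s.card = k → 2 ∣ Nat.card (fixingSubgroup G (s : Set α)))
    {Θ : Finset α} (hΘ : Θ.card + 1 = k) {a b : α} (ha : a ∉ Θ) (hb : b ∉ Θ) (hab : a ≠ b) :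
    ∃ g : G, g • a = b ∧ g • b = a ∧ ∀ x ∈ Θ, g • x = x := by
  have : Fact (Nat.Prime 2) := ⟨Nat.prime_two⟩
  have key : ∀ u, u ∉ Θ → ∃ z : G, z * z = 1 ∧
      (univ.filter fun v : α => z • v = v) = insert u Θ := by
    intro u hu
    obtain ⟨⟨z, hz⟩, hzo⟩ := exists_prime_orderOf_dvd_card'
      (G := fixingSubgroup G ((insert u Θ : Finset α) : Set α)) 2
      (heven _ (by rw [card_insert_of_notMem hu]; omega))
    rw [Subgroup.orderOf_mk] at hzo
    refine ⟨z, by rw [← pow_two, ← hzo, pow_orderOf_eq_one], (eq_of_subset_of_card_le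
      (fun v hv => mem_filter.2 ⟨mem_univ _, (mem_fixingSubgroup_iff G).1 hz v
        (mem_coe.2 hv)⟩) ?_).symm⟩
    by_contra hc
    rw [card_insert_of_notMem hu, not_le] at hc
    rw [hfix z (univ.filter fun v : α => z • v = v) (by omega) (fun v hv => (mem_filter.1 hv).2),
      orderOf_one] at hzo
    omega
  choose! z hz hzfix using key
  have hmem : ∀ u, u ∉ Θ → ∀ v, z u • v = v ↔ v = u ∨ v ∈ Θ := by
    intro u hu v
    simpa using Finset.ext_iff.1 (hzfix u hu) v
  have hinvo : ∀ u, u ∉ Θ → ∀ v : α, z u • z u • v = v := fun u hu v => by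
    rw [← mul_smul, hz u hu, one_smul]
  let R := univ \ Θ
  have hR : ∀ v, v ∈ R ↔ v ∉ Θ := fun v => by simp [R]
  have hout : ∀ u v, u ∉ Θ → v ∉ Θ → z u • v ∉ Θ := by
    intro u v hu hv h
    have h' : z u • z u • v = z u • v := (hmem u hu _).2 (Or.inr h)
    rw [hinvo u hu] at h'
    exact hv (h'.symm ▸ h)
  have hmaps : ∀ p ∈ R.offDiag, (p.2, z p.1 • p.2) ∈ R.offDiag := by
    rintro ⟨u, v⟩ hp
    rw [mem_offDiag, hR, hR] at hp
    obtain ⟨hu, hv, huv⟩ := hp
    rw [mem_offDiag, hR, hR]
    refine ⟨hv, hout u v hu hv, fun e => ?_⟩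
    rcases (hmem u hu v).1 e.symm with e' | e'
    · exact huv e'.symm
    · exact hv e'
  have hinj : Set.InjOn (fun p : α × α => (p.2, z p.1 • p.2)) R.offDiag := by
    rintro ⟨u, v⟩ hp ⟨u', v'⟩ hp' e
    simp only [Prod.mk.injEq] at e
    obtain ⟨rfl, e⟩ := e
    simp only [mem_coe, mem_offDiag, hR] at hp hp'
    obtain ⟨hu, hv, huv⟩ := hp
    obtain ⟨hu', -, -⟩ := hp'
    have hne : v ≠ z u • v := fun e' => by
      rcases (hmem u hu v).1 e'.symm with e'' | e''
      · exact huv e''.symm
      · exact hv e''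
    have hw : (z u')⁻¹ * z u = 1 := by
      refine hfix _ (Θ ∪ {v, z u • v}) ?_ fun t ht => ?_
      · rw [card_union_of_disjoint, card_pair hne]
        · omega
        · simp [hv, hout u v hu hv]
      · simp only [mem_union, mem_insert, mem_singleton] at ht
        rw [mul_smul, inv_smul_eq_iff]
        rcases ht with h | rfl | rfl
        · rw [(hmem u hu t).2 (Or.inr h), (hmem u' hu' t).2 (Or.inr h)]
        · exact e
        · rw [hinvo u hu, e, hinvo u' hu']
    have hzz : z u' = z u := inv_mul_eq_one.1 hw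
    have : z u' • u = u := by rw [hzz]; exact (hmem u hu u).2 (Or.inl rfl)
    rcases (hmem u' hu' u).1 this with e' | e'
    · rw [e']
    · exact absurd e' hu
  have himg : R.offDiag.image (fun p : α × α => (p.2, z p.1 • p.2)) = R.offDiag :=
    eq_of_subset_of_card_le (image_subset_iff.2 hmaps) (by rw [card_image_of_injOn hinj])
  have : (a, b) ∈ R.offDiag := by
    rw [mem_offDiag, hR, hR]; exact ⟨ha, hb, hab⟩
  rw [← himg] at this
  obtain ⟨⟨u, v⟩, hp, he⟩ := mem_image.1 this
  simp only [Prod.mk.injEq] at he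
  obtain ⟨rfl, he⟩ := he
  rw [mem_offDiag, hR, hR] at hp
  exact ⟨z u, he, by rw [← he, hinvo u hp.1], fun x hx => (hmem u hp.1 _).2 (Or.inr hx)⟩

/-- The hypotheses for the sharply 4-transitive action of degree congruent to 1 mod 2 on the
complement of `Φ`. -/
structure SharpOdd (G : Type*) {α : Type*} [Group G] [MulAction G α] [Fintype α]
    (Φ : Finset α) : Prop where
  four : ∀ a b c d a' b' c' d' : α, a ∉ Φ → b ∉ Φ → c ∉ Φ → d ∉ Φ → a' ∉ Φ → b' ∉ Φ → c' ∉ Φ →
    d' ∉ Φ → [a, b, c, d].Nodup → [a', b', c', d'].Nodup →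
    ∃ g : G, g • a = a' ∧ g • b = b' ∧ g • c = c' ∧ g • d = d' ∧ ∀ x ∈ Φ, g • x = x
  sharp : ∀ (g : G) (a b c d : α), a ∉ Φ → b ∉ Φ → c ∉ Φ → d ∉ Φ → [a, b, c, d].Nodup →
    g • a = a → g • b = b → g • c = c → g • d = d → (∀ x ∈ Φ, g • x = x) → g = 1
  parity : Odd (Fintype.card α - Φ.card)

namespace SharpOdd

variable {Φ : Finset α} (S : SharpOdd G Φ)
include S

/-- An involution swapping `a, b` and fixing `c, d`. -/
theorem exists_swap {a b c d : α} (ha : a ∉ Φ) (hb : b ∉ Φ) (hc : c ∉ Φ) (hd : d ∉ Φ)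
    (hn : [a, b, c, d].Nodup) :
    ∃ z : G, z * z = 1 ∧ z • a = b ∧ z • b = a ∧ z • c = c ∧ z • d = d ∧ ∀ x ∈ Φ, z • x = x := by
  have hn' : [b, a, c, d].Nodup := by simp at hn ⊢; tauto
  obtain ⟨g, g1, g2, g3, g4, g5⟩ := S.four a b c d b a c d ha hb hc hd hb ha hc hd hn hn'
  refine ⟨g, S.sharp (g * g) a b c d ha hb hc hd hn ?_ ?_ ?_ ?_ ?_, g1, g2, g3, g4, g5⟩
  · rw [mul_smul, g1, g2]
  · rw [mul_smul, g2, g1]
  · rw [mul_smul, g3, g3]
  · rw [mul_smul, g4, g4]
  · intro x hx; rw [mul_smul, g5 x hx, g5 x hx]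

/-- An involution fixing two points off `Φ` fixes a third and no more. -/
theorem fixed_three {z : G} (hz : z * z = 1) {a b c : α} (ha : a ∉ Φ) (hb : b ∉ Φ)
    (hab : a ≠ b) (hza : z • a = a) (hzb : z • b = b) (hzΦ : ∀ x ∈ Φ, z • x = x)
    (hc : z • c ≠ c) :
    ∃ w, w ∉ Φ ∧ w ≠ a ∧ w ≠ b ∧ z • w = w ∧
      ∀ x, x ∉ Φ → z • x = x → x = a ∨ x = b ∨ x = w := by
  have hz1 : z ≠ 1 := fun e => hc (by rw [e, one_smul])
  obtain ⟨w, hwΦ, hwa, hwb, hzw⟩ : ∃ w, w ∉ Φ ∧ w ≠ a ∧ w ≠ b ∧ z • w = w := by
    by_contra hcon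
    push Not at hcon
    have hF : (univ.filter fun x : α => z • x = x) = Φ ∪ {a, b} := by
      ext x
      simp only [mem_filter, mem_univ, true_and, mem_union, mem_insert, mem_singleton]
      refine ⟨fun hx => ?_, ?_⟩
      · by_contra h
        simp only [not_or] at h
        exact hcon x h.1 h.2.1 h.2.2 hx
      · rintro (h | rfl | rfl)
        · exact hzΦ x h
        · exact hza
        · exact hzb
    have hp := Zass.card_fixed_parity (Ω := α) hz
    rw [hF, card_union_of_disjoint (by simp [ha, hb]), card_pair hab] at hp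
    have hpar := S.parity
    have := card_le_univ Φ
    rw [Nat.even_add, Nat.even_iff (n := Φ.card), Nat.even_iff (n := Fintype.card α)] at hp
    rw [Nat.odd_iff] at hpar
    simp at hp
    omega
  refine ⟨w, hwΦ, hwa, hwb, hzw, fun x hxΦ hx => ?_⟩
  by_contra h
  simp only [not_or] at h
  refine hz1 (S.sharp z a b w x ha hb hwΦ hxΦ ?_ hza hzb hzw hx hzΦ)
  simp only [List.nodup_cons, List.mem_cons, List.not_mem_nil, or_false, not_or,
    List.nodup_nil, and_true, not_false_eq_true]
  exact ⟨⟨hab, Ne.symm hwa, Ne.symm h.1⟩, ⟨Ne.symm hwb, Ne.symm h.2.1⟩, Ne.symm h.2.2⟩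

/-- If an involution swaps `a, b` and fixes `c, e, x` then some involution swaps `c, e` and fixes
`a, b, x`. -/
theorem partner {a b c e x : α} (ha : a ∉ Φ) (hb : b ∉ Φ) (hc : c ∉ Φ) (he : e ∉ Φ) (hx : x ∉ Φ)
    (hn : [a, b, c, e, x].Nodup) {z : G} (hz : z * z = 1) (hza : z • a = b) (hzb : z • b = a)
    (hzc : z • c = c) (hze : z • e = e) (hzx : z • x = x) (hzΦ : ∀ y ∈ Φ, z • y = y) :
    ∃ t : G, t * t = 1 ∧ t • c = e ∧ t • e = c ∧ t • a = a ∧ t • b = b ∧ t • x = x ∧
      ∀ y ∈ Φ, t • y = y := by
  simp only [List.nodup_cons, List.mem_cons, List.not_mem_nil, or_false, not_or,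
    List.nodup_nil, and_true, not_false_eq_true] at hn
  obtain ⟨⟨hab, hac, hae, hax⟩, ⟨hbc, hbe, hbx⟩, ⟨hce, hcx⟩, hex⟩ := hn
  have hnd : [c, e, a, b].Nodup := by
    simp [hab, Ne.symm hac, Ne.symm hae, Ne.symm hbc, Ne.symm hbe, hce]
  obtain ⟨t, ht, htc, hte, hta, htb, htΦ⟩ := S.exists_swap hc he ha hb hnd
  refine ⟨t, ht, htc, hte, hta, htb, ?_, htΦ⟩
  obtain ⟨w, hwΦ, hwa, hwb, htw, htonly⟩ := S.fixed_three ht ha hb hab hta htb htΦ
    (c := c) (by rw [htc]; exact Ne.symm hce)
  obtain ⟨w', hw'Φ, hw'c, hw'e, -, hzonly⟩ := S.fixed_three hz hc he hce hzc hze hzΦ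
    (c := a) (by rw [hza]; exact Ne.symm hab)
  have hzi : z⁻¹ = z := inv_eq_of_mul_eq_one_right hz
  have hti : t⁻¹ = t := inv_eq_of_mul_eq_one_right ht
  have hcomm : t⁻¹ * (z * t * z) = 1 := by
    refine S.sharp _ c e a b hc he ha hb hnd ?_ ?_ ?_ ?_ ?_
    all_goals try intro y hy
    all_goals rw [hti, mul_smul, mul_smul, mul_smul]
    · rw [hzc, htc, hze, hte]
    · rw [hze, hte, hzc, htc]
    · rw [hza, htb, hzb, hta]
    · rw [hzb, hta, hza, htb]
    · rw [hzΦ y hy, htΦ y hy, hzΦ y hy, htΦ y hy]
  have hzt : z * t * z = t := (inv_mul_eq_one.1 hcomm).symm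
  have hzw : t • z • w = z • w := by
    conv_lhs => rw [← hzt]
    rw [mul_smul, mul_smul, ← mul_smul z z, hz, one_smul, htw]
  have hzwΦ : z • w ∉ Φ := fun h => hwΦ (by
    have := hzΦ _ h
    rw [← mul_smul, hz, one_smul] at this
    exact this.symm ▸ h)
  have hfix : z • w = w := by
    rcases htonly _ hzwΦ hzw with h | h | h
    · exact absurd (by rw [← hza, ← h, ← mul_smul, hz, one_smul]) hwb
    · exact absurd (by rw [← hzb, ← h, ← mul_smul, hz, one_smul]) hwa
    · exact h
  rcases hzonly w hwΦ hfix with h | h | h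
  · exact absurd (by rw [← h, htw] at htc; exact h.symm.trans htc) hce
  · exact absurd (by rw [← h, htw] at hte; exact hte.symm.trans h) hce
  · rcases hzonly x hx hzx with h' | h' | h'
    · exact absurd h'.symm hcx
    · exact absurd h'.symm hex
    · rw [h', ← h, htw]

/-- All ten transpositions of the five points are induced. -/
theorem five_set {a b c e x : α} (ha : a ∉ Φ) (hb : b ∉ Φ) (hc : c ∉ Φ) (he : e ∉ Φ) (hx : x ∉ Φ)
    (hn : [a, b, c, e, x].Nodup) {z : G} (hz : z * z = 1) (hza : z • a = b) (hzb : z • b = a)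
    (hzc : z • c = c) (hze : z • e = e) (hzx : z • x = x) (hzΦ : ∀ y ∈ Φ, z • y = y) :
    ∀ p ∈ ({a, b, c, e, x} : Finset α), ∀ q ∈ ({a, b, c, e, x} : Finset α), p ≠ q →
      ∃ t : G, t • p = q ∧ t • q = p ∧
        ∀ y ∈ Φ ∪ {a, b, c, e, x}, y ≠ p → y ≠ q → t • y = y := by
  have hn0 := hn
  simp only [List.nodup_cons, List.mem_cons, List.not_mem_nil, or_false, not_or,
    List.nodup_nil, and_true, not_false_eq_true] at hn0
  obtain ⟨⟨hab, hac, hae, hax⟩, ⟨hbc, hbe, hbx⟩, ⟨hce, hcx⟩, hex⟩ := hn0
  obtain ⟨t1, u1, c1, e1, a1, b1, x1, P1⟩ :=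
    S.partner ha hb hc he hx hn hz hza hzb hzc hze hzx hzΦ
  obtain ⟨t2, u2, c2, x2, a2, b2, e2, P2⟩ := S.partner ha hb hc hx he
    (by simp [hab, hac, hae, hax, hbc, hbe, hbx, hce, hcx, hex, Ne.symm hab, Ne.symm hac, Ne.symm hae, Ne.symm hax, Ne.symm hbc, Ne.symm hbe, Ne.symm hbx, Ne.symm hce, Ne.symm hcx, Ne.symm hex]) hz hza hzb hzc hzx hze hzΦ
  obtain ⟨t3, u3, e3, x3, a3, b3, c3, P3⟩ := S.partner ha hb he hx hc
    (by simp [hab, hac, hae, hax, hbc, hbe, hbx, hce, hcx, hex, Ne.symm hab, Ne.symm hac, Ne.symm hae, Ne.symm hax, Ne.symm hbc, Ne.symm hbe, Ne.symm hbx, Ne.symm hce, Ne.symm hcx, Ne.symm hex]) hz hza hzb hze hzx hzc hzΦ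
  obtain ⟨t4, -, a4, x4, c4, e4, b4, P4⟩ := S.partner hc he ha hx hb
    (by simp [hab, hac, hae, hax, hbc, hbe, hbx, hce, hcx, hex, Ne.symm hab, Ne.symm hac, Ne.symm hae, Ne.symm hax, Ne.symm hbc, Ne.symm hbe, Ne.symm hbx, Ne.symm hce, Ne.symm hcx, Ne.symm hex]) u1 c1 e1 a1 x1 b1 P1
  obtain ⟨t5, -, b5, x5, c5, e5, a5, P5⟩ := S.partner hc he hb hx ha
    (by simp [hab, hac, hae, hax, hbc, hbe, hbx, hce, hcx, hex, Ne.symm hab, Ne.symm hac, Ne.symm hae, Ne.symm hax, Ne.symm hbc, Ne.symm hbe, Ne.symm hbx, Ne.symm hce, Ne.symm hcx, Ne.symm hex]) u1 c1 e1 b1 x1 a1 P1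
  obtain ⟨t6, -, a6, e6, c6, x6, b6, P6⟩ := S.partner hc hx ha he hb
    (by simp [hab, hac, hae, hax, hbc, hbe, hbx, hce, hcx, hex, Ne.symm hab, Ne.symm hac, Ne.symm hae, Ne.symm hax, Ne.symm hbc, Ne.symm hbe, Ne.symm hbx, Ne.symm hce, Ne.symm hcx, Ne.symm hex]) u2 c2 x2 a2 e2 b2 P2
  obtain ⟨t7, -, b7, e7, c7, x7, a7, P7⟩ := S.partner hc hx hb he ha
    (by simp [hab, hac, hae, hax, hbc, hbe, hbx, hce, hcx, hex, Ne.symm hab, Ne.symm hac, Ne.symm hae, Ne.symm hax, Ne.symm hbc, Ne.symm hbe, Ne.symm hbx, Ne.symm hce, Ne.symm hcx, Ne.symm hex]) u2 c2 x2 b2 e2 a2 P2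
  obtain ⟨t8, -, a8, c8, e8, x8, b8, P8⟩ := S.partner he hx ha hc hb
    (by simp [hab, hac, hae, hax, hbc, hbe, hbx, hce, hcx, hex, Ne.symm hab, Ne.symm hac, Ne.symm hae, Ne.symm hax, Ne.symm hbc, Ne.symm hbe, Ne.symm hbx, Ne.symm hce, Ne.symm hcx, Ne.symm hex]) u3 e3 x3 a3 c3 b3 P3
  obtain ⟨t9, -, b9, c9, e9, x9, a9, P9⟩ := S.partner he hx hb hc ha
    (by simp [hab, hac, hae, hax, hbc, hbe, hbx, hce, hcx, hex, Ne.symm hab, Ne.symm hac, Ne.symm hae, Ne.symm hax, Ne.symm hbc, Ne.symm hbe, Ne.symm hbx, Ne.symm hce, Ne.symm hcx, Ne.symm hex]) u3 e3 x3 b3 c3 a3 P3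
  intro p hp q hq hpq
  simp only [mem_insert, mem_singleton] at hp hq
  rcases hp with rfl | rfl | rfl | rfl | rfl <;> rcases hq with rfl | rfl | rfl | rfl | rfl <;>
    first
    | exact absurd rfl hpq
    | (refine ⟨z, by assumption, by assumption, fun y hy h1 h2 => ?_⟩
       simp only [mem_union, mem_insert, mem_singleton] at hy
       rcases hy with h | rfl | rfl | rfl | rfl | rfl <;>
         first | exact hzΦ y h | assumption | exact absurd rfl h1 | exact absurd rfl h2)
    | (refine ⟨t1, by assumption, by assumption, fun y hy h1 h2 => ?_⟩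
       simp only [mem_union, mem_insert, mem_singleton] at hy
       rcases hy with h | rfl | rfl | rfl | rfl | rfl <;>
         first | exact P1 y h | assumption | exact absurd rfl h1 | exact absurd rfl h2)
    | (refine ⟨t2, by assumption, by assumption, fun y hy h1 h2 => ?_⟩
       simp only [mem_union, mem_insert, mem_singleton] at hy
       rcases hy with h | rfl | rfl | rfl | rfl | rfl <;>
         first | exact P2 y h | assumption | exact absurd rfl h1 | exact absurd rfl h2)
    | (refine ⟨t3, by assumption, by assumption, fun y hy h1 h2 => ?_⟩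
       simp only [mem_union, mem_insert, mem_singleton] at hy
       rcases hy with h | rfl | rfl | rfl | rfl | rfl <;>
         first | exact P3 y h | assumption | exact absurd rfl h1 | exact absurd rfl h2)
    | (refine ⟨t4, by assumption, by assumption, fun y hy h1 h2 => ?_⟩
       simp only [mem_union, mem_insert, mem_singleton] at hy
       rcases hy with h | rfl | rfl | rfl | rfl | rfl <;>
         first | exact P4 y h | assumption | exact absurd rfl h1 | exact absurd rfl h2)
    | (refine ⟨t5, by assumption, by assumption, fun y hy h1 h2 => ?_⟩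
       simp only [mem_union, mem_insert, mem_singleton] at hy
       rcases hy with h | rfl | rfl | rfl | rfl | rfl <;>
         first | exact P5 y h | assumption | exact absurd rfl h1 | exact absurd rfl h2)
    | (refine ⟨t6, by assumption, by assumption, fun y hy h1 h2 => ?_⟩
       simp only [mem_union, mem_insert, mem_singleton] at hy
       rcases hy with h | rfl | rfl | rfl | rfl | rfl <;>
         first | exact P6 y h | assumption | exact absurd rfl h1 | exact absurd rfl h2)
    | (refine ⟨t7, by assumption, by assumption, fun y hy h1 h2 => ?_⟩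
       simp only [mem_union, mem_insert, mem_singleton] at hy
       rcases hy with h | rfl | rfl | rfl | rfl | rfl <;>
         first | exact P7 y h | assumption | exact absurd rfl h1 | exact absurd rfl h2)
    | (refine ⟨t8, by assumption, by assumption, fun y hy h1 h2 => ?_⟩
       simp only [mem_union, mem_insert, mem_singleton] at hy
       rcases hy with h | rfl | rfl | rfl | rfl | rfl <;>
         first | exact P8 y h | assumption | exact absurd rfl h1 | exact absurd rfl h2)
    | (refine ⟨t9, by assumption, by assumption, fun y hy h1 h2 => ?_⟩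
       simp only [mem_union, mem_insert, mem_singleton] at hy
       rcases hy with h | rfl | rfl | rfl | rfl | rfl <;>
         first | exact P9 y h | assumption | exact absurd rfl h1 | exact absurd rfl h2)

end SharpOdd

end Swaps

section Main

universe u

variable {α : Type u} [Fintype α] [DecidableEq α]

/-- `G` induces at least the alternating group on some `(k+1)`-subset. -/
def InducesAlt (G : Subgroup (Equiv.Perm α)) (k : ℕ) : Prop :=
  ∃ Δ : Finset α, Δ.card = k + 1 ∧ ∀ σ : Equiv.Perm ↥Δ, σ ∈ alternatingGroup ↥Δ →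
    ∃ g ∈ G, ∀ x : ↥Δ, g (x : α) = σ x

theorem inducesAlt_of_swaps {G : Subgroup (Equiv.Perm α)} {k : ℕ} {Δ : Finset α}
    (hΔ : Δ.card = k + 1) (h : SwapsOn G Δ) : InducesAlt G k :=
  ⟨Δ, hΔ, fun σ _ => let ⟨g, hg⟩ := h.exists_realise σ; ⟨g, g.2, hg⟩⟩

omit [DecidableEq α] in
/-- All fixing subgroups of `k`-sets of a `k`-transitive group have the same order. -/
theorem card_fixingSubgroup_of_transitive {G : Subgroup (Equiv.Perm α)} {k : ℕ}
    (hG : IsMultiplyPretransitive G α k) {S : Finset α} (hS : S.card = k) :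
    (Fintype.card α).descFactorial k * Nat.card (fixingSubgroup G (S : Set α)) = Nat.card G := by
  classical
  let e := (S.equivFinOfCardEq hS).symm
  let y : Fin k ↪ α := e.toEmbedding.trans (Function.Embedding.subtype _)
  have h1 : fixingSubgroup G (S : Set α) = stabilizer G y := by
    ext g
    rw [mem_fixingSubgroup_iff, mem_stabilizer_iff]
    constructor
    · intro h
      ext i
      exact h _ (e i).2
    · intro h v hv
      obtain ⟨i, hi⟩ := e.surjective ⟨v, hv⟩
      have := congrArg (fun f : Fin k ↪ α => f i) h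
      have hyi : y i = v := congrArg Subtype.val hi
      change g • y i = y i at this
      rwa [hyi] at this
  haveI := hG
  rw [h1, ← Nat.card_eq_fintype_card]
  exact card_eq_descFactorial_mul y

set_option maxHeartbeats 1600000 in
/-- Sharply 4- and 5-transitive groups of degree 11 and 12. -/
theorem inducesAlt_sharp (G : Subgroup (Equiv.Perm α)) {k : ℕ} (hk : k = 4 ∨ k = 5)
    (hn : Fintype.card α = k + 7) (hG : IsMultiplyPretransitive G α k)
    (hfix : ∀ (g : G) (s : Finset α), k ≤ s.card → (∀ x ∈ s, g • x = x) → g = 1) :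
    InducesAlt G k := by
  have hncard : Nat.card α = k + 7 := by rw [Nat.card_eq_fintype_card, hn]
  have htrans : ∀ x y : Fin k → α, Function.Injective x → Function.Injective y →
      ∃ g : G, ∀ i, g • x i = y i := fun x y hx hy => exists_smul_eq_of_injective hG hx hy
  rcases hk with rfl | rfl
  · have S : SharpOdd G (∅ : Finset α) :=
      { four := fun a b c d a' b' c' d' _ _ _ _ _ _ _ _ h h' => by
          simp only [List.nodup_cons, List.mem_cons, List.not_mem_nil, or_false, not_or,
            List.nodup_nil, and_true, not_false_eq_true] at h h'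
          obtain ⟨⟨h1, h2, h3⟩, ⟨h4, h5⟩, h6⟩ := h
          obtain ⟨⟨k1, k2, k3⟩, ⟨k4, k5⟩, k6⟩ := h'
          obtain ⟨g, g1, g2, g3, g4⟩ :=
            exists_smul_eq_four hG h1 h2 h3 h4 h5 h6 k1 k2 k3 k4 k5 k6
          exact ⟨g, g1, g2, g3, g4, by simp⟩
        sharp := fun g a b c d _ _ _ _ h ga gb gc gd _ => hfix g [a, b, c, d].toFinset
          (by rw [List.toFinset_card_of_nodup h]; rfl)
          (by simp [ga, gb, gc, gd])
        parity := by rw [hn, card_empty]; decide }
    obtain ⟨F, -, hF⟩ := exists_subset_card_eq (s := (univ : Finset α)) (n := 4)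
      (by rw [card_univ]; omega)
    obtain ⟨a, b, c, e, hab, hac, hae, hbc, hbe, hce, -⟩ := card_eq_four.1 hF
    have hnd : [a, b, c, e].Nodup := by simp [hab, hac, hae, hbc, hbe, hce]
    obtain ⟨z, hz, hza, hzb, hzc, hze, hzΦ⟩ :=
      S.exists_swap (notMem_empty _) (notMem_empty _) (notMem_empty _) (notMem_empty _) hnd
    obtain ⟨x, -, hxc, hxe, hzx, -⟩ := S.fixed_three hz (notMem_empty c) (notMem_empty e) hce hzc
      hze hzΦ (c := a) (by rw [hza]; exact hab.symm)
    have hxa : x ≠ a := fun h => hab (by rw [← hza, ← h, hzx])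
    have hxb : x ≠ b := fun h => hab (by rw [← hzb, ← h, hzx])
    have hnd5 : [a, b, c, e, x].Nodup := by
      simp [hab, hac, hae, hbc, hbe, hce, hxa.symm, hxb.symm, hxc.symm, hxe.symm]
    refine inducesAlt_of_swaps (Δ := {a, b, c, e, x}) ?_ fun p hp q hq hpq => ?_
    · simp [hab, hac, hae, hbc, hbe, hce, hxa.symm, hxb.symm, hxc.symm, hxe.symm]
    obtain ⟨t, t1, t2, t3⟩ := S.five_set (notMem_empty _) (notMem_empty _) (notMem_empty _)
      (notMem_empty _) (notMem_empty _) hnd5 hz hza hzb hzc hze hzx hzΦ p hp q hq hpq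
    exact ⟨t, t1, t2, fun y hy => t3 y (mem_union_right _ hy)⟩
  · have S : ∀ d : α, SharpOdd G ({d} : Finset α) := fun d =>
      { four := fun a b c e a' b' c' e' ha hb hc he ha' hb' hc' he' h h' => by
          simp only [mem_singleton] at ha hb hc he ha' hb' hc' he'
          obtain ⟨g, hg⟩ := htrans [a, b, c, e, d].get [a', b', c', e', d].get
            (List.nodup_iff_injective_get.1 (by
              simp only [List.nodup_cons, List.mem_cons, List.not_mem_nil, or_false, not_or,
                List.nodup_nil, and_true, not_false_eq_true] at h ⊢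
              tauto))
            (List.nodup_iff_injective_get.1 (by
              simp only [List.nodup_cons, List.mem_cons, List.not_mem_nil, or_false, not_or,
                List.nodup_nil, and_true, not_false_eq_true] at h' ⊢
              tauto))
          exact ⟨g, hg (0 : Fin 5), hg (1 : Fin 5), hg (2 : Fin 5), hg (3 : Fin 5), fun y hy => by
            rw [mem_singleton] at hy; subst hy; exact hg (4 : Fin 5)⟩
        sharp := fun g a b c e ha hb hc he h ga gb gc ge hd => hfix g [a, b, c, e, d].toFinset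
          (by
            rw [List.toFinset_card_of_nodup]
            · rfl
            · simp only [mem_singleton] at ha hb hc he
              simp only [List.nodup_cons, List.mem_cons, List.not_mem_nil, or_false, not_or,
                List.nodup_nil, and_true, not_false_eq_true] at h ⊢
              tauto)
          (by
            intro y hy
            simp only [List.mem_toFinset, List.mem_cons, List.not_mem_nil, or_false] at hy
            rcases hy with rfl | rfl | rfl | rfl | rfl <;> first | assumption | exact hd _ (by simp))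
        parity := by rw [hn, card_singleton]; decide }
    obtain ⟨F, -, hF⟩ := exists_subset_card_eq (s := (univ : Finset α)) (n := 5)
      (by rw [card_univ]; omega)
    obtain ⟨a, F4, haF, rfl, hF4⟩ := card_eq_succ.1 hF
    obtain ⟨b, c, e, d, hbc, hbe, hbd, hce, hcd, hed, rfl⟩ := card_eq_four.1 hF4
    simp only [mem_insert, mem_singleton, not_or] at haF
    obtain ⟨hab, hac, hae, had⟩ := haF
    have hnd : [a, b, c, e].Nodup := by simp [hab, hac, hae, hbc, hbe, hce]
    have hin : ∀ {w}, w ≠ d → w ∉ ({d} : Finset α) := fun hw => by simp [hw]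
    obtain ⟨z, hz, hza, hzb, hzc, hze, hzd⟩ :=
      (S d).exists_swap (hin had) (hin hbd) (hin hcd) (hin hed) hnd
    obtain ⟨x, hxd, hxc, hxe, hzx, -⟩ := (S d).fixed_three hz (hin hcd) (hin hed) hce hzc
      hze hzd (c := a) (by rw [hza]; exact (Ne.symm hab))
    simp only [mem_singleton] at hxd
    have hxa : x ≠ a := fun h => hab (by rw [← hza, ← h, hzx])
    have hxb : x ≠ b := fun h => hab (by rw [← hzb, ← h, hzx])
    have hzd' : z • d = d := hzd d (mem_singleton_self d)
    refine inducesAlt_of_swaps (Δ := {a, b, c, e, x, d}) ?_ fun p hp q hq hpq => ?_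
    · simp [hab, hac, hae, had, hbc, hbe, hbd, hce, hcd, hed, hxa.symm, hxb.symm, hxc.symm,
        hxe.symm, hxd]
    have r1 : ∀ p ∈ ({a, b, c, e, x} : Finset α), ∀ q ∈ ({a, b, c, e, x} : Finset α), p ≠ q →
        ∃ t : G, t • p = q ∧ t • q = p ∧
          ∀ y ∈ ({d} : Finset α) ∪ {a, b, c, e, x}, y ≠ p → y ≠ q → t • y = y :=
      (S d).five_set (hin had) (hin hbd) (hin hcd) (hin hed) (hin hxd)
        (by simp [hab, hac, hae, hbc, hbe, hce, hxa.symm, hxb.symm, hxc.symm, hxe.symm])
        hz hza hzb hzc hze hzx hzd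
    have r2 : ∀ p ∈ ({a, b, d, e, x} : Finset α), ∀ q ∈ ({a, b, d, e, x} : Finset α), p ≠ q →
        ∃ t : G, t • p = q ∧ t • q = p ∧
          ∀ y ∈ ({c} : Finset α) ∪ {a, b, d, e, x}, y ≠ p → y ≠ q → t • y = y :=
      (S c).five_set (by simp [hac]) (by simp [hbc]) (by simp [hcd.symm]) (by simp [hce.symm])
        (by simp [hxc])
        (by simp [hab, had, hae, hbd, hbe, hed.symm, hxa.symm, hxb.symm, Ne.symm hxd, hxe.symm])
        hz hza hzb hzd' hze hzx (fun y hy => by rw [mem_singleton] at hy; subst hy; exact hzc)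
    have r3 : ∀ p ∈ ({a, b, c, d, x} : Finset α), ∀ q ∈ ({a, b, c, d, x} : Finset α), p ≠ q →
        ∃ t : G, t • p = q ∧ t • q = p ∧
          ∀ y ∈ ({e} : Finset α) ∪ {a, b, c, d, x}, y ≠ p → y ≠ q → t • y = y :=
      (S e).five_set (by simp [hae]) (by simp [hbe]) (by simp [hce]) (by simp [hed.symm])
        (by simp [hxe])
        (by simp [hab, had, hac, hbd, hbc, hcd, hxa.symm, hxb.symm, Ne.symm hxd, hxc.symm])
        hz hza hzb hzc hzd' hzx (fun y hy => by rw [mem_singleton] at hy; subst hy; exact hze)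
    have hcase : (p ∈ ({a, b, c, e, x} : Finset α) ∧ q ∈ ({a, b, c, e, x} : Finset α)) ∨
        (p ∈ ({a, b, d, e, x} : Finset α) ∧ q ∈ ({a, b, d, e, x} : Finset α)) ∨
        (p ∈ ({a, b, c, d, x} : Finset α) ∧ q ∈ ({a, b, c, d, x} : Finset α)) := by
      simp only [mem_insert, mem_singleton] at hp hq ⊢
      rcases hp with h | h | h | h | h | h <;> rcases hq with h' | h' | h' | h' | h' | h' <;>
        simp [h, h']
      all_goals exact absurd (h.trans h'.symm) hpq
    rcases hcase with ⟨h1, h2⟩ | ⟨h1, h2⟩ | ⟨h1, h2⟩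
    · obtain ⟨t, t1, t2, t3⟩ := r1 p h1 q h2 hpq
      exact ⟨t, t1, t2, fun y hy => t3 y (by
        simp only [mem_union, mem_insert, mem_singleton] at hy ⊢
        rcases hy with h | h | h | h | h | h <;> simp [h])⟩
    · obtain ⟨t, t1, t2, t3⟩ := r2 p h1 q h2 hpq
      exact ⟨t, t1, t2, fun y hy => t3 y (by
        simp only [mem_union, mem_insert, mem_singleton] at hy ⊢
        rcases hy with h | h | h | h | h | h <;> simp [h])⟩
    · obtain ⟨t, t1, t2, t3⟩ := r3 p h1 q h2 hpq
      exact ⟨t, t1, t2, fun y hy => t3 y (by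
        simp only [mem_union, mem_insert, mem_singleton] at hy ⊢
        rcases hy with h | h | h | h | h | h <;> simp [h])⟩

/-- The case where no non-trivial element fixes more than `k` points. -/
theorem inducesAlt_semiregular (G : Subgroup (Equiv.Perm α)) {k : ℕ} (hk : 4 ≤ k)
    (hkn : k < Fintype.card α) (hG : IsMultiplyPretransitive G α k)
    (hfix : ∀ (g : G) (s : Finset α), k + 1 ≤ s.card → (∀ x ∈ s, g • x = x) → g = 1) :
    InducesAlt G k := by
  set n := Fintype.card α with hn
  have hncard : Nat.card α = n := Nat.card_eq_fintype_card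
  obtain ⟨S₀, -, hS₀⟩ := exists_subset_card_eq (s := (univ : Finset α)) (n := k)
    (by rw [card_univ]; omega)
  set d := Nat.card (fixingSubgroup G (S₀ : Set α)) with hd
  have hdpos : 0 < d := Nat.card_pos
  have hGcard : n.descFactorial k * d = Nat.card G := card_fixingSubgroup_of_transitive hG hS₀
  have hstab : ∀ S : Finset α, S.card = k → Nat.card (fixingSubgroup G (S : Set α)) = d := by
    intro S hS
    exact Nat.eq_of_mul_eq_mul_left (Nat.descFactorial_pos.2 hkn.le)
      ((card_fixingSubgroup_of_transitive hG hS).trans hGcard.symm)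
  rcases Nat.even_or_odd d with he | hodd
  · obtain ⟨Δ, -, hΔ⟩ := exists_subset_card_eq (s := (univ : Finset α)) (n := k + 1)
      (by rw [card_univ]; omega)
    refine inducesAlt_of_swaps hΔ fun a ha b hb hab => ?_
    obtain ⟨g, g1, g2, g3⟩ := exists_swap_of_even (G := G) hfix
      (fun S hS => by rw [hstab S hS]; exact even_iff_two_dvd.1 he)
      (Θ := (Δ.erase a).erase b) (k := k)
      (by rw [card_erase_of_mem (mem_erase.2 ⟨hab.symm, hb⟩), card_erase_of_mem ha, hΔ]; omega)
      (a := a) (b := b) (by simp) (by simp) hab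
    exact ⟨g, g1, g2, fun x hx h1 h2 => g3 x (mem_erase.2 ⟨h2, mem_erase.2 ⟨h1, hx⟩⟩)⟩
  have hinv : ∀ (S : Finset α), ∀ g ∈ fixingSubgroup G (S : Set α), ∀ v ∈ univ \ S,
      g • v ∈ univ \ S := by
    intro S g hg v hv
    simp only [mem_sdiff, mem_univ, true_and] at hv ⊢
    intro h
    exact hv (smul_left_cancel g ((mem_fixingSubgroup_iff G).1 hg _ h) ▸ h)
  have hfree : ∀ (S : Finset α), S.card = k → ∀ g ∈ fixingSubgroup G (S : Set α),
      ∀ v ∈ univ \ S, g • v = v → g = 1 := by
    intro S hS g hg v hv hgv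
    refine hfix g (insert v S) ?_ fun y hy => ?_
    · rw [card_insert_of_notMem (mem_sdiff.1 hv).2, hS]
    · rcases mem_insert.1 hy with rfl | hy
      · exact hgv
      · exact (mem_fixingSubgroup_iff G).1 hg y hy
  have hcompl : ∀ (S : Finset α), S.card = k → (univ \ S).card = n - k := fun S hS => by
    rw [card_sdiff_of_subset (subset_univ _), card_univ, hS]
  have hdvd : d ∣ n - k := by
    rw [← hstab S₀ hS₀, ← hcompl S₀ hS₀]
    exact card_dvd_finset_of_semiregular _ _ (hinv S₀) (hfree S₀ hS₀)
  -- a transitive `k`-point stabiliser makes the group `(k+1)`-transitive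
  have htop : (∀ x y : Fin (k + 1) → α, Function.Injective x → Function.Injective y →
      ∃ g : G, ∀ i, g • x i = y i) → InducesAlt G k := by
    intro h
    obtain ⟨Δ, -, hΔ⟩ := exists_subset_card_eq (s := (univ : Finset α)) (n := k + 1)
      (by rw [card_univ]; omega)
    refine ⟨Δ, hΔ, fun σ _ => ?_⟩
    let e := (Δ.equivFinOfCardEq hΔ).symm
    obtain ⟨g, hg⟩ := h (fun i => (e i : α)) (fun i => (σ (e i) : α))
      (Subtype.val_injective.comp e.injective)
      (Subtype.val_injective.comp (σ.injective.comp e.injective))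
    refine ⟨g, g.2, fun x => ?_⟩
    obtain ⟨i, rfl⟩ := e.surjective x
    exact hg i
  by_cases hdn : n - k ≤ d
  · refine htop fun x y hx hy => ?_
    have := isMultiplyPretransitive_of_pointwise (G := G) (α := α) (k := k + 1)
    rcases eq_or_lt_of_le (show k + 1 ≤ n by omega) with hk1 | hk1
    · -- degree `k + 1`
      obtain ⟨g, hg⟩ := exists_smul_eq_of_injective hG (hx.comp (Fin.castSucc_injective k))
        (hy.comp (Fin.castSucc_injective k))
      refine ⟨g, Fin.lastCases ?_ hg⟩
      have hbij : Function.Bijective y := (Fintype.bijective_iff_injective_and_card _).2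
        ⟨hy, by rw [Fintype.card_fin]; omega⟩
      obtain ⟨j, hj⟩ := hbij.2 (g • x (Fin.last k))
      induction j using Fin.lastCases with
      | last => exact hj.symm
      | cast j =>
        rw [← show g • x j.castSucc = y j.castSucc from hg j] at hj
        exact absurd (hx (smul_left_cancel g hj)) (Fin.castSucc_lt_last j).ne
    refine exists_smul_eq_of_injective (this (by omega) fun S hS a b ha hb => ?_) hx hy
    obtain ⟨g, hg, hgab⟩ := trans_of_semiregular_card _ _ (hinv S) (hfree S (by omega))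
      (by rw [hstab S (by omega), hcompl S (by omega)]; exact hdn)
      (show a ∈ univ \ S by simp [ha]) (show b ∈ univ \ S by simp [hb])
    exact ⟨g, fun v hv => (mem_fixingSubgroup_iff G).1 hg v (mem_coe.2 hv), hgab⟩
  rw [not_le] at hdn
  -- pass to the stabiliser of `k - 4` points
  obtain ⟨Φ, -, hΦ⟩ := exists_subset_card_eq (s := (univ : Finset α)) (n := k - 4)
    (by rw [card_univ]; omega)
  let H := fixingSubgroup G (Φ : Set α)
  let O := SubMulAction.ofFixingSubgroup G (Φ : Set α)
  haveI : Fintype O := Fintype.ofFinite _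
  have hOmem : ∀ v : O, (v : α) ∉ Φ := fun v h => v.2 (mem_coe.2 h)
  have hlift : ∀ (g : H) (s : Finset O), (∀ v ∈ s, g • v = v) →
      ∀ t ∈ Φ ∪ s.map (Function.Embedding.subtype _), (g : G) • t = t := by
    intro g s hs t ht
    rcases mem_union.1 ht with ht | ht
    · exact (mem_fixingSubgroup_iff G).1 g.2 t (mem_coe.2 ht)
    · obtain ⟨v, hv, rfl⟩ := mem_map.1 ht
      exact congrArg Subtype.val (hs v hv)
  have hcard : ∀ s : Finset O,
      (Φ ∪ s.map (Function.Embedding.subtype _)).card = k - 4 + s.card := by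
    intro s
    rw [card_union_of_disjoint, card_map, hΦ]
    rw [disjoint_left]
    intro t ht ht'
    obtain ⟨v, -, rfl⟩ := mem_map.1 ht'
    exact hOmem v ht
  have h4 : IsMultiplyPretransitive H O 4 :=
    SubMulAction.ofFixingSubgroup.isMultiplyPretransitive G (n := k) (Φ : Set α)
      (by rw [Set.ncard_coe_finset, hΦ]; omega)
  have hOc : Fintype.card O = n - (k - 4) := by
    show _ = Fintype.card α - (k - 4)
    rw [← hΦ, ← card_univ (α := α), ← card_sdiff_of_subset (subset_univ _)]
    exact Fintype.card_of_subtype _ fun v => by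
      simp [O, SubMulAction.mem_ofFixingSubgroup_iff]
  have h7 : n - k ≤ 7 := by
    by_contra h8
    have S : OddFour H O :=
      { four := h4
        odd := fun g a b c e hab hac hae hbc hbe hce ga gb gc ge => by
          have hmem : (g : G) ∈ fixingSubgroup G
              ((Φ ∪ ({a, b, c, e} : Finset O).map (Function.Embedding.subtype _) : Finset α) :
                Set α) := by
            rw [mem_fixingSubgroup_iff]
            intro t ht
            refine hlift g _ (fun v hv => ?_) t (mem_coe.1 ht)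
            simp only [mem_insert, mem_singleton] at hv
            rcases hv with rfl | rfl | rfl | rfl <;> assumption
          have h := Subgroup.orderOf_dvd_natCard _ hmem
          rw [hstab _ (by rw [hcard]; simp [hab, hac, hae, hbc, hbe, hce]; omega),
            Subgroup.orderOf_coe] at h
          exact hodd.of_dvd_nat h
        free := fun g s hs hgs => Subtype.ext (hfix (g : G)
          (Φ ∪ s.map (Function.Embedding.subtype _)) (by rw [hcard]; omega) (hlift g s hgs)) }
    exact S.false (by omega)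
  have hsharp : d = 1 → ∀ (g : G) (s : Finset α), k ≤ s.card → (∀ x ∈ s, g • x = x) → g = 1 := by
    intro hd1 g s hs hg
    obtain ⟨s', hs's, hs'⟩ := exists_subset_card_eq (s := s) (n := k) hs
    exact (Subgroup.eq_bot_iff_forall _).1 (Subgroup.card_eq_one.1 ((hstab s' hs').trans hd1)) g
      ((mem_fixingSubgroup_iff G).2 fun t ht => hg t (hs's (mem_coe.1 ht)))
  have hJordan : d = 1 → n - k = 2 ∨ n - k = 7 ∧ k ≤ 5 := by
    intro hd1
    have hs : ∀ x : Fin k ↪ α, stabilizer G x = ⊥ := fun x => (Subgroup.eq_bot_iff_forall _).2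
      fun g hg => hsharp hd1 g (univ.map x) (by simp) fun t ht => by
        obtain ⟨i, -, rfl⟩ := mem_map.1 ht
        exact congrArg (fun f : Fin k ↪ α => f i) hg
    rcases Nat.lt_or_ge k 6 with h6 | h6
    · interval_cases k
      · rcases card_of_sharply_four (G := G) (α := α) (by omega) hG hs with h | h | h | h <;> omega
      · rcases card_of_sharply_five (G := G) (α := α) (by omega) hG hs with h | h | h | h <;> omega
    · rcases card_of_sharply_ge_six k h6 (G := G) (α := α) (by omega) hG hs with h | h | h <;> omega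
  have hsmall : n - k = 2 ∨ n - k = 3 → InducesAlt G k := by
    intro hcase
    have hA : alternatingGroup α ≤ G := by
      have : Nontrivial α := Fintype.one_lt_card_iff_nontrivial.1 (by omega)
      set i := G.index with hi
      have hmul : Nat.card G * i = n.factorial := by
        rw [hi, G.card_mul_index, Nat.card_perm, hncard]
      have hi6 : i ≤ 6 ∧ (n - k = 2 → i ≤ 2) := by
        rw [← hGcard, ← Nat.factorial_mul_descFactorial hkn.le] at hmul
        have h' : d * i = (n - k).factorial := by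
          refine Nat.eq_of_mul_eq_mul_left (Nat.descFactorial_pos.2 hkn.le) ?_
          rw [← mul_assoc, hmul, mul_comm]
        have hle : i ≤ (n - k).factorial := h' ▸ Nat.le_mul_of_pos_left i hdpos
        refine ⟨?_, fun h => by rw [h] at hle; exact hle⟩
        rcases hcase with h | h <;> rw [h] at hle
        · exact hle.trans (by decide)
        · exact hle
      have hilt : i < n := by omega
      have hcore : G.normalCore.index ∣ i.factorial := by
        rw [Subgroup.normalCore_eq_ker, Subgroup.index_ker]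
        refine (Subgroup.card_subgroup_dvd_card _).trans ?_
        rw [Nat.card_perm, ← Subgroup.index]
      have hne : G.normalCore ≠ ⊥ := by
        intro h
        rw [h, Subgroup.index_bot, Nat.card_perm, hncard] at hcore
        have h1 := Nat.le_of_dvd (Nat.factorial_pos _) hcore
        have h2 : i.factorial < n.factorial :=
          (Nat.factorial_le hilt.le).lt_of_ne fun e => by
            have := (Nat.factorial_lt (Nat.pos_of_ne_zero Subgroup.index_ne_zero_of_finite)).2 hilt
            rw [← hi] at this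
            omega
        omega
      exact (Equiv.Perm.alternatingGroup_le_of_normal (by rw [hncard]; omega)
        ((Subgroup.nontrivial_iff_ne_bot _).2 hne)).trans (Subgroup.normalCore_le _)
    obtain ⟨Δ, -, hΔ⟩ := exists_subset_card_eq (s := (univ : Finset α)) (n := k + 1)
      (by rw [card_univ]; omega)
    refine ⟨Δ, hΔ, fun σ hσ => ⟨Equiv.Perm.ofSubtype σ, hA ?_, fun x => ?_⟩⟩
    · rw [Equiv.Perm.mem_alternatingGroup, Equiv.Perm.sign_ofSubtype]
      exact Equiv.Perm.mem_alternatingGroup.1 hσ
    · exact Equiv.Perm.ofSubtype_apply_coe σ x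
  have h67 : n - k ≠ 6 := by
    intro h6
    -- a three-point stabiliser of odd order
    have S : OddThree H O :=
      { four := h4
        odd := fun g a b c hab hac hbc ga gb gc => by
          set Y := Φ ∪ ({a, b, c} : Finset O).map (Function.Embedding.subtype _) with hY
          have hYc : Y.card = k - 1 := by rw [hY, hcard]; simp [hab, hac, hbc]; omega
          let T := fixingSubgroup G (Y : Set α)
          haveI : Fintype T := Fintype.ofFinite _
          obtain ⟨w, -, hw⟩ := exists_mem_notMem_of_card_lt_card (s := Y) (t := univ)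
            (by rw [hYc, card_univ]; omega)
          have hm := card_orbit_mul_inf_stabilizer T w
          have hT : Odd (Nat.card T) := by
            rw [← hm]
            have e : (T ⊓ stabilizer G w : Subgroup G) =
                fixingSubgroup G ((insert w Y : Finset α) : Set α) := by
              ext t
              simp [T, mem_fixingSubgroup_iff, and_comm]
            rw [e, hstab _ (by rw [card_insert_of_notMem hw, hYc]; omega)]
            refine Odd.mul ?_ hodd
            have horb : ((univ : Finset T).image fun t : T => (t : G) • w) = univ \ Y := by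
              refine subset_antisymm (fun v hv => ?_) fun v hv => ?_
              · obtain ⟨t, -, rfl⟩ := mem_image.1 hv
                exact hinv Y t t.2 w (mem_sdiff.2 ⟨mem_univ _, hw⟩)
              · let eY := (Y.equivFinOfCardEq hYc).symm
                let x1 : Fin (k - 1 + 1) → α := Fin.snoc (fun i => (eY i : α)) w
                let y1 : Fin (k - 1 + 1) → α := Fin.snoc (fun i => (eY i : α)) v
                have hinj : ∀ u, u ∉ Y →
                    Function.Injective (Fin.snoc (fun i => (eY i : α)) u : Fin (k - 1 + 1) → α) := by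
                  intro u hu
                  rw [Fin.snoc_injective_iff]
                  exact ⟨Subtype.val_injective.comp eY.injective,
                    fun ⟨i, hi⟩ => hu (hi ▸ (eY i).2)⟩
                have hG' : IsMultiplyPretransitive G α (k - 1 + 1) := by
                  rwa [show k - 1 + 1 = k by omega]
                obtain ⟨t, ht⟩ := exists_smul_eq_of_injective hG' (x := x1) (y := y1) (hinj w hw)
                  (hinj v (mem_sdiff.1 hv).2)
                refine mem_image.2 ⟨⟨t, (mem_fixingSubgroup_iff G).2 fun u hu => ?_⟩, mem_univ _, ?_⟩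
                · obtain ⟨i, hi⟩ := eY.surjective ⟨u, mem_coe.1 hu⟩
                  have := ht i.castSucc
                  simp only [x1, y1, Fin.snoc_castSucc] at this
                  rwa [show (eY i : α) = u from congrArg Subtype.val hi] at this
                · have := ht (Fin.last _)
                  simpa [x1, y1] using this
            rw [horb, card_sdiff_of_subset (subset_univ _), card_univ, hYc, Nat.odd_iff]
            omega
          have hmem : (g : G) ∈ T := by
            rw [mem_fixingSubgroup_iff]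
            intro t ht
            refine hlift g _ (fun v hv => ?_) t (mem_coe.1 ht)
            simp only [mem_insert, mem_singleton] at hv
            rcases hv with rfl | rfl | rfl <;> assumption
          have h := Subgroup.orderOf_dvd_natCard T hmem
          rw [Subgroup.orderOf_coe] at h
          exact hT.of_dvd_nat h }
    exact S.false (by omega)
  rw [Nat.odd_iff] at hodd
  rcases (show n - k = 2 ∨ n - k = 3 ∨ n - k = 4 ∨ n - k = 5 ∨ n - k = 7 by omega) with
    h | h | h | h | h
  · exact hsmall (Or.inl h)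
  · exact hsmall (Or.inr h)
  all_goals
    have hd1 : d = 1 := by
      rw [h] at hdvd hdn
      interval_cases d <;> omega
    rcases hJordan hd1 with h' | ⟨h', hk5⟩ <;> first | omega | skip
  exact inducesAlt_sharp G (by omega) (by omega) hG (hsharp hd1)

set_option maxHeartbeats 1600000 in
/-- **A `k`-transitive group, `4 ≤ k < n`, induces at least `A_{k+1}` on some `(k+1)`-set.** -/
theorem inducesAlt_of_transitive : ∀ (n : ℕ) {β : Type u} [Fintype β] [DecidableEq β]
    (G : Subgroup (Equiv.Perm β)) (k : ℕ), Fintype.card β = n → 4 ≤ k → k < n →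
    IsMultiplyPretransitive G β k → InducesAlt G k := by
  intro n
  induction n using Nat.strong_induction_on with
  | _ n ih =>
  intro β _ _ G k hn hk hkn hG
  classical
  by_cases hsemi : ∀ (g : G) (s : Finset β), k + 1 ≤ s.card → (∀ x ∈ s, g • x = x) → g = 1
  · exact inducesAlt_semiregular G hk (hn ▸ hkn) hG hsemi
  push Not at hsemi
  obtain ⟨g₀, s₀, hs₀, hg₀s, hg₀⟩ := hsemi
  obtain ⟨p, hp, hpg⟩ := Nat.exists_prime_and_dvd (n := orderOf g₀)
    (fun e => hg₀ (orderOf_eq_one_iff.1 e))
  haveI : Fact p.Prime := ⟨hp⟩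
  -- a largest `p`-subgroup fixing more than `k` points
  let Good : Subgroup G → Prop := fun R => IsPGroup p R ∧ R ≠ ⊥ ∧
    ∃ s : Finset β, k + 1 ≤ s.card ∧ ∀ x ∈ s, ∀ r ∈ R, r • x = x
  haveI : Nonempty {R : Subgroup G // Good R} := by
    have hx : orderOf (g₀ ^ (orderOf g₀ / p)) = p :=
      orderOf_pow_orderOf_div (orderOf_pos g₀).ne' hpg
    refine ⟨⟨Subgroup.zpowers (g₀ ^ (orderOf g₀ / p)),
      IsPGroup.of_card (n := 1) (by rw [Nat.card_zpowers, hx, pow_one]), ?_, s₀, hs₀, ?_⟩⟩
    · rw [Ne, Subgroup.zpowers_eq_bot]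
      intro e
      rw [e, orderOf_one] at hx
      exact hp.ne_one hx.symm
    · intro x hxs r hr
      have : Subgroup.zpowers (g₀ ^ (orderOf g₀ / p)) ≤ stabilizer G x := by
        rw [Subgroup.zpowers_le]
        exact (stabilizer G x).pow_mem (hg₀s x hxs) _
      exact this hr
  obtain ⟨⟨R, hR, hR1, s, hs, hsR⟩, hmax⟩ :=
    Finite.exists_max fun R : {R : Subgroup G // Good R} => Nat.card (R : Subgroup G)
  let F := fixSet (α := β) R
  have hsF : ∀ x ∈ s, x ∈ F := fun x hx r hr => hsR x hx r hr
  let N := Subgroup.normalizer (R : Set G)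
  let ρ := toPermHom N F
  have hkey : IsMultiplyPretransitive ρ.range F k := by
    by_cases hsyl : ∃ (x : Fin k ↪ β) (P : Sylow p (stabilizer G x)),
        (P : Subgroup (stabilizer G x)).map (stabilizer G x).subtype = R
    · obtain ⟨x, P, hxP⟩ := hsyl
      subst hxP
      exact witt_fixSet hG x P
    push Not at hsyl
    haveI : Fintype F := Fintype.ofFinite _
    have hFc : k < Fintype.card F := by
      refine lt_of_lt_of_le hs ?_
      rw [← Fintype.card_coe]
      exact Fintype.card_le_of_injective (fun x : s => (⟨x, hsF x x.2⟩ : F))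
        fun a b h => Subtype.ext (congrArg (fun z : F => (z : β)) h)
    refine Cfsg.Agent.S0743.result ρ.range hp (by omega) hFc fun t ht => ?_
    let e := (t.equivFinOfCardEq ht).symm
    let x : Fin k ↪ β := (e.toEmbedding.trans (Function.Embedding.subtype _)).trans
      (Function.Embedding.subtype _)
    have hxmem : ∀ i, x i ∈ F := fun i => ((e i : t) : F).2
    have hRx : R ≤ stabilizer G x := fun r hr => Function.Embedding.ext fun i => hxmem i r hr
    obtain ⟨P, hP⟩ := (hR.comap_of_injective (stabilizer G x).subtype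
      (Subgroup.subtype_injective _)).exists_le_sylow
    set Pm := (P : Subgroup (stabilizer G x)).map (stabilizer G x).subtype with hPm
    have hPmp : IsPGroup p Pm := P.2.map _
    have hRP : R ≤ Pm := fun r hr => ⟨⟨r, hRx hr⟩, hP hr, rfl⟩
    have hlt : R.subgroupOf Pm < ⊤ := by
      refine lt_top_iff_ne_top.2 fun e' => hsyl x P ?_
      exact le_antisymm (Subgroup.subgroupOf_eq_top.1 e') hRP
    haveI : Group.IsNilpotent Pm := hPmp.isNilpotent
    have hN : R.subgroupOf Pm < Subgroup.normalizer (R.subgroupOf Pm : Set Pm) :=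
      normalizerCondition_of_isNilpotent _ hlt
    obtain ⟨⟨w, hwP⟩, hwN, hwR⟩ := SetLike.exists_of_lt hN
    have hwR' : w ∉ R := fun h => hwR h
    have hwN' : w ∈ N := by
      refine Subgroup.mem_normalizer_iff.2 fun h => ⟨fun hh => ?_, fun hh => ?_⟩
      · exact (Subgroup.mem_normalizer_iff.1 hwN ⟨h, hRP hh⟩).1 hh
      · have hh' : w⁻¹ * (w * h * w⁻¹) * w = h := by group
        have hhP : h ∈ Pm := hh' ▸ mul_mem (mul_mem (inv_mem hwP) (hRP hh)) hwP
        exact (Subgroup.mem_normalizer_iff.1 hwN ⟨h, hhP⟩).2 hh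
    let T := Pm ⊓ N
    have hTlt : Nat.card R < Nat.card T := by
      refine lt_of_le_of_ne (Subgroup.card_le_of_le (le_inf hRP Subgroup.le_normalizer)) fun e' => ?_
      exact hwR' ((Subgroup.eq_of_le_of_card_ge (le_inf hRP Subgroup.le_normalizer)
        e'.ge).ge ⟨hwP, hwN'⟩)
    have hT : IsPGroup p T := hPmp.to_le inf_le_left
    have hfixT : ∀ v : β, (∀ u ∈ T, u • v = v) → ∃ i, x i = v := by
      intro v hv
      by_contra hcon
      push Not at hcon
      refine absurd (hmax ⟨T, hT, ?_, insert v (univ.map x), ?_, ?_⟩) (not_le.2 hTlt)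
      · intro e'
        rw [e', Subgroup.card_bot] at hTlt
        exact absurd hTlt (not_lt.2 Nat.card_pos)
      · rw [card_insert_of_notMem (by simpa using hcon), card_map, card_univ, Fintype.card_fin]
      · intro y hy u hu
        rcases mem_insert.1 hy with rfl | hy
        · exact hv u hu
        · obtain ⟨i, -, rfl⟩ := mem_map.1 hy
          obtain ⟨⟨u', hu'⟩, -, rfl⟩ := hu.1
          exact congrArg (fun f : Fin k ↪ β => f i) hu'
    refine ⟨(T.subgroupOf N).map ρ.rangeRestrict,
      (hT.comap_of_injective N.subtype (Subgroup.subtype_injective _)).map _, ?_⟩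
    ext v
    constructor
    · intro hv
      obtain ⟨i, hi⟩ := hfixT (v : β) fun u hu =>
        congrArg (fun z : F => (z : β)) (hv ⟨ρ.rangeRestrict ⟨u, hu.2⟩, ⟨u, hu.2⟩, hu, rfl⟩)
      have : ((e i : t) : F) = v := Subtype.ext hi
      exact this ▸ (e i).2
    · rintro hv ⟨_, ⟨u, huN⟩, hu, rfl⟩
      obtain ⟨i, hi⟩ := e.surjective ⟨v, hv⟩
      apply Subtype.ext
      show u • (v : β) = v
      have hxi : x i = (v : β) := congrArg (fun z : t => ((z : F) : β)) hi
      obtain ⟨⟨u', hu'⟩, -, hu''⟩ := hu.1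
      rw [← hxi, ← show (u' : G) = u from hu'']
      exact congrArg (fun f : Fin k ↪ β => f i) hu'
  haveI : Fintype F := Fintype.ofFinite _
  have hFc : k < Fintype.card F := by
    refine lt_of_lt_of_le hs ?_
    rw [← Fintype.card_coe]
    exact Fintype.card_le_of_injective (fun x : s => (⟨x, hsF x x.2⟩ : F))
      fun a b h => Subtype.ext (congrArg (fun z : F => (z : β)) h)
  have hFlt : Fintype.card F < n := by
    obtain ⟨r, hr, hr1⟩ := R.bot_or_exists_ne_one.resolve_left hR1
    obtain ⟨v, hv⟩ : ∃ v : β, r • v ≠ v := by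
      by_contra hall
      push Not at hall
      exact hr1 (Subtype.ext (Equiv.ext hall))
    rw [← hn]
    exact Fintype.card_lt_of_injective_of_notMem (fun z : F => (z : β))
      (fun a b h => Subtype.ext h) (b := v) (by rintro ⟨z, rfl⟩; exact hv (z.2 r hr))
  obtain ⟨Δ', hΔ', hreal⟩ := ih _ hFlt ρ.range k rfl hk hFc hkey
  let j : F ↪ β := ⟨fun z => (z : β), fun a b h => Subtype.ext h⟩
  refine ⟨Δ'.map j, by rw [card_map, hΔ'], fun σ hσ => ?_⟩
  let e : ↥Δ' ≃ ↥(Δ'.map j) := Equiv.ofBijective
    (fun z => ⟨j z, mem_map_of_mem j z.2⟩)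
    ⟨fun a b h => Subtype.ext (Subtype.ext (congrArg (fun z : ↥(Δ'.map j) => (z : β)) h)), fun z => by
      obtain ⟨w, hw, hwz⟩ := mem_map.1 z.2
      exact ⟨⟨w, hw⟩, Subtype.ext hwz⟩⟩
  obtain ⟨h, ⟨u, rfl⟩, hu⟩ := hreal (e.symm.permCongr σ) (by
    rw [Equiv.Perm.mem_alternatingGroup, Equiv.Perm.sign_permCongr]
    exact Equiv.Perm.mem_alternatingGroup.1 hσ)
  refine ⟨((u : G) : Equiv.Perm β), (u : G).2, fun z => ?_⟩
  obtain ⟨w, rfl⟩ := e.surjective z
  have h1 := congrArg (fun z : F => (z : β)) (hu w)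
  rw [Equiv.permCongr_apply, Equiv.symm_symm] at h1
  refine h1.trans ?_
  exact congrArg Subtype.val (e.apply_symm_apply _)

end Main

end Cfsg.Agent.Perm
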