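import Mathlib

/-!
# Involutions preserving a system of blocks

Every involution on a set of size `t * a` preserves some partition into `t` blocks of size `a`.
-/

namespace Cfsg.Agent.Perm.InvolutionBlocks

open Equiv

variable {α β : Type*}

/-- Number of moved points. -/
noncomputable def moved (π : Equiv.Perm α) : ℕ := Nat.card {x // π x ≠ x}

theorem moved_permCongr (e : α ≃ β) (π : Equiv.Perm α) : moved (e.permCongr π) = moved π :=
  (Nat.card_congr (e.subtypeEquiv (fun x => by simp))).symm

theorem moved_sumCongr [Finite α] [Finite β] (π : Equiv.Perm α) (ρ : Equiv.Perm β) :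
    moved (Equiv.sumCongr π ρ) = moved π + moved ρ := by
  rw [moved, moved, moved, ← Nat.card_sum]
  refine Nat.card_congr (Equiv.subtypeSum.trans (Equiv.sumCongr ?_ ?_))
  · exact Equiv.subtypeEquivRight fun x => by simp
  · exact Equiv.subtypeEquivRight fun x => by simp

theorem cycleType_of_involution [Fintype α] [DecidableEq α] (π : Equiv.Perm α) (h : π * π = 1) :
    π.cycleType = Multiset.replicate (moved π / 2) 2 := by
  have hord : orderOf π ∣ 2 := orderOf_dvd_of_pow_eq_one (by rw [sq]; exact h)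
  have hrep : π.cycleType = Multiset.replicate π.cycleType.card 2 := by
    refine Multiset.eq_replicate.mpr ⟨rfl, fun n hn => ?_⟩
    have h1 := Equiv.Perm.two_le_of_mem_cycleType hn
    have h2 := Nat.le_of_dvd two_pos ((Equiv.Perm.dvd_of_mem_cycleType hn).trans hord)
    omega
  have hsum := π.sum_cycleType
  rw [hrep, Multiset.sum_replicate, smul_eq_mul] at hsum
  have hm : moved π = π.support.card := by
    rw [moved, ← Nat.card_eq_finsetCard]
    exact Nat.card_congr (Equiv.subtypeEquivRight fun x => by simp)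
  rw [hrep, hm, ← hsum, Nat.mul_div_cancel _ two_pos]

/-- A block-compatible involution moving `2 * k` points. -/
def Model (a t k : ℕ) : Prop :=
  ∃ (μ : Equiv.Perm (Fin t × Fin a)) (σ : Equiv.Perm (Fin t)),
    μ * μ = 1 ∧ moved μ = 2 * k ∧ ∀ p, (μ p).1 = σ p.1

theorem Model.add {a t₁ k₁ t₂ k₂ : ℕ} (h₁ : Model a t₁ k₁) (h₂ : Model a t₂ k₂) :
    Model a (t₁ + t₂) (k₁ + k₂) := by
  obtain ⟨μ₁, σ₁, hμ₁, hm₁, hc₁⟩ := h₁
  obtain ⟨μ₂, σ₂, hμ₂, hm₂, hc₂⟩ := h₂
  let e : (Fin t₁ × Fin a) ⊕ (Fin t₂ × Fin a) ≃ Fin (t₁ + t₂) × Fin a :=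
    (Equiv.sumProdDistrib _ _ _).symm.trans (finSumFinEquiv.prodCongr (Equiv.refl _))
  refine ⟨e.permCongr (Equiv.sumCongr μ₁ μ₂), finSumFinEquiv.permCongr (Equiv.sumCongr σ₁ σ₂),
    ?_, ?_, ?_⟩
  · ext p : 1
    obtain ⟨s, rfl⟩ := e.surjective p
    rcases s with x | x
    · simp [← Equiv.Perm.mul_apply, hμ₁]
    · simp [← Equiv.Perm.mul_apply, hμ₂]
  · rw [moved_permCongr, moved_sumCongr, hm₁, hm₂, mul_add]
  · intro p
    obtain ⟨s, rfl⟩ := e.surjective p
    rcases s with ⟨j, i⟩ | ⟨j, i⟩
    · simp [e, hc₁]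
    · simp [e, hc₂]

theorem model_zero (a : ℕ) : Model a 0 0 :=
  ⟨1, 1, by simp, by simp [moved], fun p => p.1.elim0⟩

theorem model_one {a k : ℕ} (h : 2 * k ≤ a) : Model a 1 k := by
  let f : Fin a → Fin a := fun i =>
    if hi : i.val < 2 * k then ⟨if i.val % 2 = 0 then i.val + 1 else i.val - 1, by split <;> omega⟩
    else i
  have hf : Function.Involutive f := by
    intro i
    by_cases hi : i.val < 2 * k
    · have h1 : (f i).val = if i.val % 2 = 0 then i.val + 1 else i.val - 1 := by simp [f, hi]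
      have h2 : (f i).val < 2 * k := by rw [h1]; split <;> omega
      apply Fin.ext
      have h3 : (f (f i)).val = if (f i).val % 2 = 0 then (f i).val + 1 else (f i).val - 1 := by
        simp [f, h2, hi] <;> (split <;> simp_all <;> omega)
      rw [h3, h1]
      by_cases he : i.val % 2 = 0
      · rw [if_pos he, if_neg (by omega)]; omega
      · rw [if_neg he, if_pos (by omega)]; omega
    · simp [f, hi]
  refine ⟨(Equiv.refl (Fin 1)).prodCongr hf.toPerm, 1, ?_, ?_, fun p => rfl⟩
  · ext p : 1
    exact Prod.ext rfl (hf p.2)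
  · rw [moved]
    have he : {x : Fin 1 × Fin a // (Equiv.refl (Fin 1)).prodCongr hf.toPerm x ≠ x} ≃ Fin (2 * k) :=
      { toFun := fun x => ⟨x.1.2.val, by
          by_contra hx
          exact x.2 (Prod.ext rfl (by simp [Function.Involutive.toPerm, f, hx]))⟩
        invFun := fun i => ⟨(0, ⟨i.val, by omega⟩), by
          intro hx
          have := congrArg (fun q : Fin 1 × Fin a => q.2.val) hx
          simp [Function.Involutive.toPerm, f, i.isLt] at this
          split at this <;> omega⟩
        left_inv := fun x => Subtype.ext (Prod.ext (Subsingleton.elim _ _) rfl)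
        right_inv := fun i => rfl }
    rw [Nat.card_congr he, Nat.card_fin]

theorem model_two (a : ℕ) : Model a 2 a := by
  refine ⟨(Equiv.swap (0 : Fin 2) 1).prodCongr (Equiv.refl _), Equiv.swap 0 1, ?_, ?_, fun p => rfl⟩
  · ext p : 1
    exact Prod.ext (Equiv.swap_apply_self _ _ _) rfl
  · rw [moved, Nat.card_congr (Equiv.subtypeUnivEquiv fun x => ?_)]
    · simp
    · obtain ⟨j, i⟩ := x
      intro h
      have := congrArg Prod.fst h
      fin_cases j <;> simp at this

theorem model_exists (a : ℕ) : ∀ t k, 2 * k ≤ t * a → Model a t k := by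
  intro t
  induction t using Nat.strong_induction_on with
  | _ t ih =>
    intro k hk
    rcases Nat.eq_zero_or_pos t with rfl | ht
    · rw [show k = 0 by omega]; exact model_zero a
    obtain ⟨t', rfl⟩ : ∃ t', t = t' + 1 := ⟨t - 1, by omega⟩
    rw [Nat.succ_mul] at hk
    by_cases h1 : 2 * k ≤ a
    · have := (ih t' (Nat.lt_succ_self _) 0 (by omega)).add (model_one h1)
      simpa using this
    rcases Nat.eq_zero_or_pos t' with rfl | ht'
    · omega
    obtain ⟨t'', rfl⟩ : ∃ t'', t' = t'' + 1 := ⟨t' - 1, by omega⟩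
    simp only [Nat.add_mul, one_mul] at hk
    by_cases h2 : a ≤ k
    · have := (ih t'' (by omega) (k - a) (by omega)).add (model_two a)
      rwa [show k - a + a = k by omega] at this
    · have := (ih (t'' + 1) (Nat.lt_succ_self _) (k - a / 2) (by simp only [Nat.add_mul, one_mul]; omega)).add
        (model_one (k := a / 2) (by omega))
      rwa [show k - a / 2 + a / 2 = k by omega] at this

/-- An involution preserves a partition into `t` blocks of size `a`. -/
theorem exists_blocks [Fintype α] (π : Equiv.Perm α) (hπ : π * π = 1) (a t : ℕ)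
    (hcard : Fintype.card α = t * a) :
    ∃ (e : α ≃ Fin t × Fin a) (σ : Equiv.Perm (Fin t)), ∀ i, (e (π i)).1 = σ (e i).1 := by
  classical
  let e₀ : α ≃ Fin t × Fin a := Fintype.equivOfCardEq (by simp [hcard])
  set π' := e₀.permCongr π with hπ'
  have hπ'2 : π' * π' = 1 := by
    ext p : 1
    simp [hπ', ← Equiv.Perm.mul_apply, hπ]
  have hc := cycleType_of_involution π' hπ'2
  have hsum := π'.sum_cycleType
  have hle := Equiv.Perm.sum_cycleType_le π'
  rw [hc, Multiset.sum_replicate, smul_eq_mul] at hle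
  rw [Fintype.card_prod, Fintype.card_fin, Fintype.card_fin] at hle
  obtain ⟨μ, σ, hμ, hm, hcompat⟩ := model_exists a t (moved π' / 2) (by omega)
  have hconj : IsConj π' μ := by
    rw [Equiv.Perm.isConj_iff_cycleType_eq, hc, cycleType_of_involution μ hμ, hm,
      Nat.mul_div_cancel_left _ two_pos]
  obtain ⟨g, hg⟩ := isConj_iff.mp hconj
  refine ⟨e₀.trans g, σ, fun i => ?_⟩
  have h1 : g (π' (e₀ i)) = μ (g (e₀ i)) := by
    rw [← hg]; simp
  show (g (e₀ (π i))).1 = σ (g (e₀ i)).1
  rw [← hcompat, ← h1]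
  simp [hπ']

end Cfsg.Agent.Perm.InvolutionBlocks
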