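import Mathlib
import Cfsg.Agent.Lib.Atoms.NormalSet
import Cfsg.Agent.Lib.Atoms.InvolutionCoset
import Cfsg.Agent.Lib.Perm.Derangement

/-!
# Transitive groups whose derangements are involutions

A finite faithful transitive group in which every derangement has order two has a normal regular
elementary abelian 2-subgroup `K`, and it is either equal to `K` or a Frobenius group with kernel `K`.
-/

set_option autoImplicit false
set_option linter.style.haveILetI false

namespace Cfsg.Agent.Perm.InvDer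

open MulAction Subgroup
open scoped Pointwise commutatorElement

universe u v

variable {G : Type u} [Group G] [Finite G]

/-- All derangements are involutions. -/
def Hyp (G : Type u) (Ω : Type v) [Group G] [MulAction G Ω] : Prop :=
  ∀ g : G, (∀ ω : Ω, g • ω ≠ ω) → orderOf g = 2

variable {Ω : Type v} [MulAction G Ω]

theorem sq_eq_one (h : Hyp G Ω) {t : G} (ht : ∀ ω : Ω, t • ω ≠ ω) : t * t = 1 := by
  rw [← pow_two, ← h t ht, pow_orderOf_eq_one]

/-- An element of odd order commuting with a derangement is trivial. -/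
theorem eq_one_of_commute_odd (h : Hyp G Ω) {t x : G} (ht : ∀ ω : Ω, t • ω ≠ ω)
    (hc : Commute t x) (hx : Odd (orderOf x)) : x = 1 := by
  have ht2 := sq_eq_one h ht
  by_cases hd : ∀ ω : Ω, (t * x) • ω ≠ ω
  · have h2 := sq_eq_one h hd
    have hxx : x ^ 2 = 1 := by
      rw [← pow_two, hc.mul_pow, pow_two t, ht2, one_mul] at h2
      exact h2
    have hd2 := orderOf_dvd_of_pow_eq_one hxx
    obtain ⟨k, hk⟩ := hx
    have := Nat.le_of_dvd two_pos hd2
    exact orderOf_eq_one_iff.1 (by omega)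
  · push Not at hd
    obtain ⟨ω, hω⟩ := hd
    obtain ⟨k, hk⟩ := hx
    refine absurd ?_ (ht ω)
    have hpow : (t * x) ^ orderOf x = t := by
      rw [hc.mul_pow, pow_orderOf_eq_one, mul_one, hk, pow_succ, pow_mul, pow_two, ht2, one_pow,
        one_mul]
    have hmem : t * x ∈ stabilizer G ω := hω
    have := (stabilizer G ω).pow_mem hmem (orderOf x)
    rwa [hpow] at this

variable [Finite Ω]

theorem exists_derangement (htr : IsPretransitive G Ω) (h2 : 1 < Nat.card Ω) :
    ∃ t : G, ∀ ω : Ω, t • ω ≠ ω := by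
  by_contra hno
  push Not at hno
  have htr' := Derangement.isPretransitive_derSub htr
  have hD : Derangement.derSub G Ω = ⊥ := by
    rw [Derangement.derSub, closure_eq_bot_iff]
    intro g hg
    obtain ⟨ω, hω⟩ := hno g
    exact absurd hω (hg ω)
  haveI := Finite.one_lt_card_iff_nontrivial.1 h2
  obtain ⟨a, b, hab⟩ := exists_pair_ne Ω
  obtain ⟨d, hd⟩ := htr'.exists_smul_eq a b
  have : (d : G) = 1 := mem_bot.1 (hD ▸ d.2)
  apply hab
  rw [← hd, Subgroup.smul_def, this, one_smul]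

/-- The key step: a nontrivial abelian normal subgroup exists. -/
theorem exists_abelian_normal (h : Hyp G Ω) (htr : IsPretransitive G Ω) (h2 : 1 < Nat.card Ω) :
    ∃ N : Subgroup G, N.Normal ∧ N ≠ ⊥ ∧ IsMulCommutative N := by
  classical
  by_contra hno
  push Not at hno
  haveI := htr
  haveI := Fintype.ofFinite G
  haveI := Fintype.ofFinite Ω
  set D : Set G := {g : G | ∀ ω : Ω, g • ω ≠ ω} with hD
  set S : Set G := insert 1 D with hS
  set n := Nat.card Ω
  obtain ⟨t₀, ht₀⟩ := exists_derangement htr h2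
  -- properties of `S`
  have h1S : (1 : G) ∈ S := Set.mem_insert _ _
  have hsq : ∀ x ∈ S, x * x = 1 := by
    rintro x (rfl | hx)
    · exact one_mul 1
    · exact sq_eq_one h hx
  have hinv : ∀ x ∈ S, x⁻¹ ∈ S := fun x hx => by
    rwa [inv_eq_of_mul_eq_one_right (hsq x hx)]
  have hconj : ∀ x ∈ S, ∀ g : G, g * x * g⁻¹ ∈ S := by
    rintro x (rfl | hx) g
    · simp [hS]
    · refine Or.inr fun ω hω => hx (g⁻¹ • ω) ?_
      have := congrArg (g⁻¹ • ·) hω
      simpa [mul_smul] using this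
  set M := closure S with hM
  have hMD : M = Derangement.derSub G Ω := by rw [hM, hS, closure_insert_one]
  -- counting: `|S S| + n ≤ 2 |S|`
  have hbound : (S * S).ncard + n ≤ 2 * S.ncard := by
    set P : Finset G := Finset.univ.filter fun g => g ∈ S * S ∧ g ∉ S with hP
    have hsum := sum_card_fixedBy_eq_card_orbits_mul_card_group G Ω
    haveI : Nonempty Ω := (Finite.one_lt_card_iff_nontrivial.1 h2).to_nonempty
    have horb : Fintype.card (orbitRel.Quotient G Ω) = 1 := by
      refine Fintype.card_eq_one_iff.mpr ⟨Quotient.mk'' (Classical.arbitrary Ω), fun q => ?_⟩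
      induction q using Quotient.inductionOn' with
      | h x => exact Quotient.sound' (exists_smul_eq G (Classical.arbitrary Ω) x)
    rw [horb, one_mul] at hsum
    have hlow : ∀ g : G, (if g = 1 then n else 0) + (if g ∈ P then 1 else 0) +
        (if g ∈ S then 0 else 1) ≤ Fintype.card (fixedBy Ω g) := by
      intro g
      by_cases hgS : g ∈ S
      · rw [if_pos hgS, if_neg (show g ∉ P from fun hh => (Finset.mem_filter.1 hh).2.2 hgS)]
        split_ifs with hg
        · rw [hg, ← Nat.card_eq_fintype_card, fixedBy_one_eq_univ, Nat.card_univ]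
          rfl
        · omega
      · have hg1 : g ≠ 1 := fun e => hgS (e ▸ h1S)
        rw [if_neg hg1, if_neg hgS]
        have hfix : ∃ ω : Ω, g • ω = ω := by
          by_contra hh
          push Not at hh
          exact hgS (Or.inr hh)
        obtain ⟨ω, hω⟩ := hfix
        split_ifs with hgP
        · obtain ⟨⟨t, ht, u, hu, rfl⟩, -⟩ := (Finset.mem_filter.1 hgP).2
          rcases ht with rfl | ht
          · exact absurd (show (1 : G) * u ∈ S by rwa [one_mul]) hgS
          -- `t` moves fixed points of `t * u` to fixed points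
          have hω' : (t * u) • (t • ω) = t • ω := by
            have e : (t * u) * t = t * (t * u)⁻¹ := by
              rw [mul_inv_rev, inv_eq_of_mul_eq_one_right (sq_eq_one h ht),
                inv_eq_of_mul_eq_one_right (hsq u hu), mul_assoc]
            rw [← mul_smul, e, mul_smul, inv_smul_eq_iff.2 hω.symm]
          show 2 ≤ _
          exact Fintype.one_lt_card_iff.2
            ⟨⟨t • ω, hω'⟩, ⟨ω, hω⟩, fun e => ht ω (congrArg Subtype.val e)⟩
        · simp only [add_zero, zero_add]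
          exact Fintype.card_pos_iff.2 ⟨⟨ω, hω⟩⟩
    have hs := Finset.sum_le_sum fun g (_ : g ∈ Finset.univ) => hlow g
    rw [hsum, Finset.sum_add_distrib, Finset.sum_add_distrib, Finset.sum_ite_eq' Finset.univ,
      if_pos (Finset.mem_univ _), Finset.sum_boole, Finset.sum_ite, Finset.sum_const_zero,
      Finset.sum_const, smul_eq_mul, mul_one, zero_add, Nat.cast_id] at hs
    have e1 : (Finset.univ.filter (· ∈ P)) = P := by ext; simp
    rw [e1] at hs
    have e2 : (Finset.univ.filter (· ∈ S)).card + (Finset.univ.filter (¬ · ∈ S)).card =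
        Fintype.card G := by
      rw [Finset.card_filter_add_card_filter_not, Finset.card_univ]
    have eS : S.ncard = (Finset.univ.filter (· ∈ S)).card := by
      rw [← Set.ncard_coe_finset]; congr 1; ext; simp
    have eP : (P : Set G) = (S * S) \ S := by ext; simp [hP]
    have hle : (S * S).ncard ≤ P.card + S.ncard := by
      rw [← Set.ncard_coe_finset, eP]
      exact (Set.ncard_le_ncard (fun x hx => (em (x ∈ S)).elim Or.inr fun hn => Or.inl ⟨hx, hn⟩)
        (Set.toFinite _)).trans (Set.ncard_union_le _ _)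
    omega
  -- minimal normal subgroups
  have hminimal : ∀ A : Subgroup G, A.Normal → A ≠ ⊥ → ∃ N : Subgroup G, N.Normal ∧ N ≤ A ∧
      N ≠ ⊥ ∧ commutator N = ⊤ ∧ center N = ⊥ := by
    intro A hA hA1
    have hex : ∃ k, ∃ N : Subgroup G, N.Normal ∧ N ≤ A ∧ N ≠ ⊥ ∧ Nat.card N = k :=
      ⟨_, A, hA, le_rfl, hA1, rfl⟩
    obtain ⟨N, hN, hNA, hN1, hNc⟩ := Nat.find_spec hex
    haveI := hN
    have hmin : ∀ L : Subgroup G, L.Normal → L ≤ N → L ≠ ⊥ → L = N := fun L hL hLN hL1 =>
      eq_of_le_of_card_ge hLN (hNc ▸ Nat.find_min' hex ⟨L, hL, hLN.trans hNA, hL1, rfl⟩)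
    refine ⟨N, hN, hNA, hN1, ?_, ?_⟩
    · have h3 : ⁅N, N⁆ = N := by
        refine hmin _ inferInstance (commutator_le_self N) fun hb => hno N hN hN1 ⟨⟨fun a b => ?_⟩⟩
        refine Subtype.ext ?_
        have : ⁅(a : G), (b : G)⁆ = 1 := mem_bot.1 (hb ▸ commutator_mem_commutator a.2 b.2)
        exact commutatorElement_eq_one_iff_mul_comm.1 this
      refine map_injective N.subtype_injective ?_
      rw [map_subtype_commutator, h3, ← MonoidHom.range_eq_map, range_subtype]
    · by_contra hZ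
      have hne : (center N).map N.subtype ≠ ⊥ :=
        fun e => hZ ((map_eq_bot_iff_of_injective _ N.subtype_injective).1 e)
      haveI : ((center N).map N.subtype).Normal := by
        refine ⟨?_⟩
        rintro _ ⟨z, hz, rfl⟩ g
        refine ⟨⟨g * z * g⁻¹, hN.conj_mem z z.2 g⟩, ?_, rfl⟩
        rw [SetLike.mem_coe, mem_center_iff] at hz ⊢
        intro y
        refine Subtype.ext ?_
        have := congrArg Subtype.val (hz ⟨g⁻¹ * y * g, hN.conj_mem' y y.2 g⟩)
        simp only [coe_mul] at this ⊢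
        calc (y : G) * (g * z * g⁻¹) = g * (g⁻¹ * y * g * z) * g⁻¹ := by group
          _ = g * (z * (g⁻¹ * y * g)) * g⁻¹ := by rw [this]
          _ = g * z * g⁻¹ * y := by group
      refine hno _ inferInstance hne ⟨⟨?_⟩⟩
      rintro ⟨_, a, ha, rfl⟩ ⟨_, b, hb, rfl⟩
      exact Subtype.ext (show (a : G) * b = b * a from congrArg (fun z : N => (z : G)) ((mem_center_iff.1 ha) b).symm)
  -- every nontrivial normal subgroup meets `M`
  obtain ⟨N₀, hN₀, hN₀M, hN₀1, hN₀p, hN₀z⟩ : ∃ N : Subgroup G, N.Normal ∧ N ≤ M ∧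
      N ≠ ⊥ ∧ commutator N = ⊤ ∧ center N = ⊥ := by
    refine hminimal M ?_ fun e => ?_
    · rw [hMD]; exact Derangement.normal_derSub G Ω
    · have ht1 : t₀ ∈ M := subset_closure (Or.inr ht₀)
      rw [e, mem_bot] at ht1
      haveI : Nonempty Ω := (Finite.one_lt_card_iff_nontrivial.1 h2).to_nonempty
      exact ht₀ (Classical.arbitrary Ω) (by rw [ht1, one_smul])
  -- few elements of `S` in each coset
  have hcoset : ∀ N : Subgroup G, N.Normal → N ≠ ⊥ → commutator N = ⊤ → center N = ⊥ → ∀ g : G,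
      2 * {x : G | x ∈ S ∧ g⁻¹ * x ∈ N}.ncard < Nat.card N := by
    intro N hN hN1 hNp hNz g
    haveI := hN
    refine lt_of_le_of_lt ?_ (Atoms.two_mul_involutions_lt N hN1 hNp hNz g)
    refine Nat.mul_le_mul_left 2 (Set.ncard_le_ncard (fun x hx => ?_) (Set.toFinite _))
    exact ⟨(pow_two x).trans (hsq x hx.1), hx.2⟩
  have hSM : S ⊆ (M : Set G) := subset_closure
  by_cases hfull : S * S = (M : Set G)
  · have := Atoms.two_mul_inter_lt N₀ S (M : Set G) ⟨1, M.one_mem⟩
      (fun u hu m hm => M.mul_mem hu (hN₀M hm)) (hcoset N₀ hN₀ hN₀1 hN₀p hN₀z)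
    rw [Set.inter_eq_left.2 hSM, ← hfull] at this
    omega
  · have hS2 : 0 < S.ncard := (Set.nonempty_of_mem h1S).ncard_pos (Set.toFinite _)
    obtain ⟨A, hAn, hA1, hAM, hAS, hbd⟩ := Atoms.exists_normal_atom h1S hinv hconj
      ⟨⟨1, h1S⟩, hSM, hfull⟩ (by omega)
    obtain ⟨N, hN, hNA, hN1, hNp, hNz⟩ := hminimal A hAn hA1
    set U := (A : Set G) * S
    have hUN : ∀ u ∈ U, ∀ m ∈ N, u * m ∈ U := by
      rintro _ ⟨a, ha, s, hs, rfl⟩ m hm
      exact ⟨a * (s * m * s⁻¹), A.mul_mem ha (hAn.conj_mem m (hNA hm) s), s, hs,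
        by simp [mul_assoc]⟩
    have hSU : S ⊆ U := fun s hs => ⟨1, A.one_mem, s, hs, one_mul s⟩
    have h3 := Atoms.two_mul_inter_lt N S U ⟨1, hSU h1S⟩ hUN (hcoset N hN hN1 hNp hNz)
    rw [Set.inter_eq_left.2 hSU] at h3
    obtain ⟨s, hs, hsA⟩ : ∃ s ∈ S, s ∉ A := by
      by_contra hh
      push Not at hh
      have hMA : M ≤ A := (closure_le _).2 hh
      refine hAS (Set.Subset.antisymm (Atoms.mul_subset_closure hAM) fun m hm => ?_)
      exact ⟨m, hMA hm, 1, h1S, mul_one m⟩
    have h4 : 2 * (A : Set G).ncard ≤ U.ncard := by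
      have hd : Disjoint (A : Set G) ((· * s) '' (A : Set G)) := by
        rw [Set.disjoint_left]
        rintro x hx ⟨a, ha, rfl⟩
        exact hsA ((A.mul_mem_cancel_left ha).1 hx)
      have := Set.ncard_le_ncard (t := U) (s := (A : Set G) ∪ (· * s) '' (A : Set G))
        (Set.union_subset (fun a ha => ⟨a, ha, 1, h1S, mul_one a⟩)
          (Set.image_subset_iff.2 fun a ha => ⟨a, ha, s, hs, rfl⟩)) (Set.toFinite _)
      rwa [Set.ncard_union_eq hd (Set.toFinite _) (Set.toFinite _),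
        Set.ncard_image_of_injective _ (mul_left_injective s), ← two_mul] at this
    omega

/-- An abelian normal subgroup has no elements of odd order. -/
theorem eq_one_of_mem_abelian_odd [FaithfulSMul G Ω] (h : Hyp G Ω) (htr : IsPretransitive G Ω)
    (N : Subgroup G) [hN : N.Normal] [IsMulCommutative N] {x : G} (hx : x ∈ N)
    (hodd : Odd (orderOf x)) : x = 1 := by
  rcases le_or_gt (Nat.card Ω) 1 with hle | hgt
  · haveI := (Finite.card_le_one_iff_subsingleton.1 hle)
    exact eq_of_smul_eq_smul fun ω : Ω => Subsingleton.elim _ _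
  haveI := htr
  obtain ⟨ω₀, hω₀⟩ : ∃ ω : Ω, x • ω = ω := by
    by_contra hno
    push Not at hno
    rw [h x hno] at hodd
    exact absurd hodd (by decide)
  have hinv : ∀ t : G, (∀ ω : Ω, t • ω ≠ ω) → t * x * t = x⁻¹ := by
    intro t ht
    have ht2 := sq_eq_one h ht
    have hti : t⁻¹ = t := inv_eq_of_mul_eq_one_right ht2
    have hxt : t * x * t ∈ N := by
      have := hN.conj_mem x hx t
      rwa [hti] at this
    have hc : Commute x (t * x * t) :=
      congrArg Subtype.val (mul_comm' (⟨x, hx⟩ : N) ⟨_, hxt⟩)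
    have hty : Commute t (x * (t * x * t)) := by
      show t * (x * (t * x * t)) = x * (t * x * t) * t
      calc t * (x * (t * x * t)) = (t * x * t) * x * t := by group
        _ = x * (t * x * t) * t := by rw [hc.eq]
    have hpow : (x * (t * x * t)) ^ orderOf x = 1 := by
      have e : (t * x * t) ^ orderOf x = 1 := by
        have e' := conj_pow (a := t) (b := x) (i := orderOf x)
        rw [hti, pow_orderOf_eq_one, mul_one, ht2] at e'
        exact e'
      rw [hc.mul_pow, pow_orderOf_eq_one, one_mul, e]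
    have hy := eq_one_of_commute_odd h ht hty
      (hodd.of_dvd_nat (orderOf_dvd_of_pow_eq_one hpow))
    exact (inv_eq_of_mul_eq_one_right hy).symm
  set F : Set Ω := fixedBy Ω x
  have hle : Derangement.derSub G Ω ≤ stabilizer G F := by
    refine (closure_le _).2 fun t ht => ?_
    have ht2 := sq_eq_one h ht
    have hsub : ∀ ω ∈ F, t • ω ∈ F := by
      intro ω hω
      show x • t • ω = t • ω
      have e : x * t = t * x⁻¹ := by
        rw [← hinv t ht, ← mul_assoc, ← mul_assoc, ht2, one_mul]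
      rw [← mul_smul, e, mul_smul, inv_smul_eq_iff.2 (hω : x • ω = ω).symm]
    rw [SetLike.mem_coe, mem_stabilizer_iff]
    refine Set.Subset.antisymm ?_ fun ω hω => ⟨t • ω, hsub ω hω, ?_⟩
    · rintro _ ⟨ω, hω, rfl⟩
      exact hsub ω hω
    · show t • t • ω = ω
      rw [← mul_smul, ht2, one_smul]
  refine eq_of_smul_eq_smul fun ω : Ω => ?_
  obtain ⟨d, rfl⟩ := (Derangement.isPretransitive_derSub htr).exists_smul_eq ω₀ ω
  have hmem : (d : G) • ω₀ ∈ F := by
    have := Set.smul_mem_smul_set (a := (d : G)) (show ω₀ ∈ F from hω₀)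
    rwa [mem_stabilizer_iff.1 (hle d.2)] at this
  rw [one_smul]
  exact hmem

/-- A finite transitive group whose derangements are involutions has a normal transitive
elementary abelian 2-subgroup. -/
theorem exists_elementary_transitive_aux : ∀ (n : ℕ) (G : Type u) (Ω : Type u) [Group G] [Finite G]
    [MulAction G Ω] [Finite Ω] [FaithfulSMul G Ω], Nat.card Ω = n → IsPretransitive G Ω →
    Hyp G Ω → ∃ K : Subgroup G, K.Normal ∧ (∀ x ∈ K, x * x = 1) ∧
      ∀ a b : Ω, ∃ k ∈ K, k • a = b := by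
  intro n
  induction n using Nat.strong_induction_on with
  | _ n ih =>
  intro G Ω _ _ _ _ _ hn htr h
  classical
  rcases le_or_gt n 1 with hle | hgt
  · haveI := Finite.card_le_one_iff_subsingleton.1 (hn ▸ hle)
    exact ⟨⊥, inferInstance, fun x hx => by rw [mem_bot.1 hx, one_mul],
      fun a b => ⟨1, one_mem _, Subsingleton.elim _ _⟩⟩
  haveI := htr
  obtain ⟨A, hA, hA1, hAc⟩ := exists_abelian_normal h htr (hn ▸ hgt)
  haveI := hA
  haveI := hAc
  -- involutions and identity in `A`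
  set N : Subgroup G :=
    { carrier := {a | a ∈ A ∧ a * a = 1}
      one_mem' := ⟨one_mem _, one_mul 1⟩
      inv_mem' := fun {a} ha => ⟨inv_mem ha.1, by rw [← mul_inv_rev, ha.2, inv_one]⟩
      mul_mem' := fun {a b} ha hb => ⟨mul_mem ha.1 hb.1, by
        have hc : Commute a b := congrArg Subtype.val (mul_comm' (⟨a, ha.1⟩ : A) ⟨b, hb.1⟩)
        rw [hc.symm.mul_mul_mul_comm, ha.2, hb.2, one_mul]⟩ } with hNdef
  have hNn : N.Normal := ⟨fun a ha g => ⟨hA.conj_mem a ha.1 g, by
    rw [show g * a * g⁻¹ * (g * a * g⁻¹) = g * (a * a) * g⁻¹ by group, ha.2, mul_one,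
      mul_inv_cancel]⟩⟩
  have hN1 : N ≠ ⊥ := by
    obtain ⟨a, ha, ha1⟩ := (bot_or_exists_ne_one A).resolve_left hA1
    have hev : 2 ∣ orderOf a := by
      by_contra hodd
      exact ha1 (eq_one_of_mem_abelian_odd (Ω := Ω) h htr A ha
        (Nat.odd_iff.2 (by omega)))
    obtain ⟨k, hk⟩ := hev
    intro hbot
    have hmem : a ^ k ∈ N := ⟨A.pow_mem ha k, by
      rw [← pow_add, ← two_mul, ← hk, pow_orderOf_eq_one]⟩
    rw [hbot, mem_bot] at hmem
    have := orderOf_dvd_of_pow_eq_one hmem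
    have hpos := orderOf_pos a
    have := Nat.le_of_dvd (by omega) this
    omega
  haveI := hNn
  by_cases htN : ∀ a b : Ω, ∃ k ∈ N, k • a = b
  · exact ⟨N, hNn, fun x hx => hx.2, htN⟩
  obtain ⟨ω₀⟩ : Nonempty Ω := (Finite.card_pos_iff).1 (by omega)
  set B := stabilizer G ω₀ ⊔ N with hB
  have hsmul : ∀ b ∈ B, ∃ k ∈ N, k • ω₀ = b • ω₀ := by
    intro b hb
    rw [hB, sup_comm, mem_sup_of_normal_left] at hb
    obtain ⟨k, hk, s, hs, rfl⟩ := hb
    exact ⟨k, hk, by rw [mul_smul, (hs : s • ω₀ = ω₀)]⟩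
  set L := B.normalCore with hL
  have hNL : N ≤ L := fun a ha g => mem_sup_right (hNn.conj_mem a ha g)
  set q := QuotientGroup.mk' L
  have hqs : Function.Surjective q := QuotientGroup.mk'_surjective L
  set Bq := B.map q with hBq
  have hLB : L ≤ B := normalCore_le B
  have hcomap : Bq.comap q = B := by
    rw [hBq, comap_map_eq, QuotientGroup.ker_mk', sup_eq_left.2 hLB]
  haveI : FaithfulSMul (G ⧸ L) ((G ⧸ L) ⧸ Bq) := ⟨fun {x y} hxy => by
    obtain ⟨g, rfl⟩ := hqs x
    obtain ⟨g', rfl⟩ := hqs y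
    have hfix : ∀ z : (G ⧸ L) ⧸ Bq, q (g'⁻¹ * g) • z = z := fun z => by
      rw [map_mul, map_inv, mul_smul, inv_smul_eq_iff]
      exact hxy z
    refine QuotientGroup.eq.2 (show g⁻¹ * g' ∈ L from fun w => ?_)
    have := hfix ((q w⁻¹ : G ⧸ L) : (G ⧸ L) ⧸ Bq)
    rw [MulAction.Quotient.smul_coe, smul_eq_mul, QuotientGroup.eq, ← map_mul, ← map_inv,
      ← map_mul, ← mem_comap, hcomap] at this
    have e : (g'⁻¹ * g * w⁻¹)⁻¹ * w⁻¹ = w * (g⁻¹ * g') * w⁻¹ := by group
    rwa [e] at this⟩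
  have hcard : Nat.card ((G ⧸ L) ⧸ Bq) = B.index := by
    calc Nat.card ((G ⧸ L) ⧸ Bq) = Bq.index := rfl
      _ = (Bq.comap q).index := (index_comap_of_surjective _ hqs).symm
      _ = B.index := congrArg Subgroup.index hcomap
  have hidx : B.index < n := by
    rw [← hn, ← index_stabilizer_of_transitive G ω₀]
    refine index_strictAnti (lt_of_le_of_ne le_sup_left fun e => ?_)
    obtain ⟨a, ha, ha1⟩ := (bot_or_exists_ne_one N).resolve_left hN1
    refine ha1 (eq_of_smul_eq_smul fun ω : Ω => ?_)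
    obtain ⟨g, rfl⟩ := exists_smul_eq G ω₀ ω
    have : g⁻¹ * a * g ∈ stabilizer G ω₀ := e ▸ mem_sup_right (hNn.conj_mem' a ha g)
    rw [mem_stabilizer_iff, mul_smul, mul_smul, inv_smul_eq_iff] at this
    rw [one_smul]
    exact this
  have hq : Hyp (G ⧸ L) ((G ⧸ L) ⧸ Bq) := by
    intro x hx
    obtain ⟨g, rfl⟩ := hqs x
    have hg : ∀ ω : Ω, g • ω ≠ ω := by
      intro ω hω
      obtain ⟨w, rfl⟩ := exists_smul_eq G ω₀ ω
      refine hx ((q w : G ⧸ L) : (G ⧸ L) ⧸ Bq) ?_
      rw [MulAction.Quotient.smul_coe, smul_eq_mul, QuotientGroup.eq, ← map_mul, ← map_inv,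
        ← map_mul, ← mem_comap, hcomap]
      have hs : w⁻¹ * g⁻¹ * w ∈ stabilizer G ω₀ := by
        rw [mem_stabilizer_iff, mul_smul, mul_smul, inv_smul_eq_iff, inv_smul_eq_iff, hω]
      rw [mul_inv_rev]
      exact mem_sup_left hs
    refine orderOf_eq_prime ?_ fun e => hx ((1 : G ⧸ L) : (G ⧸ L) ⧸ Bq) (by rw [e, one_smul])
    rw [pow_two, ← map_mul, sq_eq_one h hg, map_one]
  obtain ⟨Kq, hKn, hKsq, hKt⟩ := ih B.index hidx (G ⧸ L) ((G ⧸ L) ⧸ Bq) hcard inferInstance hq
  set K := Kq.comap q with hK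
  haveI := hKn
  -- `K` is transitive on `Ω`
  have hKtr : ∀ g : G, ∃ k ∈ K, k • ω₀ = g • ω₀ := by
    intro g
    obtain ⟨x, hx, hxe⟩ := hKt ((1 : G ⧸ L) : (G ⧸ L) ⧸ Bq) ((q g : G ⧸ L) : (G ⧸ L) ⧸ Bq)
    obtain ⟨k, rfl⟩ := hqs x
    rw [MulAction.Quotient.smul_coe, smul_eq_mul, mul_one, QuotientGroup.eq, ← map_inv, ← map_mul,
      ← mem_comap, hcomap] at hxe
    obtain ⟨m, hm, hme⟩ := hsmul _ hxe
    refine ⟨k * m, mul_mem (show k ∈ K from hx) ?_, ?_⟩
    · show q m ∈ Kq
      rw [show q m = 1 from (QuotientGroup.eq_one_iff m).2 (hNL hm)]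
      exact one_mem _
    · rw [mul_smul, hme, ← mul_smul, mul_inv_cancel_left]
  -- every element of `K` outside `L` is a derangement
  have hout : ∀ k ∈ K, k ∉ L → ∀ ω : Ω, k • ω ≠ ω := by
    intro k hk hkL ω hω
    refine hkL ((QuotientGroup.eq_one_iff k).1 ?_)
    show q k = 1
    obtain ⟨w, rfl⟩ := exists_smul_eq G ω₀ ω
    have hfix : q k • ((q w : G ⧸ L) : (G ⧸ L) ⧸ Bq) = ((q w : G ⧸ L) : (G ⧸ L) ⧸ Bq) := by
      rw [MulAction.Quotient.smul_coe, smul_eq_mul, QuotientGroup.eq, ← map_mul, ← map_inv,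
        ← map_mul, ← mem_comap, hcomap]
      rw [mul_inv_rev]
      refine mem_sup_left ?_
      rw [mem_stabilizer_iff, mul_smul, mul_smul, inv_smul_eq_iff, inv_smul_eq_iff, hω]
    refine eq_of_smul_eq_smul fun z : (G ⧸ L) ⧸ Bq => ?_
    obtain ⟨j, hj, rfl⟩ := hKt ((q w : G ⧸ L) : (G ⧸ L) ⧸ Bq) z
    have hc : q k * j = j * q k := by
      have hi : ∀ y ∈ Kq, y⁻¹ = y := fun y hy => inv_eq_of_mul_eq_one_right (hKsq y hy)
      calc q k * j = (q k * j)⁻¹ := (hi _ (mul_mem (show q k ∈ Kq from hk) hj)).symm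
        _ = j * q k := by rw [mul_inv_rev, hi j hj, hi (q k) hk]
    rw [one_smul, ← mul_smul, hc, mul_smul, hfix]
  have hinv2 : ∀ k ∈ K, k ∉ L → k * k = 1 ∧ ∀ l ∈ L, k * l * k = l⁻¹ := by
    intro k hk hkL
    refine ⟨sq_eq_one h (hout k hk hkL), fun l hl => ?_⟩
    have hkl := sq_eq_one h (hout (k * l)
      (mul_mem hk (show q l ∈ Kq by rw [show q l = 1 from (QuotientGroup.eq_one_iff l).2 hl]; exact one_mem _))
      fun e => hkL ((L.mul_mem_cancel_right hl).1 e))
    exact eq_inv_of_mul_eq_one_left (by simpa [mul_assoc] using hkl)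
  refine ⟨K, inferInstance, ?_, fun a b => ?_⟩
  · intro x hx
    by_cases hxL : x ∈ L
    · by_cases hx1 : x = 1
      · rw [hx1, one_mul]
      refine sq_eq_one h (fun ω hω => hx1 ?_)
      -- `L` is abelian or trivial: it is inverted by any element of `K` outside it
      obtain ⟨w, rfl⟩ := exists_smul_eq G ω₀ ω
      refine eq_of_smul_eq_smul fun z : Ω => ?_
      rw [one_smul]
      obtain ⟨g, rfl⟩ := exists_smul_eq G ω₀ z
      obtain ⟨k₁, hk₁, e₁⟩ := hKtr w
      obtain ⟨k₂, hk₂, e₂⟩ := hKtr g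
      rw [← e₂]
      rw [← e₁] at hω
      -- reduce to the base point
      have hcase : ∀ k ∈ K, ∀ l ∈ L, k⁻¹ * l * k = l ∨ k⁻¹ * l * k = l⁻¹ := by
        intro k hk l hl
        by_cases hkL : k ∈ L
        · left
          by_cases hex : ∃ j ∈ K, j ∉ L
          · obtain ⟨j, hj, hjL⟩ := hex
            have hji := (hinv2 j hj hjL).2
            have hj2 := (hinv2 j hj hjL).1
            have e1 := hji l hl
            have e2 := hji k hkL
            have e3 := hji (k * l) (L.mul_mem hkL hl)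
            have e4 : j * (k * l) * j = (j * k * j) * (j * l * j) := by
              calc j * (k * l) * j = j * k * (j * j) * l * j := by rw [hj2, mul_one, mul_assoc j k l]
                _ = (j * k * j) * (j * l * j) := by group
            rw [e4, e1, e2, ← mul_inv_rev, inv_inj] at e3
            rw [mul_assoc, e3, inv_mul_cancel_left]
          · push Not at hex
            exfalso
            refine htN fun a b => ?_
            obtain ⟨ga, rfl⟩ := exists_smul_eq G ω₀ a
            obtain ⟨gb, rfl⟩ := exists_smul_eq G ω₀ b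
            obtain ⟨ka, hka, ea⟩ := hKtr ga
            obtain ⟨kb, hkb, eb⟩ := hKtr gb
            obtain ⟨m, hm, hme⟩ := hsmul _ (hLB (L.mul_mem (L.inv_mem (hex ka hka)) (hex kb hkb)))
            refine ⟨ka * m * ka⁻¹, hNn.conj_mem m hm ka, ?_⟩
            rw [← ea, ← eb, mul_smul, mul_smul, inv_smul_smul, hme, ← mul_smul, mul_inv_cancel_left]
        · right
          have := hinv2 k hk hkL
          rw [inv_eq_of_mul_eq_one_right this.1, this.2 l hl]
      have h0 : x • ω₀ = ω₀ := by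
        have : (k₁⁻¹ * x * k₁) • ω₀ = ω₀ := by rw [mul_smul, mul_smul, hω, inv_smul_smul]
        rcases hcase k₁ hk₁ x hxL with e | e
        · rwa [e] at this
        · rw [e, inv_smul_eq_iff] at this
          exact this.symm
      rw [← mul_smul, show x * k₂ = k₂ * (k₂⁻¹ * x * k₂) by group, mul_smul]
      congr 1
      rcases hcase k₂ hk₂ x hxL with e | e
      · rw [e, h0]
      · rw [e, inv_smul_eq_iff, h0]
    · exact (hinv2 x hx hxL).1
  · obtain ⟨ga, rfl⟩ := exists_smul_eq G ω₀ a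
    obtain ⟨gb, rfl⟩ := exists_smul_eq G ω₀ b
    obtain ⟨ka, hka, ea⟩ := hKtr ga
    obtain ⟨kb, hkb, eb⟩ := hKtr gb
    exact ⟨kb * ka⁻¹, mul_mem hkb (inv_mem hka), by rw [← ea, ← eb, mul_smul, inv_smul_smul]⟩

/-- A finite transitive group whose derangements are involutions has a normal transitive
elementary abelian 2-subgroup. -/
theorem exists_elementary_transitive [FaithfulSMul G Ω] (h : Hyp G Ω)
    (htr : IsPretransitive G Ω) : ∃ K : Subgroup G, K.Normal ∧ (∀ x ∈ K, x * x = 1) ∧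
      ∀ a b : Ω, ∃ k ∈ K, k • a = b := by
  haveI := htr
  rcases isEmpty_or_nonempty Ω with hE | ⟨⟨ω₀⟩⟩
  · exact ⟨⊥, inferInstance, fun x hx => by rw [mem_bot.1 hx, one_mul], fun a => isEmptyElim a⟩
  set H := stabilizer G ω₀
  let e : G ⧸ H → Ω := fun z => ofQuotientStabilizer G ω₀ z
  have he : ∀ (g : G) (z : G ⧸ H), e (g • z) = g • e z := fun g z =>
    ofQuotientStabilizer_smul G ω₀ g z
  have hes : ∀ ω, ∃ z, e z = ω := fun ω => by
    obtain ⟨g, rfl⟩ := exists_smul_eq G ω₀ ω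
    exact ⟨(g : G ⧸ H), rfl⟩
  have hei : Function.Injective e := injective_ofQuotientStabilizer G ω₀
  haveI : FaithfulSMul G (G ⧸ H) := ⟨fun {x y} hxy => eq_of_smul_eq_smul fun ω : Ω => by
    obtain ⟨z, rfl⟩ := hes ω
    rw [← he, ← he, hxy]⟩
  have hq : Hyp G (G ⧸ H) := fun g hg => h g fun ω hω => by
    obtain ⟨z, rfl⟩ := hes ω
    exact hg z (hei (by rw [he, hω]))
  obtain ⟨K, hKn, hKsq, hKt⟩ := exists_elementary_transitive_aux _ G (G ⧸ H) rfl inferInstance hq
  refine ⟨K, hKn, hKsq, fun a b => ?_⟩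
  obtain ⟨za, rfl⟩ := hes a
  obtain ⟨zb, rfl⟩ := hes b
  obtain ⟨k, hk, hke⟩ := hKt za zb
  exact ⟨k, hk, by rw [← he, hke]⟩

/-- The structure theorem: regular elementary abelian, or Frobenius with such a kernel. -/
theorem structure_theorem [FaithfulSMul G Ω] (h : Hyp G Ω) (htr : IsPretransitive G Ω) :
    (∀ g : G, g * g = 1) ∨ ∃ H K : Subgroup G, (∀ x ∈ K, x * x = 1) ∧ H ≠ ⊥ ∧ H ≠ ⊤ ∧
      (∀ g : G, g ∉ H → H ⊓ (MulAut.conj g • H) = ⊥) ∧
      ∀ x : G, x = 1 ∨ (∀ g : G, x ∉ MulAut.conj g • H) → x ∈ K := by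
  classical
  obtain ⟨K, hKn, hKsq, hKt⟩ := exists_elementary_transitive h htr
  haveI := hKn
  haveI := htr
  have hcomm : ∀ a ∈ K, ∀ b ∈ K, a * b = b * a := fun a ha b hb => by
    have hi : ∀ y ∈ K, y⁻¹ = y := fun y hy => inv_eq_of_mul_eq_one_right (hKsq y hy)
    calc a * b = (a * b)⁻¹ := (hi _ (mul_mem ha hb)).symm
      _ = b * a := by rw [mul_inv_rev, hi a ha, hi b hb]
  have hreg : ∀ k ∈ K, ∀ ω : Ω, k • ω = ω → k = 1 := by
    intro k hk ω hω
    refine eq_of_smul_eq_smul fun z : Ω => ?_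
    obtain ⟨j, hj, rfl⟩ := hKt ω z
    rw [one_smul, ← mul_smul, hcomm k hk j hj, mul_smul, hω]
  by_cases hall : ∀ g : G, g ∈ K
  · exact Or.inl fun g => hKsq g (hall g)
  right
  push Not at hall
  obtain ⟨g₁, hg₁⟩ := hall
  rcases isEmpty_or_nonempty Ω with hE | ⟨⟨ω₀⟩⟩
  · exact absurd (eq_of_smul_eq_smul (fun z : Ω => isEmptyElim z) : g₁ = 1)
      fun e => hg₁ (e ▸ K.one_mem)
  set H := stabilizer G ω₀
  have hdec : ∀ g : G, ∃ k ∈ K, ∃ s ∈ H, g = k * s := by
    intro g
    obtain ⟨k, hk, hke⟩ := hKt ω₀ (g • ω₀)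
    refine ⟨k, hk, k⁻¹ * g, ?_, by rw [mul_inv_cancel_left]⟩
    show (k⁻¹ * g) • ω₀ = ω₀
    rw [mul_smul, ← hke, inv_smul_smul]
  -- fixed point free action of `H`
  have hfpf : ∀ s ∈ H, s ≠ 1 → ∀ k ∈ K, s * k = k * s → k = 1 := by
    intro s hs hs1 k₀ hk₀ hsk₀
    by_contra hk₀1
    let C : Subgroup G :=
      { carrier := {k | k ∈ K ∧ s * k = k * s}
        one_mem' := ⟨one_mem _, by rw [mul_one, one_mul]⟩
        inv_mem' := fun {k} hk => ⟨inv_mem hk.1, by
          rw [inv_eq_of_mul_eq_one_right (hKsq k hk.1), hk.2]⟩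
        mul_mem' := fun {a b} ha hb => ⟨mul_mem ha.1 hb.1, by
          rw [← mul_assoc, ha.2, mul_assoc, hb.2, mul_assoc]⟩ }
    let φ : K →* K := MonoidHom.mk' (fun k => ⟨s * k * s⁻¹ * k,
        mul_mem (hKn.conj_mem _ k.2 s) k.2⟩) fun a b => Subtype.ext (by
      show s * (a * b : G) * s⁻¹ * (a * b) = s * a * s⁻¹ * a * (s * b * s⁻¹ * b)
      calc s * (a * b : G) * s⁻¹ * (a * b) = s * a * s⁻¹ * ((s * b * s⁻¹) * a) * b := by group
        _ = s * a * s⁻¹ * (a * (s * b * s⁻¹)) * b := by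
          rw [hcomm a a.2 _ (hKn.conj_mem _ b.2 s)]
        _ = s * a * s⁻¹ * a * (s * b * s⁻¹ * b) := by group)
    have hker : φ.ker ≠ ⊥ := by
      intro e
      have : (⟨k₀, hk₀⟩ : K) ∈ φ.ker := Subtype.ext (by
        show s * k₀ * s⁻¹ * k₀ = 1
        rw [hsk₀, mul_inv_cancel_right, hKsq k₀ hk₀])
      rw [e, mem_bot] at this
      exact hk₀1 (congrArg Subtype.val this)
    have hrange : φ.range ≠ ⊤ := by
      intro e
      have hs' : Function.Surjective φ := MonoidHom.range_eq_top.1 e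
      exact hker ((MonoidHom.ker_eq_bot_iff φ).2 (Finite.injective_iff_surjective.2 hs'))
    -- elements outside the image commute with `s`
    have hout : ∀ k : K, k ∉ φ.range → s * (k : G) = k * s := by
      intro k hk
      have hd : ∀ ω : Ω, ((k : G) * s) • ω ≠ ω := by
        intro ω hω
        obtain ⟨m, hm, rfl⟩ := hKt ω₀ ω
        refine hk ⟨⟨m, hm⟩, Subtype.ext ?_⟩
        show s * m * s⁻¹ * m = k
        have h1 : m⁻¹ * k * (s * m * s⁻¹) = 1 := by
          refine hreg _ (mul_mem (mul_mem (inv_mem hm) k.2) (hKn.conj_mem m hm s)) ω₀ ?_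
          have hs' : s⁻¹ • ω₀ = ω₀ := inv_smul_eq_iff.2 (hs : s • ω₀ = ω₀).symm
          rw [mul_smul, mul_smul, mul_smul, mul_smul, hs', ← mul_smul (k : G) s, hω,
            inv_smul_smul]
        calc s * m * s⁻¹ * m = (m⁻¹ * (k : G))⁻¹ * m := by rw [eq_inv_of_mul_eq_one_right h1]
          _ = (k : G)⁻¹ * (m * m) := by group
          _ = k := by rw [hKsq m hm, mul_one, inv_eq_of_mul_eq_one_right (hKsq _ k.2)]
      have h2 := sq_eq_one h hd
      have hkk : (k : G) * (s * k * s⁻¹) ∈ K := mul_mem k.2 (hKn.conj_mem _ k.2 s)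
      have hss : s * s = 1 := by
        refine hreg _ ?_ ω₀ (by rw [mul_smul, hs, hs])
        have e : s * s = ((k : G) * (s * k * s⁻¹))⁻¹ := by
          refine eq_inv_of_mul_eq_one_right ?_
          calc (k : G) * (s * k * s⁻¹) * (s * s) = k * s * (k * s) := by group
            _ = 1 := h2
        rw [e]
        exact inv_mem hkk
      have e3 : s * (k : G) * s = k := by
        have : (k : G) * (s * k * s) = 1 := by simpa [mul_assoc] using h2
        rw [← inv_eq_of_mul_eq_one_right this, inv_eq_of_mul_eq_one_right (hKsq _ k.2)]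
      calc s * (k : G) = s * k * (s * s) := by rw [hss, mul_one]
        _ = k * s := by rw [← mul_assoc, e3]
    have hallC : ∀ k ∈ K, s * k = k * s := by
      intro k hk
      by_cases hkr : (⟨k, hk⟩ : K) ∈ φ.range
      · obtain ⟨j, hj⟩ : ∃ j : K, j ∉ φ.range := by
          by_contra hh
          push Not at hh
          exact hrange (eq_top_iff.2 fun j _ => hh j)
        have hjk : j * ⟨k, hk⟩ ∉ φ.range := fun e => hj ((φ.range.mul_mem_cancel_right hkr).1 e)
        have h3 : (j : G)⁻¹ * (j * k) ∈ C :=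
          C.mul_mem (C.inv_mem ⟨j.2, hout j hj⟩) ⟨mul_mem j.2 hk, hout _ hjk⟩
        rw [inv_mul_cancel_left] at h3
        exact h3.2
      · exact hout _ hkr
    refine hs1 (eq_of_smul_eq_smul fun z : Ω => ?_)
    obtain ⟨j, hj, rfl⟩ := hKt ω₀ z
    rw [one_smul, ← mul_smul, hallC j hj, mul_smul, (hs : s • ω₀ = ω₀)]
  have hconj : ∀ g x : G, x ∈ MulAut.conj g • H ↔ x • g • ω₀ = g • ω₀ := by
    intro g x
    rw [mem_pointwise_smul_iff_inv_smul_mem, MulAut.smul_def, MulAut.conj_inv_apply,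
      mem_stabilizer_iff, mul_smul, mul_smul, inv_smul_eq_iff]
  refine ⟨H, K, hKsq, fun e => ?_, fun e => ?_, fun g hg => ?_, ?_⟩
  · obtain ⟨k, hk, s, hs, rfl⟩ := hdec g₁
    rw [e, mem_bot] at hs
    exact hg₁ (by rw [hs, mul_one]; exact hk)
  · obtain ⟨k, hk, s, hs, rfl⟩ := hdec g₁
    have hs1 : s ≠ 1 := fun e1 => hg₁ (by rw [e1, mul_one]; exact hk)
    refine hs1 (eq_of_smul_eq_smul fun z : Ω => ?_)
    obtain ⟨w, rfl⟩ := exists_smul_eq G ω₀ z
    have hw : w ∈ H := e ▸ mem_top w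
    rw [one_smul, (hw : w • ω₀ = ω₀), (hs : s • ω₀ = ω₀)]
  · refine eq_bot_iff.2 fun x hx => ?_
    rw [mem_bot]
    by_contra hx1
    obtain ⟨k, hk, s, hs, rfl⟩ := hdec g
    have h2 := (hconj (k * s) x).1 hx.2
    rw [mul_smul, (hs : s • ω₀ = ω₀)] at h2
    have hk1 : k ≠ 1 := fun e => hg (by rw [e, one_mul]; exact hs)
    refine hk1 (hfpf x hx.1 hx1 k hk ?_)
    have h3 : x * k * x⁻¹ * k⁻¹ = 1 := by
      refine hreg _ (mul_mem (hKn.conj_mem k hk x) (inv_mem hk)) (k • ω₀) ?_
      rw [mul_smul, inv_smul_smul, mul_smul, mul_smul,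
        inv_smul_eq_iff.2 (hx.1 : x • ω₀ = ω₀).symm, h2]
    exact mul_inv_eq_iff_eq_mul.1 (by simpa [mul_inv_eq_one] using h3)
  · rintro x (rfl | hx)
    · exact one_mem _
    obtain ⟨k, hk, s, hs, rfl⟩ := hdec x
    by_cases hs1 : s = 1
    · rw [hs1, mul_one]; exact hk
    exfalso
    -- `m ↦ (s m s⁻¹) m` is onto `K`
    let f : K → K := fun m => ⟨s * m * s⁻¹ * m, mul_mem (hKn.conj_mem _ m.2 s) m.2⟩
    have hinj : Function.Injective f := by
      intro a b e
      have e' : s * (a : G) * s⁻¹ * a = s * b * s⁻¹ * b := congrArg Subtype.val e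
      have h4 : s * ((a : G) * b) = (a * b) * s := by
        have e5 : s * ((a : G) * b) * s⁻¹ = a * b := by
          calc s * ((a : G) * b) * s⁻¹ = (s * a * s⁻¹ * a) * a * (s * b * s⁻¹) := by
                rw [mul_assoc (s * a * s⁻¹), hKsq _ a.2]; group
            _ = (s * b * s⁻¹) * b * a * (s * b * s⁻¹) := by rw [e']
            _ = (s * b * s⁻¹) * ((s * b * s⁻¹) * (b * a)) := by
                rw [mul_assoc (s * b * s⁻¹) (b : G) a, mul_assoc,
                  hcomm _ (mul_mem b.2 a.2) _ (hKn.conj_mem _ b.2 s)]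
            _ = a * b := by
                rw [← mul_assoc, hKsq _ (hKn.conj_mem _ b.2 s), one_mul, hcomm _ a.2 _ b.2]
        exact mul_inv_eq_iff_eq_mul.1 e5
      have h5 := hfpf s hs hs1 _ (mul_mem a.2 b.2) h4
      exact Subtype.ext ((mul_eq_one_iff_eq_inv.1 h5).trans
        (inv_eq_of_mul_eq_one_right (hKsq _ b.2)))
    obtain ⟨m, hm⟩ := Finite.surjective_of_injective hinj ⟨k, hk⟩
    have hm' : s * (m : G) * s⁻¹ * m = k := congrArg Subtype.val hm
    refine hx m ((hconj m _).2 ?_)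
    have hsω : s • ω₀ = ω₀ := hs
    have hu : s * (m : G) * s⁻¹ ∈ K := hKn.conj_mem _ m.2 s
    calc (k * s) • (m : G) • ω₀ = (k * (s * m * s⁻¹)) • s • ω₀ := by
          rw [← mul_smul, ← mul_smul]; group
      _ = (k * (s * m * s⁻¹)) • ω₀ := by rw [hsω]
      _ = (m : G) • ω₀ := by
          rw [← hm', mul_assoc, hcomm (m : G) m.2 _ hu, ← mul_assoc, hKsq _ hu, one_mul]

end Cfsg.Agent.Perm.InvDer
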