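import Cfsg.Agent.Lib.Perm.Transitive
import Mathlib

/-!
# No 4-transitive group of degree at least 12 has a semiregular four-point stabiliser of odd order
-/

set_option autoImplicit false

namespace Cfsg.Agent.Perm

open MulAction Finset

/-- Two involutions with product of odd order are conjugate by a power of the product. -/
theorem exists_conj_of_odd_mul {G : Type*} [Group G] {u v : G} (hu : u * u = 1) (hv : v * v = 1)
    (ho : Odd (orderOf (u * v))) :
    ∃ i : ℕ, (u * v) ^ i * v * ((u * v) ^ i)⁻¹ = u := by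
  obtain ⟨j, hj⟩ := ho
  set w := u * v with hw
  have hui : u⁻¹ = u := inv_eq_of_mul_eq_one_right hu
  have hvi : v⁻¹ = v := inv_eq_of_mul_eq_one_right hv
  have hvw : v * w * v⁻¹ = w⁻¹ := by
    rw [hw, mul_inv_rev, hvi, hui, mul_assoc, mul_assoc, hv, mul_one]
  have hvwj : ∀ k : ℕ, v * w ^ k * v⁻¹ = (w⁻¹) ^ k := fun k => by rw [← conj_pow, hvw]
  refine ⟨j + 1, ?_⟩
  have h1 : w ^ (2 * j + 1) = 1 := hj ▸ pow_orderOf_eq_one w
  calc w ^ (j + 1) * v * (w ^ (j + 1))⁻¹
      = w ^ (j + 1) * (v * w⁻¹ ^ (j + 1) * v⁻¹) * v := by rw [inv_pow]; group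
    _ = w ^ (j + 1) * w ^ (j + 1) * v := by
        rw [inv_pow, ← conj_inv, hvwj, inv_pow, inv_inv]
    _ = w ^ (2 * j + 1) * w * v := by
        rw [← pow_add, ← pow_succ, show j + 1 + (j + 1) = 2 * j + 1 + 1 by omega]
    _ = u := by rw [h1, one_mul, hw, mul_assoc, hv, mul_one]

/-- An element whose square has odd order has an odd power which is an involution or trivial. -/
theorem pow_sq_eq_one {G : Type*} [Group G] (g : G) :
    g ^ orderOf (g * g) * g ^ orderOf (g * g) = 1 := by
  rw [← pow_add, ← two_mul, pow_mul, pow_two, pow_orderOf_eq_one]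

variable {G α : Type*} [Group G] [MulAction G α] [Finite G] [Fintype α] [DecidableEq α]

/-- 4-transitive, elements fixing four points have odd order. -/
structure FourOdd (G α : Type*) [Group G] [MulAction G α] : Prop where
  four : IsMultiplyPretransitive G α 4
  odd : ∀ (g : G) (a b c d : α), a ≠ b → a ≠ c → a ≠ d → b ≠ c → b ≠ d → c ≠ d →
    g • a = a → g • b = b → g • c = c → g • d = d → Odd (orderOf g)

namespace FourOdd

variable (S : FourOdd G α)
include S

/-- An involution swapping `a, b` and fixing `c, d`. -/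
theorem exists_swap {a b c d : α} (hab : a ≠ b) (hac : a ≠ c) (had : a ≠ d) (hbc : b ≠ c)
    (hbd : b ≠ d) (hcd : c ≠ d) :
    ∃ z : G, z * z = 1 ∧ z • a = b ∧ z • b = a ∧ z • c = c ∧ z • d = d := by
  obtain ⟨g, g1, g2, g3, g4⟩ := exists_smul_eq_four S.four hab hac had hbc hbd hcd hab.symm hbc
    hbd hac had hcd
  obtain ⟨j, hj⟩ := S.odd (g * g) a b c d hab hac had hbc hbd hcd (by rw [mul_smul, g1, g2])
    (by rw [mul_smul, g2, g1]) (by rw [mul_smul, g3, g3]) (by rw [mul_smul, g4, g4])
  refine ⟨g ^ orderOf (g * g), pow_sq_eq_one g, ?_⟩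
  have key : ∀ x : α, g • g • x = x → g ^ orderOf (g * g) • x = g • x := by
    intro x hx
    have h : g * g ∈ stabilizer G x := by
      show (g * g) • x = x
      rw [mul_smul, hx]
    rw [hj, pow_succ', mul_smul, pow_mul, pow_two]
    congr 1
    exact (stabilizer G x).pow_mem h j
  rw [key a (by rw [g1, g2]), key b (by rw [g2, g1]), key c (by rw [g3, g3]),
    key d (by rw [g4, g4])]
  exact ⟨g1, g2, g3, g4⟩

/-- An involution moving two cycles `(a, z a)`, `(c, z c)` has its centraliser transitive on such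
pairs of cycles. -/
theorem centralizer_trans {z : G} (hz : z * z = 1) {a c c' : α} (ha : z • a ≠ a) (hc : z • c ≠ c)
    (hc' : z • c' ≠ c') (h1 : c ≠ a) (h2 : c ≠ z • a) (h1' : c' ≠ a) (h2' : c' ≠ z • a) :
    ∃ g : G, g * z = z * g ∧ g • a = a ∧ g • c = c' := by
  have hzz : ∀ x : α, z • z • x = x := fun x => by rw [← mul_smul, hz, one_smul]
  obtain ⟨g, ga, gza, gc, gzc⟩ := exists_smul_eq_four S.four ha.symm h1.symm
    (fun e : a = z • c => h2 (by rw [e, hzz])) h2.symm
    (fun e : z • a = z • c => h1 (smul_left_cancel z e).symm) hc.symm ha.symm h1'.symm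
    (fun e : a = z • c' => h2' (by rw [e, hzz])) h2'.symm
    (fun e : z • a = z • c' => h1' (smul_left_cancel z e).symm) hc'.symm
  set z1 := g * z * g⁻¹ with hz1
  have hz1' : z1 * z1 = 1 := by
    rw [hz1, show g * z * g⁻¹ * (g * z * g⁻¹) = g * (z * z) * g⁻¹ by group, hz, mul_one,
      mul_inv_cancel]
  have e1 : z1 • a = z • a := by rw [hz1, mul_smul, mul_smul, inv_smul_eq_iff.2 ga.symm, gza]
  have e2 : z1 • z • a = a := by rw [hz1, mul_smul, mul_smul, inv_smul_eq_iff.2 gza.symm, hzz, ga]
  have e3 : z1 • c' = z • c' := by rw [hz1, mul_smul, mul_smul, inv_smul_eq_iff.2 gc.symm, gzc]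
  have e4 : z1 • z • c' = c' := by
    rw [hz1, mul_smul, mul_smul, inv_smul_eq_iff.2 gzc.symm, hzz, gc]
  have f1 : (z * z1) • a = a := by rw [mul_smul, e1, hzz]
  have f2 : (z * z1) • z • a = z • a := by rw [mul_smul, e2]
  have f3 : (z * z1) • c' = c' := by rw [mul_smul, e3, hzz]
  have f4 : (z * z1) • z • c' = z • c' := by rw [mul_smul, e4]
  have hodd := S.odd (z * z1) a (z • a) c' (z • c') ha.symm h1'.symm
    (fun e => h2' (by rw [e, hzz])) h2'.symm (fun e => h1' (smul_left_cancel z e).symm) hc'.symm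
    f1 f2 f3 f4
  obtain ⟨i, hi⟩ := exists_conj_of_odd_mul hz hz1' hodd
  refine ⟨(z * z1) ^ i * g, ?_, ?_, ?_⟩
  · have h := hi
    rw [mul_inv_eq_iff_eq_mul] at h
    calc (z * z1) ^ i * g * z = (z * z1) ^ i * z1 * g := by rw [hz1]; group
      _ = z * (z * z1) ^ i * g := by rw [h]
      _ = z * ((z * z1) ^ i * g) := mul_assoc _ _ _
  · rw [mul_smul, ga]
    exact (stabilizer G a).pow_mem f1 i
  · rw [mul_smul, gc]
    exact (stabilizer G c').pow_mem f3 i

end FourOdd

/-- The hypotheses: 4-transitive, elements fixing four points have odd order, only the identity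
fixes five points. -/
structure OddFour (G α : Type*) [Group G] [MulAction G α] : Prop extends FourOdd G α where
  free : ∀ (g : G) (s : Finset α), 5 ≤ s.card → (∀ x ∈ s, g • x = x) → g = 1

namespace OddFour

variable (S : OddFour G α)
include S

/-- No involution fixes three points. -/
theorem not_three_fixed (hn : 12 ≤ Fintype.card α) {z : G} (hz : z * z = 1) (hz1 : z ≠ 1)
    {p q r : α} (hpq : p ≠ q) (hpr : p ≠ r) (hqr : q ≠ r) (hp : z • p = p) (hq : z • q = q)
    (hr : z • r = r) : False := by
  classical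
  have : Fintype G := Fintype.ofFinite G
  have honly : ∀ x, z • x = x → x = p ∨ x = q ∨ x = r := by
    intro x hx
    by_contra h
    simp only [not_or] at h
    have := S.odd z p q r x hpq hpr (Ne.symm h.1) hqr (Ne.symm h.2.1) (Ne.symm h.2.2) hp hq hr hx
    rw [orderOf_eq_prime (p := 2) (by rw [pow_two]; exact hz) hz1] at this
    exact absurd this (by decide)
  obtain ⟨a, -, ha⟩ := exists_mem_notMem_of_card_lt_card (s := ({p, q, r} : Finset α))
    (t := univ) (by have := card_le_three (a := p) (b := q) (c := r); rw [card_univ]; omega)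
  simp only [mem_insert, mem_singleton, not_or] at ha
  have hza : z • a ≠ a := fun e => by rcases honly a e with h | h | h <;> simp [h] at ha
  let R : Finset α := univ \ {p, q, r, a, z • a}
  have hR : Fintype.card α - 5 ≤ R.card := by
    rw [card_sdiff_of_subset (subset_univ _), card_univ]
    have := card_le_five (a := p) (b := q) (c := r) (d := a) (e := z • a)
    omega
  have hmemR : ∀ x, x ∈ R ↔ ¬ (z • x = x) ∧ x ≠ a ∧ x ≠ z • a := by
    intro x
    simp only [R, mem_sdiff, mem_univ, true_and, mem_insert, mem_singleton, not_or]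
    exact ⟨fun h => ⟨fun e => by rcases honly x e with e' | e' | e' <;> simp [e'] at h, h.2.2.2.1,
      h.2.2.2.2⟩, fun h => ⟨fun e => h.1 (e ▸ hp), fun e => h.1 (e ▸ hq), fun e => h.1 (e ▸ hr),
      h.2.1, h.2.2⟩⟩
  obtain ⟨c, hc⟩ := card_pos.1 (show 0 < R.card by omega)
  rw [hmemR] at hc
  let C : Finset G := univ.filter fun g => g * z = z * g ∧ g • a = a
  have hsur : R ⊆ C.image fun g => g • c := by
    intro x hx
    rw [hmemR] at hx
    obtain ⟨g, hg, hga, hgc⟩ :=
      S.centralizer_trans hz hza hc.1 hx.1 hc.2.1 hc.2.2 hx.2.1 hx.2.2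
    exact mem_image.2 ⟨g, mem_filter.2 ⟨mem_univ _, hg, hga⟩, hgc⟩
  have hcomm : ∀ g ∈ C, ∀ x : α, g • z • x = z • g • x := fun g hg x => by
    rw [← mul_smul, (mem_filter.1 hg).2.1, mul_smul]
  have hC : C.card ≤ ({p, q, r} : Finset α).offDiag.card := by
    refine card_le_card_of_injOn (fun g => (g • p, g • q)) (fun g hg => ?_) fun g hg g' hg' e => ?_
    · have hfp : z • g • p = g • p := by rw [← hcomm g hg, hp]
      have hfq : z • g • q = g • q := by rw [← hcomm g hg, hq]
      rw [mem_coe, mem_offDiag]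
      simp only [mem_insert, mem_singleton]
      exact ⟨honly _ hfp, honly _ hfq, fun e => hpq (smul_left_cancel g e)⟩
    · simp only [Prod.mk.injEq] at e
      set k := g'⁻¹ * g with hk
      have hkp : k • p = p := by rw [hk, mul_smul, e.1, inv_smul_smul]
      have hkq : k • q = q := by rw [hk, mul_smul, e.2, inv_smul_smul]
      have hka : k • a = a := by
        rw [hk, mul_smul, (mem_filter.1 hg).2.2, inv_smul_eq_iff, (mem_filter.1 hg').2.2]
      have hkz : ∀ x : α, k • z • x = z • k • x := fun x => by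
        rw [hk, mul_smul, mul_smul, hcomm g hg, inv_smul_eq_iff, hcomm g' hg', smul_inv_smul]
      have hkr : k • r = r := by
        rcases honly (k • r) (by rw [← hkz, hr]) with h | h | h
        · exact absurd (smul_left_cancel k (h.trans hkp.symm)) hpr.symm
        · exact absurd (smul_left_cancel k (h.trans hkq.symm)) hqr.symm
        · exact h
      refine (inv_mul_eq_one.1 (S.free k {p, q, r, a, z • a} ?_ ?_)).symm
      · rw [card_insert_of_notMem, card_insert_of_notMem, card_insert_of_notMem,
          card_pair hza.symm]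
        · simpa using ⟨Ne.symm ha.2.2, fun e => hza (by
            have := congrArg (z • ·) e
            simp only [hr, ← mul_smul, hz, one_smul] at this
            rw [← e, this])⟩
        · simpa using ⟨hqr, Ne.symm ha.2.1, fun e => hza (by
            have := congrArg (z • ·) e
            simp only [hq, ← mul_smul, hz, one_smul] at this
            rw [← e, this])⟩
        · simpa using ⟨hpq, hpr, Ne.symm ha.1, fun e => hza (by
            have := congrArg (z • ·) e
            simp only [hp, ← mul_smul, hz, one_smul] at this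
            rw [← e, this])⟩
      · simp only [mem_insert, mem_singleton, forall_eq_or_imp, forall_eq]
        exact ⟨hkp, hkq, hkr, hka, by rw [hkz, hka]⟩
  rw [offDiag_card] at hC
  have h3 := card_le_three (a := p) (b := q) (c := r)
  have h9 : ({p, q, r} : Finset α).card * ({p, q, r} : Finset α).card -
      ({p, q, r} : Finset α).card ≤ 6 := by
    generalize ({p, q, r} : Finset α).card = t at h3 ⊢
    interval_cases t <;> norm_num
  have h4 := (card_le_card hsur).trans card_image_le
  omega

variable (hn : 12 ≤ Fintype.card α)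
include hn

/-- An involution fixing two points fixes exactly two. -/
theorem fixed_two {z : G} (hz : z * z = 1) (hz1 : z ≠ 1) {p q x : α} (hpq : p ≠ q)
    (hp : z • p = p) (hq : z • q = q) (hx : z • x = x) : x = p ∨ x = q := by
  by_contra h
  simp only [not_or] at h
  exact S.not_three_fixed hn hz hz1 hpq (Ne.symm h.1) (Ne.symm h.2) hp hq hx

/-- The four-point stabiliser of a cycle and the fixed points centralises the involution. -/
theorem stab_commute {z : G} (hz : z * z = 1) {p q a : α} (hpq : p ≠ q) (hp : z • p = p)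
    (hq : z • q = q) (hza : z • a ≠ a) {h : G} (hhp : h • p = p) (hhq : h • q = q) (hha : h • a = a)
    (hhza : h • z • a = z • a) : h * z = z * h := by
  classical
  have : Fintype G := Fintype.ofFinite G
  have hz1 : z ≠ 1 := fun e => hza (by rw [e, one_smul])
  have honly := fun x => S.fixed_two hn hz hz1 hpq hp hq (x := x)
  have hne : p ≠ a ∧ p ≠ z • a ∧ q ≠ a ∧ q ≠ z • a :=
    ⟨fun e => hza (e ▸ hp), fun e => hza (by
      have := congrArg (z • ·) e
      simp only [hp, ← mul_smul, hz, one_smul] at this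
      rw [← e, this]), fun e => hza (e ▸ hq), fun e => hza (by
      have := congrArg (z • ·) e
      simp only [hq, ← mul_smul, hz, one_smul] at this
      rw [← e, this])⟩
  let D : Finset α := {p, q, a, z • a}
  have hD : D.card = 4 := by
    rw [card_insert_of_notMem, card_insert_of_notMem, card_pair hza.symm]
    · simpa using ⟨hne.2.2.1, hne.2.2.2⟩
    · simpa using ⟨hpq, hne.1, hne.2.1⟩
  let R : Finset α := univ \ D
  have hR : R.card = Fintype.card α - 4 := by
    rw [card_sdiff_of_subset (subset_univ _), card_univ, hD]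
  have hmemR : ∀ x, x ∈ R ↔ ¬ (z • x = x) ∧ x ≠ a ∧ x ≠ z • a := by
    intro x
    simp only [R, D, mem_sdiff, mem_univ, true_and, mem_insert, mem_singleton, not_or]
    exact ⟨fun h => ⟨fun e => by rcases honly x e with e' | e' <;> simp [e'] at h, h.2.2.1,
      h.2.2.2⟩, fun h => ⟨fun e => h.1 (e ▸ hp), fun e => h.1 (e ▸ hq), h.2.1, h.2.2⟩⟩
  -- the four-point stabiliser, semiregular of odd order
  let H : Subgroup G := fixingSubgroup G (D : Set α)
  have hH : ∀ g : G, g ∈ H ↔ g • p = p ∧ g • q = q ∧ g • a = a ∧ g • z • a = z • a := fun g => by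
    simp [H, D, mem_fixingSubgroup_iff]
  have hHR : ∀ g : H, ∀ x ∈ R, (g : G) • x ∈ R := by
    intro g x hx
    simp only [R, mem_sdiff, mem_univ, true_and] at hx ⊢
    intro h
    exact hx (smul_left_cancel (g : G) ((mem_fixingSubgroup_iff G).1 g.2 _ (by simpa using h)) ▸ h)
  let O : SubMulAction H α := ⟨(R : Set α), fun g x hx => hHR g x hx⟩
  have hfreeH : ∀ x : O, stabilizer H x = ⊥ := by
    refine fun x => (Subgroup.eq_bot_iff_forall _).2 fun g hg => Subtype.ext ?_
    have hx : (x : α) ∈ R := x.2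
    refine S.free (g : G) (insert (x : α) D) ?_ fun y hy => ?_
    · rw [card_insert_of_notMem (mem_sdiff.1 hx).2, hD]
    · rcases mem_insert.1 hy with rfl | hy
      · exact congrArg Subtype.val hg
      · exact (mem_fixingSubgroup_iff G).1 g.2 y (by simpa using hy)
  have hdvd : Nat.card H ∣ R.card := by
    have e := Nat.card_congr (selfEquivOrbitsQuotientProd hfreeH)
    rw [Nat.card_prod] at e
    exact Dvd.intro_left _ (e.symm.trans (Nat.card_eq_finsetCard R))
  have hHodd : Odd (Nat.card H) := by
    rw [← Nat.not_even_iff_odd, even_iff_two_dvd]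
    intro h2
    have : Fact (Nat.Prime 2) := ⟨Nat.prime_two⟩
    obtain ⟨g, hg⟩ := exists_prime_orderOf_dvd_card' (G := H) 2 h2
    obtain ⟨g1, g2, g3, g4⟩ := (hH g).1 g.2
    have := S.odd (g : G) p q a (z • a) hpq hne.1 hne.2.1 hne.2.2.1 hne.2.2.2 hza.symm g1 g2 g3 g4
    rw [Subgroup.orderOf_coe, hg] at this
    exact absurd this (by decide)
  have heven : Even R.card := by
    have hinv : ∀ x ∈ R, z • x ∈ R := fun x hx => by
      rw [hmemR] at hx ⊢
      refine ⟨fun e => hx.1 (smul_left_cancel z e), fun e => hx.2.2 ?_,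
        fun e => hx.2.1 (smul_left_cancel z e)⟩
      rw [← e, ← mul_smul, hz, one_smul]
    have hsum : ∑ _x ∈ R, (1 : ZMod 2) = 0 :=
      sum_involution (fun x _ => z • x) (fun x _ => by decide)
        (fun x hx _ => ((hmemR x).1 hx).1) (fun x hx => hinv x hx)
        (fun x _ => by rw [← mul_smul, hz, one_smul])
    rw [sum_const, nsmul_one] at hsum
    exact (ZMod.natCast_eq_zero_iff_even).1 hsum
  -- the centraliser of `z` fixing `a`
  let C : Finset G := univ.filter fun g => g * z = z * g ∧ g • a = a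
  obtain ⟨c, hc⟩ := card_pos.1 (show 0 < R.card by omega)
  rw [hmemR] at hc
  have hsur : R ⊆ C.image fun g => g • c := by
    intro x hx
    rw [hmemR] at hx
    obtain ⟨g, hg, hga, hgc⟩ :=
      S.centralizer_trans hz hza hc.1 hx.1 hc.2.1 hc.2.2 hx.2.1 hx.2.2
    exact mem_image.2 ⟨g, mem_filter.2 ⟨mem_univ _, hg, hga⟩, hgc⟩
  let K : Finset G := C.filter fun g => g • p = p
  have hKH : ∀ g ∈ K, g ∈ H := by
    intro g hg
    simp only [K, C, mem_filter, mem_univ, true_and] at hg
    obtain ⟨⟨hgz, hga⟩, hgp⟩ := hg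
    have hcm : ∀ x : α, g • z • x = z • g • x := fun x => by rw [← mul_smul, hgz, mul_smul]
    rw [hH]
    refine ⟨hgp, ?_, hga, by rw [hcm, hga]⟩
    rcases honly (g • q) (by rw [← hcm, hq]) with e | e
    · exact absurd (smul_left_cancel g (hgp.trans e.symm)) hpq
    · exact e
  have hCK : C.card ≤ K.card + K.card := by
    refine le_trans (le_of_eq (card_filter_add_card_filter_not (fun g : G => g • p = p)).symm) ?_
    refine Nat.add_le_add_left ?_ _
    rcases (C.filter fun g => ¬ g • p = p).eq_empty_or_nonempty with h | ⟨g0, hg0⟩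
    · simp [h]
    refine card_le_card_of_injOn (fun g => g0⁻¹ * g) (fun g hg => ?_) (fun g _ g' _ e =>
      mul_left_cancel e)
    simp only [C, mem_coe, mem_filter, mem_univ, true_and] at hg hg0
    simp only [K, C, mem_coe, mem_filter, mem_univ, true_and]
    have hqq : ∀ g : G, g * z = z * g → ¬ g • p = p → g • p = q := fun g hgz hgp =>
      (honly (g • p) (by rw [← mul_smul, ← hgz, mul_smul, hp])).resolve_left hgp
    refine ⟨⟨?_, ?_⟩, ?_⟩
    · exact (Commute.inv_left hg0.1.1).mul_left hg.1.1
    · rw [mul_smul, hg.1.2, inv_smul_eq_iff, hg0.1.2]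
    · rw [mul_smul, hqq g hg.1.1 hg.2, inv_smul_eq_iff, hqq g0 hg0.1.1 hg0.2]
  have hRC := (card_le_card hsur).trans card_image_le
  let HF : Finset G := univ.filter fun g => g ∈ H
  have hHF : HF.card = Nat.card H := by
    rw [← Nat.card_eq_finsetCard]
    exact Nat.card_congr (Equiv.subtypeEquivRight fun g => by simp [HF])
  have hKle : K ⊆ HF := fun g hg => mem_filter.2 ⟨mem_univ _, hKH g hg⟩
  have hHle : Nat.card H + Nat.card H ≤ R.card := by
    obtain ⟨t, ht⟩ := hdvd
    rcases Nat.lt_or_ge t 2 with h | h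
    · interval_cases t
      · omega
      · rw [ht, mul_one] at heven
        exact absurd heven (Nat.not_even_iff_odd.2 hHodd)
    · rw [ht]
      have := Nat.mul_le_mul_left (Nat.card H) h
      omega
  have hEq : K = HF := eq_of_subset_of_card_le hKle (by omega)
  have hmem : h ∈ HF := mem_filter.2 ⟨mem_univ _, (hH h).2 ⟨hhp, hhq, hha, hhza⟩⟩
  rw [← hEq] at hmem
  exact (mem_filter.1 (mem_filter.1 hmem).1).2.1

/-- Only one involution fixes two given points and exchanges two given others. -/
theorem swap_unique {z s : G} (hz : z * z = 1) (hs : s * s = 1) {p q a b : α} (hpq : p ≠ q)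
    (hab : a ≠ b) (hp : z • p = p) (hq : z • q = q) (hsp : s • p = p) (hsq : s • q = q)
    (hza : z • a = b) (hsa : s • a = b) : s = z := by
  have hza' : z • a ≠ a := by rw [hza]; exact hab.symm
  have hzb : z • b = a := by rw [← hza, ← mul_smul, hz, one_smul]
  have hsb : s • b = a := by rw [← hsa, ← mul_smul, hs, one_smul]
  have f1 : (z * s) • p = p := by rw [mul_smul, hsp, hp]
  have f2 : (z * s) • q = q := by rw [mul_smul, hsq, hq]
  have f3 : (z * s) • a = a := by rw [mul_smul, hsa, hzb]
  have f4 : (z * s) • z • a = z • a := by rw [mul_smul, hza, hsb, hza]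
  have hne : p ≠ a ∧ p ≠ b ∧ q ≠ a ∧ q ≠ b :=
    ⟨fun e => hza' (e ▸ hp), fun e => hab (by rw [← hzb, ← e, hp]), fun e => hza' (e ▸ hq),
      fun e => hab (by rw [← hzb, ← e, hq])⟩
  obtain ⟨i, hi⟩ := exists_conj_of_odd_mul hz hs (S.odd (z * s) p q a b hpq hne.1 hne.2.1 hne.2.2.1
    hne.2.2.2 hab f1 f2 f3 (by rw [← hza]; exact f4))
  have hh : (z * s) ^ i * z = z * (z * s) ^ i := S.stab_commute hn hz hpq hp hq hza'
    ((stabilizer G p).pow_mem f1 i) ((stabilizer G q).pow_mem f2 i)
    ((stabilizer G a).pow_mem f3 i) ((stabilizer G (z • a)).pow_mem f4 i)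
  rw [mul_inv_eq_iff_eq_mul, ← hh] at hi
  exact mul_left_cancel hi

/-- There is no such group. -/
theorem false : False := by
  classical
  obtain ⟨F, -, hF⟩ := exists_subset_card_eq (s := (univ : Finset α)) (n := 4)
    (by rw [card_univ]; omega)
  obtain ⟨p, q, u, v, hpq, hpu, hpv, hqu, hqv, huv, rfl⟩ := card_eq_four.1 hF
  obtain ⟨y, hy, hyp, hyq, hyu, hyv⟩ := S.exists_swap hpq hpu hpv hqu hqv huv
  have hy1 : y ≠ 1 := fun e => hpq (by rw [← hyp, e, one_smul])
  have hyF := fun x => S.fixed_two hn hy hy1 huv hyu hyv (x := x)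
  obtain ⟨s0, hs0, hs0u, -, hs0p, hs0q⟩ :=
    S.exists_swap huv hpu.symm hqu.symm hpv.symm hqv.symm hpq
  have hagree : ∀ a ∈ univ \ ({p, q, u, v} : Finset α), s0 • a = y • a := by
    intro a ha
    simp only [mem_sdiff, mem_univ, true_and, mem_insert, mem_singleton, not_or] at ha
    obtain ⟨hap, haq, hau, hav⟩ := ha
    set b := y • a with hb
    have hyb : y • b = a := by rw [hb, ← mul_smul, hy, one_smul]
    have hab : a ≠ b := fun e => by
      rcases hyF a e.symm with h | h
      · exact hau h
      · exact hav h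
    have hbp : b ≠ p := fun e => haq (by rw [← hyb, e, hyp])
    have hbq : b ≠ q := fun e => hap (by rw [← hyb, e, hyq])
    obtain ⟨s, hs, hsa, hsb, hsp, hsq⟩ := S.exists_swap hab hap haq hbp hbq hpq
    have hs1 : s ≠ 1 := fun e => hab (by rw [← hsa, e, one_smul])
    have hyi : y⁻¹ = y := inv_eq_of_mul_eq_one_right hy
    have hconj : y * s * y⁻¹ = s := by
      refine S.swap_unique hn hs (by
        rw [show y * s * y⁻¹ * (y * s * y⁻¹) = y * (s * s) * y⁻¹ by group, hs, mul_one,
          mul_inv_cancel]) hpq hab hsp hsq ?_ ?_ hsa ?_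
      · rw [hyi, mul_smul, mul_smul, hyp, hsq, hyq]
      · rw [hyi, mul_smul, mul_smul, hyq, hsp, hyp]
      · rw [hyi, mul_smul, mul_smul, ← hb, hsb]
    have hsu : s • u = v := by
      have h1 : y • s • u = s • u := by
        conv_rhs => rw [← hconj, mul_smul, mul_smul, inv_smul_eq_iff.2 hyu.symm]
      rcases hyF _ h1 with e | e
      · rcases S.fixed_two hn hs hs1 hpq hsp hsq e with e' | e'
        · exact absurd e'.symm hpu
        · exact absurd e'.symm hqu
      · exact e
    rw [← S.swap_unique hn hs0 hs hpq huv hs0p hs0q hsp hsq hs0u hsu]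
    exact hsa
  have hw : y * s0 = 1 := by
    refine S.free _ (univ \ ({p, q, u, v} : Finset α)) ?_ fun x hx => ?_
    · rw [card_sdiff_of_subset (subset_univ _), card_univ, hF]; omega
    · rw [mul_smul, hagree x hx, ← mul_smul, hy, one_smul]
  refine hpq ?_
  have h := congrArg (fun g : G => g • p) hw
  simp only [mul_smul, one_smul, hs0p, hyp] at h
  exact h.symm

end OddFour

end Cfsg.Agent.Perm
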