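import Cfsg.Agent.Lib.Perm.Homogeneous
import Cfsg.Agent.Lib.Perm.OddFour
import Cfsg.Agent.S0735
import Cfsg.Agent.S0736
import Cfsg.Agent.S0744

/-!
# The Livingstone–Wagner theorem: `k`-homogeneous implies `(k-1)`-transitive
-/

set_option autoImplicit false

namespace Cfsg.Agent.Perm.LW

open MulAction Finset Pointwise

variable {α : Type*} [Fintype α] [DecidableEq α] {G : Subgroup (Equiv.Perm α)}

/-- `k`-homogeneity with `2k ≤ n` passes down. -/
theorem homogeneous_pred {k : ℕ} (hk : 2 ≤ k) (hkn : 2 * k ≤ Fintype.card α)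
    (hh : IsPretransitive G (Set.powersetCard α k)) :
    IsPretransitive G (Set.powersetCard α (k - 1)) :=
  Cfsg.Agent.S0736.result G hk hh fun q _ hq => by
    have := Nat.le_of_dvd (by omega) hq
    omega

theorem four_arith (n d : ℕ) (hn : 8 ≤ n) (hdvd : d ∣ n - 2) (hlt : d < n - 2) (hodd : Odd d)
    (h1 : (n - 2) * (n - 3) ∣ 24 * d) (h2 : n - 2 ∣ 6 * d) : n = 11 ∧ d = 3 := by
  obtain ⟨t, ht⟩ := hdvd
  have hd0 : 0 < d := Nat.pos_of_ne_zero (by rintro rfl; simp at ht; omega)
  rw [ht] at h1 h2
  have h1' : t * (n - 3) ∣ 24 :=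
    Nat.dvd_of_mul_dvd_mul_left hd0 (by rw [← mul_assoc, mul_comm d 24]; exact h1)
  have h2' : t ∣ 6 := Nat.dvd_of_mul_dvd_mul_left hd0 (by rw [mul_comm d 6]; exact h2)
  have hle := Nat.le_of_dvd (by norm_num) h1'
  have ht2 : 2 ≤ t := by
    rcases t with _ | _ | t <;> [omega; omega; omega]
  have hn15 : n ≤ 15 := by
    have := Nat.mul_le_mul_right (n - 3) ht2
    omega
  have hte := Nat.le_of_dvd (by norm_num) h2'
  rw [Nat.odd_iff] at hodd
  interval_cases t <;> interval_cases n <;> omega

private theorem five_finite : ∀ t ∈ Finset.range 25, ∀ m ∈ Finset.range 121, 120 % (t * m) = 0 →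
    24 % t = 0 → 2 ≤ t → 6 ≤ m → (m + 1) % t = 0 → (m + 1) / t % 2 = 1 →
    m = 8 ∧ t = 3 ∨ m = 20 ∧ t = 3 := by
  decide +kernel

theorem five_arith (n d : ℕ) (hn : 10 ≤ n) (hdvd : d ∣ n - 3) (hlt : d < n - 3) (hodd : Odd d)
    (h1 : (n - 3) * (n - 4) ∣ 120 * d) (h2 : n - 3 ∣ 24 * d) :
    (n = 12 ∧ d = 3) ∨ (n = 24 ∧ d = 7) := by
  obtain ⟨t, ht⟩ := hdvd
  have hd0 : 0 < d := Nat.pos_of_ne_zero (by rintro rfl; simp at ht; omega)
  rw [ht] at h1 h2
  have h1' : t * (n - 4) ∣ 120 :=
    Nat.dvd_of_mul_dvd_mul_left hd0 (by rw [← mul_assoc, mul_comm d 120]; exact h1)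
  have h2' : t ∣ 24 := Nat.dvd_of_mul_dvd_mul_left hd0 (by rw [mul_comm d 24]; exact h2)
  have hle := Nat.le_of_dvd (by norm_num) h1'
  have ht2 : 2 ≤ t := by
    rcases t with _ | _ | t <;> [omega; omega; omega]
  have hte := Nat.le_of_dvd (by norm_num) h2'
  have hm : n - 4 < 121 := by
    have := Nat.mul_le_mul_right (n - 4) ht2
    omega
  have hm1 : n - 4 + 1 = d * t := by omega
  have hd2 : (n - 4 + 1) / t = d := by rw [hm1, Nat.mul_div_cancel _ (by omega)]
  have h := five_finite t (mem_range.2 (by omega)) (n - 4) (mem_range.2 hm) (Nat.mod_eq_zero_of_dvd h1') (Nat.mod_eq_zero_of_dvd h2') ht2 (by omega)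
    (Nat.mod_eq_zero_of_dvd ⟨d, by rw [hm1, mul_comm]⟩)
    (by rw [hd2]; exact Nat.odd_iff.1 hodd)
  rcases h with ⟨h, rfl⟩ | ⟨h, rfl⟩ <;> omega

/-- The semiregular case cannot occur. -/
theorem transitive_of_trivial_fixing {k : ℕ} (hk : 4 ≤ k) (hkn : 2 * k ≤ Fintype.card α)
    (hh : IsPretransitive G (Set.powersetCard α k))
    (hh1 : IsPretransitive G (Set.powersetCard α (k - 1)))
    (ht : IsMultiplyPretransitive G α (k - 2))
    (hfix : ∀ (g : G) (S : Finset α), k - 1 ≤ S.card → (∀ x ∈ S, g • x = x) → g = 1) :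
    IsMultiplyPretransitive G α (k - 1) := by
  classical
  by_contra hnot
  set n := Fintype.card α with hn
  have hncard : Nat.card α = n := Nat.card_eq_fintype_card
  obtain ⟨x₀⟩ : Nonempty (Fin (k - 2) ↪ α) := Function.Embedding.nonempty_of_card_le (by
    rw [Fintype.card_fin]; omega)
  haveI := ht
  set d := Nat.card (stabilizer G x₀) with hd
  have hGcard : n.descFactorial (k - 2) * d = Nat.card G := by
    rw [hd, ← hncard]; exact card_eq_descFactorial_mul x₀
  have hstab : ∀ (S : Finset α), S.card = k - 2 → Nat.card (fixingSubgroup G (S : Set α)) = d := by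
    intro S hS
    let e := (S.equivFinOfCardEq hS).symm
    let y : Fin (k - 2) ↪ α := e.toEmbedding.trans (Function.Embedding.subtype _)
    have h1 : fixingSubgroup G (S : Set α) = stabilizer G y := by
      ext g
      rw [mem_fixingSubgroup_iff, mem_stabilizer_iff]
      constructor
      · intro h
        ext i
        exact h _ (e i).2
      · intro h v hv
        obtain ⟨i, hi⟩ := e.surjective ⟨v, hv⟩
        have := congrArg (fun f : Fin (k - 2) ↪ α => f i) h
        have hyi : y i = v := congrArg Subtype.val hi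
        change g • y i = y i at this
        rwa [hyi] at this
    have h2 := card_eq_descFactorial_mul (G := G) y
    rw [hncard, ← hGcard] at h2
    rw [h1]
    exact Nat.eq_of_mul_eq_mul_left (Nat.descFactorial_pos.2 (by omega)) h2
  have hinv : ∀ (S : Finset α), ∀ g ∈ fixingSubgroup G (S : Set α), ∀ v ∈ univ \ S,
      g • v ∈ univ \ S := by
    intro S g hg v hv
    simp only [mem_sdiff, mem_univ, true_and] at hv ⊢
    intro h
    exact hv (smul_left_cancel g ((mem_fixingSubgroup_iff G).1 hg _ h) ▸ h)
  have hfree : ∀ (S : Finset α), S.card = k - 2 → ∀ g ∈ fixingSubgroup G (S : Set α),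
      ∀ v ∈ univ \ S, g • v = v → g = 1 := by
    intro S hS g hg v hv hgv
    refine hfix g (insert v S) ?_ fun y hy => ?_
    · rw [card_insert_of_notMem (mem_sdiff.1 hv).2, hS]; omega
    · rcases mem_insert.1 hy with rfl | hy
      · exact hgv
      · exact (mem_fixingSubgroup_iff G).1 hg y hy
  have hcompl : ∀ (S : Finset α), S.card = k - 2 → (univ \ S).card = n - (k - 2) := fun S hS => by
    rw [card_sdiff_of_subset (subset_univ _), card_univ, hS]
  obtain ⟨S₀, -, hS₀⟩ := exists_subset_card_eq (s := (univ : Finset α)) (n := k - 2)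
    (by rw [card_univ]; omega)
  have hdvd : d ∣ n - (k - 2) := by
    rw [← hstab S₀ hS₀, ← hcompl S₀ hS₀]
    exact card_dvd_finset_of_semiregular _ _ (hinv S₀) (hfree S₀ hS₀)
  have hlt : d < n - (k - 2) := by
    refine lt_of_le_of_ne (Nat.le_of_dvd (by omega) hdvd) fun heq => hnot ?_
    refine isMultiplyPretransitive_of_pointwise (by omega) fun S hS a b ha hb => ?_
    obtain ⟨g, hg, hgab⟩ := trans_of_semiregular_card _ _ (hinv S) (hfree S (by omega))
      (by rw [hstab S (by omega), hcompl S (by omega), heq])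
      (show a ∈ univ \ S by simp [ha]) (show b ∈ univ \ S by simp [hb])
    exact ⟨g, fun v hv => (mem_fixingSubgroup_iff G).1 hg v (mem_coe.2 hv), hgab⟩
  have hodd : Odd d := by
    rw [← Nat.not_even_iff_odd]
    intro heven
    have h2 : Fact (Nat.Prime 2) := ⟨Nat.prime_two⟩
    refine hnot (isMultiplyPretransitive_of_swaps hh1 fun y i j hij => ?_)
    set Θ := (univ.map y) \ {y i, y j} with hΘ
    have hyij : y i ≠ y j := y.injective.ne hij
    have hΘc : Θ.card = k - 3 := by
      rw [hΘ, card_sdiff_of_subset, card_map, card_univ, Fintype.card_fin, card_pair hyij]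
      · omega
      · intro v hv
        rcases mem_insert.1 hv with rfl | hv
        · exact mem_map_of_mem _ (mem_univ _)
        · rw [mem_singleton.1 hv]; exact mem_map_of_mem _ (mem_univ _)
    have key : ∀ u, u ∉ Θ → ∃ z : G, z * z = 1 ∧
        (univ.filter fun v : α => z • v = v) = insert u Θ := by
      intro u hu
      obtain ⟨⟨z, hz⟩, hzo⟩ := exists_prime_orderOf_dvd_card'
        (G := fixingSubgroup G ((insert u Θ : Finset α) : Set α)) 2 (by
          rw [hstab _ (by rw [card_insert_of_notMem hu]; omega)]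
          exact even_iff_two_dvd.1 heven)
      rw [Subgroup.orderOf_mk] at hzo
      refine ⟨z, by rw [← pow_two, ← hzo, pow_orderOf_eq_one], (eq_of_subset_of_card_le
        (fun v hv => mem_filter.2 ⟨mem_univ _, (mem_fixingSubgroup_iff G).1 hz v
          (mem_coe.2 hv)⟩) ?_).symm⟩
      by_contra hc
      rw [card_insert_of_notMem hu, hΘc, not_le] at hc
      rw [hfix z (univ.filter fun v : α => z • v = v) (by omega) (fun v hv => (mem_filter.1 hv).2),
        orderOf_one] at hzo
      omega
    choose! z hz hzfix using key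
    have hmem : ∀ u, u ∉ Θ → ∀ v, z u • v = v ↔ v = u ∨ v ∈ Θ := by
      intro u hu v
      have := Finset.ext_iff.1 (hzfix u hu) v
      simpa using this
    have hinvo : ∀ u, u ∉ Θ → ∀ v : α, z u • z u • v = v := fun u hu v => by
      rw [← mul_smul, hz u hu, one_smul]
    let R := univ \ Θ
    have hR : ∀ v, v ∈ R ↔ v ∉ Θ := fun v => by simp [R]
    have hmaps : ∀ p ∈ R.offDiag, (p.2, z p.1 • p.2) ∈ R.offDiag := by
      rintro ⟨u, v⟩ hp
      rw [mem_offDiag, hR, hR] at hp
      obtain ⟨hu, hv, huv⟩ := hp
      rw [mem_offDiag, hR, hR]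
      refine ⟨hv, fun h => hv ?_, fun e => ?_⟩
      · have h' : z u • z u • v = z u • v := (hmem u hu _).2 (Or.inr h)
        rw [hinvo u hu] at h'
        exact h'.symm ▸ h
      · rcases (hmem u hu v).1 e.symm with e' | e'
        · exact huv e'.symm
        · exact hv e'
    have hinj : Set.InjOn (fun p : α × α => (p.2, z p.1 • p.2)) R.offDiag := by
      rintro ⟨u, v⟩ hp ⟨u', v'⟩ hp' e
      simp only [Prod.mk.injEq] at e
      obtain ⟨rfl, e⟩ := e
      simp only [mem_coe, mem_offDiag, hR] at hp hp'
      obtain ⟨hu, hv, huv⟩ := hp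
      obtain ⟨hu', -, -⟩ := hp'
      have hw : (z u')⁻¹ * z u = 1 := by
        refine hfix _ (Θ ∪ {v, z u • v}) ?_ fun t ht => ?_
        · rw [card_union_of_disjoint, card_pair, hΘc]
          · omega
          · intro e'
            rcases (hmem u hu v).1 e'.symm with e'' | e''
            · exact huv e''.symm
            · exact hv e''
          · rw [disjoint_left]
            intro t ht ht'
            simp only [mem_insert, mem_singleton] at ht'
            rcases ht' with rfl | rfl
            · exact hv ht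
            · have h' : z u • z u • v = z u • v := (hmem u hu _).2 (Or.inr ht)
              rw [hinvo u hu] at h'
              exact hv (h'.symm ▸ ht)
        · simp only [mem_union, mem_insert, mem_singleton] at ht
          rw [mul_smul, inv_smul_eq_iff]
          rcases ht with h | rfl | rfl
          · rw [(hmem u hu t).2 (Or.inr h), (hmem u' hu' t).2 (Or.inr h)]
          · exact e
          · rw [hinvo u hu, e, hinvo u' hu']
      have hzz : z u' = z u := inv_mul_eq_one.1 hw
      have : z u' • u = u := by rw [hzz]; exact (hmem u hu u).2 (Or.inl rfl)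
      rcases (hmem u' hu' u).1 this with e' | e'
      · rw [e']
      · exact absurd e' hu
    obtain ⟨⟨u, v⟩, hp, he⟩ : ∃ p ∈ R.offDiag, (p.2, z p.1 • p.2) = (y i, y j) := by
      have himg : R.offDiag.image (fun p : α × α => (p.2, z p.1 • p.2)) = R.offDiag :=
        eq_of_subset_of_card_le (image_subset_iff.2 hmaps) (by rw [card_image_of_injOn hinj])
      have : (y i, y j) ∈ R.offDiag := by
        rw [mem_offDiag, hR, hR, hΘ]; simp [hyij]
      rw [← himg] at this
      exact mem_image.1 this
    simp only [Prod.mk.injEq] at he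
    obtain ⟨rfl, he⟩ := he
    rw [mem_offDiag, hR, hR] at hp
    refine ⟨z u, he, by rw [← he, hinvo u hp.1], fun l hli hlj => (hmem u hp.1 _).2 (Or.inr ?_)⟩
    rw [hΘ, mem_sdiff]
    exact ⟨mem_map_of_mem _ (mem_univ l), by simp [hli, hlj]⟩
  -- counting subsets
  have hcnt : ∀ j ≤ n, IsPretransitive G (Set.powersetCard α j) →
      n.descFactorial j ∣ j.factorial * (n.descFactorial (k - 2) * d) := by
    intro j hj hhj
    rw [hGcard, Nat.descFactorial_eq_factorial_mul_choose]
    exact Nat.mul_dvd_mul_left _ (choose_dvd_card hhj hj)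
  have e1 : n.descFactorial (k - 1) = (n - (k - 2)) * n.descFactorial (k - 2) := by
    rw [show k - 1 = k - 2 + 1 by omega, Nat.descFactorial_succ]
  have e2 : n.descFactorial k = (n - (k - 1)) * n.descFactorial (k - 1) := by
    conv_lhs => rw [show k = k - 1 + 1 by omega, Nat.descFactorial_succ]
  have hpos : 0 < n.descFactorial (k - 2) := Nat.descFactorial_pos.2 (by omega)
  have hA : n - (k - 2) ∣ (k - 1).factorial * d := by
    have h := hcnt (k - 1) (by omega) hh1
    rw [e1, mul_left_comm, mul_comm _ (n.descFactorial (k - 2))] at h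
    exact Nat.dvd_of_mul_dvd_mul_left hpos h
  have hB : (n - (k - 2)) * (n - (k - 1)) ∣ k.factorial * d := by
    have h := hcnt k (by omega) hh
    rw [e2, e1, mul_left_comm (k.factorial), ← mul_assoc,
      mul_comm _ (n.descFactorial (k - 2)), mul_comm (n - (k - 1))] at h
    exact Nat.dvd_of_mul_dvd_mul_left hpos h
  haveI hfaith : FaithfulSMul G α := inferInstance
  by_cases hk4 : k = 4
  · subst hk4
    obtain ⟨hn11, hd3⟩ := four_arith n d (by omega) hdvd hlt hodd (by simpa [Nat.factorial] using hB)
      (by simpa [Nat.factorial] using hA)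
    have hG : Nat.card G = 11 * 30 := by
      rw [← hGcard, hn11, hd3]; simp [Nat.descFactorial]
    haveI : Fact (Nat.Prime 11) := ⟨by norm_num⟩
    obtain ⟨e, he1, he2, he3⟩ := prime_degree_congr (α := α) hn11 hG (by norm_num)
    have := Nat.le_of_dvd (by norm_num) he1
    simp only [Nat.ModEq] at he3
    interval_cases e <;> omega
  by_cases hk5 : k = 5
  · subst hk5
    have htr : IsPretransitive G α := by
      rw [← is_one_pretransitive_iff]
      exact isMultiplyPretransitive_of_le (n := 3) (by omega) (by rw [hncard]; omega)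
    obtain ⟨a⟩ : Nonempty α := Fintype.card_pos_iff.1 (by omega)
    have hst := index_stabilizer_of_transitive G a
    have hmul := (stabilizer G a).card_mul_index
    rw [hst, hncard] at hmul
    haveI : FaithfulSMul (stabilizer G a) (SubMulAction.ofStabilizer G a) := ⟨fun {g g'} h => by
      refine Subtype.ext (Subtype.ext (Equiv.ext fun v => ?_))
      rcases eq_or_ne v a with rfl | hv
      · exact (g.2 : (g : G) • v = v).trans (g'.2 : (g' : G) • v = v).symm
      · exact congrArg Subtype.val (h ⟨v, hv⟩)⟩
    have : Fintype (SubMulAction.ofStabilizer G a) := Fintype.ofFinite _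
    have hO : Fintype.card (SubMulAction.ofStabilizer G a) = n - 1 := by
      have := SubMulAction.nat_card_ofStabilizer_add_one_eq (G := G) a
      rw [hncard, Nat.card_eq_fintype_card] at this
      omega
    rcases five_arith n d (by omega) hdvd hlt hodd (by simpa [Nat.factorial] using hB)
      (by simpa [Nat.factorial] using hA) with ⟨hn12, hd3⟩ | ⟨hn24, hd7⟩
    · haveI : Fact (Nat.Prime 11) := ⟨by norm_num⟩
      have hH : Nat.card (stabilizer G a) = 11 * 30 := by
        rw [← hGcard, hn12, hd3] at hmul
        rw [show (5 - 2 : ℕ) = 3 from rfl, show Nat.descFactorial 12 3 = 1320 by decide] at hmul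
        omega
      obtain ⟨e, he1, he2, he3⟩ :=
        prime_degree_congr (α := SubMulAction.ofStabilizer G a) (q := 11) (by omega) hH (by norm_num)
      have := Nat.le_of_dvd (by norm_num) he1
      simp only [Nat.ModEq] at he3
      interval_cases e <;> omega
    · haveI : Fact (Nat.Prime 23) := ⟨by norm_num⟩
      have hH : Nat.card (stabilizer G a) = 23 * 154 := by
        rw [← hGcard, hn24, hd7] at hmul
        rw [show (5 - 2 : ℕ) = 3 from rfl, show Nat.descFactorial 24 3 = 12144 by decide] at hmul
        omega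
      obtain ⟨e, he1, he2, he3⟩ :=
        prime_degree_congr (α := SubMulAction.ofStabilizer G a) (q := 23) (by omega) hH (by norm_num)
      have := Nat.le_of_dvd (by norm_num) he1
      simp only [Nat.ModEq] at he3
      interval_cases e <;> omega
  -- `k ≥ 6`: fix `k - 6` points
  obtain ⟨Φ, -, hΦ⟩ := exists_subset_card_eq (s := (univ : Finset α)) (n := k - 6)
    (by rw [card_univ]; omega)
  let H := fixingSubgroup G (Φ : Set α)
  let O := SubMulAction.ofFixingSubgroup G (Φ : Set α)
  haveI : Fintype O := Fintype.ofFinite _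
  have hOmem : ∀ v : O, (v : α) ∉ Φ := fun v h => v.2 (mem_coe.2 h)
  have hlift : ∀ (g : H) (s : Finset O), (∀ v ∈ s, g • v = v) →
      ∀ t ∈ Φ ∪ s.map (Function.Embedding.subtype _), (g : G) • t = t := by
    intro g s hs t ht
    rcases mem_union.1 ht with ht | ht
    · exact (mem_fixingSubgroup_iff G).1 g.2 t (mem_coe.2 ht)
    · obtain ⟨v, hv, rfl⟩ := mem_map.1 ht
      exact congrArg Subtype.val (hs v hv)
  have hcard : ∀ s : Finset O,
      (Φ ∪ s.map (Function.Embedding.subtype _)).card = k - 6 + s.card := by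
    intro s
    rw [card_union_of_disjoint, card_map, hΦ]
    rw [disjoint_left]
    intro t ht ht'
    obtain ⟨v, -, rfl⟩ := mem_map.1 ht'
    exact hOmem v ht
  have hS : OddFour H O :=
    { four := SubMulAction.ofFixingSubgroup.isMultiplyPretransitive G (n := k - 2) (Φ : Set α)
        (by rw [Set.ncard_coe_finset, hΦ]; omega)
      odd := fun g a b c e hab hac hae hbc hbe hce ga gb gc ge => by
        have hmem : (g : G) ∈ fixingSubgroup G
            ((Φ ∪ ({a, b, c, e} : Finset O).map (Function.Embedding.subtype _) : Finset α) :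
              Set α) := by
          rw [mem_fixingSubgroup_iff]
          intro t ht
          refine hlift g _ (fun v hv => ?_) t (mem_coe.1 ht)
          simp only [mem_insert, mem_singleton] at hv
          rcases hv with rfl | rfl | rfl | rfl <;> assumption
        have h := Subgroup.orderOf_dvd_natCard _ hmem
        rw [hstab _ (by rw [hcard]; simp [hab, hac, hae, hbc, hbe, hce]; omega),
          Subgroup.orderOf_coe] at h
        exact hodd.of_dvd_nat h
      free := fun g s hs hgs => Subtype.ext (hfix (g : G)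
        (Φ ∪ s.map (Function.Embedding.subtype _)) (by rw [hcard]; omega) (hlift g s hgs)) }
  have hOc : Fintype.card O = n - (k - 6) := by
    show _ = Fintype.card α - (k - 6)
    rw [← hΦ, ← card_univ (α := α), ← card_sdiff_of_subset (subset_univ _)]
    exact Fintype.card_of_subtype _ fun v => by
      simp [O, SubMulAction.mem_ofFixingSubgroup_iff]
  exact hS.false (by omega)

/-- **Livingstone–Wagner**: `k`-homogeneous with `4 ≤ 2k ≤ n` is `(k-1)`-transitive. -/
theorem isMultiplyPretransitive_pred : ∀ k, 2 ≤ k → 2 * k ≤ Fintype.card α →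
    IsPretransitive G (Set.powersetCard α k) → IsMultiplyPretransitive G α (k - 1) := by
  intro k hk
  induction k, hk using Nat.le_induction with
  | base =>
    intro hn hh
    rw [show 2 - 1 = 1 from rfl, is_one_pretransitive_iff]
    exact isPretransitive_of_one_homogeneous (homogeneous_pred le_rfl hn hh)
  | succ k hk ih =>
    intro hn hh
    have hh1 : IsPretransitive G (Set.powersetCard α k) := homogeneous_pred (by omega) hn hh
    have ht := ih (by omega) hh1
    rw [Nat.add_sub_cancel]
    rcases eq_or_lt_of_le hk with rfl | hk3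
    · -- `k + 1 = 3`
      rcases Nat.even_or_odd (Nat.card G) with he | ho
      · exact (Cfsg.Agent.S0735.result G hh1 (by omega)).1 he
      · exact (not_three_homogeneous_of_odd (by omega) hh1 hh
          (is_one_pretransitive_iff.1 ht) ho).elim
    by_cases hl : ∀ S : Finset α, S.card = k → Nat.card (fixingSubgroup G (S : Set α)) = 1
    · refine transitive_of_trivial_fixing (k := k + 1) (by omega) hn hh
        (by rw [Nat.add_sub_cancel]; exact hh1) ht fun g S hS hg => ?_
      obtain ⟨S', hS', hS'c⟩ := exists_subset_card_eq (s := S) (n := k) (by omega)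
      exact (Subgroup.eq_bot_iff_forall _).1 (Subgroup.card_eq_one.1 (hl S' hS'c)) g
        ((mem_fixingSubgroup_iff G).2 fun t ht' => hg t (hS' (mem_coe.1 ht')))
    push Not at hl
    obtain ⟨S₁, hS₁, hne⟩ := hl
    obtain ⟨S₂, -, hS₂⟩ := exists_subset_card_eq (s := (univ : Finset α)) (n := k + 1)
      (by rw [card_univ]; omega)
    have hpos : 0 < Nat.card (fixingSubgroup G (S₁ : Set α)) := Nat.card_pos
    exact Cfsg.Agent.S0744.result G (k := k + 1) (by omega) (by omega)
      (Nat.card (fixingSubgroup G (S₁ : Set α))) (Nat.card (fixingSubgroup G (S₂ : Set α)))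
      (by omega)
      (fun s hs => by
        obtain ⟨g, hg⟩ := exists_smul_finset_eq hh1 hS₁ (show s.card = k by omega)
        rw [← hg]; exact card_fixingSubgroup_smul g S₁)
      (fun s hs => by
        obtain ⟨g, hg⟩ := exists_smul_finset_eq hh hS₂ hs
        rw [← hg]; exact card_fixingSubgroup_smul g S₂)

end Cfsg.Agent.Perm.LW
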