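import Cfsg.Agent.Lib.Perm.RegularPrimitive
import Cfsg.Agent.Lib.Perm.Sharply

/-!
# Normal subgroups of multiply transitive and multiply primitive groups

Jordan's theorem, its refinement for multiply primitive groups, and Wagner's theorem for odd
degree.
-/

namespace Cfsg.Agent.Perm

open MulAction SubMulAction

universe u v

variable {G : Type u} {α : Type v} [Group G] [MulAction G α]

/-- The stabiliser of a point of a faithful action is faithful on the other points. -/
theorem faithfulSMul_ofStabilizer [FaithfulSMul G α] (a : α) :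
    FaithfulSMul (stabilizer G a) (SubMulAction.ofStabilizer G a) := by
  refine ⟨fun {g h} e => Subtype.ext (FaithfulSMul.eq_of_smul_eq_smul (α := α) fun x => ?_)⟩
  rcases eq_or_ne x a with rfl | hx
  · exact (g.2 : (g : G) • x = x).trans (h.2 : (h : G) • x = x).symm
  · exact congrArg Subtype.val (e ⟨x, hx⟩)

/-- A transitive subgroup is `(n+1)`-transitive if its intersection with a point stabiliser is
`n`-transitive on the other points. -/
theorem isMultiplyPretransitive_succ_of_subgroupOf {H : Subgroup G} [IsPretransitive H α] (a : α)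
    {n : ℕ} (h : IsMultiplyPretransitive (H.subgroupOf (stabilizer G a))
      (SubMulAction.ofStabilizer G a) n) : IsMultiplyPretransitive H α (n + 1) := by
  rw [show n + 1 = n.succ from rfl, SubMulAction.ofStabilizer.isMultiplyPretransitive (a := a)]
  refine isMultiplyPretransitive_of_forall fun x y hx hy => ?_
  obtain ⟨⟨g, hg⟩, hgxy⟩ := exists_smul_eq_of_injective h
    (x := fun i => (⟨(x i : α), (x i).2⟩ : SubMulAction.ofStabilizer G a))
    (y := fun i => (⟨(y i : α), (y i).2⟩ : SubMulAction.ofStabilizer G a))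
    (fun i j e => hx (Subtype.ext (congrArg
      (fun z : SubMulAction.ofStabilizer G a => (z : α)) e)))
    (fun i j e => hy (Subtype.ext (congrArg
      (fun z : SubMulAction.ofStabilizer G a => (z : α)) e)))
  exact ⟨⟨⟨(g : G), hg⟩, g.2⟩, fun i => Subtype.ext
    (congrArg (fun z : SubMulAction.ofStabilizer G a => (z : α)) (hgxy i))⟩

/-- A normal subgroup that is not semiregular has all point stabilisers non-trivial, when it is
transitive. -/
theorem subgroupOf_stabilizer_ne_bot {H : Subgroup G} [IsPretransitive H α]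
    (hns : ∃ a : α, stabilizer H a ≠ ⊥) (a : α) : H.subgroupOf (stabilizer G a) ≠ ⊥ := by
  obtain ⟨b, hb⟩ := hns
  intro hbot
  refine hb (stabilizer_subgroup_eq_bot_iff.2 fun g hg hgb => ?_)
  obtain ⟨k, hk, hkb⟩ := isPretransitive_subgroup_iff.1 ‹IsPretransitive H α› a b
  have hfix : (k⁻¹ * g * k) • a = a := by
    rw [mul_smul, mul_smul, hkb, hgb, inv_smul_eq_iff, hkb]
  have hmem : (⟨k⁻¹ * g * k, hfix⟩ : stabilizer G a) ∈ H.subgroupOf (stabilizer G a) := by
    rw [Subgroup.mem_subgroupOf]
    exact H.mul_mem (H.mul_mem (H.inv_mem hk) hg) hk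
  rw [hbot, Subgroup.mem_bot, Subtype.ext_iff] at hmem
  calc g = k * (k⁻¹ * g * k) * k⁻¹ := by group
    _ = 1 := by rw [show k⁻¹ * g * k = 1 from hmem]; group

/-- Two consecutive powers of 2. -/
theorem pow_two_succ {l m : ℕ} (h : 2 ^ l = 2 ^ m + 1) : m = 0 ∧ l = 1 := by
  have hl : l ≠ 0 := fun e => by
    have := Nat.one_le_two_pow (n := m)
    simp [e] at h
  rcases Nat.eq_zero_or_pos m with rfl | hm
  · exact ⟨rfl, Nat.pow_right_injective le_rfl (by simpa using h)⟩
  · have h1 : (2 : ℕ) ∣ 2 ^ l := dvd_pow_self 2 hl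
    have h2 : (2 : ℕ) ∣ 2 ^ m := dvd_pow_self 2 (by omega)
    omega

/-- A non-semiregular normal subgroup of a `k`-primitive group is `k`-transitive, provided
`k ≤ 2` or `k + 2 ≤ n`. For `k = 1` it suffices that the subgroup is non-trivial. -/
theorem isMultiplyPretransitive_of_normal (k : ℕ) : ∀ {G : Type u} {α : Type v} [Group G]
    [MulAction G α] [FaithfulSMul G α] [Finite α], 1 ≤ k → k ≤ Nat.card α →
    (k ≤ 2 ∨ k + 2 ≤ Nat.card α) → IsMultiplyPreprimitive G α k →
    ∀ (H : Subgroup G) [H.Normal], H ≠ ⊥ → (k = 1 ∨ ∃ a : α, stabilizer H a ≠ ⊥) →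
    IsMultiplyPretransitive H α k := by
  induction k with
  | zero => intro G α _ _ _ _ h; omega
  | succ k ih =>
    intro G α _ _ _ _ _ hkn hsz hprim H _ hH hns
    have hprim1 : IsPreprimitive G α := by
      rw [← is_one_preprimitive_iff]
      refine isMultiplyPreprimitive_of_le G α hprim (by omega) ?_
      rw [ENat.card_eq_coe_natCard]; exact_mod_cast hkn
    haveI := hprim1
    haveI hHt : IsPretransitive H α := isPretransitive_of_normal hH
    rcases Nat.eq_zero_or_pos k with rfl | hk
    · exact is_one_pretransitive_iff.2 hHt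
    have hns' : ∃ a : α, stabilizer H a ≠ ⊥ := hns.resolve_left (by omega)
    obtain ⟨a⟩ : Nonempty α := (Nat.card_pos_iff.1 (by omega)).1
    haveI := faithfulSMul_ofStabilizer (G := G) a
    have hcard := nat_card_ofStabilizer_add_one_eq (G := G) a
    have hpa : IsMultiplyPreprimitive (stabilizer G a) (SubMulAction.ofStabilizer G a) k := by
      haveI : IsMultiplyPreprimitive G α k.succ := hprim
      exact isMultiplyPreprimitive_ofStabilizer G α
    have hHa : H.subgroupOf (stabilizer G a) ≠ ⊥ := subgroupOf_stabilizer_ne_bot hns' a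
    refine isMultiplyPretransitive_succ_of_subgroupOf a
      (ih hk (by omega) (by omega) hpa _ hHa ?_)
    by_contra hcon
    rw [not_or] at hcon
    obtain ⟨hk1, hreg'⟩ := hcon
    simp only [not_exists, ne_eq, not_not] at hreg'
    set β := SubMulAction.ofStabilizer G a
    -- `H_a` is regular on the other points and `G_a` is doubly primitive there
    have hpa1 : IsPreprimitive (stabilizer G a) β := by
      rw [← is_one_preprimitive_iff]
      refine isMultiplyPreprimitive_of_le _ _ hpa hk ?_
      rw [ENat.card_eq_coe_natCard]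
      exact_mod_cast (show k ≤ Nat.card β by omega)
    haveI := hpa1
    haveI hKt : IsPretransitive (H.subgroupOf (stabilizer G a)) β := isPretransitive_of_normal hHa
    have hpa2 : IsMultiplyPreprimitive (stabilizer G a) β 2 := by
      refine isMultiplyPreprimitive_of_le _ _ hpa (by omega) ?_
      rw [ENat.card_eq_coe_natCard]
      exact_mod_cast (show k ≤ Nat.card β by omega)
    have hβ := regular_normal_of_doubly_primitive (by omega) hpa2 hreg'
    -- `H` is sharply 2-transitive
    haveI : IsMultiplyPretransitive H α 2 :=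
      isMultiplyPretransitive_succ_of_subgroupOf a (n := 1) (is_one_pretransitive_iff.2 hKt)
    haveI : Nontrivial α := Finite.one_lt_card_iff_nontrivial.1 (by omega)
    have hsharp : ∀ x : Fin 2 ↪ α, stabilizer H x = ⊥ := by
      intro x
      refine (Subgroup.eq_bot_iff_forall _).2 fun g hg => ?_
      have h0 : g • x 0 = x 0 := congrArg (fun e : Fin 2 ↪ α => e 0) (mem_stabilizer_iff.1 hg)
      have h1 : g • x 1 = x 1 := congrArg (fun e : Fin 2 ↪ α => e 1) (mem_stabilizer_iff.1 hg)
      obtain ⟨k, hka⟩ := exists_smul_eq H (x 0) a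
      have hfa : ((k * g * k⁻¹ : H) : G) • a = a := by
        show (k * g * k⁻¹) • a = a
        rw [← hka, mul_smul, mul_smul, inv_smul_smul, h0]
      have hmem : (⟨((k * g * k⁻¹ : H) : G), hfa⟩ : stabilizer G a) ∈
          H.subgroupOf (stabilizer G a) := by
        rw [Subgroup.mem_subgroupOf]; exact (k * g * k⁻¹).2
      have hb : k • x 1 ≠ a := fun e => by
        have := x.injective (smul_left_cancel k (hka.trans e.symm))
        exact Fin.zero_ne_one this
      have := stabilizer_subgroup_eq_bot_iff.1 (hreg' ⟨k • x 1, hb⟩) _ hmem (Subtype.ext (by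
        show (k * g * k⁻¹) • k • x 1 = k • x 1
        rw [mul_smul, mul_smul, inv_smul_smul, h1]))
      have h' : k * g * k⁻¹ = 1 := Subtype.ext (congrArg Subtype.val this :)
      calc g = k⁻¹ * (k * g * k⁻¹) * k := by group
        _ = 1 := by rw [h']; group
    obtain ⟨K, -, hKtr, hKsemi, hKmem, -⟩ := exists_kernel_of_sharply_two (G := H) hsharp
    let K' : Subgroup G := K.map H.subtype
    have hK'n : K'.Normal := ⟨by
      rintro _ ⟨n, hn, rfl⟩ g
      refine ⟨⟨g * n * g⁻¹, ‹H.Normal›.conj_mem n n.2 g⟩, (hKmem _).2 ?_, rfl⟩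
      rcases (hKmem n).1 hn with h | h
      · left
        exact Subtype.ext (by simp [h])
      · refine Or.inr fun c hc => h (g⁻¹ • c) ?_
        change (g * (n : G) * g⁻¹) • c = c at hc
        rwa [mul_smul, mul_smul, smul_eq_iff_eq_inv_smul] at hc⟩
    haveI : IsPretransitive K' α := isPretransitive_subgroup_iff.2 fun x y =>
      let ⟨n, hn, hnxy⟩ := isPretransitive_subgroup_iff.1 hKtr x y
      ⟨_, ⟨n, hn, rfl⟩, hnxy⟩
    have hK'semi : ∀ x : α, stabilizer K' x = ⊥ := fun x => stabilizer_subgroup_eq_bot_iff.2 (by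
      rintro _ ⟨n, hn, rfl⟩ hnx
      exact congrArg Subtype.val (stabilizer_subgroup_eq_bot_iff.1 (hKsemi x) n hn hnx))
    have hG2 : IsMultiplyPreprimitive G α 2 := by
      refine isMultiplyPreprimitive_of_le G α hprim (by omega) ?_
      rw [ENat.card_eq_coe_natCard]; exact_mod_cast hkn
    rcases regular_normal_of_doubly_primitive (by omega) hG2 hK'semi with h3 | ⟨-, -, l, hl⟩
    · omega
    rcases hβ with h3 | ⟨-, -, m, hm⟩
    · omega
    have := pow_two_succ (l := l) (m := m) (by omega)
    rw [this.2] at hl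
    omega

/-- A non-trivial normal subgroup of a `k`-transitive group of degree greater than `k` is
`(k-1)`-transitive, or `k = 3` and it is an elementary abelian 2-group. (Jordan.) -/
theorem jordan_normal_subgroup [FaithfulSMul G α] [Finite α] {k : ℕ} (hk : 1 < k)
    (hdeg : k < Nat.card α) (hG : IsMultiplyPretransitive G α k) (N : Subgroup G) [N.Normal]
    (hN : N ≠ ⊥) : IsMultiplyPretransitive N α (k - 1) ∨
      (k = 3 ∧ IsMulCommutative N ∧ ∀ n ∈ N, n ^ 2 = 1) := by
  obtain ⟨j, rfl⟩ : ∃ j, k = j + 1 := ⟨k - 1, by omega⟩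
  rw [Nat.add_sub_cancel]
  have hp : IsMultiplyPreprimitive G α j := by
    haveI : IsMultiplyPretransitive G α j.succ := hG
    refine isMultiplyPreprimitive_of_isMultiplyPretransitive_succ G α ?_
    rw [ENat.card_eq_coe_natCard]
    exact_mod_cast hdeg.le
  have hp1 : IsPreprimitive G α := by
    rw [← is_one_preprimitive_iff]
    refine isMultiplyPreprimitive_of_le G α hp (by omega) ?_
    rw [ENat.card_eq_coe_natCard]; exact_mod_cast (show j ≤ Nat.card α by omega)
  haveI := hp1
  haveI hNt : IsPretransitive N α := isPretransitive_of_normal hN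
  by_cases hns : j = 1 ∨ ∃ a : α, stabilizer N a ≠ ⊥
  · exact Or.inl (isMultiplyPretransitive_of_normal j (by omega) (by omega) (by omega) hp N hN hns)
  · rw [not_or] at hns
    obtain ⟨hj, hreg⟩ := hns
    simp only [not_exists, ne_eq, not_not] at hreg
    right
    have h3 : IsMultiplyPretransitive G α 3 := by
      haveI := hG
      exact isMultiplyPretransitive_of_le (n := j + 1) (by omega) hdeg.le
    have hexp := regular_normal_exponent_two h3 hreg (by omega)
    refine ⟨?_, ⟨⟨fun u v => ?_⟩⟩, hexp⟩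
    · by_contra hj'
      have h4 : IsMultiplyPretransitive G α 4 := by
        haveI := hG
        exact isMultiplyPretransitive_of_le (n := j + 1) (by omega) hdeg.le
      have := regular_normal_four h4 hreg
      omega
    · have hi : ∀ z : N, z⁻¹ = z := fun z => inv_eq_of_mul_eq_one_right (by
        rw [← pow_two]; exact Subtype.ext (hexp z z.2))
      calc u * v = (u * v)⁻¹ := (hi _).symm
        _ = v⁻¹ * u⁻¹ := mul_inv_rev u v
        _ = v * u := by rw [hi, hi]

/-- Wagner: a non-trivial normal subgroup of a 3-transitive group of odd degree at least 5 is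
3-transitive. -/
theorem wagner_odd_degree [Finite G] [FaithfulSMul G α] [Finite α] (hodd : Odd (Nat.card α))
    (h5 : 5 ≤ Nat.card α) (hG : IsMultiplyPretransitive G α 3) (N : Subgroup G) [hNn : N.Normal]
    (hN : N ≠ ⊥) : IsMultiplyPretransitive N α 3 := by
  have hN2 : IsMultiplyPretransitive N α 2 := by
    rcases jordan_normal_subgroup (G := G) (α := α) (k := 3) (by omega) (by omega) hG N hN with
      h | ⟨-, hab, hexp⟩
    · exact h
    · exfalso
      haveI : IsMultiplyPretransitive G α 2 := isMultiplyPretransitive_of_le (n := 3) (by omega) (by omega)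
      haveI : IsPreprimitive G α := isPreprimitive_of_is_two_pretransitive ‹_›
      haveI := hab
      haveI : Nonempty α := (Nat.card_pos_iff.1 (by omega)).1
      obtain ⟨ht, hreg, -⟩ := regular_of_abelian_normal (α := α) hN
      haveI := ht
      have : Fact (Nat.Prime 2) := ⟨Nat.prime_two⟩
      obtain ⟨m, hm⟩ := IsPGroup.iff_card.1
        (fun z : N => ⟨1, Subtype.ext (by simpa using hexp z z.2)⟩ : IsPGroup 2 N)
      rw [card_eq_of_regular (hreg (Classical.arbitrary α))] at hm
      obtain ⟨i, hi⟩ := hodd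
      rcases Nat.eq_zero_or_pos m with rfl | hmpos
      · simp only [pow_zero] at hm; omega
      · have := dvd_pow_self 2 hmpos.ne'
        omega
  haveI := hN2
  haveI hNt : IsPretransitive N α := isPretransitive_of_is_two_pretransitive
  obtain ⟨a, b, hab⟩ : ∃ a b : α, a ≠ b := by
    have : Nontrivial α := Finite.one_lt_card_iff_nontrivial.1 (by omega)
    exact exists_pair_ne α
  -- `K = N_{a,b}` and `S = N_{\{a,b\}}`
  let K : Subgroup G := N ⊓ stabilizer G a ⊓ stabilizer G b
  let T : Set α := {a, b}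
  let S : Subgroup G :=
    { carrier := {g | g ∈ N ∧ ((g • a = a ∧ g • b = b) ∨ (g • a = b ∧ g • b = a))}
      one_mem' := ⟨N.one_mem, Or.inl ⟨one_smul G a, one_smul G b⟩⟩
      mul_mem' := fun {g k} hg hk => ⟨N.mul_mem hg.1 hk.1, by
        rcases hg.2 with ⟨g1, g2⟩ | ⟨g1, g2⟩ <;> rcases hk.2 with ⟨k1, k2⟩ | ⟨k1, k2⟩ <;>
          simp [mul_smul, g1, g2, k1, k2]⟩
      inv_mem' := fun {g} hg => ⟨N.inv_mem hg.1, by
        rcases hg.2 with ⟨g1, g2⟩ | ⟨g1, g2⟩
        · exact Or.inl ⟨inv_smul_eq_iff.2 g1.symm, inv_smul_eq_iff.2 g2.symm⟩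
        · exact Or.inr ⟨inv_smul_eq_iff.2 g2.symm, inv_smul_eq_iff.2 g1.symm⟩⟩ }
  obtain ⟨⟨x, hxN⟩, hxa, hxb⟩ := exists_smul_eq_two hN2 hab hab.symm
  change x • a = b at hxa
  change x • b = a at hxb
  have hKS : K ≤ S := fun g hg => ⟨hg.1.1, Or.inl ⟨hg.1.2, hg.2⟩⟩
  have hxS : x ∈ S := ⟨hxN, Or.inr ⟨hxa, hxb⟩⟩
  have hSor : ∀ g ∈ S, g ∈ K ∨ x * g ∈ K := by
    intro g hg
    rcases hg.2 with ⟨g1, g2⟩ | ⟨g1, g2⟩
    · exact Or.inl ⟨⟨hg.1, g1⟩, g2⟩
    · refine Or.inr ⟨⟨N.mul_mem hxN hg.1, ?_⟩, ?_⟩
      · show (x * g) • a = a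
        rw [mul_smul, g1, hxb]
      · show (x * g) • b = b
        rw [mul_smul, g2, hxa]
  have hidx : (K.subgroupOf S).index = 2 := by
    rw [Subgroup.index_eq_two_iff]
    refine ⟨⟨x, hxS⟩, fun g => ?_⟩
    simp only [Subgroup.mem_subgroupOf, Subgroup.coe_mul]
    rcases hSor g g.2 with h | h
    · refine Or.inr ⟨h, fun h' => hab ?_⟩
      have h1 : ((g : G) * x) • a = a := h'.1.2
      have h2 : (g : G) • b = b := h.2
      rw [mul_smul, hxa, h2] at h1
      exact h1.symm
    · refine Or.inl ⟨?_, fun h' => hab ?_⟩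
      · rcases hSor _ (S.mul_mem g.2 hxS) with h' | h'
        · exact h'
        · exfalso
          have h1 : (x * ((g : G) * x)) • a = a := h'.1.2
          have h2 : (x * (g : G)) • b = b := h.2
          rw [← mul_assoc, mul_smul, hxa, h2] at h1
          exact hab h1.symm
      · have h1 : (x * (g : G)) • a = a := h.1.2
        have h2 : (g : G) • a = a := h'.1.2
        rw [mul_smul, h2, hxa] at h1
        exact h1.symm
  have hcardS : Nat.card S = 2 * Nat.card K := by
    rw [← (K.subgroupOf S).index_mul_card, hidx, Nat.card_congr (Subgroup.subgroupOfEquivOfLe hKS).toEquiv]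
  -- conjugation by elements fixing `a` and `b` normalises `S`
  have hconj : ∀ g : G, g • a = a → g • b = b → ∀ s ∈ S, g * s * g⁻¹ ∈ S := by
    intro g ga gb s hs
    refine ⟨hNn.conj_mem s hs.1 g, ?_⟩
    have ga' : g⁻¹ • a = a := inv_smul_eq_iff.2 ga.symm
    have gb' : g⁻¹ • b = b := inv_smul_eq_iff.2 gb.symm
    rcases hs.2 with ⟨s1, s2⟩ | ⟨s1, s2⟩
    · exact Or.inl ⟨by rw [mul_smul, mul_smul, ga', s1, ga], by rw [mul_smul, mul_smul, gb', s2, gb]⟩
    · exact Or.inr ⟨by rw [mul_smul, mul_smul, ga', s1, gb], by rw [mul_smul, mul_smul, gb', s2, ga]⟩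
  have hSout : ∀ s ∈ S, ∀ c, c ≠ a → c ≠ b → s • c ≠ a ∧ s • c ≠ b := by
    intro s hs c hca hcb
    rcases hs.2 with ⟨s1, s2⟩ | ⟨s1, s2⟩
    · exact ⟨fun e => hca (smul_left_cancel s (e.trans s1.symm)),
        fun e => hcb (smul_left_cancel s (e.trans s2.symm))⟩
    · exact ⟨fun e => hcb (smul_left_cancel s (e.trans s2.symm)),
        fun e => hca (smul_left_cancel s (e.trans s1.symm))⟩
  classical
  have := Fintype.ofFinite α
  let O : Finset α := Finset.univ.filter fun c => c ≠ a ∧ c ≠ b
  have hOcard : O.card + 2 = Nat.card α := by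
    have hO : O = ({a, b} : Finset α)ᶜ := by ext c; simp [O]
    rw [hO, Nat.card_eq_fintype_card, ← Finset.card_pair hab, Finset.card_compl_add_card]
  let orb : α → Finset α := fun c => Finset.univ.filter fun d => d ∈ orbit S c
  have horb : ∀ c d, c ∈ O → d ∈ O → (orb c).card = (orb d).card := by
    intro c d hc hd
    simp only [O, Finset.mem_filter, Finset.mem_univ, true_and] at hc hd
    obtain ⟨g, ga, gb, gcd⟩ := exists_smul_eq_three hG hab (Ne.symm hc.1) (Ne.symm hc.2) hab
      (Ne.symm hd.1) (Ne.symm hd.2)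
    refine Finset.card_bij (fun e _ => g • e) ?_ (fun _ _ _ _ h => smul_left_cancel g h) ?_
    · intro e he
      simp only [orb, Finset.mem_filter, Finset.mem_univ, true_and] at he ⊢
      obtain ⟨⟨s, hs⟩, rfl⟩ := he
      refine ⟨⟨g * s * g⁻¹, hconj g ga gb s hs⟩, ?_⟩
      change (g * s * g⁻¹) • d = g • s • c
      rw [← gcd, mul_smul, mul_smul, inv_smul_smul]
    · intro e he
      simp only [orb, Finset.mem_filter, Finset.mem_univ, true_and] at he
      obtain ⟨⟨s, hs⟩, rfl⟩ := he
      refine ⟨g⁻¹ • s • d, ?_, smul_inv_smul g _⟩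
      simp only [orb, Finset.mem_filter, Finset.mem_univ, true_and]
      refine ⟨⟨g⁻¹ * s * g, ?_⟩, ?_⟩
      · have := hconj g⁻¹ (inv_smul_eq_iff.2 ga.symm) (inv_smul_eq_iff.2 gb.symm) s hs
        rwa [inv_inv] at this
      · change (g⁻¹ * s * g) • c = g⁻¹ • s • d
        rw [mul_smul, mul_smul, gcd]
  have horbO : ∀ c ∈ O, orb c ⊆ O := by
    intro c hc e he
    simp only [O, orb, Finset.mem_filter, Finset.mem_univ, true_and] at hc he ⊢
    obtain ⟨⟨s, hs⟩, rfl⟩ := he
    exact hSout s hs c hc.1 hc.2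
  have hoddorb : ∀ c ∈ O, Odd (orb c).card := by
    intro c hc
    have hsum := Finset.card_eq_sum_card_image (fun e => orb e) O
    have hfib : ∀ y ∈ O.image (fun e => orb e),
        (O.filter fun e => orb e = y).card = (orb c).card := by
      intro y hy
      obtain ⟨d, hd, rfl⟩ := Finset.mem_image.1 hy
      rw [horb c d hc hd]
      congr 1
      ext e
      simp only [Finset.mem_filter]
      constructor
      · rintro ⟨-, he⟩
        rw [← he]
        simp [orb, mem_orbit_self]
      · intro he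
        refine ⟨horbO d hd he, ?_⟩
        simp only [orb, Finset.mem_filter, Finset.mem_univ, true_and] at he
        simp only [orb, orbit_eq_iff.2 he]
    rw [Finset.sum_congr rfl hfib, Finset.sum_const, smul_eq_mul] at hsum
    have : Odd O.card := by
      obtain ⟨i, hi⟩ := hodd
      exact ⟨i - 1, by omega⟩
    rw [hsum] at this
    exact (Nat.odd_mul.1 this).2
  obtain ⟨P, hP⟩ : ∃ P : Sylow 2 S, True := ⟨Classical.arbitrary _, trivial⟩
  haveI : Fact (Nat.Prime 2) := ⟨Nat.prime_two⟩
  have hfix : ∀ c ∈ O, ∃ e ∈ orb c, ∀ s : S, s ∈ (P : Subgroup S) → s • e = e := by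
    intro c hc
    have hne : ¬ 2 ∣ Nat.card (orbit S c) := by
      have h1 := hoddorb c hc
      have h2 : Nat.card (orbit S c) = (orb c).card := by
        rw [Nat.card_eq_fintype_card, Fintype.card_subtype]
      rw [h2]
      exact Nat.two_dvd_ne_zero.2 (Nat.odd_iff.1 h1)
    obtain ⟨⟨e, he⟩, hfe⟩ := P.isPGroup'.nonempty_fixed_point_of_prime_not_dvd_card (orbit S c) hne
    refine ⟨e, by simpa [orb] using he, fun s hs => ?_⟩
    exact congrArg Subtype.val (hfe ⟨s, hs⟩)
  -- `S` is transitive outside `{a, b}`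
  have hStrans : ∀ c ∈ O, ∀ d ∈ O, d ∈ orb c := by
    intro c hc d hd
    by_contra hne
    obtain ⟨e, he, hef⟩ := hfix c hc
    obtain ⟨f, hf, hff⟩ := hfix d hd
    simp only [orb, Finset.mem_filter, Finset.mem_univ, true_and] at he hf hne
    have hef' : e ≠ f := fun h => hne <| by
      rw [← orbit_eq_iff.2 he, h, orbit_eq_iff.2 hf]
      exact mem_orbit_self d
    obtain ⟨⟨g, hgN⟩, hge, hgf⟩ := exists_smul_eq_two hN2 hef' hab
    change g • e = a at hge
    change g • f = b at hgf
    let P' : Subgroup G := (P : Subgroup S).map S.subtype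
    have hmap : P'.map (MulAut.conj g).toMonoidHom ≤ K := by
      rintro _ ⟨_, ⟨s, hs, rfl⟩, rfl⟩
      have h1 : (s : G) • e = e := hef s hs
      have h2 : (s : G) • f = f := hff s hs
      refine ⟨⟨hNn.conj_mem _ s.2.1 g, ?_⟩, ?_⟩
      · show (g * (s : G) * g⁻¹) • a = a
        rw [← hge, mul_smul, mul_smul, inv_smul_smul, h1]
      · show (g * (s : G) * g⁻¹) • b = b
        rw [← hgf, mul_smul, mul_smul, inv_smul_smul, h2]
    have hd1 := Subgroup.card_dvd_of_le hmap
    rw [Subgroup.card_map_of_injective (MulAut.conj g).injective,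
      Subgroup.card_map_of_injective S.subtype_injective, P.card_eq_multiplicity, hcardS,
      Nat.factorization_mul (by omega) Nat.card_pos.ne', Finsupp.add_apply,
      Nat.prime_two.factorization_self, pow_add, pow_one] at hd1
    have hK0 : Nat.card K ≠ 0 := Nat.card_pos.ne'
    have := (Nat.prime_two.pow_dvd_iff_le_factorization hK0).1
      (by rw [pow_add, pow_one]; exact hd1 : 2 ^ (1 + (Nat.card K).factorization 2) ∣ Nat.card K)
    omega
  -- hence `K` is transitive outside `{a, b}`
  have hKnorm : ∀ k ∈ K, x * k * x⁻¹ ∈ K ∧ x⁻¹ * k * x ∈ K := by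
    intro k hk
    have xa' : x⁻¹ • a = b := inv_smul_eq_iff.2 hxb.symm
    have xb' : x⁻¹ • b = a := inv_smul_eq_iff.2 hxa.symm
    have ka : k • a = a := hk.1.2
    have kb : k • b = b := hk.2
    refine ⟨⟨⟨hNn.conj_mem k hk.1.1 x, ?_⟩, ?_⟩, ⟨⟨hNn.conj_mem' k hk.1.1 x, ?_⟩, ?_⟩⟩
    · show (x * k * x⁻¹) • a = a
      rw [mul_smul, mul_smul, xa', kb, hxb]
    · show (x * k * x⁻¹) • b = b
      rw [mul_smul, mul_smul, xb', ka, hxa]
    · show (x⁻¹ * k * x) • a = a
      rw [mul_smul, mul_smul, hxa, kb, xb']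
    · show (x⁻¹ * k * x) • b = b
      rw [mul_smul, mul_smul, hxb, ka, xa']
  have hKtrans : ∀ c ∈ O, ∀ d ∈ O, ∃ k ∈ K, k • c = d := by
    intro c hc d hd
    by_contra hcon
    simp only [not_exists, not_and] at hcon
    let A : Finset α := Finset.univ.filter fun e => ∃ k ∈ K, k • c = e
    let B : Finset α := Finset.univ.filter fun e => ∃ k ∈ K, k • x • c = e
    have hAB : A.card = B.card := by
      refine Finset.card_bij (fun e _ => x • e) ?_ (fun _ _ _ _ h => smul_left_cancel x h) ?_
      · intro e he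
        simp only [A, B, Finset.mem_filter, Finset.mem_univ, true_and] at he ⊢
        obtain ⟨k, hk, rfl⟩ := he
        exact ⟨x * k * x⁻¹, (hKnorm k hk).1, by rw [mul_smul, mul_smul, inv_smul_smul]⟩
      · intro e he
        simp only [A, B, Finset.mem_filter, Finset.mem_univ, true_and] at he ⊢
        obtain ⟨k, hk, rfl⟩ := he
        exact ⟨x⁻¹ • k • x • c, ⟨x⁻¹ * k * x, (hKnorm k hk).2, by rw [mul_smul, mul_smul]⟩,
          smul_inv_smul x _⟩
    have horbs : ∀ e ∈ O, e ∈ A ∪ B := by
      intro e he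
      have := hStrans c hc e he
      simp only [orb, Finset.mem_filter, Finset.mem_univ, true_and] at this
      obtain ⟨⟨s, hs⟩, rfl⟩ := this
      simp only [A, B, Finset.mem_union, Finset.mem_filter, Finset.mem_univ, true_and]
      rcases hSor s hs with h | h
      · exact Or.inl ⟨s, h, rfl⟩
      · refine Or.inr ⟨x⁻¹ * (x * s) * x * (x * x)⁻¹, ?_, ?_⟩
        · refine K.mul_mem (hKnorm _ h).2 (K.inv_mem ⟨⟨N.mul_mem hxN hxN, ?_⟩, ?_⟩)
          · show (x * x) • a = a
            rw [mul_smul, hxa, hxb]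
          · show (x * x) • b = b
            rw [mul_smul, hxb, hxa]
        · change _ = s • c
          rw [← mul_smul, show x⁻¹ * (x * s) * x * (x * x)⁻¹ * x = s by group]
    have hcO := Finset.mem_filter.1 hc
    have hsubA : A ⊆ O := by
      intro e he
      simp only [A, Finset.mem_filter, Finset.mem_univ, true_and] at he
      obtain ⟨k, hk, rfl⟩ := he
      simpa [O] using hSout k (hKS hk) c hcO.2.1 hcO.2.2
    have hsubB : B ⊆ O := by
      intro e he
      simp only [B, Finset.mem_filter, Finset.mem_univ, true_and] at he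
      obtain ⟨k, hk, rfl⟩ := he
      have hx' := hSout x hxS c hcO.2.1 hcO.2.2
      simpa [O] using hSout k (hKS hk) _ hx'.1 hx'.2
    have heq : A ∪ B = O :=
      Finset.Subset.antisymm (Finset.union_subset hsubA hsubB) horbs
    have hdisj : Disjoint A B := by
      rw [Finset.disjoint_left]
      intro e heA heB
      simp only [A, B, Finset.mem_filter, Finset.mem_univ, true_and] at heA heB
      obtain ⟨k, hk, rfl⟩ := heA
      obtain ⟨l, hl, hle⟩ := heB
      obtain h | h := Finset.mem_union.1 (heq.ge hd)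
      · simp only [A, Finset.mem_filter, Finset.mem_univ, true_and] at h
        obtain ⟨k', hk', hke⟩ := h
        exact hcon k' hk' hke
      · simp only [B, Finset.mem_filter, Finset.mem_univ, true_and] at h
        obtain ⟨k', hk', hke⟩ := h
        refine hcon (k' * l⁻¹ * k) (K.mul_mem (K.mul_mem hk' (K.inv_mem hl)) hk) ?_
        rw [mul_smul, mul_smul, ← hle, inv_smul_smul, hke]
    have := Finset.card_union_of_disjoint hdisj
    rw [heq, ← hAB] at this
    obtain ⟨i, hi⟩ := hodd
    omega
  -- assemble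
  refine isMultiplyPretransitive_of_forall fun u v hu hv => ?_
  obtain ⟨g, hga, hgb⟩ := exists_smul_eq_two hN2 (hu.ne (show (0 : Fin 3) ≠ 1 by decide)) hab
  obtain ⟨k, hka, hkb⟩ := exists_smul_eq_two hN2 (hv.ne (show (0 : Fin 3) ≠ 1 by decide)) hab
  have hO : ∀ (w : Fin 3 → α) (g : N), Function.Injective w → g • w 0 = a → g • w 1 = b →
      g • w 2 ∈ O := by
    intro w g hw h0 h1
    simp only [O, Finset.mem_filter, Finset.mem_univ, true_and]
    exact ⟨fun e => hw.ne (show (2 : Fin 3) ≠ 0 by decide) (smul_left_cancel g (e.trans h0.symm)),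
      fun e => hw.ne (show (2 : Fin 3) ≠ 1 by decide) (smul_left_cancel g (e.trans h1.symm))⟩
  obtain ⟨l, hl, hlc⟩ := hKtrans _ (hO u g hu hga hgb) _ (hO v k hv hka hkb)
  refine ⟨k⁻¹ * ⟨l, hl.1.1⟩ * g, fun i => ?_⟩
  rw [mul_smul, mul_smul, inv_smul_eq_iff]
  fin_cases i
  · show l • g • u 0 = k • v 0
    rw [hga, hka]; exact hl.1.2
  · show l • g • u 1 = k • v 1
    rw [hgb, hkb]; exact hl.2
  · exact hlc

/-- A primitive, non-regular minimal normal subgroup of a finite 2-transitive group is simple. -/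
theorem isSimpleGroup_of_primitive_minimal_normal [Finite G] [FaithfulSMul G α] [Finite α]
    (hG : IsMultiplyPretransitive G α 2) {N : Subgroup G} [hNn : N.Normal] (hN : N ≠ ⊥)
    (hmin : ∀ M : Subgroup G, M.Normal → M ≤ N → M = ⊥ ∨ M = N) (hprim : IsPreprimitive N α) :
    IsSimpleGroup N := by
  haveI := hprim
  haveI : Nontrivial N := (Subgroup.nontrivial_iff_ne_bot N).2 hN
  refine ⟨fun L hL => ?_⟩
  by_contra hcon
  rw [not_or] at hcon
  obtain ⟨hL0, hL1⟩ := hcon
  -- a minimal normal subgroup of `N`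
  obtain ⟨M, ⟨hMn, hM0, hM1⟩, hMmin'⟩ := exists_minimal_of_wellFoundedLT
    (fun M : Subgroup N => M.Normal ∧ M ≠ ⊥ ∧ M ≠ ⊤) ⟨L, hL, hL0, hL1⟩
  haveI := hMn
  have hMmin : ∀ L : Subgroup N, L.Normal → L ≤ M → L = ⊥ ∨ L = M := fun L hL hle =>
    or_iff_not_imp_left.2 fun h0 => le_antisymm hle (hMmin' ⟨hL, h0, fun h => hM1 (top_le_iff.1 (h ▸ hle))⟩ hle)
  -- a conjugate of it, different from it
  obtain ⟨g, hg⟩ : ∃ g : G, M.map (MulAut.conjNormal g).toMonoidHom ≠ M := by
    by_contra hall
    simp only [not_exists, ne_eq, not_not] at hall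
    have : (M.map N.subtype).Normal := ⟨by
      rintro _ ⟨n, hn, rfl⟩ g
      exact ⟨MulAut.conjNormal g n, (hall g).le ⟨n, hn, rfl⟩, MulAut.conjNormal_apply g n⟩⟩
    rcases hmin _ this (Subgroup.map_subtype_le M) with h | h
    · exact hM0 ((Subgroup.map_eq_bot_iff_of_injective M N.subtype_injective).1 h)
    · refine hM1 (Subgroup.map_injective N.subtype_injective (h.trans ?_))
      rw [← MonoidHom.range_eq_map, Subgroup.range_subtype]
  set e := MulAut.conjNormal (H := N) g
  set M' : Subgroup N := M.map e.toMonoidHom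
  haveI hM'n : M'.Normal := hMn.map e.toMonoidHom e.surjective
  have hM'min : ∀ L : Subgroup N, L.Normal → L ≤ M' → L = ⊥ ∨ L = M' := by
    intro L hL hle
    haveI := hL
    rcases hMmin (L.comap e.toMonoidHom) inferInstance
      ((Subgroup.comap_mono hle).trans
        (Subgroup.comap_map_eq_self_of_injective e.injective M).le) with h | h
    · left
      exact (Subgroup.map_comap_eq_self_of_surjective e.surjective L).symm.trans
        ((congrArg (Subgroup.map e.toMonoidHom) h).trans (Subgroup.map_bot _))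
    · right
      exact (Subgroup.map_comap_eq_self_of_surjective e.surjective L).symm.trans
        (congrArg (Subgroup.map e.toMonoidHom) h)
  have hM'0 : M' ≠ ⊥ := fun h =>
    hM0 ((Subgroup.map_eq_bot_iff_of_injective M e.injective).1 h)
  have hcomm : M' ≤ Subgroup.centralizer (M : Set N) := le_centralizer_of_minimal hM'min hMmin hg
  obtain ⟨hMt, hMreg⟩ := regular_of_commuting_normal (α := α) hM0 hM'0
    (Subgroup.le_centralizer_iff.1 hcomm)
  haveI := hMt
  have hM't : IsPretransitive M' α := isPretransitive_of_normal hM'0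
  -- the class of every non-trivial element of `M` is trivial
  have hMab : ∀ m m' : N, m ∈ M → m' ∈ M → m * m' = m' * m := by
    intro m m' hm hm'
    rcases eq_or_ne m 1 with rfl | hm1
    · simp
    obtain ⟨a⟩ : Nonempty α := by
      by_contra hα
      rw [not_nonempty_iff] at hα
      exact hN ((Subgroup.eq_bot_iff_forall N).2 fun g _ =>
        eq_one_of_forall_smul_eq (α := α) fun x => isEmptyElim x)
    classical
    have := Fintype.ofFinite α
    have := Fintype.ofFinite M
    let K : Subgroup N := M ⊔ M'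
    haveI : K.Normal := Subgroup.sup_normal M M'
    haveI := hNn
    -- orbits of `N_a` on the other points have one size `c`, prime to the degree
    let orbA : α → Finset α := fun y => Finset.univ.filter fun z => z ∈ orbit (stabilizer N a) y
    let Ω' : Finset α := Finset.univ.filter fun y => y ≠ a
    have horb : ∀ y z, y ∈ Ω' → z ∈ Ω' → (orbA y).card = (orbA z).card := by
      intro y z hy hz
      simp only [Ω', Finset.mem_filter, Finset.mem_univ, true_and] at hy hz
      obtain ⟨g, ga, gy⟩ := exists_stabilizer_smul_eq hG hy hz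
      have key : ∀ g : G, g • a = a → ∀ {y e : α}, e ∈ orbit (stabilizer N a) y →
          g • e ∈ orbit (stabilizer N a) (g • y) := by
        rintro g ga y _ ⟨⟨n, hn⟩, rfl⟩
        refine ⟨⟨MulAut.conjNormal g n, ?_⟩, ?_⟩
        · rw [mem_stabilizer_iff, Subgroup.smul_def, MulAut.conjNormal_apply, mul_smul, mul_smul,
            inv_smul_eq_iff.2 ga.symm]
          rw [mem_stabilizer_iff, Subgroup.smul_def] at hn
          rw [hn, ga]
        · change (MulAut.conjNormal g n : G) • g • y = g • (n : G) • y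
          rw [MulAut.conjNormal_apply, mul_smul, mul_smul, inv_smul_smul]
      refine Finset.card_bij (fun e _ => g • e) ?_ (fun _ _ _ _ h => smul_left_cancel g h) ?_
      · intro e he
        simp only [orbA, Finset.mem_filter, Finset.mem_univ, true_and] at he ⊢
        exact gy ▸ key g ga he
      · intro e he
        simp only [orbA, Finset.mem_filter, Finset.mem_univ, true_and] at he
        refine ⟨g⁻¹ • e, ?_, smul_inv_smul g e⟩
        simp only [orbA, Finset.mem_filter, Finset.mem_univ, true_and]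
        have := key g⁻¹ (inv_smul_eq_iff.2 ga.symm) he
        rwa [inv_smul_eq_iff.2 gy.symm] at this
    have horbΩ : ∀ y ∈ Ω', orbA y ⊆ Ω' := by
      intro y hy e he
      simp only [Ω', orbA, Finset.mem_filter, Finset.mem_univ, true_and] at hy he ⊢
      obtain ⟨⟨n, hn⟩, rfl⟩ := he
      exact fun e => hy (smul_left_cancel n (e.trans (mem_stabilizer_iff.1 hn).symm))
    have hdvd : ∀ y ∈ Ω', (orbA y).card ∣ Ω'.card := by
      intro y hy
      have hsum := Finset.card_eq_sum_card_image (fun e => orbA e) Ω'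
      have hfib : ∀ w ∈ Ω'.image (fun e => orbA e),
          (Ω'.filter fun e => orbA e = w).card = (orbA y).card := by
        intro w hw
        obtain ⟨d, hd, rfl⟩ := Finset.mem_image.1 hw
        rw [horb y d hy hd]
        congr 1
        ext e
        simp only [Finset.mem_filter]
        constructor
        · rintro ⟨-, he⟩
          rw [← he]
          simp [orbA, mem_orbit_self]
        · intro he
          refine ⟨horbΩ d hd he, ?_⟩
          simp only [orbA, Finset.mem_filter, Finset.mem_univ, true_and] at he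
          simp only [orbA, orbit_eq_iff.2 he]
      rw [Finset.sum_congr rfl hfib, Finset.sum_const, smul_eq_mul] at hsum
      exact Dvd.intro_left _ hsum.symm
    have hΩ : Ω'.card + 1 = Nat.card α := by
      have h : Ω' = ({a} : Finset α)ᶜ := by ext c; simp [Ω']
      rw [h, Nat.card_eq_fintype_card, ← Finset.card_singleton a, Finset.card_compl_add_card]
    have hy : m • a ∈ Ω' := by
      simp only [Ω', Finset.mem_filter, Finset.mem_univ, true_and]
      exact fun e => hm1 (stabilizer_subgroup_eq_bot_iff.1 (hMreg a) m hm e)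
    -- `K_a` is normal in `N_a`, and its orbit of `m • a` is the class of `m`
    let Ka : Subgroup (stabilizer N a) := K.subgroupOf (stabilizer N a)
    haveI : Ka.Normal := inferInstance
    have hs1 : Nat.card (orbit Ka (m • a)) ∣ (orbA (m • a)).card := by
      have h : Nat.card (orbit (stabilizer N a) (m • a)) = (orbA (m • a)).card := by
        rw [Nat.card_eq_fintype_card, Fintype.card_subtype]
      rw [← h]
      haveI : IsPretransitive (stabilizer N a) (orbit (stabilizer N a) (m • a)) := inferInstance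
      let pt : orbit (stabilizer N a) (m • a) := ⟨m • a, mem_orbit_self _⟩
      have hb : IsBlock (stabilizer N a) (orbit Ka pt) := IsBlock.orbit_of_normal pt
      have := hb.ncard_dvd_card ⟨pt, mem_orbit_self pt⟩
      rw [← Nat.card_coe_set_eq] at this
      refine dvd_trans (dvd_of_eq ?_) this
      refine Nat.card_congr (Equiv.ofBijective
        (fun q : orbit Ka (m • a) =>
          (⟨⟨(q : α), ?_⟩, ?_⟩ : orbit Ka pt)) ⟨?_, ?_⟩)
      · obtain ⟨k, hk⟩ := q.2
        exact ⟨(k : stabilizer N a), hk⟩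
      · obtain ⟨k, hk⟩ := q.2
        exact ⟨k, Subtype.ext hk⟩
      · intro q q' hqq'
        exact Subtype.ext (congrArg (fun z : orbit Ka pt => ((z : orbit _ _) : α)) hqq')
      · rintro ⟨_, k, rfl⟩
        exact ⟨⟨((k : stabilizer N a) • (m • a) : α), k, rfl⟩, rfl⟩
    -- conjugacy class of `m` in `M`
    have hcls : Nat.card (orbit Ka (m • a)) = Nat.card (orbit (ConjAct M) (⟨m, hm⟩ : M)) := by
      refine (Nat.card_congr (Equiv.ofBijective
        (fun q : orbit (ConjAct M) (⟨m, hm⟩ : M) =>
          (⟨(((q : M) : N) • a : α), ?_⟩ : orbit Ka (m • a))) ⟨?_, ?_⟩)).symm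
      · obtain ⟨⟨k, hk⟩, hq⟩ := q.2
        obtain ⟨k', hk', hk'a⟩ := isPretransitive_subgroup_iff.1 hM't (k • a) a
        have hfa : (k' * k) • a = a := by rw [mul_smul, hk'a]
        refine ⟨⟨⟨k' * k, hfa⟩, K.mul_mem (Subgroup.mem_sup_right hk') (Subgroup.mem_sup_left hk)⟩, ?_⟩
        change (k' * k) • m • a = ((q : M) : N) • a
        have hq' : k * m * k⁻¹ = ((q : M) : N) := by rw [← hq]; rfl
        have hc := Subgroup.mem_centralizer_iff.1 (hcomm hk') (k * m * k⁻¹)
          (M.mul_mem (M.mul_mem hk hm) (M.inv_mem hk))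
        rw [← conj_smul_eq hfa]
        congr 1
        rw [← hq']
        calc k' * k * m * (k' * k)⁻¹ = k' * (k * m * k⁻¹) * k'⁻¹ := by group
          _ = k * m * k⁻¹ := by rw [← hc]; group
      · intro q q' hqq'
        refine Subtype.ext (Subtype.ext ?_)
        exact eq_of_smul_eq (hMreg a) (q : M).2 (q' : M).2
          (congrArg (fun z : orbit Ka (m • a) => (z : α)) hqq')
      · rintro ⟨_, ⟨⟨k, hk⟩, hkK⟩, rfl⟩
        rw [Subgroup.mem_subgroupOf] at hkK
        obtain ⟨u, hu, v, hv, rfl⟩ := Subgroup.mem_sup_of_normal_left.1 hkK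
        refine ⟨⟨⟨u, hu⟩ * ⟨m, hm⟩ * ⟨u, hu⟩⁻¹, ConjAct.toConjAct (⟨u, hu⟩ : M), rfl⟩,
          Subtype.ext ?_⟩
        change (u * m * u⁻¹) • a = (u * v) • m • a
        rw [← conj_smul_eq hk]
        congr 1
        have hc := Subgroup.mem_centralizer_iff.1 (hcomm hv) m hm
        calc u * m * u⁻¹ = u * (m * v) * v⁻¹ * u⁻¹ := by group
          _ = u * v * m * (u * v)⁻¹ := by rw [hc]; group
    have hdM : Nat.card (orbit (ConjAct M) (⟨m, hm⟩ : M)) ∣ Nat.card α := by
      rw [← card_eq_of_regular (hMreg a), Nat.card_coe_set_eq, ← index_stabilizer]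
      exact (Subgroup.index_dvd_card _).trans (dvd_of_eq (Nat.card_congr ConjAct.toConjAct.toEquiv).symm)
    have hone : Nat.card (orbit (ConjAct M) (⟨m, hm⟩ : M)) = 1 := by
      have h1 := (hcls ▸ hs1).trans (hdvd _ hy)
      refine Nat.eq_one_of_dvd_one ?_
      have := Nat.dvd_sub hdM h1
      rwa [show Nat.card α - Ω'.card = 1 by omega] at this
    obtain ⟨hsub, -⟩ := Nat.card_eq_one_iff_unique.1 hone
    have := congrArg Subtype.val (Subsingleton.elim
      (⟨⟨m, hm⟩, mem_orbit_self _⟩ : orbit (ConjAct M) (⟨m, hm⟩ : M))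
      ⟨ConjAct.toConjAct (⟨m', hm'⟩ : M) • ⟨m, hm⟩, mem_orbit _ _⟩)
    have h' : m = m' * m * m'⁻¹ := congrArg Subtype.val this
    exact eq_mul_inv_iff_mul_eq.1 h'
  haveI : IsMulCommutative M := ⟨⟨fun u v => Subtype.ext (hMab u v u.2 v.2)⟩⟩
  haveI : Nonempty α := by
    by_contra hα
    rw [not_nonempty_iff] at hα
    exact hN ((Subgroup.eq_bot_iff_forall N).2 fun g _ =>
      eq_one_of_forall_smul_eq (α := α) fun x => isEmptyElim x)
  rw [centralizer_eq_of_abelian hMt] at hcomm
  rcases hMmin M' hM'n hcomm with h | h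
  · exact hM'0 h
  · exact hg h

end Cfsg.Agent.Perm
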