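import Cfsg.Agent.Lib.Perm.OddFour
import Cfsg.Agent.Lib.Perm.FourGroupFormula

/-!
# No 4-transitive group of degree at least 10 has a three-point stabiliser of odd order

Two commuting involutions with two fixed points each give a four-group normalising a four-point
stabiliser `H`; Brauer's formula makes `H` transitive on the product of its two orbits, which is
incompatible with the tournament that a three-point stabiliser leaves invariant.
-/

set_option autoImplicit false

namespace Cfsg.Agent.Perm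

open MulAction Finset

/-- An element of odd order exchanging two points fixes them. -/
theorem smul_eq_of_odd_of_smul_smul {G α : Type*} [Group G] [MulAction G α] {k : G}
    (hodd : Odd (orderOf k)) {a : α} (h : k • k • a = a) : k • a = a := by
  obtain ⟨j, hj⟩ := hodd
  have h2 : k * k ∈ stabilizer G a := by
    show (k * k) • a = a
    rw [mul_smul, h]
  have : k ^ orderOf k • a = k • a := by
    rw [hj, pow_succ', pow_mul, pow_two, mul_smul,
      show (k * k) ^ j • a = a from (stabilizer G a).pow_mem h2 j]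
  rw [pow_orderOf_eq_one, one_smul] at this
  exact this.symm

/-- Orbit-stabiliser inside a subgroup. -/
theorem card_orbit_mul_inf_stabilizer {G α : Type*} [Group G] [MulAction G α] [Finite G]
    [DecidableEq α] (K : Subgroup G) [Fintype K] (a : α) :
    ((univ : Finset K).image fun g : K => (g : G) • a).card *
      Nat.card (K ⊓ stabilizer G a : Subgroup G) = Nat.card K := by
  rw [← (stabilizer K a).card_mul_index, index_stabilizer, mul_comm]
  congr 1
  · exact Nat.card_congr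
      { toFun := fun g => ⟨⟨g.1, g.2.1⟩, g.2.2⟩
        invFun := fun g => ⟨g.1.1, g.1.2, g.2⟩
        left_inv := fun _ => rfl
        right_inv := fun _ => rfl }
  · rw [← Set.ncard_coe_finset]
    congr 1
    ext x
    simp [mem_orbit_iff, Subgroup.smul_def]

variable {G α : Type*} [Group G] [MulAction G α] [Finite G] [Fintype α] [DecidableEq α]

/-- 4-transitive with elements fixing three points of odd order. -/
structure OddThree (G α : Type*) [Group G] [MulAction G α] : Prop where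
  four : IsMultiplyPretransitive G α 4
  odd : ∀ (g : G) (a b c : α), a ≠ b → a ≠ c → b ≠ c →
    g • a = a → g • b = b → g • c = c → Odd (orderOf g)

namespace OddThree

variable (S : OddThree G α)
include S

/-- An involution swapping `a, b` and fixing `c, d`. -/
theorem exists_swap {a b c d : α} (hab : a ≠ b) (hac : a ≠ c) (had : a ≠ d) (hbc : b ≠ c)
    (hbd : b ≠ d) (hcd : c ≠ d) :
    ∃ z : G, z * z = 1 ∧ z • a = b ∧ z • b = a ∧ z • c = c ∧ z • d = d := by
  obtain ⟨g, g1, g2, g3, g4⟩ := exists_smul_eq_four S.four hab hac had hbc hbd hcd hab.symm hbc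
    hbd hac had hcd
  obtain ⟨j, hj⟩ := S.odd (g * g) a b c hab hac hbc (by rw [mul_smul, g1, g2])
    (by rw [mul_smul, g2, g1]) (by rw [mul_smul, g3, g3])
  refine ⟨g ^ orderOf (g * g), pow_sq_eq_one g, ?_⟩
  have key : ∀ x : α, g • g • x = x → g ^ orderOf (g * g) • x = g • x := by
    intro x hx
    have h : g * g ∈ stabilizer G x := by
      show (g * g) • x = x
      rw [mul_smul, hx]
    rw [hj, pow_succ', mul_smul, pow_mul, pow_two]
    congr 1
    exact (stabilizer G x).pow_mem h j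
  rw [key a (by rw [g1, g2]), key b (by rw [g2, g1]), key c (by rw [g3, g3]),
    key d (by rw [g4, g4])]
  exact ⟨g1, g2, g3, g4⟩

/-- An involution fixes at most two points. -/
theorem fixed_two {z : G} (hz : z * z = 1) (hz1 : z ≠ 1) {p q x : α} (hpq : p ≠ q)
    (hp : z • p = p) (hq : z • q = q) (hx : z • x = x) : x = p ∨ x = q := by
  by_contra h
  simp only [not_or] at h
  have := S.odd z p q x hpq (Ne.symm h.1) (Ne.symm h.2) hp hq hx
  rw [orderOf_eq_prime (p := 2) (by rw [pow_two]; exact hz) hz1] at this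
  exact absurd this (by decide)

/-- A pointwise stabiliser of three points has odd order. -/
theorem odd_card (T : Subgroup G) {a b c : α} (hab : a ≠ b) (hac : a ≠ c) (hbc : b ≠ c)
    (hT : ∀ g ∈ T, g • a = a ∧ g • b = b ∧ g • c = c) : Odd (Nat.card T) := by
  rw [← Nat.not_even_iff_odd, even_iff_two_dvd]
  intro h2
  have : Fact (Nat.Prime 2) := ⟨Nat.prime_two⟩
  obtain ⟨g, hg⟩ := exists_prime_orderOf_dvd_card' (G := T) 2 h2
  obtain ⟨g1, g2, g3⟩ := hT g g.2
  have := S.odd (g : G) a b c hab hac hbc g1 g2 g3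
  rw [Subgroup.orderOf_coe, hg] at this
  exact absurd this (by decide)

/-- For an involution `y` with cycle `(p, q)` and fixed points `u, v` every further cycle
`(a, y a)` is swapped by an involution commuting with `y` which fixes `p, q` and swaps `u, v`. -/
theorem exists_partner {p q u v : α} (hpq : p ≠ q) (hpu : p ≠ u) (hqu : q ≠ u) (huv : u ≠ v)
    {y : G} (hy : y * y = 1) (hyp : y • p = q) (hyu : y • u = u) (hyv : y • v = v) {a : α}
    (hap : a ≠ p) (haq : a ≠ q) (hau : a ≠ u) (hav : a ≠ v) :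
    ∃ s : G, s * s = 1 ∧ y * s = s * y ∧ s • p = p ∧ s • q = q ∧ s • a = y • a ∧ s • u = v ∧
      s • v = u := by
  have hy1 : y ≠ 1 := fun e => hpq (by rw [← hyp, e, one_smul])
  have hyq : y • q = p := by rw [← hyp, ← mul_smul, hy, one_smul]
  have hyF := fun x => S.fixed_two hy hy1 huv hyu hyv (x := x)
  set b := y • a with hb
  have hyb : y • b = a := by rw [hb, ← mul_smul, hy, one_smul]
  have hab : a ≠ b := fun e => by
    rcases hyF a e.symm with h | h
    · exact hau h
    · exact hav h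
  have hbp : b ≠ p := fun e => haq (by rw [← hyb, e, hyp])
  have hbq : b ≠ q := fun e => hap (by rw [← hyb, e, hyq])
  obtain ⟨s0, hs0, hs0a, hs0b, hs0p, hs0q⟩ := S.exists_swap hab hap haq hbp hbq hpq
  have hyi : y⁻¹ = y := inv_eq_of_mul_eq_one_right hy
  have hs0i : s0⁻¹ = s0 := inv_eq_of_mul_eq_one_right hs0
  set s' := y * s0 * y with hs'
  set w := s0 * s' with hw
  have e1 : w • p = p := by simp only [hw, hs', mul_smul, hyp, hs0q, hyq, hs0p]
  have e2 : w • q = q := by simp only [hw, hs', mul_smul, hyq, hs0p, hyp, hs0q]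
  have e3 : w • a = a := by simp only [hw, hs', mul_smul, ← hb, hs0b]
  obtain ⟨j, hj⟩ := S.odd w p q a hpq hap.symm haq.symm e1 e2 e3
  have hwy : y * w * y⁻¹ = w⁻¹ := by
    rw [hw, hs', hyi, mul_inv_rev, mul_inv_rev, mul_inv_rev, hyi, hs0i]
    calc y * (s0 * (y * s0 * y)) * y = y * s0 * y * s0 * (y * y) := by group
      _ = y * (s0 * y) * s0 := by rw [hy, mul_one]; group
  have f1 : (w ^ j * s0) * (w ^ j * s0) = 1 := by
    have hsw : s0 * w * s0⁻¹ = w⁻¹ := by
      rw [hw, mul_inv_rev, hs', mul_inv_rev, mul_inv_rev, hyi, hs0i]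
      calc s0 * (s0 * (y * s0 * y)) * s0 = (s0 * s0) * (y * s0 * y * s0) := by group
        _ = y * (s0 * y) * s0 := by rw [hs0, one_mul]; group
    have := conj_pow (i := j) (a := s0) (b := w)
    rw [hsw, inv_pow] at this
    calc w ^ j * s0 * (w ^ j * s0) = w ^ j * (s0 * w ^ j * s0⁻¹) * (s0 * s0) := by group
      _ = 1 := by rw [← this, hs0, mul_one, mul_inv_cancel]
  have f2 : y * (w ^ j * s0) = w ^ j * s0 * y := by
    have := conj_pow (i := j) (a := y) (b := w)
    rw [hwy, inv_pow] at this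
    have hs'' : s0 * w = s' := by rw [hw, ← mul_assoc, hs0, one_mul]
    have hwsw : w * s0 * w = s0 := by
      rw [mul_assoc, hs'', hw, mul_assoc, hs', show y * s0 * y * (y * s0 * y) =
        y * (s0 * (y * y) * s0) * y by group, hy, mul_one, hs0, mul_one, hy, mul_one]
    calc y * (w ^ j * s0) = (y * w ^ j * y⁻¹) * (y * s0 * y) * y⁻¹ := by group
      _ = (w ^ j)⁻¹ * s' * y := by rw [← this, ← hs', hyi]
      _ = (w ^ j)⁻¹ * (w⁻¹ * s0) * y := by
          congr 2
          rw [← hs'', eq_inv_mul_iff_mul_eq, ← mul_assoc, hwsw]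
      _ = (w ^ (j + 1))⁻¹ * s0 * y := by group
      _ = w ^ j * s0 * y := by
          congr 2
          rw [inv_eq_iff_mul_eq_one, ← pow_add, show j + 1 + j = 2 * j + 1 by omega, ← hj,
            pow_orderOf_eq_one]
  have f3 : (w ^ j * s0) • p = p := by
    rw [mul_smul, hs0p]; exact (stabilizer G p).pow_mem e1 j
  have f4 : (w ^ j * s0) • q = q := by
    rw [mul_smul, hs0q]; exact (stabilizer G q).pow_mem e2 j
  have f5 : (w ^ j * s0) • a = b := by
    rw [mul_smul, hs0a]
    refine (stabilizer G b).pow_mem ?_ j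
    show w • b = b
    simp only [hw, hs', mul_smul, hyb, hs0a]
  -- the swap of `u, v`
  have hs1 : w ^ j * s0 ≠ 1 := fun e => hab (by rw [← f5, e, one_smul])
  have h1 : y • (w ^ j * s0) • u = (w ^ j * s0) • u := by rw [← mul_smul, f2, mul_smul, hyu]
  refine ⟨w ^ j * s0, f1, f2, f3, f4, f5, ?_⟩
  rcases hyF _ h1 with e | e
  · rcases S.fixed_two f1 hs1 hpq f3 f4 e with e' | e'
    · exact absurd e'.symm hpu
    · exact absurd e'.symm hqu
  · exact ⟨e, by conv_lhs => rw [← e, ← mul_smul, f1, one_smul]⟩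

/-- Let `y` swap `p, q` and fix `u, v`, let `s` be a partner of `y` agreeing with it at `a0`,
and `H` the stabiliser of `p, q, u, v`. Then `C_H(y)` moves every other point to `a0` or
`y a0`, and its orbit of `a0` avoids `y a0`. -/
theorem centralizer_orbit {p q u v : α} (hpq : p ≠ q) (hpu : p ≠ u) (hqu : q ≠ u) (huv : u ≠ v)
    {y : G} (hy : y * y = 1) (hyp : y • p = q) (hyq : y • q = p) (hyu : y • u = u)
    (hyv : y • v = v) {s : G} (hs : s * s = 1) (hys : y * s = s * y) (hsp : s • p = p)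
    (hsq : s • q = q) (hsu : s • u = v) (hsv : s • v = u) {a0 : α} (ha0p : a0 ≠ p)
    (ha0q : a0 ≠ q) (ha0u : a0 ≠ u) (ha0v : a0 ≠ v) (hsa : s • a0 = y • a0) :
    (∀ a, a ≠ p → a ≠ q → a ≠ u → a ≠ v → ∃ h : G,
      (h • p = p ∧ h • q = q ∧ h • u = u ∧ h • v = v) ∧ h * y = y * h ∧
        (h • a = a0 ∨ h • a = y • a0)) ∧
    ∀ h : G, h • p = p → h • q = q → h • u = u → h * y = y * h → h • a0 ≠ y • a0 := by
  have hy1 : y ≠ 1 := fun e => hpq (by rw [← hyp, e, one_smul])
  have hmov : y • a0 ≠ a0 := fun e => by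
    rcases S.fixed_two hy hy1 huv hyu hyv e with h | h
    · exact ha0u h
    · exact ha0v h
  refine ⟨fun a hap haq hau hav => ?_, fun h hp hq hu hc he => ?_⟩
  · obtain ⟨t, ht, hyt, htp, htq, hta, htu, htv⟩ :=
      S.exists_partner hpq hpu hqu huv hy hyp hyu hyv hap haq hau hav
    obtain ⟨w, hw⟩ : ∃ w, w = y * s := ⟨_, rfl⟩
    obtain ⟨w', hw'⟩ : ∃ w', w' = y * t := ⟨_, rfl⟩
    have hww : w * w = 1 := by
      rw [hw]; calc y * s * (y * s) = y * (s * y) * s := by group
        _ = (y * y) * (s * s) := by rw [← hys]; simp only [mul_assoc]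
        _ = 1 := by rw [hy, hs, mul_one]
    have hw'w' : w' * w' = 1 := by
      rw [hw']; calc y * t * (y * t) = y * (t * y) * t := by group
        _ = (y * y) * (t * t) := by rw [← hyt]; simp only [mul_assoc]
        _ = 1 := by rw [hy, ht, mul_one]
    have e : w * w' = s * t := by
      rw [hw, hw', hys, mul_assoc, ← mul_assoc y y t, hy, one_mul]
    have f1 : (w * w') • p = p := by rw [e, mul_smul, htp, hsp]
    have f2 : (w * w') • q = q := by rw [e, mul_smul, htq, hsq]
    have f3 : (w * w') • u = u := by rw [e, mul_smul, htu, hsv]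
    have f4 : (w * w') • v = v := by rw [e, mul_smul, htv, hsu]
    obtain ⟨i, hi⟩ := exists_conj_of_odd_mul hww hw'w'
      (S.odd (w * w') p q u hpq hpu hqu f1 f2 f3)
    refine ⟨(w * w') ^ i, ⟨(stabilizer G p).pow_mem f1 i, (stabilizer G q).pow_mem f2 i,
      (stabilizer G u).pow_mem f3 i, (stabilizer G v).pow_mem f4 i⟩, ?_, ?_⟩
    · exact (Commute.pow_left (show Commute (w * w') y by
        rw [e]; exact ((show Commute y s from hys).symm).mul_left (show Commute y t from hyt).symm)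
        i).eq
    · have hfix : w • (w * w') ^ i • a = (w * w') ^ i • a := by
        rw [← mul_smul, ← mul_inv_eq_iff_eq_mul.1 hi, mul_smul]
        congr 1
        rw [hw', mul_smul, hta, ← mul_smul, hy, one_smul]
      have hw1 : w ≠ 1 := fun e' => by
        have h := congrArg (· • p) e'
        simp only [hw, mul_smul, hsp, hyp, one_smul] at h
        exact hpq h.symm
      have hwa : w • a0 = a0 := by rw [hw, mul_smul, hsa, ← mul_smul, hy, one_smul]
      have hwb : w • y • a0 = y • a0 := by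
        rw [← mul_smul, hw, mul_assoc, ← hys, ← mul_assoc, hy, one_mul, hsa]
      exact S.fixed_two hww hw1 hmov.symm hwa hwb hfix
  · refine hmov ((smul_eq_of_odd_of_smul_smul (S.odd h p q u hpq hpu hqu hp hq hu) ?_).symm.trans
      he).symm
    rw [he, ← mul_smul, hc, mul_smul, he, ← mul_smul, hy, one_smul]

/-- The centraliser of `y` in `H` has two orbits of equal size on the points outside
`p, q, u, v`. -/
theorem orbit_half {p q u v : α} (hpq : p ≠ q) (hpu : p ≠ u) (hpv : p ≠ v) (hqu : q ≠ u)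
    (hqv : q ≠ v) (huv : u ≠ v)
    {y : G} (hy : y * y = 1) (hyp : y • p = q) (hyq : y • q = p) (hyu : y • u = u)
    (hyv : y • v = v) {s : G} (hs : s * s = 1) (hys : y * s = s * y) (hsp : s • p = p)
    (hsq : s • q = q) (hsu : s • u = v) (hsv : s • v = u) {a0 : α} (ha0p : a0 ≠ p)
    (ha0q : a0 ≠ q) (ha0u : a0 ≠ u) (ha0v : a0 ≠ v) (hsa : s • a0 = y • a0) (K : Subgroup G)
    [Fintype K]
    (hK : ∀ g, g ∈ K ↔ (g • p = p ∧ g • q = q ∧ g • u = u ∧ g • v = v) ∧ g * y = y * g) :
    2 * ((univ : Finset K).image fun g : K => (g : G) • a0).card = Fintype.card α - 4 := by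
  obtain ⟨hcov, hsep⟩ := S.centralizer_orbit hpq hpu hqu huv hy hyp hyq hyu hyv hs hys hsp hsq
    hsu hsv ha0p ha0q ha0u ha0v hsa
  set O := (univ : Finset K).image fun g : K => (g : G) • a0 with hO
  set O' := O.image fun x => y • x with hO'
  have hOmem : ∀ x, x ∈ O ↔ ∃ g ∈ K, g • a0 = x := fun x => by simp [hO]
  have hR : (univ \ ({p, q, u, v} : Finset α)).card = Fintype.card α - 4 := by
    rw [card_sdiff_of_subset (subset_univ _), card_univ]
    congr 1
    simp [hpq, hpu, hpv, hqu, hqv, huv]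
  have hunion : O ∪ O' = univ \ ({p, q, u, v} : Finset α) := by
    ext x
    simp only [mem_union, mem_sdiff, mem_univ, true_and, mem_insert, mem_singleton, not_or]
    constructor
    · intro hx
      have key : ∀ g ∈ K, g • a0 ≠ p ∧ g • a0 ≠ q ∧ g • a0 ≠ u ∧ g • a0 ≠ v := by
        intro g hg
        obtain ⟨⟨g1, g2, g3, g4⟩, -⟩ := (hK g).1 hg
        exact ⟨fun e => ha0p (smul_left_cancel g (e.trans g1.symm)),
          fun e => ha0q (smul_left_cancel g (e.trans g2.symm)),
          fun e => ha0u (smul_left_cancel g (e.trans g3.symm)),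
          fun e => ha0v (smul_left_cancel g (e.trans g4.symm))⟩
      rcases hx with hx | hx
      · obtain ⟨g, hg, rfl⟩ := (hOmem x).1 hx
        exact key g hg
      · obtain ⟨x', hx', rfl⟩ := mem_image.1 hx
        obtain ⟨g, hg, rfl⟩ := (hOmem x').1 hx'
        obtain ⟨k1, k2, k3, k4⟩ := key g hg
        exact ⟨fun e => k2 (smul_left_cancel y (e.trans hyq.symm)),
          fun e => k1 (smul_left_cancel y (e.trans hyp.symm)),
          fun e => k3 (smul_left_cancel y (e.trans hyu.symm)),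
          fun e => k4 (smul_left_cancel y (e.trans hyv.symm))⟩
    · rintro ⟨h1, h2, h3, h4⟩
      obtain ⟨h, hH, hc, he⟩ := hcov x h1 h2 h3 h4
      have hm : h⁻¹ ∈ K := inv_mem ((hK h).2 ⟨hH, hc⟩)
      rcases he with e | e
      · exact Or.inl ((hOmem x).2 ⟨h⁻¹, hm, inv_smul_eq_iff.2 e.symm⟩)
      · refine Or.inr (mem_image.2 ⟨h⁻¹ • a0, (hOmem _).2 ⟨h⁻¹, hm, rfl⟩, ?_⟩)
        rw [← mul_smul, ← ((hK h⁻¹).1 hm).2, mul_smul, inv_smul_eq_iff, e]
  have hdisj : Disjoint O O' := by
    rw [disjoint_left]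
    intro x hx hx'
    obtain ⟨x', hx'', rfl⟩ := mem_image.1 hx'
    obtain ⟨g, hg, e⟩ := (hOmem _).1 hx
    obtain ⟨g', hg', rfl⟩ := (hOmem x').1 hx''
    obtain ⟨⟨h1, h2, h3, -⟩, hc⟩ := (hK (g'⁻¹ * g)).1 (mul_mem (inv_mem hg') hg)
    refine hsep _ h1 h2 h3 hc ?_
    rw [mul_smul, e, inv_smul_eq_iff, ← mul_smul y, ← ((hK g').1 hg').2, mul_smul]
  rw [← hR, ← hunion, card_union_of_disjoint hdisj, hO',
    card_image_of_injective _ (MulAction.injective y)]
  omega

/-- **No 4-transitive group of degree at least 10 has odd three-point stabilisers.** -/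
theorem false (hn : 10 ≤ Fintype.card α) : False := by
  classical
  have : Fintype G := Fintype.ofFinite G
  obtain ⟨F, -, hF⟩ := exists_subset_card_eq (s := (univ : Finset α)) (n := 4)
    (by rw [card_univ]; omega)
  obtain ⟨p, q, u, v, hpq, hpu, hpv, hqu, hqv, huv, rfl⟩ := card_eq_four.1 hF
  obtain ⟨y, hy, hyp, hyq, hyu, hyv⟩ := S.exists_swap hpq hpu hpv hqu hqv huv
  obtain ⟨a0, -, ha0⟩ := exists_mem_notMem_of_card_lt_card (s := ({p, q, u, v} : Finset α))
    (t := univ) (by rw [hF, card_univ]; omega)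
  simp only [mem_insert, mem_singleton, not_or] at ha0
  obtain ⟨ha0p, ha0q, ha0u, ha0v⟩ := ha0
  obtain ⟨s, hs, hys, hsp, hsq, hsa, hsu, hsv⟩ :=
    S.exists_partner hpq hpu hqu huv hy hyp hyu hyv ha0p ha0q ha0u ha0v
  set b := y • a0 with hb
  have hyb : y • b = a0 := by rw [hb, ← mul_smul, hy, one_smul]
  have hsb : s • b = a0 := by rw [← hsa, ← mul_smul, hs, one_smul]
  have hab : a0 ≠ b := fun e => by
    rcases S.fixed_two hy (fun e' => hpq (by rw [← hyp, e', one_smul])) huv hyu hyv e.symm with h | h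
    · exact ha0u h
    · exact ha0v h
  -- the subgroups
  let H : Subgroup G := stabilizer G p ⊓ stabilizer G q ⊓ stabilizer G u ⊓ stabilizer G v
  let H6 : Subgroup G := H ⊓ stabilizer G a0 ⊓ stabilizer G b
  let C : G → Subgroup G := fun g => Subgroup.centralizer {g}
  have hCm : ∀ g h, h ∈ C g ↔ h * g = g * h := fun g h => by
    simp [C, Subgroup.mem_centralizer_singleton_iff]
  have hHm : ∀ g, g ∈ H ↔ g • p = p ∧ g • q = q ∧ g • u = u ∧ g • v = v := fun g => by
    simp [H, and_assoc]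
  have hH6m : ∀ g, g ∈ H6 ↔ g ∈ H ∧ g • a0 = a0 ∧ g • b = b := fun g => by
    simp [H6, and_assoc]
  have hHodd : Odd (Nat.card H) := S.odd_card H hpq hpu hqu fun g hg =>
    ⟨((hHm g).1 hg).1, ((hHm g).1 hg).2.1, ((hHm g).1 hg).2.2.1⟩
  obtain ⟨w, hw⟩ : ∃ w, w = y * s := ⟨_, rfl⟩
  have hww : w * w = 1 := by
    rw [hw]; calc y * s * (y * s) = y * (s * y) * s := by group
      _ = (y * y) * (s * s) := by rw [← hys]; simp only [mul_assoc]
      _ = 1 := by rw [hy, hs, mul_one]
  -- conjugations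
  have hyi : y⁻¹ = y := inv_eq_of_mul_eq_one_right hy
  have hsi : s⁻¹ = s := inv_eq_of_mul_eq_one_right hs
  have key : ∀ (t : G) (T : Subgroup G), t * t = 1 → (∀ g ∈ T, t * g * t ∈ T) →
      ∃ σ : T ≃* T, ∀ g : T, (σ g : G) = t * g * t := by
    intro t T ht hT
    refine ⟨{ toFun := fun g => ⟨t * g * t, hT g g.2⟩
              invFun := fun g => ⟨t * g * t, hT g g.2⟩
              left_inv := fun g => Subtype.ext (by
                show t * (t * g * t) * t = g
                rw [show t * (t * (g : G) * t) * t = (t * t) * g * (t * t) by group, ht, one_mul,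
                  mul_one])
              right_inv := fun g => Subtype.ext (by
                show t * (t * g * t) * t = g
                rw [show t * (t * (g : G) * t) * t = (t * t) * g * (t * t) by group, ht, one_mul,
                  mul_one])
              map_mul' := fun g h => Subtype.ext (by
                show t * ((g : G) * h) * t = t * g * t * (t * h * t)
                rw [show t * (g : G) * t * (t * h * t) = t * g * (t * t) * h * t by group, ht,
                  mul_one]; group) }, fun g => rfl⟩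
  have hnyH : ∀ g ∈ H, y * g * y ∈ H := fun g hg => by
    obtain ⟨g1, g2, g3, g4⟩ := (hHm g).1 hg
    rw [hHm]; simp only [mul_smul, hyp, hyq, hyu, hyv, g1, g2, g3, g4, and_self]
  have hnsH : ∀ g ∈ H, s * g * s ∈ H := fun g hg => by
    obtain ⟨g1, g2, g3, g4⟩ := (hHm g).1 hg
    rw [hHm]; simp only [mul_smul, hsp, hsq, hsu, hsv, g1, g2, g3, g4, and_self]
  have hny6 : ∀ g ∈ H6, y * g * y ∈ H6 := fun g hg => by
    obtain ⟨gH, g5, g6⟩ := (hH6m g).1 hg
    rw [hH6m]
    exact ⟨hnyH g gH, by rw [mul_smul, mul_smul, ← hb, g6, hyb],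
      by rw [mul_smul, mul_smul, hyb, g5]⟩
  have hns6 : ∀ g ∈ H6, s * g * s ∈ H6 := fun g hg => by
    obtain ⟨gH, g5, g6⟩ := (hH6m g).1 hg
    rw [hH6m]
    exact ⟨hnsH g gH, by rw [mul_smul, mul_smul, hsa, g6, hsb],
      by rw [mul_smul, mul_smul, hsb, g5, hsa]⟩
  -- Brauer's formula in a subgroup normalised by `y` and `s`
  have formula : ∀ T : Subgroup G, Odd (Nat.card T) → (∀ g ∈ T, y * g * y ∈ T) →
      (∀ g ∈ T, s * g * s ∈ T) →
      Nat.card T * Nat.card (T ⊓ C y ⊓ C s : Subgroup G) ^ 2 =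
        Nat.card (T ⊓ C y : Subgroup G) * Nat.card (T ⊓ C s : Subgroup G) *
          Nat.card (T ⊓ C w : Subgroup G) := by
    intro T hT hTy hTs
    obtain ⟨σ, hσ⟩ := key y T hy hTy
    obtain ⟨τ, hτ⟩ := key s T hs hTs
    have hiff : ∀ t : G, t * t = 1 → ∀ g : G, t * g * t = g ↔ g * t = t * g := fun t ht g => by
      rw [← mul_left_inj t (b := t * g * t), mul_assoc, ht, mul_one, eq_comm]
    have h1 : ∀ g : T, σ g = g ↔ (g : G) ∈ C y := fun g => by
      rw [hCm, ← hiff y hy, ← hσ, Subtype.ext_iff]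
    have h2 : ∀ g : T, τ g = g ↔ (g : G) ∈ C s := fun g => by
      rw [hCm, ← hiff s hs, ← hτ, Subtype.ext_iff]
    have h3 : ∀ g : T, σ (τ g) = g ↔ (g : G) ∈ C w := fun g => by
      rw [hCm, ← hiff w hww, Subtype.ext_iff, hσ, hτ, hw]
      conv_rhs => rw [show y * s * (g : G) * (y * s) = y * (s * g * (y * s)) by group, hys]
      rw [show y * (s * (g : G) * s) * y = y * (s * g * (s * y)) by group]
    have hcard : ∀ (P : T → Prop) (Q : Subgroup G), (∀ g : T, P g ↔ (g : G) ∈ Q) →
        Nat.card {g : T // P g} = Nat.card (T ⊓ Q : Subgroup G) := fun P Q h => Nat.card_congr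
      { toFun := fun g => ⟨g.1, g.1.2, (h g.1).1 g.2⟩
        invFun := fun g => ⟨⟨g.1, g.2.1⟩, (h _).2 g.2.2⟩
        left_inv := fun _ => rfl
        right_inv := fun _ => rfl }
    have hf := FourGroup.card_formula hT σ τ
      (fun g => Subtype.ext (by
        rw [hσ, hσ, show y * (y * (g : G) * y) * y = (y * y) * g * (y * y) by group, hy, one_mul,
          mul_one]))
      (fun g => Subtype.ext (by
        rw [hτ, hτ, show s * (s * (g : G) * s) * s = (s * s) * g * (s * s) by group, hs, one_mul,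
          mul_one]))
      (fun g => Subtype.ext (by
        rw [hσ, hτ, hτ, hσ, show y * (s * (g : G) * s) * y = (y * s) * g * (s * y) by group, hys,
          show s * (y * (g : G) * y) * s = (s * y) * g * (y * s) by group, hys]))
    rwa [hcard _ (C y ⊓ C s) (fun g => by rw [h1, h2]; rfl), hcard _ _ h1, hcard _ _ h2,
      hcard _ _ h3, ← inf_assoc] at hf
  -- comparison of `H` and `H6`
  have hw1 : w ≠ 1 := fun e' => by
    have h := congrArg (· • p) e'
    simp only [hw, mul_smul, hsp, hyp, one_smul] at h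
    exact hpq h.symm
  have hwa : w • a0 = a0 := by rw [hw, mul_smul, hsa, hyb]
  have hwb : w • b = b := by rw [hw, mul_smul, hsb, hb]
  have hCw : H ⊓ C w = H6 ⊓ C w := by
    refine le_antisymm (fun g hg => ⟨?_, hg.2⟩) (inf_le_inf_right _ (inf_le_left.trans inf_le_left))
    obtain ⟨g1, g2, g3, g4⟩ := (hHm g).1 hg.1
    have hgw := (hCm w g).1 hg.2
    have hfa : w • g • a0 = g • a0 := by rw [← mul_smul, ← hgw, mul_smul, hwa]
    have hfb : w • g • b = g • b := by rw [← mul_smul, ← hgw, mul_smul, hwb]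
    have hodd := S.odd g p q u hpq hpu hqu g1 g2 g3
    have fa := S.fixed_two hww hw1 hab hwa hwb hfa
    have fb := S.fixed_two hww hw1 hab hwa hwb hfb
    refine (hH6m g).2 ?_
    rcases fa with fa | fa
    · exact ⟨hg.1, fa, fb.resolve_left fun e => hab (smul_left_cancel g (fa.trans e.symm))⟩
    · have fb' : g • b = a0 :=
        fb.resolve_right fun e => hab (smul_left_cancel g (fa.trans e.symm))
      exact absurd ((smul_eq_of_odd_of_smul_smul hodd (by rw [fa, fb'])).symm.trans fa) hab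
  have hVle : H ⊓ C y ⊓ C s ≤ H ⊓ C w := fun g hg => ⟨hg.1.1, by
    refine (hCm w g).2 ?_
    rw [hw, ← mul_assoc, (hCm y g).1 hg.1.2, mul_assoc, (hCm s g).1 hg.2, mul_assoc]⟩
  have hV : H ⊓ C y ⊓ C s = H6 ⊓ C y ⊓ C s :=
    le_antisymm (fun g hg => ⟨⟨(hCw.le (hVle hg)).1, hg.1.2⟩, hg.2⟩)
      (inf_le_inf_right _ (inf_le_inf_right _ (inf_le_left.trans inf_le_left)))
  have hF1 := formula H hHodd hnyH hnsH
  have hH6odd : Odd (Nat.card H6) :=
    hHodd.of_dvd_nat (Subgroup.card_dvd_of_le (inf_le_left.trans inf_le_left))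
  have hF2 := formula H6 hH6odd hny6 hns6
  rw [hV, hCw] at hF1
  -- the two orbit equations
  have hstab : ∀ t : G, t • a0 = b → H ⊓ C t ⊓ stabilizer G a0 = H6 ⊓ C t := by
    intro t ht
    refine le_antisymm (fun g hg => ⟨(hH6m g).2 ⟨hg.1.1, hg.2, ?_⟩, hg.1.2⟩) fun g hg =>
      ⟨⟨((hH6m g).1 hg.1).1, hg.2⟩, ((hH6m g).1 hg.1).2.1⟩
    rw [← ht, ← mul_smul, (hCm t g).1 hg.1.2, mul_smul, show g • a0 = a0 from hg.2]
  have hO1 := S.orbit_half hpq hpu hpv hqu hqv huv hy hyp hyq hyu hyv hs hys hsp hsq hsu hsv ha0p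
    ha0q ha0u ha0v hsa (H ⊓ C y) fun g => by simp [Subgroup.mem_inf, hHm, hCm]
  have hO2 := S.orbit_half huv hpu.symm hqu.symm hpv.symm hqv.symm hpq hs hsu hsv hsp hsq hy
    hys.symm hyu hyv hyp hyq ha0u ha0v ha0p ha0q hsa.symm (H ⊓ C s) fun g => by
      simp [Subgroup.mem_inf, hHm, hCm]; tauto
  have hm1 := card_orbit_mul_inf_stabilizer (H ⊓ C y) a0
  have hm2 := card_orbit_mul_inf_stabilizer (H ⊓ C s) a0
  rw [hstab y hb.symm] at hm1
  rw [hstab s hsa] at hm2
  set P1 := ((univ : Finset (H ⊓ C y : Subgroup G)).image fun g : (H ⊓ C y : Subgroup G) => (g : G) • a0).card with hP1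
  have hP1n : 2 * P1 = Fintype.card α - 4 := hO1
  have hPeq : ((univ : Finset (H ⊓ C s : Subgroup G)).image fun g : (H ⊓ C s : Subgroup G) => (g : G) • a0).card = P1 := by
    omega
  rw [hPeq] at hm2
  have hHH6 : Nat.card H = P1 * P1 * Nat.card H6 := by
    rw [← hm1, ← hm2] at hF1
    refine Nat.eq_of_mul_eq_mul_right
      (show 0 < Nat.card (H6 ⊓ C y ⊓ C s : Subgroup G) ^ 2 from pow_pos Nat.card_pos 2) ?_
    rw [hF1, mul_assoc (P1 * P1), hF2]
    ring
  -- the orbits of `H`
  set O1 := (univ : Finset H).image fun g : H => (g : G) • a0 with hO1d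
  set O2 := O1.image fun x => y • x with hO2d
  have hO1m : ∀ x, x ∈ O1 ↔ ∃ g ∈ H, g • a0 = x := fun x => by simp [hO1d]
  have hO2m : ∀ x, x ∈ O2 ↔ ∃ g ∈ H, g • b = x := by
    intro x
    constructor
    · intro hx
      obtain ⟨x', hx', rfl⟩ := mem_image.1 hx
      obtain ⟨g, hg, rfl⟩ := (hO1m x').1 hx'
      refine ⟨y * g * y, hnyH g hg, ?_⟩
      rw [mul_smul, mul_smul, hyb]
    · rintro ⟨g, hg, rfl⟩
      refine mem_image.2 ⟨(y * g * y) • a0, (hO1m _).2 ⟨_, hnyH g hg, rfl⟩, ?_⟩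
      rw [mul_smul, mul_smul, ← mul_smul y y, hy, one_smul, hb]
  set R := univ \ ({p, q, u, v} : Finset α) with hRd
  have hRm : ∀ x, x ∈ R ↔ x ≠ p ∧ x ≠ q ∧ x ≠ u ∧ x ≠ v := fun x => by
    simp [hRd]
  have hR : R.card = 2 * P1 := by
    rw [hP1n, hRd, card_sdiff_of_subset (subset_univ _), card_univ, hF]
  have hK1 : ((univ : Finset (H ⊓ C y : Subgroup G)).image fun g : (H ⊓ C y : Subgroup G) => (g : G) • a0) ⊆ O1 := by
    intro x hx
    simp only [mem_image, mem_univ, true_and, Subtype.exists, exists_prop] at hx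
    obtain ⟨g, hg, rfl⟩ := hx
    exact (hO1m _).2 ⟨g, hg.1, rfl⟩
  have hO1R : O1 ⊆ R := by
    intro x hx
    obtain ⟨g, hg, rfl⟩ := (hO1m x).1 hx
    obtain ⟨g1, g2, g3, g4⟩ := (hHm g).1 hg
    rw [hRm]
    exact ⟨fun e => ha0p (smul_left_cancel g (e.trans g1.symm)),
      fun e => ha0q (smul_left_cancel g (e.trans g2.symm)),
      fun e => ha0u (smul_left_cancel g (e.trans g3.symm)),
      fun e => ha0v (smul_left_cancel g (e.trans g4.symm))⟩
  have hmH := card_orbit_mul_inf_stabilizer H a0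
  rw [← hO1d] at hmH
  have hO1odd : Odd O1.card := hHodd.of_dvd_nat (Dvd.intro _ hmH)
  have hdisj : b ∉ O1 := by
    intro hbm
    obtain ⟨g0, hg0, hg0b⟩ := (hO1m b).1 hbm
    have hall : R ⊆ O1 := by
      intro x hx
      obtain ⟨h1, h2, h3, h4⟩ := (hRm x).1 hx
      obtain ⟨h, hhH, -, he⟩ := (S.centralizer_orbit hpq hpu hqu huv hy hyp hyq hyu hyv hs hys hsp
        hsq hsu hsv ha0p ha0q ha0u ha0v hsa).1 x h1 h2 h3 h4
      have hh : h ∈ H := (hHm h).2 hhH
      rcases he with e | e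
      · exact (hO1m x).2 ⟨h⁻¹, inv_mem hh, inv_smul_eq_iff.2 e.symm⟩
      · exact (hO1m x).2 ⟨h⁻¹ * g0, mul_mem (inv_mem hh) hg0,
          by rw [mul_smul, hg0b, inv_smul_eq_iff, e, ← hb]⟩
    rw [subset_antisymm hO1R hall, hR, Nat.odd_iff] at hO1odd
    omega
  have hO1O2 : ∀ x, x ∈ O1 → x ∈ O2 → False := by
    intro x h1 h2
    obtain ⟨g, hg, rfl⟩ := (hO1m x).1 h1
    obtain ⟨g', hg', e⟩ := (hO2m _).1 h2
    exact hdisj ((hO1m b).2 ⟨g'⁻¹ * g, mul_mem (inv_mem hg') hg,
      by rw [mul_smul, ← e, inv_smul_smul]⟩)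
  have hO2R : O2 ⊆ R := by
    intro x hx
    obtain ⟨x', hx', rfl⟩ := mem_image.1 hx
    obtain ⟨k1, k2, k3, k4⟩ := (hRm x').1 (hO1R hx')
    rw [hRm]
    exact ⟨fun e => k2 (smul_left_cancel y (e.trans hyq.symm)),
      fun e => k1 (smul_left_cancel y (e.trans hyp.symm)),
      fun e => k3 (smul_left_cancel y (e.trans hyu.symm)),
      fun e => k4 (smul_left_cancel y (e.trans hyv.symm))⟩
  have hO2c : O2.card = O1.card := by rw [hO2d, card_image_of_injective _ (MulAction.injective y)]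
  have hO1c : O1.card = P1 := by
    have h1 : P1 ≤ O1.card := by rw [hP1]; exact card_le_card hK1
    have h2 : (O1 ∪ O2).card ≤ R.card := card_le_card (union_subset hO1R hO2R)
    rw [card_union_of_disjoint (disjoint_left.2 hO1O2), hO2c, hR] at h2
    omega
  have hRsplit : ∀ x ∈ R, x ∈ O1 ∨ x ∈ O2 := by
    intro x hx
    have : O1 ∪ O2 = R := eq_of_subset_of_card_le (union_subset hO1R hO2R)
      (by rw [card_union_of_disjoint (disjoint_left.2 hO1O2), hO2c, hO1c, hR]; omega)
    exact mem_union.1 (this.symm ▸ hx)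
  have hpair : ∀ x ∈ O1, ∀ x' ∈ O2, ∃ g ∈ H, g • a0 = x ∧ g • b = x' := by
    intro x hx x' hx'
    obtain ⟨g, hg, rfl⟩ := (hO1m x).1 hx
    obtain ⟨g', hg', hg'b⟩ := (hO2m x').1 hx'
    set Ha := H ⊓ stabilizer G a0 with hHa
    have hmb := card_orbit_mul_inf_stabilizer Ha b
    have hsub : ((univ : Finset Ha).image fun g : Ha => (g : G) • b) ⊆ O2 := fun z hz => by
      simp only [mem_image, mem_univ, true_and, Subtype.exists, exists_prop] at hz
      obtain ⟨g, hg, rfl⟩ := hz
      exact (hO2m _).2 ⟨g, hg.1, rfl⟩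
    have hm3 : Nat.card (Ha ⊓ stabilizer G b : Subgroup G) = Nat.card H6 := rfl
    rw [hm3] at hmb
    have hfull : ((univ : Finset Ha).image fun g : Ha => (g : G) • b) = O2 := by
      refine eq_of_subset_of_card_le hsub (le_of_eq ?_)
      rw [← hmb, hHH6, hO1c] at hmH
      have hP : 0 < P1 := by omega
      rw [hO2c, hO1c]
      refine (Nat.eq_of_mul_eq_mul_right (Nat.card_pos (α := H6)) ?_).symm
      refine Nat.eq_of_mul_eq_mul_left hP ?_
      linarith [hmH]
    have : g⁻¹ • x' ∈ O2 := (hO2m _).2 ⟨g⁻¹ * g', mul_mem (inv_mem hg) hg',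
      by rw [mul_smul, hg'b]⟩
    rw [← hfull] at this
    simp only [mem_image, mem_univ, true_and, Subtype.exists, exists_prop] at this
    obtain ⟨k, hk, e⟩ := this
    exact ⟨g * k, mul_mem hg hk.1, by rw [mul_smul, show k • a0 = a0 from hk.2],
      by rw [mul_smul, e, smul_inv_smul]⟩
  -- the tournament of `G_{pqu}`
  let Rel : α → α → Prop := fun x x' =>
    ∃ g : G, g • p = p ∧ g • q = q ∧ g • u = u ∧ g • v = x ∧ g • a0 = x'
  have hRelg : ∀ g : G, g • p = p → g • q = q → g • u = u → ∀ x x', Rel x x' →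
      Rel (g • x) (g • x') := by
    rintro g g1 g2 g3 x x' ⟨k, k1, k2, k3, k4, k5⟩
    exact ⟨g * k, by rw [mul_smul, k1, g1], by rw [mul_smul, k2, g2], by rw [mul_smul, k3, g3],
      by rw [mul_smul, k4], by rw [mul_smul, k5]⟩
  have hasym : ∀ {x x'}, Rel x x' → ¬ Rel x' x := by
    rintro x x' ⟨g, g1, g2, g3, g4, g5⟩ ⟨g', k1, k2, k3, k4, k5⟩
    set k := g⁻¹ * g' with hk
    have e1 : k • v = a0 := by rw [hk, mul_smul, k4, inv_smul_eq_iff, g5]
    have e2 : k • a0 = v := by rw [hk, mul_smul, k5, inv_smul_eq_iff, g4]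
    refine ha0v ((smul_eq_of_odd_of_smul_smul (S.odd k p q u hpq hpu hqu ?_ ?_ ?_)
      (by rw [e1, e2])).symm.trans e1).symm
    · rw [hk, mul_smul, k1, inv_smul_eq_iff, g1]
    · rw [hk, mul_smul, k2, inv_smul_eq_iff, g2]
    · rw [hk, mul_smul, k3, inv_smul_eq_iff, g3]
  set M := univ \ ({p, q, u} : Finset α) with hMd
  have hMm : ∀ x, x ∈ M ↔ x ≠ p ∧ x ≠ q ∧ x ≠ u := fun x => by simp [hMd]
  have hRelM : ∀ {x x'}, Rel x x' → x ∈ M ∧ x' ∈ M := by
    rintro x x' ⟨g, g1, g2, g3, rfl, rfl⟩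
    rw [hMm, hMm]
    exact ⟨⟨fun e => hpv (smul_left_cancel g (e.trans g1.symm)).symm,
      fun e => hqv (smul_left_cancel g (e.trans g2.symm)).symm,
      fun e => huv (smul_left_cancel g (e.trans g3.symm)).symm⟩,
      ⟨fun e => ha0p (smul_left_cancel g (e.trans g1.symm)),
      fun e => ha0q (smul_left_cancel g (e.trans g2.symm)),
      fun e => ha0u (smul_left_cancel g (e.trans g3.symm))⟩⟩
  let out : α → Finset α := fun x => univ.filter fun x' => Rel x x'
  let inn : α → Finset α := fun x => univ.filter fun x' => Rel x' x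
  have hout : out v = O1 := by
    ext x
    simp only [out, mem_filter, mem_univ, true_and, hO1m, Rel]
    exact ⟨fun ⟨g, g1, g2, g3, g4, g5⟩ => ⟨g, (hHm g).2 ⟨g1, g2, g3, g4⟩, g5⟩,
      fun ⟨g, hg, g5⟩ => ⟨g, ((hHm g).1 hg).1, ((hHm g).1 hg).2.1, ((hHm g).1 hg).2.2.1,
        ((hHm g).1 hg).2.2.2, g5⟩⟩
  have hmove : ∀ x ∈ M, ∃ g : G, g • p = p ∧ g • q = q ∧ g • u = u ∧ g • v = x := by
    intro x hx
    obtain ⟨h1, h2, h3⟩ := (hMm x).1 hx
    exact exists_smul_eq_four S.four hpq hpu hpv hqu hqv huv hpq hpu h1.symm hqu h2.symm h3.symm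
  have hconst : ∀ x ∈ M, (out x).card = (out v).card ∧ (inn x).card = (inn v).card := by
    intro x hx
    obtain ⟨g, g1, g2, g3, rfl⟩ := hmove x hx
    have k1 : g⁻¹ • p = p := inv_smul_eq_iff.2 g1.symm
    have k2 : g⁻¹ • q = q := inv_smul_eq_iff.2 g2.symm
    have k3 : g⁻¹ • u = u := inv_smul_eq_iff.2 g3.symm
    constructor
    all_goals
      refine card_bij (fun z _ => g⁻¹ • z) (fun z hz => ?_) (fun z _ z' _ e => smul_left_cancel _ e)
        (fun z hz => ⟨g • z, ?_, inv_smul_smul g z⟩)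
    · have := hRelg g⁻¹ k1 k2 k3 _ _ (mem_filter.1 hz).2
      rw [inv_smul_smul] at this
      exact mem_filter.2 ⟨mem_univ _, this⟩
    · exact mem_filter.2 ⟨mem_univ _, hRelg g g1 g2 g3 _ _ (mem_filter.1 hz).2⟩
    · have := hRelg g⁻¹ k1 k2 k3 _ _ (mem_filter.1 hz).2
      rw [inv_smul_smul] at this
      exact mem_filter.2 ⟨mem_univ _, this⟩
    · exact mem_filter.2 ⟨mem_univ _, hRelg g g1 g2 g3 _ _ (mem_filter.1 hz).2⟩
  have hvM : v ∈ M := (hMm v).2 ⟨hpv.symm, hqv.symm, huv.symm⟩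
  have hinn : inn v = O2 := by
    have hsum : ∑ x ∈ M, (out x).card = ∑ x ∈ M, (inn x).card := by
      have e1 : ∀ x ∈ M, (out x).card = ∑ x' ∈ M, if Rel x x' then 1 else 0 := by
        intro x _
        rw [← card_filter]
        congr 1
        ext z
        simp only [out, mem_filter, mem_univ, true_and]
        exact ⟨fun h => ⟨(hRelM h).2, h⟩, fun h => h.2⟩
      have e2 : ∀ x ∈ M, (inn x).card = ∑ x' ∈ M, if Rel x' x then 1 else 0 := by
        intro x _
        rw [← card_filter]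
        congr 1
        ext z
        simp only [inn, mem_filter, mem_univ, true_and]
        exact ⟨fun h => ⟨(hRelM h).1, h⟩, fun h => h.2⟩
      rw [sum_congr rfl e1, sum_congr rfl e2, sum_comm]
    rw [sum_congr rfl (fun x hx => (hconst x hx).1), sum_congr rfl (fun x hx => (hconst x hx).2),
      sum_const, sum_const, smul_eq_mul, smul_eq_mul] at hsum
    have hc := Nat.eq_of_mul_eq_mul_left (card_pos.2 ⟨v, hvM⟩) hsum
    rw [hout, hO1c] at hc
    refine eq_of_subset_of_card_le (fun x hx => ?_) (by rw [hO2c, hO1c, ← hc])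
    have hx' : Rel x v := (mem_filter.1 hx).2
    have hxv : x ≠ v := fun e => hasym hx' (e ▸ hx')
    obtain ⟨h1, h2, h3⟩ := (hMm x).1 (hRelM hx').1
    refine (hRsplit x ((hRm x).2 ⟨h1, h2, h3, hxv⟩)).resolve_left fun h => ?_
    rw [← hout] at h
    exact hasym hx' (mem_filter.1 h).2
  have htot : ∀ x ∈ M, ∀ x' ∈ M, x ≠ x' → Rel x x' ∨ Rel x' x := by
    intro x hx x' hx' hne
    obtain ⟨g, g1, g2, g3, rfl⟩ := hmove x hx
    obtain ⟨h1, h2, h3⟩ := (hMm x').1 hx'
    have hmem : g⁻¹ • x' ∈ R := by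
      rw [hRm]
      exact ⟨fun e => h1 (by rw [← smul_inv_smul g x', e, g1]),
        fun e => h2 (by rw [← smul_inv_smul g x', e, g2]),
        fun e => h3 (by rw [← smul_inv_smul g x', e, g3]),
        fun e => hne (by rw [← e, smul_inv_smul])⟩
    rcases hRsplit _ hmem with h | h
    · rw [← hout] at h
      have := hRelg g g1 g2 g3 _ _ (mem_filter.1 h).2
      rw [smul_inv_smul] at this
      exact Or.inl this
    · rw [← hinn] at h
      have := hRelg g g1 g2 g3 _ _ (mem_filter.1 h).2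
      rw [smul_inv_smul] at this
      exact Or.inr this
  have hR_M : ∀ x ∈ R, x ∈ M := fun x hx =>
    (hMm x).2 ⟨((hRm x).1 hx).1, ((hRm x).1 hx).2.1, ((hRm x).1 hx).2.2.1⟩
  have ha0O : a0 ∈ O1 := (hO1m a0).2 ⟨1, one_mem _, one_smul _ _⟩
  have hbO : b ∈ O2 := (hO2m b).2 ⟨1, one_mem _, one_smul _ _⟩
  have hspread : ∀ (x x' : α), x ∈ O1 → x' ∈ O2 →
      (Rel a0 b → Rel x x') ∧ (Rel b a0 → Rel x' x) := by
    intro x x' hx hx'
    obtain ⟨g, hg, rfl, rfl⟩ := hpair x hx x' hx'
    obtain ⟨g1, g2, g3, -⟩ := (hHm g).1 hg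
    exact ⟨hRelg g g1 g2 g3 a0 b, hRelg g g1 g2 g3 b a0⟩
  rcases htot a0 (hR_M _ (hO1R ha0O)) b (hR_M _ (hO2R hbO)) hab with h | h
  · -- all arcs go from `O1` to `O2`, so there are none inside `O1`
    have hout' : ∀ x ∈ O1, out x = O2 := fun x hx => (eq_of_subset_of_card_le
      (fun x' hx' => mem_filter.2 ⟨mem_univ _, (hspread x x' hx hx').1 h⟩)
      (by rw [(hconst x (hR_M _ (hO1R hx))).1, hout, hO2c])).symm
    obtain ⟨x, hx, x', hx', hne⟩ := one_lt_card.1 (show 1 < O1.card by omega)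
    rcases htot x (hR_M _ (hO1R hx)) x' (hR_M _ (hO1R hx')) hne with e | e
    · exact hO1O2 x' hx' (hout' x hx ▸ (mem_filter.2 ⟨mem_univ _, e⟩ : x' ∈ out x))
    · exact hO1O2 x hx (hout' x' hx' ▸ (mem_filter.2 ⟨mem_univ _, e⟩ : x ∈ out x'))
  · have hbv : Rel b v := by
      have : b ∈ inn v := hinn.symm ▸ hbO
      exact (mem_filter.1 this).2
    have hsub : insert v O1 ⊆ out b := by
      intro x hx
      rcases mem_insert.1 hx with rfl | hx
      · exact mem_filter.2 ⟨mem_univ _, hbv⟩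
      · exact mem_filter.2 ⟨mem_univ _, (hspread x b hx hbO).2 h⟩
    have := card_le_card hsub
    rw [card_insert_of_notMem fun hv => ((hRm v).1 (hO1R hv)).2.2.2 rfl,
      (hconst b (hR_M _ (hO2R hbO))).1, hout] at this
    omega

end OddThree

end Cfsg.Agent.Perm
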