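import Cfsg.Agent.Lib.Perm.PrimeInverter
import Cfsg.Agent.Lib.Perm.PrimeDegreeSimple
import Cfsg.Agent.Lib.SelfNormNonabelian.SimpleMain
import Cfsg.Agent.Lib.Perm.HalfNormalizerSetup
import Cfsg.Agent.S3612
import Cfsg.Agent.S0989
import Mathlib.GroupTheory.GroupAction.Blocks
import Mathlib.GroupTheory.GroupAction.Primitive

/-!
# Prime degree `p = q + 2` with `q` prime and a half normaliser: quintuple transitivity

* `isMultiplyPretransitive_two_of_prime`: a primitive group of degree `q + 1` (`q` an odd prime) whose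
  point stabiliser has at most two orbits on the other points is doubly transitive;
* `five_transitive`: the case `p = q + 2`.
-/

set_option autoImplicit false
set_option linter.unusedSectionVars false
set_option linter.style.haveILetI false

namespace Cfsg.Agent.Perm.PrimeTwin

open MulAction Finset
open scoped Pointwise

universe u v

theorem injective_three {Z : Type v} {a b c : Z} (hab : a ≠ b) (hac : a ≠ c) (hbc : b ≠ c) :
    Function.Injective ![a, b, c] := by
  intro i j
  fin_cases i <;> fin_cases j <;> simp [hab, hac, hbc, hab.symm, hac.symm, hbc.symm]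

/-- A primitive group with two coprime suborbits only is doubly transitive. -/
theorem isMultiplyPretransitive_two_of_prime {H : Type u} {X : Type v} [Group H] [MulAction H X]
    [Finite X] [IsPreprimitive H X] {q : ℕ} (hq : q.Prime) (hq2 : q ≠ 2) (hX : Nat.card X = q + 1)
    (x : X) (hr : ∀ a b c, a ≠ x → b ≠ x → c ≠ x → ∃ h : H, h • x = x ∧
      (h • a = b ∨ h • b = c ∨ h • a = c)) : IsMultiplyPretransitive H X 2 := by
  classical
  haveI := Fintype.ofFinite X
  haveI : IsPretransitive H X := inferInstance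
  rw [Nat.card_eq_fintype_card] at hX
  suffices key : ∀ a b, a ≠ x → b ≠ x → ∃ h : H, h • x = x ∧ h • a = b by
    rw [MulAction.is_two_pretransitive_iff]
    intro a b c d hab hcd
    obtain ⟨g, hg⟩ := exists_smul_eq H a x
    obtain ⟨k, hk⟩ := exists_smul_eq H c x
    obtain ⟨h, hx, hh⟩ := key (g • b) (k • d)
      (fun e => hab (MulAction.injective g (hg.trans e.symm)))
      (fun e => hcd (MulAction.injective k (hk.trans e.symm)))
    refine ⟨k⁻¹ * h * g, ?_, ?_⟩
    · rw [mul_smul, mul_smul, hg, hx, inv_smul_eq_iff, hk]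
    · rw [mul_smul, mul_smul, hh, inv_smul_smul]
  by_contra hno
  push Not at hno
  obtain ⟨a₁, b₁, ha₁, hb₁, hab₁⟩ := hno
  let orb : X → Finset X := fun a => Finset.univ.filter fun z => ∃ h : H, h • x = x ∧ h • a = z
  have horb : ∀ {a z}, z ∈ orb a ↔ ∃ h : H, h • x = x ∧ h • a = z := fun {a z} => by simp [orb]
  have hself : ∀ a, a ∈ orb a := fun a => horb.2 ⟨1, one_smul _ _, one_smul _ _⟩
  have hxorb : ∀ {a}, a ≠ x → x ∉ orb a := fun {a} ha h => by
    obtain ⟨g, hgx, hga⟩ := horb.1 h
    exact ha (MulAction.injective g (hga.trans hgx.symm))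
  -- choose the smaller orbit first
  obtain ⟨a, b, ha, hb, hab, hle⟩ : ∃ a b, a ≠ x ∧ b ≠ x ∧ (∀ h : H, h • x = x → h • a ≠ b) ∧
      (orb a).card ≤ (orb b).card := by
    rcases le_total (orb a₁).card (orb b₁).card with h | h
    · exact ⟨a₁, b₁, ha₁, hb₁, hab₁, h⟩
    · exact ⟨b₁, a₁, hb₁, ha₁, fun g hg e => hab₁ g⁻¹ (inv_smul_eq_iff.2 hg.symm)
        (inv_smul_eq_iff.2 e.symm), h⟩
  set A := orb a with hA
  set B := orb b with hB
  have hAB : Disjoint A B := Finset.disjoint_left.2 fun z hz hz' => by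
    obtain ⟨g, hgx, hga⟩ := horb.1 hz
    obtain ⟨g', hgx', hga'⟩ := horb.1 hz'
    refine hab (g'⁻¹ * g) ?_ ?_
    · rw [mul_smul, hgx, inv_smul_eq_iff, hgx']
    · rw [mul_smul, hga, inv_smul_eq_iff, hga']
  have hcov : A ∪ B = Finset.univ.erase x := by
    ext z
    simp only [Finset.mem_union, Finset.mem_erase, Finset.mem_univ, and_true]
    refine ⟨fun h e => h.elim (fun h => hxorb ha (e ▸ h)) (fun h => hxorb hb (e ▸ h)), fun hz => ?_⟩
    obtain ⟨g, hgx, hg | hg | hg⟩ := hr a b z ha hb hz
    · exact absurd hg (hab g hgx)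
    · exact Or.inr (horb.2 ⟨g, hgx, hg⟩)
    · exact Or.inl (horb.2 ⟨g, hgx, hg⟩)
  have hsum : A.card + B.card = q := by
    rw [← Finset.card_union_of_disjoint hAB, hcov, Finset.card_erase_of_mem (Finset.mem_univ _),
      Finset.card_univ, hX, Nat.add_sub_cancel]
  have hA0 : 0 < A.card := Finset.card_pos.2 ⟨a, hself a⟩
  have hlt : A.card < B.card := lt_of_le_of_ne hle fun e => hq2 <| by
    have : 2 ∣ q := ⟨A.card, by omega⟩
    exact ((Nat.prime_dvd_prime_iff_eq Nat.prime_two hq).1 this).symm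
  -- the graph of the smaller suborbit
  let N : X → Finset X := fun u => Finset.univ.filter fun z => ∃ g : H, g • x = u ∧ g • a = z
  have hN : ∀ {u z}, z ∈ N u ↔ ∃ g : H, g • x = u ∧ g • a = z := fun {u z} => by simp [N]
  have hNx : N x = A := by ext z; exact hN.trans horb.symm
  have hNmap : ∀ (g : H) u, N (g • u) = (N u).image (g • ·) := by
    intro g u
    ext z
    simp only [Finset.mem_image, hN]
    constructor
    · rintro ⟨k, hk, rfl⟩
      exact ⟨g⁻¹ • k • a, ⟨g⁻¹ * k, by rw [mul_smul, hk, inv_smul_smul], by rw [mul_smul]⟩,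
        smul_inv_smul _ _⟩
    · rintro ⟨w, ⟨k, hk, rfl⟩, rfl⟩
      exact ⟨g * k, by rw [mul_smul, hk], by rw [mul_smul]⟩
  have hNcard : ∀ u, (N u).card = A.card := fun u => by
    obtain ⟨g, rfl⟩ := exists_smul_eq H x u
    rw [hNmap, Finset.card_image_of_injective _ (MulAction.injective g), hNx]
  have hNirr : ∀ u, u ∉ N u := fun u h => by
    obtain ⟨g, hg, hg'⟩ := hN.1 h
    exact ha (MulAction.injective g (hg'.trans hg.symm))
  let M : X → Finset X := fun z => Finset.univ.filter fun u => z ∈ N u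
  have hMmap : ∀ (g : H) z, M (g • z) = (M z).image (g • ·) := by
    intro g z
    ext u
    simp only [M, Finset.mem_image, Finset.mem_filter, Finset.mem_univ, true_and]
    constructor
    · intro h
      refine ⟨g⁻¹ • u, ?_, smul_inv_smul _ _⟩
      rw [hNmap, Finset.mem_image]
      exact ⟨g • z, h, inv_smul_smul _ _⟩
    · rintro ⟨w, hw, rfl⟩
      rw [hNmap, Finset.mem_image]
      exact ⟨z, hw, rfl⟩
  have hMx : M x = A := by
    have hcard : (M x).card = A.card := by
      have hM : ∀ z, (M z).card = (M x).card := fun z => by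
        obtain ⟨g, rfl⟩ := exists_smul_eq H x z
        rw [hMmap, Finset.card_image_of_injective _ (MulAction.injective g)]
      have h := Finset.sum_card_bipartiteAbove_eq_sum_card_bipartiteBelow (fun u z => z ∈ N u)
        (s := (Finset.univ : Finset X)) (t := Finset.univ)
      have e1 : ∀ u, (Finset.univ.bipartiteAbove (fun u z => z ∈ N u) u) = N u := fun u => by
        ext z; simp [Finset.bipartiteAbove]
      have e2 : ∀ z, (Finset.univ.bipartiteBelow (fun u z => z ∈ N u) z) = M z := fun z => by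
        ext u; simp [Finset.bipartiteBelow, M]
      simp only [e1, e2, hNcard, hM, Finset.sum_const, Finset.card_univ, smul_eq_mul] at h
      exact (Nat.eq_of_mul_eq_mul_left (by rw [hX]; omega) h).symm
    have hinv : ∀ h : H, h • x = x → ∀ z ∈ M x, h • z ∈ M x := fun h hh z hz => by
      have := Finset.mem_image_of_mem (h • ·) hz
      rwa [← hMmap, hh] at this
    have hsub : M x ⊆ A ∪ B := by
      rw [hcov]
      intro z hz
      refine Finset.mem_erase.2 ⟨fun e => ?_, Finset.mem_univ _⟩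
      subst e
      exact hNirr _ (Finset.mem_filter.1 hz).2
    obtain ⟨z, hz⟩ := Finset.card_pos.1 (hcard ▸ hA0)
    rcases Finset.mem_union.1 (hsub hz) with h | h
    · refine (Finset.eq_of_subset_of_card_le (fun y hy => ?_) hcard.le).symm
      obtain ⟨g, hgx, hga⟩ := horb.1 h
      obtain ⟨g', hgx', hga'⟩ := horb.1 hy
      have h' := hinv (g' * g⁻¹) (by rw [mul_smul, inv_smul_eq_iff.2 hgx.symm, hgx']) z hz
      rwa [mul_smul, ← hga, inv_smul_smul, hga'] at h'
    · exfalso
      have : B ⊆ M x := fun y hy => by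
        obtain ⟨g, hgx, hga⟩ := horb.1 h
        obtain ⟨g', hgx', hga'⟩ := horb.1 hy
        have h' := hinv (g' * g⁻¹) (by rw [mul_smul, inv_smul_eq_iff.2 hgx.symm, hgx']) z hz
        rwa [mul_smul, ← hga, inv_smul_smul, hga'] at h'
      have := Finset.card_le_card this
      omega
  have hsymm : ∀ u z, z ∈ N u → u ∈ N z := by
    intro u z h
    obtain ⟨g, rfl⟩ := exists_smul_eq H x z
    rw [hNmap, hNx, ← hMx, ← hMmap]
    exact Finset.mem_filter.2 ⟨Finset.mem_univ _, h⟩
  -- edges between the suborbits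
  have hinvA : ∀ h : H, h • x = x → A.image (h • ·) = A ∧ B.image (h • ·) = B := by
    intro h hh
    constructor
    all_goals
      refine Finset.eq_of_subset_of_card_le (Finset.image_subset_iff.2 fun y hy => ?_)
        (Finset.card_image_of_injective _ (MulAction.injective h)).ge
      obtain ⟨g, hgx, hga⟩ := horb.1 hy
      exact horb.2 ⟨h * g, by rw [mul_smul, hgx, hh], by rw [mul_smul, hga]⟩
  have hc : ∀ y ∈ A, (N y ∩ B).card = (N a ∩ B).card := by
    intro y hy
    obtain ⟨g, hgx, rfl⟩ := horb.1 hy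
    conv_lhs => rw [hNmap, ← (hinvA g hgx).2, ← Finset.image_inter _ _ (MulAction.injective g)]
    exact Finset.card_image_of_injective _ (MulAction.injective g)
  have hd : ∀ z ∈ B, (N z ∩ A).card = (N b ∩ A).card := by
    intro z hz
    obtain ⟨g, hgx, rfl⟩ := horb.1 hz
    conv_lhs => rw [hNmap, ← (hinvA g hgx).1, ← Finset.image_inter _ _ (MulAction.injective g)]
    exact Finset.card_image_of_injective _ (MulAction.injective g)
  have hedge : A.card * (N a ∩ B).card = B.card * (N b ∩ A).card := by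
    have h := Finset.sum_card_bipartiteAbove_eq_sum_card_bipartiteBelow (fun u z => z ∈ N u)
      (s := A) (t := B)
    have e1 : ∀ u, (B.bipartiteAbove (fun u z => z ∈ N u) u) = N u ∩ B := fun u => by
      ext z; simp [Finset.bipartiteAbove, and_comm]
    have e2 : ∀ z, (A.bipartiteBelow (fun u z => z ∈ N u) z) = N z ∩ A := fun z => by
      ext w; simp only [Finset.bipartiteBelow, Finset.mem_filter, Finset.mem_inter]
      exact ⟨fun h => ⟨hsymm _ _ h.2, h.1⟩, fun h => ⟨h.2, hsymm _ _ h.1⟩⟩
    simp only [e1, e2] at h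
    rw [Finset.sum_congr rfl hc, Finset.sum_congr rfl hd, Finset.sum_const, Finset.sum_const,
      smul_eq_mul, smul_eq_mul] at h
    exact h
  have hcop : B.card.Coprime A.card := by
    rw [← Nat.coprime_add_self_left, Nat.add_comm, hsum]
    exact hq.coprime_iff_not_dvd.2 fun h => by have := Nat.le_of_dvd hA0 h; omega
  have hc0 : (N a ∩ B).card = 0 := by
    have h1 : B.card ∣ (N a ∩ B).card := hcop.dvd_of_dvd_mul_left ⟨_, hedge⟩
    have h2 : (N a ∩ B).card ≤ A.card := (hNcard a) ▸ Finset.card_le_card Finset.inter_subset_left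
    rcases Nat.eq_zero_or_pos (N a ∩ B).card with h | h
    · exact h
    · have := Nat.le_of_dvd h h1; omega
  set S := insert x A with hS
  have hblockA : ∀ y ∈ S, insert y (N y) = S := by
    intro y hy
    rcases Finset.mem_insert.1 hy with rfl | hyA
    · rw [hNx]
    refine Finset.eq_of_subset_of_card_le (Finset.insert_subset hy fun z hz => ?_) ?_
    · by_cases hzx : z = x
      · subst hzx; exact Finset.mem_insert_self _ _
      have : z ∈ A ∪ B := by rw [hcov]; exact Finset.mem_erase.2 ⟨hzx, Finset.mem_univ _⟩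
      rcases Finset.mem_union.1 this with h | h
      · exact Finset.mem_insert_of_mem h
      · have h' : z ∈ N y ∩ B := Finset.mem_inter.2 ⟨hz, h⟩
        have h0 := hc y hyA
        rw [hc0, Finset.card_eq_zero] at h0
        simp [h0] at h'
    · rw [Finset.card_insert_of_notMem (hNirr y), hNcard, Finset.card_insert_of_notMem (hxorb ha)]
  have himg : ∀ (g : H) w, w ∈ S.image (g • ·) → S.image (g • ·) = insert w (N w) := by
    intro g w hw
    obtain ⟨y, hy, rfl⟩ := Finset.mem_image.1 hw
    rw [← hblockA y hy, Finset.image_insert, hNmap]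
  have hblock : IsBlock H ((S : Finset X) : Set X) := by
    rw [isBlock_iff_smul_eq_or_disjoint]
    intro g
    have hco : g • ((S : Finset X) : Set X) = ((S.image (g • ·) : Finset X) : Set X) := by
      rw [Finset.coe_image]; rfl
    rw [hco]
    by_cases h : Disjoint ((S.image (g • ·) : Finset X) : Set X) (S : Set X)
    · exact Or.inr h
    left
    obtain ⟨w, hw, hwS⟩ := Set.not_disjoint_iff.1 h
    rw [himg g w (Finset.mem_coe.1 hw), hblockA w (Finset.mem_coe.1 hwS)]
  rcases IsPreprimitive.isTrivialBlock_of_isBlock hblock with h | h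
  · exact ha (h (Finset.mem_coe.2 (Finset.mem_insert_of_mem (hself a)))
      (Finset.mem_coe.2 (Finset.mem_insert_self x A)))
  · have : b ∈ S := Finset.mem_coe.1 (h ▸ Set.mem_univ b)
    rcases Finset.mem_insert.1 this with h' | h'
    · exact hb h'
    · exact Finset.disjoint_left.1 hAB h' (hself b)

/-- A faithful solvable transitive group of prime degree `q` has order `q d` with `d ∣ q - 1`. -/
theorem card_of_solvable {L Y : Type*} [Group L] [Finite L] [MulAction L Y] [FaithfulSMul L Y]
    {q : ℕ} [hq : Fact q.Prime] (hY : Nat.card Y = q) (htr : IsPretransitive L Y)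
    (hs : Group.IsSolvable L) : ∃ d, d ∣ q - 1 ∧ Nat.card L = q * d := by
  haveI : Finite Y := Nat.finite_of_card_ne_zero (hY ▸ hq.out.ne_zero)
  haveI : Nonempty Y := (Nat.card_pos_iff.1 (hY ▸ hq.out.pos)).1
  haveI : Nontrivial L := by
    by_contra h
    rw [not_nontrivial_iff_subsingleton] at h
    haveI : Subsingleton Y := ⟨fun a b => by
      obtain ⟨g, rfl⟩ := exists_smul_eq L a b
      rw [Subsingleton.elim g 1, one_smul]⟩
    rw [Nat.card_unique] at hY
    exact hq.out.ne_one hY.symm
  obtain ⟨A, hAn, hA1, hAc⟩ := SelfNormNonabelian.exists_abelian_normal L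
  haveI := hAn
  haveI : IsPreprimitive L Y := IsPreprimitive.of_prime_card (hY ▸ hq.out)
  haveI : IsPretransitive A Y := Perm.normal_isPretransitive A hA1
  obtain ⟨y⟩ := (inferInstance : Nonempty Y)
  have hstab : stabilizer A y = ⊥ := (Subgroup.eq_bot_iff_forall _).2 fun a ha => Subtype.ext <|
    eq_of_smul_eq_smul (α := Y) fun z => by
      obtain ⟨b, rfl⟩ := exists_smul_eq A y z
      have ha' : a • y = y := ha
      show a • b • y = (1 : L) • b • y
      rw [one_smul, ← mul_smul, mul_comm' a b, mul_smul, ha']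
  have hA : Nat.card A = q := by
    rw [card_eq_degree_mul A y, hY, hstab, Subgroup.card_bot, mul_one]
  obtain ⟨d, hd, hdc⟩ := card_normalizer_of_prime_degree hY A hA
  refine ⟨d, hd, ?_⟩
  rwa [Subgroup.normalizer_eq_top, Subgroup.card_top] at hdc

/-- Burnside, for an action. -/
theorem two_of_not_isSolvable {L Y : Type*} [Group L] [MulAction L Y] [FaithfulSMul L Y]
    [Fintype Y] {q : ℕ} [hq : Fact q.Prime] (hY : Fintype.card Y = q) (htr : IsPretransitive L Y)
    (hs : ¬ Group.IsSolvable L) {a b c d : Y} (hab : a ≠ b) (hcd : c ≠ d) :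
    ∃ g : L, g • a = c ∧ g • b = d := by
  classical
  let φ : L →* Equiv.Perm Y := MulAction.toPermHom L Y
  have hφ : Function.Injective φ := MulAction.toPerm_injective
  haveI : IsPretransitive φ.range Y := ⟨fun a b => by
    obtain ⟨g, hg⟩ := htr.exists_smul_eq a b
    exact ⟨⟨φ g, g, rfl⟩, hg⟩⟩
  have hsR : ¬ Group.IsSolvable φ.range := fun h => hs <| by
    exact Group.isSolvable_of_isSolvable_injective (f := φ.rangeRestrict)
      (fun a b hab => hφ (congrArg Subtype.val hab))
  obtain ⟨⟨_, g, rfl⟩, hg⟩ := MulAction.is_two_pretransitive_iff.1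
    (PrimeDegree.twoTransitive_of_not_isSolvable hY hsR) hab hcd
  exact ⟨g, hg⟩

variable {G Ω : Type*} [Group G] [Finite G] [MulAction G Ω] [FaithfulSMul G Ω] [Finite Ω]
  {p : ℕ}

/-- Triple transitivity for `p = q + 2`. -/
theorem three_transitive (hp : p.Prime) (hΩ : Nat.card Ω = p) (htrans : IsPretransitive G Ω)
    (hins : ¬ Group.IsSolvable G) (P : Sylow p G)
    (hN : 2 * Nat.card ↥(Subgroup.normalizer ((P : Subgroup G) : Set G)) = p * (p - 1))
    {q : ℕ} (hq : q.Prime) (hq5 : 5 < q) (hpq : p = q + 2) : IsMultiplyPretransitive G Ω 3 := by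
  classical
  haveI := Fact.mk hp
  haveI := Fintype.ofFinite Ω
  haveI := htrans
  have hcard : Fintype.card Ω = p := by rw [← Nat.card_eq_fintype_card, hΩ]
  by_cases hp4 : p % 4 = 3
  swap
  · refine PrimeInverter.three_transitive hcard htrans hins P ?_
    obtain ⟨k, hk⟩ : ∃ k, p - 1 = 4 * k := ⟨(p - 1) / 4, by
      have := hp.eq_two_or_odd; omega⟩
    exact ⟨p * k, by rw [hk] at hN; linarith⟩
  haveI : Nonempty Ω := Fintype.card_pos_iff.1 (hcard ▸ hp.pos)
  obtain ⟨e, -, hC⟩ := HalfNormalizer.exists_coord hcard htrans hins P hN (Classical.arbitrary Ω)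
  rcases HalfNormalizer.three_or_card_eq_four hC with h | h4
  · exact h
  set α := e 0
  haveI := S3612.result p hp hΩ htrans hins P hN (by omega) α
  set X := SubMulAction.ofStabilizer G α
  have hX : Nat.card X = q + 1 := by
    have h := Fintype.card_subtype_compl (fun z : Ω => z = α)
    rw [hcard, Fintype.card_subtype_eq] at h
    rw [Nat.card_congr (Equiv.subtypeEquivRight (fun z => by rfl) : X ≃ {z : Ω // ¬ z = α}),
      Nat.card_eq_fintype_card, h]
    omega
  have hne : e 1 ≠ α := fun h => one_ne_zero (α := ZMod p) (e.injective h)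
  let x : X := ⟨e 1, hne⟩
  haveI : IsMultiplyPretransitive ↥(stabilizer G α) X 2 := by
    refine isMultiplyPretransitive_two_of_prime hq (by omega) hX x fun a b c ha hb hc => ?_
    set S := stabilizer G α ⊓ stabilizer G (e 1)
    by_contra hno
    push Not at hno
    let mk : Ω → orbitRel.Quotient S Ω := Quotient.mk _
    have hmk : ∀ {u w : Ω}, mk u = mk w → ∃ g : G, g • α = α ∧ g • e 1 = e 1 ∧ g • w = u := by
      intro u w h
      obtain ⟨⟨g, hg⟩, hgw⟩ := Quotient.exact h
      exact ⟨g, hg.1, hg.2, hgw⟩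
    let f : Fin 5 → orbitRel.Quotient S Ω := ![mk α, mk (e 1), mk a, mk b, mk c]
    have hfix : ∀ {u w : Ω}, mk u = mk w → (w = α ∨ w = e 1) → u = w := by
      intro u w h hw
      obtain ⟨g, h1, h2, h3⟩ := hmk h
      rcases hw with rfl | rfl
      · exact h3.symm.trans h1
      · exact h3.symm.trans h2
    have hpair : ∀ {u w : X}, mk (u : Ω) = mk w → ∃ h : stabilizer G α, h • x = x ∧ h • w = u := by
      intro u w h
      obtain ⟨g, h1, h2, h3⟩ := hmk h
      exact ⟨⟨g, h1⟩, Subtype.ext h2, Subtype.ext h3⟩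
    have hv : ∀ u : X, u ≠ x → (u : Ω) ≠ e 1 := fun u hu h => hu (Subtype.ext h)
    have hf : Function.Injective f := by
      intro i j hij
      fin_cases i <;> fin_cases j <;> simp only [f] at hij <;> first
        | rfl
        | exact absurd (hfix hij.symm (Or.inl rfl)) hne
        | exact absurd (hfix hij (Or.inl rfl)) hne
        | exact absurd (hfix hij (Or.inl rfl)) a.2
        | exact absurd (hfix hij (Or.inl rfl)) b.2
        | exact absurd (hfix hij (Or.inl rfl)) c.2
        | exact absurd (hfix hij.symm (Or.inl rfl)) a.2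
        | exact absurd (hfix hij.symm (Or.inl rfl)) b.2
        | exact absurd (hfix hij.symm (Or.inl rfl)) c.2
        | exact absurd (hfix hij (Or.inr rfl)) (hv a ha)
        | exact absurd (hfix hij (Or.inr rfl)) (hv b hb)
        | exact absurd (hfix hij (Or.inr rfl)) (hv c hc)
        | exact absurd (hfix hij.symm (Or.inr rfl)) (hv a ha)
        | exact absurd (hfix hij.symm (Or.inr rfl)) (hv b hb)
        | exact absurd (hfix hij.symm (Or.inr rfl)) (hv c hc)
        | (obtain ⟨g, hgx, hg⟩ := hpair hij; exact absurd hg (hno g hgx).1)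
        | (obtain ⟨g, hgx, hg⟩ := hpair hij; exact absurd hg (hno g hgx).2.1)
        | (obtain ⟨g, hgx, hg⟩ := hpair hij; exact absurd hg (hno g hgx).2.2)
        | (obtain ⟨g, hgx, hg⟩ := hpair hij.symm; exact absurd hg (hno g hgx).1)
        | (obtain ⟨g, hgx, hg⟩ := hpair hij.symm; exact absurd hg (hno g hgx).2.1)
        | (obtain ⟨g, hgx, hg⟩ := hpair hij.symm; exact absurd hg (hno g hgx).2.2)
    have := Nat.card_le_card_of_injective f hf
    rw [Nat.card_fin, h4 α (e 1) hne.symm] at this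
    omega
  exact (SubMulAction.ofStabilizer.isMultiplyPretransitive (a := α)).mpr inferInstance

/-- The setwise stabiliser of two points. -/
def pairStab (G : Type*) {Ω : Type*} [Group G] [MulAction G Ω] (α β : Ω) : Subgroup G where
  carrier := {g | (g • α = α ∧ g • β = β) ∨ (g • α = β ∧ g • β = α)}
  one_mem' := Or.inl ⟨one_smul _ _, one_smul _ _⟩
  mul_mem' := by
    rintro g h (⟨g1, g2⟩ | ⟨g1, g2⟩) (⟨h1, h2⟩ | ⟨h1, h2⟩)
    · exact Or.inl ⟨by rw [mul_smul, h1, g1], by rw [mul_smul, h2, g2]⟩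
    · exact Or.inr ⟨by rw [mul_smul, h1, g2], by rw [mul_smul, h2, g1]⟩
    · exact Or.inr ⟨by rw [mul_smul, h1, g1], by rw [mul_smul, h2, g2]⟩
    · exact Or.inl ⟨by rw [mul_smul, h1, g2], by rw [mul_smul, h2, g1]⟩
  inv_mem' := by
    rintro g (⟨g1, g2⟩ | ⟨g1, g2⟩)
    · exact Or.inl ⟨inv_smul_eq_iff.2 g1.symm, inv_smul_eq_iff.2 g2.symm⟩
    · exact Or.inr ⟨inv_smul_eq_iff.2 g2.symm, inv_smul_eq_iff.2 g1.symm⟩

/-- The points outside the pair. -/
def pairRest (G : Type*) {Ω : Type*} [Group G] [MulAction G Ω] (α β : Ω) :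
    SubMulAction (pairStab G α β) Ω where
  carrier := {z | z ≠ α ∧ z ≠ β}
  smul_mem' g z hz := by
    have h : ∀ u, (g : G) • z = (g : G) • u → z = u := fun u h => MulAction.injective (g : G) h
    rcases g.2 with ⟨h1, h2⟩ | ⟨h1, h2⟩
    · exact ⟨fun e => hz.1 (h _ (e.trans h1.symm)), fun e => hz.2 (h _ (e.trans h2.symm))⟩
    · exact ⟨fun e => hz.2 (h _ (e.trans h2.symm)), fun e => hz.1 (h _ (e.trans h1.symm))⟩

/-- `p = q + 2`: quintuple transitivity. -/
theorem five_transitive (hp : p.Prime) (hΩ : Nat.card Ω = p) (htrans : IsPretransitive G Ω)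
    (hins : ¬ Group.IsSolvable G) (P : Sylow p G)
    (hN : 2 * Nat.card ↥(Subgroup.normalizer ((P : Subgroup G) : Set G)) = p * (p - 1))
    {q : ℕ} (hq : q.Prime) (hq5 : 5 < q) (hpq : p = q + 2) : IsMultiplyPretransitive G Ω 5 := by
  classical
  haveI := Fact.mk hp
  haveI := Fact.mk hq
  haveI := Fintype.ofFinite Ω
  haveI := htrans
  have hcard : Fintype.card Ω = p := by rw [← Nat.card_eq_fintype_card, hΩ]
  haveI : Nonempty Ω := Fintype.card_pos_iff.1 (hcard ▸ hp.pos)
  have h3 := three_transitive hp hΩ htrans hins P hN hq hq5 hpq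
  obtain ⟨e, -, hC⟩ := HalfNormalizer.exists_coord hcard htrans hins P hN (Classical.arbitrary Ω)
  set α := e 0
  set β := e 1
  have hαβ : α ≠ β := fun h => zero_ne_one (e.injective h)
  have three : ∀ (u v : Fin 3 → Ω), Function.Injective u → Function.Injective v →
      ∃ g : G, ∀ i, g • u i = v i := fun u v hu hv => by
    obtain ⟨g, hg⟩ := h3.exists_smul_eq ⟨u, hu⟩ ⟨v, hv⟩
    exact ⟨g, fun i => DFunLike.congr_fun hg i⟩
  set L := stabilizer G α ⊓ stabilizer G β
  set K := pairStab G α β
  set Y := pairRest G α β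
  have hmemY : ∀ z : Ω, z ∈ Y ↔ z ≠ α ∧ z ≠ β := fun z => Iff.rfl
  have hY : Fintype.card Y = q := by
    have h : (Finset.univ.filter fun z : Ω => z ∈ Y) = (Finset.univ.erase α).erase β := by
      ext z; simp [hmemY, and_comm]
    rw [Fintype.card_subtype, h, Finset.card_erase_of_mem (Finset.mem_erase.2 ⟨hαβ.symm, Finset.mem_univ _⟩),
      Finset.card_erase_of_mem (Finset.mem_univ _), Finset.card_univ, hcard]
    omega
  have hLK : L ≤ K := fun g hg => Or.inl ⟨hg.1, hg.2⟩
  set L' := L.subgroupOf K with hL'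
  have hinj3 : ∀ z : Ω, z ≠ α → z ≠ β → Function.Injective ![α, β, z] := fun z hz1 hz2 =>
    injective_three hαβ hz1.symm hz2.symm
  have hLtr : ∀ y z : Y, ∃ l : K, l ∈ L' ∧ l • y = z := by
    intro y z
    obtain ⟨g, hg⟩ := three ![α, β, y] ![α, β, z] (hinj3 _ y.2.1 y.2.2) (hinj3 _ z.2.1 z.2.2)
    exact ⟨⟨g, hLK ⟨hg 0, hg 1⟩⟩, ⟨hg 0, hg 1⟩, Subtype.ext (hg 2)⟩
  obtain ⟨s, hsK, hsα⟩ : ∃ s, s ∈ K ∧ s • α = β := by
    obtain ⟨s, h1, h2⟩ := hC.two hαβ hαβ.symm
    exact ⟨s, Or.inr ⟨h1, h2⟩, h1⟩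
  -- no transposition
  let φ : G →* Equiv.Perm Ω := MulAction.toPermHom G Ω
  have hφ : Function.Injective φ := MulAction.toPerm_injective
  have hnoswap : ∀ a b : Ω, a ≠ b → Equiv.swap a b ∉ φ.range := by
    intro a b hab hmem
    haveI : IsPretransitive φ.range Ω := ⟨fun a b => by
      obtain ⟨g, hg⟩ := htrans.exists_smul_eq a b
      exact ⟨⟨φ g, g, rfl⟩, hg⟩⟩
    have htop := Equiv.Perm.subgroup_eq_top_of_isPreprimitive_of_isSwap_mem
      (IsPreprimitive.of_prime_card (by rw [hΩ]; exact hp)) _ ⟨a, b, hab, rfl⟩ hmem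
    let mE : G ≃* Equiv.Perm Ω := MulEquiv.ofBijective φ ⟨hφ, MonoidHom.range_eq_top.1 htop⟩
    let P' : Sylow p (Equiv.Perm Ω) := P.mapSurjective (f := mE.toMonoidHom) mE.surjective
    have hN' : Nat.card (Subgroup.normalizer ((P' : Subgroup (Equiv.Perm Ω)) : Set (Equiv.Perm Ω))) =
        Nat.card (Subgroup.normalizer ((P : Subgroup G) : Set G)) := by
      rw [show (P' : Subgroup (Equiv.Perm Ω)) = (P : Subgroup G).map mE.toMonoidHom from
        P.coe_mapSurjective _, ← Subgroup.map_normalizer_eq_of_bijective (f := mE.toMonoidHom) (P : Subgroup G) mE.bijective]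
      exact Subgroup.card_map_of_injective mE.injective
    have := Agent.S0989.result (α := Ω) p (Or.inl hcard) P'
    rw [hN'] at this
    have : 2 * (p * (p - 1)) = p * (p - 1) := by rw [← this]; exact this ▸ hN
    have : 0 < p * (p - 1) := Nat.mul_pos hp.pos (by omega)
    omega
  haveI : FaithfulSMul K Y := ⟨fun {k k'} h => by
    suffices ∀ m : K, (∀ y : Y, m • y = y) → m = 1 from
      inv_mul_eq_one.1 (this (k'⁻¹ * k) fun y => by rw [mul_smul, h y, inv_smul_smul]) |>.symm
    intro m hm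
    have hm' : ∀ z : Ω, z ≠ α → z ≠ β → (m : G) • z = z := fun z h1 h2 =>
      congrArg Subtype.val (hm ⟨z, h1, h2⟩)
    rcases m.2 with ⟨h1, h2⟩ | ⟨h1, h2⟩
    · refine Subtype.ext (eq_of_smul_eq_smul (α := Ω) fun z => ?_)
      rw [Subgroup.coe_one, one_smul]
      by_cases hz : z = α
      · rw [hz, h1]
      by_cases hz' : z = β
      · rw [hz', h2]
      exact hm' z hz hz'
    · refine absurd ⟨(m : G), Equiv.ext fun z => ?_⟩ (hnoswap α β hαβ)
      show (m : G) • z = _
      by_cases hz : z = α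
      · rw [hz, h1, Equiv.swap_apply_left]
      by_cases hz' : z = β
      · rw [hz', h2, Equiv.swap_apply_right]
      rw [hm' z hz hz', Equiv.swap_apply_of_ne_of_ne hz hz']⟩
  haveI : IsPretransitive L' Y := ⟨fun y z => by
    obtain ⟨l, hl, hly⟩ := hLtr y z
    exact ⟨⟨l, hl⟩, hly⟩⟩
  haveI : FaithfulSMul L' Y := ⟨fun {k k'} h => Subtype.ext (eq_of_smul_eq_smul (α := Y) h)⟩
  -- the two-point stabiliser is not solvable
  have hLins : ¬ Group.IsSolvable L' := by
    intro hs
    obtain ⟨d, hd, hcL'⟩ := card_of_solvable (q := q) (Nat.card_eq_fintype_card.trans hY)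
      (inferInstance : IsPretransitive L' Y) hs
    have hcL : Nat.card L = q * d := by
      rw [← hcL']; exact (Nat.card_congr (Subgroup.subgroupOfEquivOfLe hLK).toEquiv).symm
    have hG : Nat.card G = p * (p - 1) * (q * d) := by
      rw [← Subgroup.index_mul_card (stabilizer G α), index_stabilizer_of_transitive G α, hΩ,
        mul_assoc]
      congr 1
      haveI : IsPretransitive (stabilizer G α) (SubMulAction.ofStabilizer G α) := ⟨fun u v => by
        obtain ⟨g, h1, h2⟩ := hC.two (Ne.symm u.2 : α ≠ u) (Ne.symm v.2 : α ≠ v)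
        exact ⟨⟨g, h1⟩, Subtype.ext h2⟩⟩
      let b : SubMulAction.ofStabilizer G α := ⟨β, hαβ.symm⟩
      rw [← Subgroup.index_mul_card (stabilizer (stabilizer G α) b),
        index_stabilizer_of_transitive (stabilizer G α) b]
      congr 1
      · rw [Nat.card_congr (Equiv.subtypeEquivRight (fun z => by rfl) :
          SubMulAction.ofStabilizer G α ≃ {z : Ω // ¬ z = α}), Nat.card_eq_fintype_card,
          Fintype.card_subtype_compl, hcard, Fintype.card_subtype_eq]
      · rw [← hcL]
        exact Nat.card_congr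
          { toFun := fun g => ⟨((g : stabilizer G α) : G), (g : stabilizer G α).2, congrArg Subtype.val g.2⟩
            invFun := fun g => ⟨⟨(g : G), g.2.1⟩, Subtype.ext g.2.2⟩
            left_inv := fun _ => rfl
            right_inv := fun _ => rfl }
    have hdiv := prime_div_sylow_count P
    have hq2 : q % 2 = 1 := hq.eq_two_or_odd.resolve_left (by omega)
    obtain ⟨m, hm⟩ : ∃ m, p - 1 = 2 * m := ⟨(p - 1) / 2, by omega⟩
    have hm0 : 0 < m := by omega
    have hNm : Nat.card ↥(Subgroup.normalizer ((P : Subgroup G) : Set G)) = p * m := by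
      rw [hm] at hN; linarith
    rw [hG, hNm, hm, show p * (2 * m) * (q * d) = p * m * (2 * q * d) by ring,
      Nat.mul_div_cancel_left _ (Nat.mul_pos hp.pos hm0)] at hdiv
    -- `- 4 d ≡ 1`
    have hz : ((4 * d + 1 : ℕ) : ZMod p) = 0 := by
      have h1 : ((2 * q * d : ℕ) : ZMod p) = 1 := by
        rw [← Nat.cast_one, ZMod.natCast_eq_natCast_iff]; exact hdiv
      have h2 : (q : ZMod p) = -2 := by
        have : ((q + 2 : ℕ) : ZMod p) = 0 := by rw [← hpq, ZMod.natCast_self]
        push_cast at this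
        linear_combination this
      push_cast at h1 ⊢
      rw [h2] at h1
      linear_combination -h1
    obtain ⟨k, hk⟩ := (ZMod.natCast_eq_zero_iff _ _).1 hz
    have hdq : d ≤ q - 1 := Nat.le_of_dvd (by omega) hd
    have hk4 : k < 4 := by
      by_contra h
      have := Nat.mul_le_mul_left p (show 4 ≤ k by omega)
      omega
    have hp9 : p ≠ 9 := fun h => by norm_num [h] at hp
    have hq9 : q ≠ 9 := fun h => by norm_num [h] at hq
    interval_cases k
    · omega
    · obtain ⟨t, ht⟩ := hd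
      have : d * t = 4 * d - 2 := by omega
      have h2 : d ∣ 2 := by
        have h4 : d ∣ 4 * d := dvd_mul_left d 4
        have := Nat.dvd_sub h4 (Dvd.intro t this)
        rwa [show 4 * d - (4 * d - 2) = 2 by omega] at this
      have := Nat.le_of_dvd (by norm_num) h2
      omega
    · omega
    · obtain ⟨t, ht⟩ := hd
      rcases t with _ | _ | t
      · omega
      · omega
      · have := Nat.mul_le_mul_left d (show 2 ≤ t + 1 + 1 by omega)
        omega
  -- the setwise stabiliser is triply transitive on the rest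
  haveI : IsPretransitive K Y := ⟨fun y z => by
    obtain ⟨l, -, hl⟩ := hLtr y z; exact ⟨l, hl⟩⟩
  have hKins : ¬ Group.IsSolvable K := fun h => hLins <|
    Group.isSolvable_of_isSolvable_injective (f := L'.subtype) L'.subtype_injective
  have hnormal : L'.Normal := ⟨fun l hl k => by
    rw [hL', Subgroup.mem_subgroupOf] at hl ⊢
    obtain ⟨hl1, hl2⟩ : (l : G) • α = α ∧ (l : G) • β = β := hl
    have key : ∀ z : Ω, (l : G) • ((k : G)⁻¹ • z) = (k : G)⁻¹ • z →
        ((k * l * k⁻¹ : K) : G) • z = z := fun z hz => by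
      rw [Subgroup.coe_mul, Subgroup.coe_mul, Subgroup.coe_inv, mul_smul, mul_smul, hz, smul_inv_smul]
    rcases K.inv_mem k.2 with ⟨h1, h2⟩ | ⟨h1, h2⟩
    · exact ⟨key α (by rw [h1, hl1]), key β (by rw [h2, hl2])⟩
    · exact ⟨key α (by rw [h1, hl2]), key β (by rw [h2, hl1])⟩⟩
  haveI := hnormal
  have hmul : ∀ k k' : K, (k : G) • α = β → (k' : G) • α = β → k⁻¹ * k' ∈ L' := by
    intro k k' hk hk'
    rw [hL', Subgroup.mem_subgroupOf]
    have hb : (k : G) • β = α ∧ (k' : G) • β = α := by
      rcases k.2 with ⟨h1, -⟩ | ⟨-, h2⟩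
      · exact absurd (h1.symm.trans hk) hαβ
      rcases k'.2 with ⟨h1', -⟩ | ⟨-, h2'⟩
      · exact absurd (h1'.symm.trans hk') hαβ
      exact ⟨h2, h2'⟩
    refine ⟨?_, ?_⟩
    · show ((k : G)⁻¹ * (k' : G)) • α = α
      rw [mul_smul, hk', inv_smul_eq_iff, hk]
    · show ((k : G)⁻¹ * (k' : G)) • β = β
      rw [mul_smul, hb.2, inv_smul_eq_iff, hb.1]
  have hin : ∀ k : K, (k : G) • α = α → k ∈ L' := fun k hk => by
    rw [hL', Subgroup.mem_subgroupOf]
    rcases k.2 with ⟨h1, h2⟩ | ⟨h1, -⟩
    · exact ⟨h1, h2⟩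
    · exact absurd (hk.symm.trans h1) hαβ
  obtain ⟨Q⟩ : Nonempty (Sylow q K) := inferInstance
  have hodd : ∀ k : K, Odd (orderOf k) → k ∈ L' := by
    intro k hk
    rcases k.2 with ⟨h1, h2⟩ | ⟨h1, h2⟩
    · exact hin k h1
    · exfalso
      obtain ⟨t, ht⟩ := hk
      have hsq : ∀ n : ℕ, (((k ^ 2) ^ n : K) : G) • α = α := by
        intro n
        induction n with
        | zero => simp
        | succ n ih =>
          rw [pow_succ', Subgroup.coe_mul, mul_smul, ih, pow_two, Subgroup.coe_mul, mul_smul, h1, h2]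
      have := congrArg (fun m : K => (m : G) • α) (pow_orderOf_eq_one k)
      rw [ht] at this
      simp only [pow_succ', pow_mul, Subgroup.coe_mul, Subgroup.coe_one, one_smul, mul_smul, hsq,
        h1] at this
      exact hαβ this.symm
  have hQL : (Q : Subgroup K) ≤ L' := fun k hk => hodd k <| by
    obtain ⟨n, hn⟩ := Q.isPGroup' ⟨k, hk⟩
    have : orderOf k ∣ q ^ n := orderOf_dvd_of_pow_eq_one (congrArg Subtype.val hn)
    exact Odd.of_dvd_nat ((hq.odd_of_ne_two (by omega)).pow) this
  have hevenN : 2 ∣ Nat.card ↥(Subgroup.normalizer ((Q : Subgroup K) : Set K)) := by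
    by_contra h
    have hle : Subgroup.normalizer ((Q : Subgroup K) : Set K) ≤ L' := fun k hk => hodd k <|
      Odd.of_dvd_nat (Nat.odd_iff.2 (by omega)) (Subgroup.orderOf_dvd_natCard _ hk)
    have htop : L' = ⊤ := by
      have := Sylow.normalizer_sup_eq_top' Q hQL
      exact (sup_eq_right.2 hle).symm.trans this
    have hs' : (⟨s, hsK⟩ : K) ∈ L' := htop ▸ Subgroup.mem_top _
    rw [hL', Subgroup.mem_subgroupOf] at hs'
    exact hαβ (hs'.1.symm.trans hsα)
  have hK3 := PrimeInverter.three_transitive hY (inferInstance : IsPretransitive K Y) hKins Q hevenN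
  -- so is the pointwise stabiliser
  have key : ∀ a b u v : Y, a ≠ b → u ≠ a → u ≠ b → v ≠ a → v ≠ b →
      ∃ l : K, l ∈ L' ∧ l • a = a ∧ l • b = b ∧ l • u = v := by
    intro a b u v hab hua hub hva hvb
    have hK : ∀ z, z ≠ a → z ≠ b → ∀ w, w ≠ a → w ≠ b → ∃ k : K, k • a = a ∧ k • b = b ∧ k • z = w := by
      intro z hza hzb w hwa hwb
      have hi : ∀ z : Y, z ≠ a → z ≠ b → Function.Injective ![a, b, z] := fun z hz1 hz2 =>
        injective_three hab hz1.symm hz2.symm
      obtain ⟨k, hk⟩ := hK3.exists_smul_eq ⟨_, hi z hza hzb⟩ ⟨_, hi w hwa hwb⟩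
      exact ⟨k, DFunLike.congr_fun hk 0, DFunLike.congr_fun hk 1, DFunLike.congr_fun hk 2⟩
    by_contra hno
    obtain ⟨k, hka, hkb, hku⟩ := hK u hua hub v hva hvb
    have hswap : ∀ m : K, m ∉ L' → (m : G) • α = β := fun m hm => by
      rcases m.2 with ⟨h1, -⟩ | ⟨h1, -⟩
      · exact absurd (hin m h1) hm
      · exact h1
    have hkL : k ∉ L' := fun h => hno ⟨k, h, hka, hkb, hku⟩
    set O := Finset.univ.filter fun z : Y => ∃ l : K, l ∈ L' ∧ l • a = a ∧ l • b = b ∧ l • u = z with hO
    have hOmem : ∀ z, z ∈ O ↔ ∃ l : K, l ∈ L' ∧ l • a = a ∧ l • b = b ∧ l • u = z := fun z => by simp [hO]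
    have hdisj : Disjoint O (O.image (k • ·)) := Finset.disjoint_left.2 fun z hz hz' => by
      obtain ⟨w, hw, rfl⟩ := Finset.mem_image.1 hz'
      obtain ⟨l, hl, hla, hlb, hlu⟩ := (hOmem _).1 hz
      obtain ⟨l', hl', hla', hlb', rfl⟩ := (hOmem _).1 hw
      -- an element outside `L` fixing `a`, `b`, `u`
      set m := l'⁻¹ * (k⁻¹ * l) with hm
      have hmL : m ∉ L' := fun h => hkL <| by
        have := L'.mul_mem hl' h
        rw [hm, mul_inv_cancel_left] at this
        have h2 := L'.mul_mem this (L'.inv_mem hl)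
        rw [mul_inv_cancel_right] at h2
        exact inv_mem_iff.1 h2
      have hfix : ∀ y : Y, k • y = y → l • y = y → l' • y = y → m • y = y := fun y h1 h2 h3 => by
        rw [hm, mul_smul, mul_smul, h2, inv_smul_eq_iff, h3, inv_smul_eq_iff, h1]
      have hmu : m • u = u := by
        rw [hm, mul_smul, mul_smul, hlu, inv_smul_smul, inv_smul_smul]
      refine hno ⟨k * m, ?_, ?_, ?_, ?_⟩
      · have := hmul k⁻¹ m (hswap _ fun h => hkL (inv_mem_iff.1 h)) (hswap _ hmL)
        rwa [inv_inv] at this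
      · rw [mul_smul, hfix a hka hla hla', hka]
      · rw [mul_smul, hfix b hkb hlb hlb', hkb]
      · rw [mul_smul, hmu, hku]
    have hcov : O ∪ O.image (k • ·) = (Finset.univ.erase a).erase b := by
      ext w
      simp only [Finset.mem_union, Finset.mem_image, Finset.mem_erase, Finset.mem_univ, and_true, hOmem]
      constructor
      · rintro (⟨l, -, hla, hlb, rfl⟩ | ⟨_, ⟨l, -, hla, hlb, rfl⟩, rfl⟩)
        · exact ⟨fun h => hub (MulAction.injective l (h.trans hlb.symm)),
            fun h => hua (MulAction.injective l (h.trans hla.symm))⟩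
        · refine ⟨fun h => ?_, fun h => ?_⟩
          · exact hub (MulAction.injective l ((MulAction.injective k (h.trans hkb.symm)).trans hlb.symm))
          · exact hua (MulAction.injective l ((MulAction.injective k (h.trans hka.symm)).trans hla.symm))
      · rintro ⟨hwb, hwa⟩
        obtain ⟨m, hma, hmb, hmu⟩ := hK u hua hub w hwa hwb
        by_cases hm : m ∈ L'
        · exact Or.inl ⟨m, hm, hma, hmb, hmu⟩
        · refine Or.inr ⟨(k⁻¹ * m) • u, ⟨k⁻¹ * m, hmul k m (hswap _ hkL) (hswap _ hm), ?_, ?_, rfl⟩, ?_⟩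
          · rw [mul_smul, hma, inv_smul_eq_iff, hka]
          · rw [mul_smul, hmb, inv_smul_eq_iff, hkb]
          · rw [mul_smul, smul_inv_smul, hmu]
    have := Finset.card_union_of_disjoint hdisj
    rw [hcov, Finset.card_image_of_injective _ (MulAction.injective k),
      Finset.card_erase_of_mem (Finset.mem_erase.2 ⟨hab.symm, Finset.mem_univ _⟩),
      Finset.card_erase_of_mem (Finset.mem_univ _), Finset.card_univ, hY] at this
    have := hq.eq_two_or_odd
    omega
  refine ⟨fun x y => ?_⟩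
  obtain ⟨g, hg0, hg1⟩ := hC.two (x.injective.ne (show (0 : Fin 5) ≠ 1 by decide)) hαβ
  obtain ⟨h, hh0, hh1⟩ := hC.two (y.injective.ne (show (0 : Fin 5) ≠ 1 by decide)) hαβ
  have hx : ∀ i : Fin 5, i ≠ 0 → i ≠ 1 → g • x i ∈ Y := fun i h0 h1 =>
    ⟨fun e => h0 (x.injective (MulAction.injective g (e.trans hg0.symm))),
      fun e => h1 (x.injective (MulAction.injective g (e.trans hg1.symm)))⟩
  have hy : ∀ i : Fin 5, i ≠ 0 → i ≠ 1 → h • y i ∈ Y := fun i h0 h1 =>
    ⟨fun e => h0 (y.injective (MulAction.injective h (e.trans hh0.symm))),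
      fun e => h1 (y.injective (MulAction.injective h (e.trans hh1.symm)))⟩
  let x2 : Y := ⟨_, hx 2 (by decide) (by decide)⟩
  let x3 : Y := ⟨_, hx 3 (by decide) (by decide)⟩
  let x4 : Y := ⟨_, hx 4 (by decide) (by decide)⟩
  let y2 : Y := ⟨_, hy 2 (by decide) (by decide)⟩
  let y3 : Y := ⟨_, hy 3 (by decide) (by decide)⟩
  let y4 : Y := ⟨_, hy 4 (by decide) (by decide)⟩
  have hnex : ∀ {i j : Fin 5}, i ≠ j → g • x i ≠ g • x j := fun hij e =>
    hij (x.injective (MulAction.injective g e))
  have hney : ∀ {i j : Fin 5}, i ≠ j → h • y i ≠ h • y j := fun hij e =>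
    hij (y.injective (MulAction.injective h e))
  obtain ⟨⟨l, hl⟩, hl2, hl3⟩ := two_of_not_isSolvable (L := L') hY inferInstance hLins
    (a := x2) (b := x3) (c := y2) (d := y3)
    (fun e => hnex (by decide) (congrArg Subtype.val e)) (fun e => hney (by decide) (congrArg Subtype.val e))
  have hl2' : l • x2 = y2 := hl2
  have hl3' : l • x3 = y3 := hl3
  obtain ⟨m, hm, hma, hmb, hmu⟩ := key y2 y3 (l • x4) y4
    (fun e => hney (by decide) (congrArg Subtype.val e))
    (fun e => hnex (by decide) (congrArg Subtype.val (MulAction.injective l (e.trans hl2'.symm))))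
    (fun e => hnex (by decide) (congrArg Subtype.val (MulAction.injective l (e.trans hl3'.symm))))
    (fun e => hney (by decide) (congrArg Subtype.val e))
    (fun e => hney (by decide) (congrArg Subtype.val e))
  have hml := L'.mul_mem hm hl
  rw [hL', Subgroup.mem_subgroupOf] at hml
  have e2 : ((m * l : K) : G) • g • x 2 = h • y 2 :=
    congrArg Subtype.val (show (m * l) • x2 = y2 by rw [mul_smul, hl2', hma])
  have e3 : ((m * l : K) : G) • g • x 3 = h • y 3 :=
    congrArg Subtype.val (show (m * l) • x3 = y3 by rw [mul_smul, hl3', hmb])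
  have e4 : ((m * l : K) : G) • g • x 4 = h • y 4 :=
    congrArg Subtype.val (show (m * l) • x4 = y4 by rw [mul_smul, hmu])
  refine ⟨h⁻¹ * ((m * l : K) : G) * g, ?_⟩
  ext i
  show (h⁻¹ * ((m * l : K) : G) * g) • x i = y i
  rw [mul_smul, mul_smul, inv_smul_eq_iff]
  fin_cases i
  · show ((m * l : K) : G) • g • x 0 = h • y 0
    rw [hg0, hh0]; exact hml.1
  · show ((m * l : K) : G) • g • x 1 = h • y 1
    rw [hg1, hh1]; exact hml.2
  · exact e2
  · exact e3
  · exact e4

end Cfsg.Agent.Perm.PrimeTwin
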