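import Cfsg.Agent.Lib.Perm.RegularNormal

/-!
# Regular normal subgroups of multiply primitive groups
-/

namespace Cfsg.Agent.Perm

open MulAction SubMulAction

variable {G α : Type*} [Group G] [MulAction G α]

/-- A non-identity involutive map commuting with a primitive action forces degree at most 2. -/
theorem card_le_two_of_commuting_involution {H β : Type*} [Group H] [MulAction H β]
    [IsPreprimitive H β] {f : β → β} (hinv : ∀ z, f (f z) = z)
    (hcomm : ∀ (h : H) z, f (h • z) = h • f z) {z₀ : β} (hz : f z₀ ≠ z₀) : Nat.card β ≤ 2 := by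
  have key : ∀ x, x = z₀ ∨ x = f z₀ := by
    intro x
    exact equivalence_trivial (G := H) (r := fun y z : β => z = y ∨ z = f y)
      ⟨fun _ => Or.inl rfl,
        fun {y z} h => h.imp Eq.symm (fun e => by rw [e, hinv]),
        fun {y z w} h k => by
          rcases h with rfl | rfl
          · exact k
          · rcases k with rfl | rfl
            · exact Or.inr rfl
            · exact Or.inl (hinv y)⟩
      (fun g y z h => h.imp (fun e => by rw [e]) (fun e => by rw [e, hcomm]))
      (Or.inr rfl : f z₀ = z₀ ∨ f z₀ = f z₀) hz.symm x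
  have hsub : (Set.univ : Set β) ⊆ {z₀, f z₀} := fun x _ => key x
  have := Set.ncard_le_ncard hsub (Set.toFinite _)
  rwa [Set.ncard_univ, Set.ncard_pair hz.symm] at this

/-- If a point stabiliser is primitive on the other points, a regular normal subgroup has
exponent 2, or the degree is at most 3. -/
theorem regular_normal_exponent_two_of_primitive [Finite α] {a : α}
    (hprim : IsPreprimitive (stabilizer G a) (SubMulAction.ofStabilizer G a)) {N : Subgroup G}
    [hN : N.Normal] [IsPretransitive N α] (hreg : ∀ x : α, stabilizer N x = ⊥) :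
    Nat.card α ≤ 3 ∨ ∀ x ∈ N, x ^ 2 = 1 := by
  rw [or_iff_not_imp_right]
  intro h2
  simp only [not_forall] at h2
  obtain ⟨x, hx, hx2⟩ := h2
  have h := hreg a
  choose w hwN hw using fun z : SubMulAction.ofStabilizer G a =>
    isPretransitive_subgroup_iff.1 ‹IsPretransitive N α› a (z : α)
  have hmem : ∀ z, (w z)⁻¹ • a ≠ a := fun z e => z.2 (by
    show (z : α) = a
    rw [← hw z]
    rw [inv_smul_eq_iff] at e
    exact e.symm)
  let f : SubMulAction.ofStabilizer G a → SubMulAction.ofStabilizer G a :=
    fun z => ⟨(w z)⁻¹ • a, hmem z⟩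
  have hf : ∀ (z : SubMulAction.ofStabilizer G a) (n : G), n ∈ N → n • a = (z : α) →
      (f z : α) = n⁻¹ • a := fun z n hn hna => by
    change (w z)⁻¹ • a = n⁻¹ • a
    rw [eq_of_smul_eq h (hwN z) hn ((hw z).trans hna.symm)]
  have hxa : x • a ≠ a := fun e => hx2 (by
    rw [stabilizer_subgroup_eq_bot_iff.1 h x hx e, one_pow])
  have := hprim
  have hle := card_le_two_of_commuting_involution (H := stabilizer G a)
    (β := SubMulAction.ofStabilizer G a) (f := f)
    (fun z => Subtype.ext (by
      rw [hf (f z) (w z)⁻¹ (N.inv_mem (hwN z)) rfl, inv_inv, hw z]))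
    (fun g z => Subtype.ext (by
      have hga : (g : G) • a = a := g.2
      rw [hf (g • z) ((g : G) * w z * (g : G)⁻¹) (hN.conj_mem _ (hwN z) g)
        (by rw [conj_smul_eq hga, hw]; rfl), conj_inv]
      exact conj_smul_eq hga _))
    (z₀ := ⟨x • a, hxa⟩) (fun e => hx2 (by
      have e' : x⁻¹ • a = x • a :=
        (hf ⟨x • a, hxa⟩ x hx rfl).symm.trans (congrArg Subtype.val e)
      have := eq_of_smul_eq h (N.inv_mem hx) hx e'
      rw [pow_two, ← mul_inv_cancel x, this]))
  have := nat_card_ofStabilizer_add_one_eq (G := G) a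
  omega

/-- A 2-transitive point stabiliser from 2-preprimitivity. -/
theorem isPreprimitive_stabilizer [IsPretransitive G α]
    (h : IsMultiplyPreprimitive G α 2) (a : α) :
    IsPreprimitive (stabilizer G a) (SubMulAction.ofStabilizer G a) := by
  have : IsMultiplyPreprimitive G α (Nat.succ 1) := h
  exact (is_one_preprimitive_iff _ _).1 (isMultiplyPreprimitive_ofStabilizer G α (n := 1))

/-- A regular normal subgroup of a doubly primitive group is elementary abelian of exponent 2,
or the degree is 3. -/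
theorem regular_normal_of_doubly_primitive [Finite α] (hn : 2 ≤ Nat.card α)
    (h : IsMultiplyPreprimitive G α 2) {N : Subgroup G} [N.Normal] [IsPretransitive N α]
    (hreg : ∀ x : α, stabilizer N x = ⊥) :
    Nat.card α = 3 ∨
      (IsMulCommutative N ∧ (∀ x ∈ N, x ^ 2 = 1) ∧ ∃ m : ℕ, Nat.card α = 2 ^ m) := by
  obtain ⟨a⟩ : Nonempty α := (Nat.card_pos_iff.1 (by omega)).1
  have : IsPretransitive G α := isPretransitive_of_subgroup ‹IsPretransitive N α›
  have : Finite N := Finite.of_injective _ (bijective_smul_of_regular (hreg a)).1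
  have hcard := card_eq_of_regular (hreg a)
  rcases eq_or_ne (Nat.card α) 3 with h3 | h3
  · exact Or.inl h3
  right
  have hexp : ∀ x ∈ N, x ^ 2 = 1 := by
    rcases regular_normal_exponent_two_of_primitive (isPreprimitive_stabilizer h a) hreg with h' | h'
    · intro x hx
      have := pow_card_eq_one' (G := N) (x := ⟨x, hx⟩)
      rw [hcard, show Nat.card α = 2 by omega] at this
      exact congrArg Subtype.val this
    · exact h'
  refine ⟨⟨⟨fun u v => ?_⟩⟩, hexp, ?_⟩
  · have hi : ∀ z : N, z⁻¹ = z := fun z => inv_eq_of_mul_eq_one_right (by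
      rw [← pow_two]; exact Subtype.ext (hexp z z.2))
    calc u * v = (u * v)⁻¹ := (hi _).symm
      _ = v⁻¹ * u⁻¹ := mul_inv_rev u v
      _ = v * u := by rw [hi, hi]
  · have : Fact (Nat.Prime 2) := ⟨Nat.prime_two⟩
    obtain ⟨m, hm⟩ :=
      IsPGroup.iff_card.1 (fun z : N => ⟨1, Subtype.ext (by simpa using hexp z z.2)⟩ : IsPGroup 2 N)
    exact ⟨m, hcard ▸ hm⟩

/-- A triply primitive group with a regular normal subgroup has degree 3 or 4. -/
theorem regular_normal_of_triply_primitive [Finite α] (hn : 3 ≤ Nat.card α)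
    (h : IsMultiplyPreprimitive G α 3) {N : Subgroup G} [hN : N.Normal] [IsPretransitive N α]
    (hreg : ∀ x : α, stabilizer N x = ⊥) : Nat.card α ≤ 4 := by
  by_contra hlt
  rw [not_le] at hlt
  have : IsPretransitive G α := isPretransitive_of_subgroup ‹IsPretransitive N α›
  have h2 : IsMultiplyPreprimitive G α 2 := by
    refine isMultiplyPreprimitive_of_le G α h (by omega) ?_
    rw [ENat.card_eq_coe_natCard]
    exact_mod_cast hn
  obtain ⟨a⟩ : Nonempty α := (Nat.card_pos_iff.1 (by omega)).1
  have hexp : ∀ x ∈ N, x ^ 2 = 1 := by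
    rcases regular_normal_of_doubly_primitive (by omega) h2 hreg with h' | h'
    · omega
    · exact h'.2.1
  have hs := hreg a
  obtain ⟨b, hba⟩ : ∃ b, b ≠ a := by
    have : Nontrivial α := Finite.one_lt_card_iff_nontrivial.1 (by omega)
    exact exists_ne a
  obtain ⟨x, hx, hxb⟩ := isPretransitive_subgroup_iff.1 ‹IsPretransitive N α› a b
  have hx1 : x ≠ 1 := fun e => hba (by rw [← hxb, e, one_smul])
  have := IsMultiplyPreprimitive.isPreprimitive_ofFixingSubgroup G 3 (s := ({a, b} : Set α))
    (by rw [Set.encard_pair hba.symm]; rfl)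
  choose w hwN hw using fun z : ofFixingSubgroup G ({a, b} : Set α) =>
    isPretransitive_subgroup_iff.1 ‹IsPretransitive N α› a (z : α)
  have hxx : x * x = 1 := by rw [← pow_two]; exact hexp x hx
  have hwa : ∀ z, w z ≠ 1 := fun z e => z.2 (by
    show (z : α) ∈ ({a, b} : Set α)
    rw [← hw z, e, one_smul]; exact Set.mem_insert a _)
  have hwb : ∀ z, w z ≠ x := fun z e => z.2 (by
    show (z : α) ∈ ({a, b} : Set α)
    rw [← hw z, e, hxb]; exact Set.mem_insert_of_mem _ rfl)
  have hmem : ∀ z, (x * w z) • a ∉ ({a, b} : Set α) := fun z e => by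
    simp only [Set.mem_insert_iff, Set.mem_singleton_iff] at e
    rcases e with e | e
    · exact hwb z ((mul_eq_one_iff_inv_eq.1
        (stabilizer_subgroup_eq_bot_iff.1 hs _ (N.mul_mem hx (hwN z)) e)).symm.trans
        (inv_eq_of_mul_eq_one_right hxx))
    · exact hwa z (mul_eq_left.1
        (eq_of_smul_eq hs (N.mul_mem hx (hwN z)) hx (e.trans hxb.symm)))
  let f : ofFixingSubgroup G ({a, b} : Set α) → ofFixingSubgroup G ({a, b} : Set α) :=
    fun z => ⟨(x * w z) • a, hmem z⟩
  have hf : ∀ (z : ofFixingSubgroup G ({a, b} : Set α)) (n : G), n ∈ N → n • a = (z : α) →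
      (f z : α) = (x * n) • a := fun z n hn hna => by
    change (x * w z) • a = (x * n) • a
    rw [eq_of_smul_eq hs (hwN z) hn ((hw z).trans hna.symm)]
  obtain ⟨c, hca, hcb⟩ : ∃ c, c ≠ a ∧ c ≠ b := by
    by_contra hall
    have hsub : (Set.univ : Set α) ⊆ {a, b} := fun d _ => by
      by_contra hd
      simp only [Set.mem_insert_iff, Set.mem_singleton_iff, not_or] at hd
      exact hall ⟨d, hd⟩
    have := Set.ncard_le_ncard hsub
    rw [Set.ncard_univ, Set.ncard_pair hba.symm] at this
    omega
  let z₀ : ofFixingSubgroup G ({a, b} : Set α) := ⟨c, by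
    rw [mem_ofFixingSubgroup_iff]; simp [hca, hcb]⟩
  have hle := card_le_two_of_commuting_involution (H := fixingSubgroup G ({a, b} : Set α))
    (β := ofFixingSubgroup G ({a, b} : Set α)) (f := f)
    (fun z => Subtype.ext (by
      rw [hf (f z) (x * w z) (N.mul_mem hx (hwN z)) rfl, ← mul_assoc, hxx, one_mul, hw z]))
    (fun g z => Subtype.ext (by
      have hga : (g : G) • a = a := (mem_fixingSubgroup_iff G).1 g.2 a (Set.mem_insert a _)
      have hgb : (g : G) • b = b :=
        (mem_fixingSubgroup_iff G).1 g.2 b (Set.mem_insert_of_mem _ rfl)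
      have hgx : (g : G) * x = x * g :=
        (commute_iff_fixes hs hga hx).2 (by rw [hxb, hgb])
      rw [hf (g • z) ((g : G) * w z * (g : G)⁻¹) (hN.conj_mem _ (hwN z) g)
        (by rw [conj_smul_eq hga, hw]; rfl)]
      change (x * ((g : G) * w z * (g : G)⁻¹)) • a = (g : G) • (x * w z) • a
      rw [← conj_smul_eq hga, ← mul_assoc x, ← mul_assoc x, ← hgx, mul_assoc (g : G) x]))
    (z₀ := z₀) (fun e => hx1 (mul_eq_right.1
      (eq_of_smul_eq hs (N.mul_mem hx (hwN z₀)) (hwN z₀)
        ((congrArg Subtype.val e).trans (hw z₀).symm))))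
  have hcard : Nat.card (ofFixingSubgroup G ({a, b} : Set α)) + 2 = Nat.card α := by
    have h1 := Set.ncard_add_ncard_compl ({a, b} : Set α)
    rw [Set.ncard_pair hba.symm, ← Nat.card_coe_set_eq] at h1
    have : Nat.card (ofFixingSubgroup G ({a, b} : Set α)) = Nat.card ↥(({a, b} : Set α)ᶜ) := rfl
    omega
  omega

end Cfsg.Agent.Perm
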