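import Cfsg.Agent.Lib.Perm.Jordan
import Cfsg.Agent.Lib.Perm.NormalMultTrans
import Cfsg.Agent.S3707

/-!
# Primitive groups with a small Jordan set

A primitive group of degree `n` with a Jordan set `X`, `1 < |X| < n / 2`, contains the alternating
group (Marggraf). The critical case is `n = 2|X| + 1`: if the group is `(t+2)`-transitive but the
stabiliser of `t + 1` points is imprimitive on the rest, the points fixed by stabilisers of `t + 2`
points define pairings of `X` by permutations commuting with the Jordan group; counting these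
pairings gives `|X ∩ Y| ≤ k / 2` for all translates `Y`, the imprimitivity gives the opposite
inequality, and the two contradict the design equations.
-/

namespace Cfsg.Agent.Perm.SmallJordan

open MulAction
open scoped Pointwise

universe u

variable {α : Type u} [Fintype α] [DecidableEq α]

/-- The group of elements of `G` supported on `X` is transitive on `X`. -/
def IsJordan (G : Subgroup (Equiv.Perm α)) (X : Finset α) : Prop :=
  ∀ x ∈ X, ∀ y ∈ X, ∃ g : G, (∀ z, z ∉ X → g • z = z) ∧ g • x = y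

/-- `Y` is a translate of `X`. -/
def IsTranslate (G : Subgroup (Equiv.Perm α)) (X Y : Finset α) : Prop :=
  ∃ g : G, X.image (g • ·) = Y

/-- Translates of `X` avoiding `A`. -/
noncomputable def avoid (G : Subgroup (Equiv.Perm α)) (X A : Finset α) : Finset (Finset α) :=
  haveI : DecidablePred fun Y : Finset α => IsTranslate G X Y ∧ Disjoint A Y :=
    Classical.decPred _
  Finset.univ.filter fun Y => IsTranslate G X Y ∧ Disjoint A Y

variable {G : Subgroup (Equiv.Perm α)} {X : Finset α}

theorem mem_avoid {A Y : Finset α} : Y ∈ avoid G X A ↔ IsTranslate G X Y ∧ Disjoint A Y := by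
  simp [avoid]

theorem self_mem_avoid {A : Finset α} (h : Disjoint A X) : X ∈ avoid G X A :=
  mem_avoid.2 ⟨⟨1, by simp⟩, h⟩

theorem IsTranslate.card_eq {Y : Finset α} (h : IsTranslate G X Y) : Y.card = X.card := by
  obtain ⟨g, rfl⟩ := h
  exact Finset.card_image_of_injective _ (MulAction.injective g)

theorem IsTranslate.jordan {Y : Finset α} (hJ : IsJordan G X) (h : IsTranslate G X Y) :
    IsJordan G Y := by
  obtain ⟨g, rfl⟩ := h
  intro x hx y hy
  obtain ⟨x', hx', rfl⟩ := Finset.mem_image.1 hx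
  obtain ⟨y', hy', rfl⟩ := Finset.mem_image.1 hy
  obtain ⟨j, hj, hjxy⟩ := hJ x' hx' y' hy'
  refine ⟨g * j * g⁻¹, fun z hz => ?_, by rw [mul_smul, mul_smul, inv_smul_smul, hjxy]⟩
  have : g⁻¹ • z ∉ X := fun h => hz (Finset.mem_image.2 ⟨_, h, smul_inv_smul g z⟩)
  rw [mul_smul, mul_smul, hj _ this, smul_inv_smul]

theorem image_mem_avoid {A Y : Finset α} (g : G) (hY : Y ∈ avoid G X A) :
    Y.image (g • ·) ∈ avoid G X (A.image (g • ·)) := by
  obtain ⟨⟨h, rfl⟩, hd⟩ := mem_avoid.1 hY
  refine mem_avoid.2 ⟨⟨g * h, ?_⟩, (Finset.disjoint_image (MulAction.injective g)).2 hd⟩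
  rw [Finset.image_image]
  exact Finset.image_congr fun z _ => mul_smul g h z

/-- High transitivity moves a set with two distinguished outside points. -/
theorem exists_move {s t : ℕ} (hG : IsMultiplyPretransitive G α (t + 2)) (hst : s ≤ t)
    (htn : t + 2 ≤ Fintype.card α) {A A' : Finset α} (hA : A.card = s) (hA' : A'.card = s)
    {a x a' x' : α} (ha : a ∉ A) (hx : x ∉ A) (hax : a ≠ x) (ha' : a' ∉ A') (hx' : x' ∉ A')
    (hax' : a' ≠ x') : ∃ g : G, A.image (g • ·) = A' ∧ g • a = a' ∧ g • x = x' := by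
  haveI := hG
  have h : IsMultiplyPretransitive G α (s + 2) :=
    isMultiplyPretransitive_of_le (n := t + 2) (by omega)
      (by rw [Nat.card_eq_fintype_card]; omega)
  have inj : ∀ (B : Finset α) (hB : B.card = s) (b y : α), b ∉ B → y ∉ B → b ≠ y →
      Function.Injective (Fin.snoc (Fin.snoc (fun i => ((B.equivFinOfCardEq hB).symm i : α)) b) y :
        Fin (s + 2) → α) := by
    intro B hB b y hb hy hby
    rw [Fin.snoc_injective_iff, Fin.snoc_injective_iff]
    refine ⟨⟨Subtype.coe_injective.comp (Equiv.injective _), ?_⟩, ?_⟩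
    · rintro ⟨i, hi⟩
      exact hb (hi ▸ ((B.equivFinOfCardEq hB).symm i).2)
    · rintro ⟨i, hi⟩
      induction i using Fin.lastCases with
      | last => rw [Fin.snoc_last] at hi; exact hby hi
      | cast i =>
        rw [Fin.snoc_castSucc] at hi
        exact hy (hi ▸ ((B.equivFinOfCardEq hB).symm i).2)
  obtain ⟨g, hg⟩ := exists_smul_eq_of_injective h (inj A hA a x ha hx hax)
    (inj A' hA' a' x' ha' hx' hax')
  refine ⟨g, ?_, by simpa using hg (Fin.castSucc (Fin.last s)), by simpa using hg (Fin.last _)⟩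
  refine Finset.eq_of_subset_of_card_le (Finset.image_subset_iff.2 fun z hz => ?_)
    (by rw [Finset.card_image_of_injective _ (MulAction.injective g), hA, hA'])
  obtain ⟨i, hi⟩ := (A.equivFinOfCardEq hA).symm.surjective ⟨z, hz⟩
  have hgi := hg (Fin.castSucc (Fin.castSucc i))
  simp only [Fin.snoc_castSucc, hi] at hgi
  rw [hgi]
  exact Subtype.mem _

/-- `e` is fixed by every element fixing `B` pointwise. -/
def FixedBy' (G : Subgroup (Equiv.Perm α)) (B : Finset α) (e : α) : Prop :=
  ∀ g : G, (∀ b ∈ B, g • b = b) → g • e = e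

theorem FixedBy'.image {B : Finset α} {e : α} (h : FixedBy' G B e) (g : G) :
    FixedBy' G (B.image (g • ·)) (g • e) := by
  intro u hu
  have := h (g⁻¹ * u * g) fun b hb => by
    rw [mul_smul, mul_smul, hu _ (Finset.mem_image_of_mem _ hb), inv_smul_smul]
  rwa [mul_smul, mul_smul, inv_smul_eq_iff] at this

theorem card_fixing_image (B : Finset α) (g : G) :
    Nat.card (fixingSubgroup G (B : Set α)) =
      Nat.card (fixingSubgroup G ((B.image (g • ·) : Finset α) : Set α)) := by
  refine Nat.card_congr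
    { toFun := fun u => ⟨g * u.1 * g⁻¹, (mem_fixingSubgroup_iff G).2 fun y hy => ?_⟩
      invFun := fun u => ⟨g⁻¹ * u.1 * g, (mem_fixingSubgroup_iff G).2 fun y hy => ?_⟩
      left_inv := fun u => Subtype.ext (by simp [mul_assoc])
      right_inv := fun u => Subtype.ext (by simp [mul_assoc]) }
  · obtain ⟨b, hb, rfl⟩ := Finset.mem_image.1 hy
    rw [mul_smul, mul_smul, inv_smul_smul, (mem_fixingSubgroup_iff G).1 u.2 b hb]
  · rw [mul_smul, mul_smul, (mem_fixingSubgroup_iff G).1 u.2 _ (Finset.mem_image_of_mem _ hy),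
      inv_smul_smul]

/-- Exchange property of stabilisers of `t + 2` points. -/
theorem FixedBy'.exchange {s t : ℕ} (hG : IsMultiplyPretransitive G α (t + 2)) (hst : s ≤ t)
    (htn : t + 2 ≤ Fintype.card α) {A : Finset α} (hA : A.card = s) {a x e : α}
    (ha : a ∉ A) (hx : x ∉ A) (he : e ∉ A) (hax : a ≠ x) (hae : a ≠ e)
    (h : FixedBy' G (insert a (insert x A)) e) : FixedBy' G (insert a (insert e A)) x := by
  obtain ⟨g, hgA, hga, hgx⟩ := exists_move hG hst htn hA hA ha hx hax ha he hae
  have hle : fixingSubgroup G ((insert a (insert x A) : Finset α) : Set α) ≤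
      fixingSubgroup G ((insert a (insert e A) : Finset α) : Set α) := by
    intro u hu
    rw [mem_fixingSubgroup_iff] at hu ⊢
    intro y hy
    simp only [Finset.coe_insert, Set.mem_insert_iff, Finset.mem_coe] at hy hu
    rcases hy with rfl | rfl | hy
    · exact hu _ (Or.inl rfl)
    · exact h u fun b hb => hu b (by simpa [Finset.mem_insert] using hb)
    · exact hu _ (Or.inr (Or.inr hy))
  have hc := card_fixing_image (insert a (insert x A)) g
  rw [Finset.image_insert, Finset.image_insert, hgA, hga, hgx] at hc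
  have heq := Subgroup.eq_of_le_of_card_ge hle hc.ge
  intro u hu
  have hu' : u ∈ fixingSubgroup G ((insert a (insert e A) : Finset α) : Set α) :=
    (mem_fixingSubgroup_iff G).2 hu
  rw [← heq, mem_fixingSubgroup_iff] at hu'
  exact hu' x (by simp)

/-- No translate avoiding `A` meets `{a, x, c}` in exactly one point. -/
def NoSingle (G : Subgroup (Equiv.Perm α)) (X A : Finset α) (a x c : α) : Prop :=
  ∀ Y ∈ avoid G X A, (x ∈ Y → a ∈ Y ∨ c ∈ Y) ∧ (c ∈ Y → a ∈ Y ∨ x ∈ Y) ∧
    (a ∈ Y → x ∈ Y ∨ c ∈ Y)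

theorem NoSingle.image {A : Finset α} {a x c : α} (h : NoSingle G X A a x c) (g : G) :
    NoSingle G X (A.image (g • ·)) (g • a) (g • x) (g • c) := by
  intro Y hY
  have h' := h (Y.image (g⁻¹ • ·)) (by
    have := image_mem_avoid g⁻¹ hY
    rwa [Finset.image_image, show ((g⁻¹ • ·) ∘ (g • ·) : α → α) = id from
      funext fun z => inv_smul_smul g z, Finset.image_id] at this)
  have e : ∀ z, z ∈ Y.image (g⁻¹ • ·) ↔ g • z ∈ Y := fun z => by
    rw [Finset.mem_image]
    exact ⟨fun ⟨w, hw, hwz⟩ => by rw [← hwz, smul_inv_smul]; exact hw,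
      fun hz => ⟨_, hz, inv_smul_smul g z⟩⟩
  simpa only [e] using h'

section Step

variable {k t : ℕ}

/-- The number of translates containing `p` and not `q` does not depend on the pair. -/
theorem card_split_eq {s : ℕ} (hG : IsMultiplyPretransitive G α (t + 2)) (hst : s ≤ t)
    (htn : t + 2 ≤ Fintype.card α) {A : Finset α} (hA : A.card = s) {p q p' q' : α}
    (hp : p ∉ A) (hq : q ∉ A) (hpq : p ≠ q) (hp' : p' ∉ A) (hq' : q' ∉ A) (hpq' : p' ≠ q') :
    ((avoid G X A).filter fun Y => p ∈ Y ∧ q ∉ Y).card =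
      ((avoid G X A).filter fun Y => p' ∈ Y ∧ q' ∉ Y).card := by
  have key : ∀ {p q p' q' : α}, p ∉ A → q ∉ A → p ≠ q → p' ∉ A → q' ∉ A → p' ≠ q' →
      ((avoid G X A).filter fun Y => p ∈ Y ∧ q ∉ Y).card ≤
        ((avoid G X A).filter fun Y => p' ∈ Y ∧ q' ∉ Y).card := by
    intro p q p' q' hp hq hpq hp' hq' hpq'
    obtain ⟨g, hgA, hgp, hgq⟩ := exists_move hG hst htn hA hA hp hq hpq hp' hq' hpq'
    refine Finset.card_le_card_of_injOn (fun Y => Y.image (g • ·)) (fun Y hY => ?_)
      fun Y _ Z _ h => Finset.image_injective (MulAction.injective g) h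
    obtain ⟨hY, hpY, hqY⟩ := Finset.mem_filter.1 hY
    refine Finset.mem_filter.2 ⟨hgA ▸ image_mem_avoid g hY, hgp ▸ Finset.mem_image_of_mem _ hpY,
      fun h => ?_⟩
    obtain ⟨w, hw, hwq⟩ := Finset.mem_image.1 h
    exact hqY ((smul_left_cancel g (hwq.trans hgq.symm) : w = q) ▸ hw)
  exact le_antisymm (key hp hq hpq hp' hq' hpq') (key hp' hq' hpq' hp hq hpq)

/-- An imprimitive stabiliser of `t + 1` points produces a triple met by no translate in exactly
one point. -/
theorem exists_noSingle (hn : Fintype.card α = 2 * k + 1) (hXc : X.card = k) (hk : 2 * t + 2 ≤ k)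
    (ht : 2 ≤ t) (hG : IsMultiplyPretransitive G α (t + 2)) (hJ : IsJordan G X) {A : Finset α}
    (hA : A.card = t) {a : α} (ha : a ∉ A)
    (himp : ¬ IsPreprimitive (fixingSubgroup G ((insert a A : Finset α) : Set α))
      (SubMulAction.ofFixingSubgroup G ((insert a A : Finset α) : Set α))) :
    ∃ x c, x ∉ A ∧ c ∉ A ∧ a ≠ x ∧ a ≠ c ∧ x ≠ c ∧ NoSingle G X A a x c := by
  classical
  set s : Set α := ((insert a A : Finset α) : Set α)
  set H := fixingSubgroup G s
  set O := SubMulAction.ofFixingSubgroup G s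
  have htn : t + 2 ≤ Fintype.card α := by omega
  have hOmem : ∀ z, z ∈ O ↔ z ≠ a ∧ z ∉ A := fun z => by
    rw [SubMulAction.mem_ofFixingSubgroup_iff]; simp [s]
  have hOt : IsPretransitive H O := ⟨fun u v => by
    obtain ⟨hua, huA⟩ := (hOmem u).1 u.2
    obtain ⟨hva, hvA⟩ := (hOmem v).1 v.2
    by_cases huv : (u : α) = v
    · exact ⟨1, by rw [one_smul]; exact Subtype.ext huv⟩
    -- fix `A` and `a` pointwise
    haveI := hG
    have h : IsMultiplyPretransitive G α (t + 2) := hG
    let e := (A.equivFinOfCardEq hA).symm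
    have inj : ∀ y, y ∉ A → y ≠ a →
        Function.Injective (Fin.snoc (Fin.snoc (fun i => (e i : α)) a) y : Fin (t + 2) → α) := by
      intro y hy hya
      rw [Fin.snoc_injective_iff, Fin.snoc_injective_iff]
      refine ⟨⟨Subtype.coe_injective.comp e.injective, ?_⟩, ?_⟩
      · rintro ⟨i, hi⟩; exact ha (hi ▸ (e i).2)
      · rintro ⟨i, hi⟩
        induction i using Fin.lastCases with
        | last => rw [Fin.snoc_last] at hi; exact hya hi.symm
        | cast i => rw [Fin.snoc_castSucc] at hi; exact hy (hi ▸ (e i).2)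
    obtain ⟨g, hg⟩ := exists_smul_eq_of_injective h (inj u huA hua) (inj v hvA hva)
    refine ⟨⟨g, (mem_fixingSubgroup_iff G).2 fun y hy => ?_⟩, Subtype.ext ?_⟩
    · simp only [s, Finset.coe_insert, Set.mem_insert_iff, Finset.mem_coe] at hy
      rcases hy with rfl | hy
      · simpa using hg (Fin.castSucc (Fin.last t))
      · obtain ⟨i, hi⟩ := e.surjective ⟨y, hy⟩
        simpa [hi] using hg (Fin.castSucc (Fin.castSucc i))
    · simpa using hg (Fin.last _)⟩
  obtain ⟨B, hB, hB1, hB2⟩ : ∃ B : Set O, IsBlock H B ∧ B.Nontrivial ∧ B ≠ Set.univ := by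
    by_contra hno
    refine himp ⟨fun {B} hB => ?_⟩
    by_cases hs : B.Subsingleton
    · exact Or.inl hs
    · exact Or.inr (by_contra fun hu => hno ⟨B, hB, Set.not_subsingleton_iff.1 hs, hu⟩)
  obtain ⟨⟨x, hxO⟩, hx, ⟨c, hcO⟩, hc, hxc⟩ := hB1
  obtain ⟨z, hz⟩ := (Set.ne_univ_iff_exists_notMem B).1 hB2
  have hxne := (hOmem x).1 hxO
  have hcne := (hOmem c).1 hcO
  have hxc' : x ≠ c := fun h => hxc (Subtype.ext h)
  -- the block has fewer than `k` points
  have hBk : B.ncard < k := by
    obtain ⟨g, hg⟩ := hOt.exists_smul_eq ⟨x, hxO⟩ z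
    have hd : Disjoint (g • B) B := (hB.smul_eq_or_disjoint g).resolve_left fun h => hz (by
      rw [← h, ← hg]; exact Set.smul_mem_smul_set hx)
    have h1 := Set.ncard_union_eq hd (Set.toFinite _) (Set.toFinite _)
    rw [Set.ncard_smul_set] at h1
    have h2 := Set.ncard_le_card (g • B ∪ B)
    have h3 : Nat.card O = Fintype.card α - (t + 1) := by
      rw [show Nat.card O = Nat.card {y : α // y ∉ insert a A} from
        Nat.card_congr (Equiv.subtypeEquivRight fun y => by
          rw [hOmem, Finset.mem_insert, not_or]), Nat.card_eq_fintype_card,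
        Fintype.card_subtype_compl, Fintype.card_coe, Finset.card_insert_of_notMem ha, hA]
    omega
  -- translates avoiding `A` and `a` meet the block trivially
  have hcl : ∀ Y ∈ avoid G X A, a ∉ Y → ∀ p q : O, p ∈ B → q ∈ B → (p : α) ∈ Y → (q : α) ∈ Y := by
    intro Y hY haY p q hp hq hpY
    by_contra hqY
    obtain ⟨hYt, hYd⟩ := mem_avoid.1 hY
    have hYO : ∀ y ∈ Y, y ∈ O := fun y hy =>
      (hOmem y).2 ⟨fun h => haY (h ▸ hy), fun h => Finset.disjoint_left.1 hYd h hy⟩
    have hsub : ∀ v, ∀ hv : v ∈ Y, (⟨v, hYO v hv⟩ : O) ∈ B := by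
      intro v hv
      obtain ⟨g, hg, hgp⟩ := hYt.jordan hJ p hpY v hv
      let g' : H := ⟨g, (mem_fixingSubgroup_iff G).2 fun y hy => hg y fun h =>
        (SubMulAction.mem_ofFixingSubgroup_iff G).1 (hYO y h) hy⟩
      have hgB : g' • B = B := hB.smul_eq_of_mem hq (by
        rw [show g' • q = q from Subtype.ext (hg q hqY)]; exact hq)
      have hm : g' • p ∈ B := hgB ▸ Set.smul_mem_smul_set hp
      rwa [show g' • p = (⟨v, hYO v hv⟩ : O) from Subtype.ext hgp] at hm
    have h1 : Y.card ≤ B.ncard := by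
      rw [← Set.ncard_coe_finset, ← Set.ncard_image_of_injective B Subtype.val_injective]
      exact Set.ncard_le_ncard (fun v hv => ⟨⟨v, hYO v hv⟩, hsub v hv, rfl⟩) (Set.toFinite _)
    rw [hYt.card_eq, hXc] at h1
    omega
  refine ⟨x, c, hxne.2, hcne.2, hxne.1.symm, hcne.1.symm, hxc', fun Y hY => ?_⟩
  have hxY : ∀ Y ∈ avoid G X A, x ∈ Y → a ∈ Y ∨ c ∈ Y := fun Y hY h => by
    by_cases haY : a ∈ Y
    · exact Or.inl haY
    · exact Or.inr (hcl Y hY haY _ _ hx hc h)
  have hcY : ∀ Y ∈ avoid G X A, c ∈ Y → a ∈ Y ∨ x ∈ Y := fun Y hY h => by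
    by_cases haY : a ∈ Y
    · exact Or.inl haY
    · exact Or.inr (hcl Y hY haY _ _ hc hx h)
  refine ⟨hxY Y hY, hcY Y hY, fun haY => ?_⟩
  by_cases hxY' : x ∈ Y
  · exact Or.inl hxY'
  right
  have hsub : ((avoid G X A).filter fun Z => c ∈ Z ∧ x ∉ Z) ⊆
      (avoid G X A).filter fun Z => a ∈ Z ∧ x ∉ Z := by
    intro Z hZ
    obtain ⟨hZ, hcZ, hxZ⟩ := Finset.mem_filter.1 hZ
    exact Finset.mem_filter.2 ⟨hZ, (hcY Z hZ hcZ).resolve_right hxZ, hxZ⟩
  have heq := Finset.eq_of_subset_of_card_le hsub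
    (card_split_eq hG le_rfl htn hA ha hxne.2 hxne.1.symm hcne.2 hxne.2 hxc'.symm).le
  exact (Finset.mem_filter.1 (heq ▸ Finset.mem_filter.2 ⟨hY, haY, hxY'⟩ :
    Y ∈ (avoid G X A).filter fun Z => c ∈ Z ∧ x ∉ Z)).2.1

/-- Every `t`-set and two further points have a third one forming such a triple. -/
def HasTriples (G : Subgroup (Equiv.Perm α)) (X : Finset α) (t : ℕ) : Prop :=
  ∀ A : Finset α, A.card = t → ∀ a x, a ∉ A → x ∉ A → a ≠ x →
    ∃ c, c ∉ A ∧ a ≠ c ∧ x ≠ c ∧ NoSingle G X A a x c

variable (hn : Fintype.card α = 2 * k + 1) (hXc : X.card = k) (hk : 2 * t + 2 ≤ k) (ht : 2 ≤ t)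
  (hG : IsMultiplyPretransitive G α (t + 2)) (hJ : IsJordan G X) (hT : HasTriples G X t)

/-- A point fixed by the stabiliser of `t` points outside `X`, `a ∉ X` and `x ∈ X` lies in `X`. -/
theorem fixed_mem (hn : Fintype.card α = 2 * k + 1) (hXc : X.card = k) (hk : 2 * t + 2 ≤ k)
    (hG : IsMultiplyPretransitive G α (t + 2)) (hJ : IsJordan G X) {A : Finset α} (hA : A.card = t)
    (hAX : Disjoint A X) {a x e : α} (ha : a ∉ A) (haX : a ∉ X) (hxX : x ∈ X) (heA : e ∉ A)
    (hea : e ≠ a) (h : FixedBy' G (insert a (insert x A)) e) : e ∈ X := by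
  by_contra heX
  have hxA : x ∉ A := fun h => Finset.disjoint_left.1 hAX h hxX
  have h' := h.exchange hG le_rfl (by omega) hA ha hxA heA (fun e => haX (e ▸ hxX)) hea.symm
  obtain ⟨y, hy, hyx⟩ := Finset.exists_mem_ne (show 1 < X.card by omega) x
  obtain ⟨j, hj, hjx⟩ := hJ x hxX y hy
  refine hyx (hjx.symm.trans (h' j fun b hb => hj b ?_))
  simp only [Finset.mem_insert] at hb
  rcases hb with rfl | rfl | hb
  · exact haX
  · exact heX
  · exact Finset.disjoint_left.1 hAX hb

include hn hXc hk ht hG hJ hT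

/-- For `t` points and `a` outside `X` and `x ∈ X` there is exactly one further fixed point, it
lies in `X` and completes a triple. -/
theorem exists_unique_partner {A : Finset α} (hA : A.card = t) (hAX : Disjoint A X) {a x : α}
    (ha : a ∉ A) (haX : a ∉ X) (hxX : x ∈ X) :
    ∃ c, c ∈ X ∧ c ≠ x ∧ NoSingle G X A a x c ∧ FixedBy' G (insert a (insert x A)) c ∧
      ∀ e, e ∉ insert a (insert x A) → FixedBy' G (insert a (insert x A)) e → e = c := by
  classical
  have htn : t + 2 ≤ Fintype.card α := by omega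
  have hXA : ∀ y ∈ X, y ∉ A := fun y hy h => Finset.disjoint_left.1 hAX h hy
  have hne : ∀ b, b ∉ X → b ≠ x := fun b hb e => hb (e ▸ hxX)
  let S : Finset α := Finset.univ.filter fun b => b ∉ A ∧ b ∉ X
  have hS : S.card + t + k = 2 * k + 1 := by
    have h1 : S = (A ∪ X)ᶜ := by ext b; simp [S]
    rw [h1, Finset.card_compl, Finset.card_union_of_disjoint hAX, hA, hXc, hn]
    omega
  -- candidates for each outside point
  let C : α → Finset α := fun b => Finset.univ.filter fun c =>
    c ∉ A ∧ b ≠ c ∧ x ≠ c ∧ NoSingle G X A b x c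
  have hCmem : ∀ b c, c ∈ C b ↔ c ∉ A ∧ b ≠ c ∧ x ≠ c ∧ NoSingle G X A b x c := by simp [C]
  have hCX : ∀ b ∈ S, C b ⊆ X.erase x := by
    intro b hb c hc
    obtain ⟨hbA, hbX⟩ := (Finset.mem_filter.1 hb).2
    obtain ⟨-, -, hxc, hns⟩ := (hCmem b c).1 hc
    exact Finset.mem_erase.2 ⟨hxc.symm, ((hns X (self_mem_avoid hAX)).1 hxX).resolve_left hbX⟩
  have hCd : ∀ b ∈ S, ∀ b' ∈ S, b ≠ b' → Disjoint (C b) (C b') := by
    intro b hb b' hb' hbb
    rw [Finset.disjoint_left]
    intro c hc hc'
    obtain ⟨hbA, hbX⟩ := (Finset.mem_filter.1 hb).2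
    obtain ⟨hbA', hbX'⟩ := (Finset.mem_filter.1 hb').2
    obtain ⟨-, -, -, h⟩ := (hCmem b c).1 hc
    obtain ⟨-, -, -, h'⟩ := (hCmem b' c).1 hc'
    have hsub : ((avoid G X A).filter fun Y => b' ∈ Y ∧ b ∉ Y) ⊆
        (avoid G X A).filter fun Y => x ∈ Y ∧ b ∉ Y := by
      intro Y hY
      obtain ⟨hY, hb'Y, hbY⟩ := Finset.mem_filter.1 hY
      refine Finset.mem_filter.2 ⟨hY, ?_, hbY⟩
      rcases (h' Y hY).2.2 hb'Y with h1 | h1
      · exact h1
      · exact ((h Y hY).2.1 h1).resolve_left hbY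
    have heq := Finset.eq_of_subset_of_card_le hsub
      (card_split_eq hG le_rfl htn hA (hXA x hxX) hbA (hne b hbX).symm hbA' hbA hbb.symm).le
    have hX : X ∈ (avoid G X A).filter fun Y => x ∈ Y ∧ b ∉ Y :=
      Finset.mem_filter.2 ⟨self_mem_avoid hAX, hxX, hbX⟩
    rw [← heq] at hX
    exact hbX' (Finset.mem_filter.1 hX).2.1
  have hCle : ∀ b ∈ S, ∀ b' ∈ S, (C b).card ≤ (C b').card := by
    intro b hb b' hb'
    obtain ⟨hbA, hbX⟩ := (Finset.mem_filter.1 hb).2
    obtain ⟨hbA', hbX'⟩ := (Finset.mem_filter.1 hb').2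
    obtain ⟨g, hgA, hgb, hgx⟩ := exists_move hG le_rfl htn hA hA hbA (hXA x hxX) (hne b hbX)
      hbA' (hXA x hxX) (hne b' hbX')
    refine Finset.card_le_card_of_injOn (g • ·) (fun c hc => ?_)
      fun u _ v _ h => smul_left_cancel g h
    obtain ⟨hcA, hbc, hxc, hns⟩ := (hCmem b c).1 hc
    refine (hCmem b' _).2 ⟨fun h => hcA ?_, fun h => hbc ?_, fun h => hxc ?_, ?_⟩
    · rw [← hgA] at h
      obtain ⟨w, hw, hwc⟩ := Finset.mem_image.1 h
      exact (smul_left_cancel g hwc : w = c) ▸ hw
    · exact smul_left_cancel g (hgb.trans h)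
    · exact smul_left_cancel g (hgx.trans h)
    · have := hns.image g
      rwa [hgA, hgb, hgx] at this
  have haS : a ∈ S := Finset.mem_filter.2 ⟨Finset.mem_univ _, ha, haX⟩
  have hC1 : (C a).card = 1 := by
    obtain ⟨c, hc⟩ := hT A hA a x ha (hXA x hxX) (hne a haX)
    have hpos : 0 < (C a).card := Finset.card_pos.2 ⟨c, (hCmem a c).2 hc⟩
    have h1 : (S.biUnion C).card = S.card * (C a).card := by
      rw [Finset.card_biUnion hCd,
        Finset.sum_const_nat fun b hb => le_antisymm (hCle b hb a haS) (hCle a haS b hb)]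
    have h2 : (S.biUnion C).card ≤ k - 1 := by
      rw [← hXc, ← Finset.card_erase_of_mem hxX]
      exact Finset.card_le_card (Finset.biUnion_subset.2 hCX)
    by_contra h
    have : S.card * 2 ≤ S.card * (C a).card := Nat.mul_le_mul_left _ (by omega)
    omega
  obtain ⟨c, hc⟩ := Finset.card_eq_one.1 hC1
  have hcC : c ∈ C a := hc ▸ Finset.mem_singleton_self c
  obtain ⟨hcA, hac, hxc, hns⟩ := (hCmem a c).1 hcC
  have hfix : FixedBy' G (insert a (insert x A)) c := by
    intro g hg
    have hgA : A.image (g • ·) = A := by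
      rw [Finset.image_congr (f := (g • ·)) (g := id) fun z hz => hg z (by simp [Finset.mem_coe.1 hz]), Finset.image_id]
    have hga : g • a = a := hg a (by simp)
    have hgx : g • x = x := hg x (by simp)
    have hm : g • c ∈ C a := (hCmem a _).2 ⟨fun h => hcA (by
        rw [← hgA] at h
        obtain ⟨w, hw, hwc⟩ := Finset.mem_image.1 h
        exact (smul_left_cancel g hwc : w = c) ▸ hw),
      fun h => hac (smul_left_cancel g (hga.trans h)),
      fun h => hxc (smul_left_cancel g (hgx.trans h)), by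
        have := hns.image g
        rwa [hgA, hga, hgx] at this⟩
    rwa [hc, Finset.mem_singleton] at hm
  -- at most one fixed point
  let P : α → Finset α := fun b => Finset.univ.filter fun e =>
    e ∉ insert b (insert x A) ∧ FixedBy' G (insert b (insert x A)) e
  have hPX : ∀ b ∈ S, P b ⊆ X.erase x := by
    intro b hb e he
    obtain ⟨hbA, hbX⟩ := (Finset.mem_filter.1 hb).2
    obtain ⟨he1, he2⟩ := (Finset.mem_filter.1 he).2
    simp only [Finset.mem_insert, not_or] at he1
    exact Finset.mem_erase.2 ⟨he1.2.1, fixed_mem hn hXc hk hG hJ hA hAX hbA hbX hxX he1.2.2 he1.1 he2⟩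
  have hPd : ∀ b ∈ S, ∀ b' ∈ S, b ≠ b' → Disjoint (P b) (P b') := by
    intro b hb b' hb' hbb
    rw [Finset.disjoint_left]
    intro e he he'
    obtain ⟨hbA, hbX⟩ := (Finset.mem_filter.1 hb).2
    obtain ⟨hbA', hbX'⟩ := (Finset.mem_filter.1 hb').2
    have heX := Finset.mem_of_mem_erase (hPX b hb he)
    obtain ⟨he1, he2⟩ := (Finset.mem_filter.1 he).2
    obtain ⟨he1', he2'⟩ := (Finset.mem_filter.1 he').2
    simp only [Finset.mem_insert, not_or] at he1 he1'
    -- the stabiliser of `x, e` fixes `b` and is fixed by that of `b', x`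
    rw [Finset.insert_comm] at he2
    have h1 := he2.exchange hG le_rfl htn hA (hXA x hxX) hbA he1.2.2 (hne b hbX).symm
      (Ne.symm he1.2.1)
    have h2 : FixedBy' G (insert b' (insert x A)) b := by
      intro g hg
      refine h1 g fun z hz => ?_
      simp only [Finset.mem_insert] at hz
      rcases hz with rfl | rfl | hz
      · exact hg _ (by simp)
      · exact he2' g hg
      · exact hg _ (by simp [hz])
    exact hbX (fixed_mem hn hXc hk hG hJ hA hAX hbA' hbX' hxX hbA hbb h2)
  have hPle : ∀ b ∈ S, ∀ b' ∈ S, (P b).card ≤ (P b').card := by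
    intro b hb b' hb'
    obtain ⟨hbA, hbX⟩ := (Finset.mem_filter.1 hb).2
    obtain ⟨hbA', hbX'⟩ := (Finset.mem_filter.1 hb').2
    obtain ⟨g, hgA, hgb, hgx⟩ := exists_move hG le_rfl htn hA hA hbA (hXA x hxX) (hne b hbX)
      hbA' (hXA x hxX) (hne b' hbX')
    refine Finset.card_le_card_of_injOn (g • ·) (fun e he => ?_)
      fun u _ v _ h => smul_left_cancel g h
    obtain ⟨he1, he2⟩ := (Finset.mem_filter.1 he).2
    have := he2.image g
    rw [Finset.image_insert, Finset.image_insert, hgA, hgb, hgx] at this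
    refine Finset.mem_filter.2 ⟨Finset.mem_univ _, fun h => he1 ?_, this⟩
    rw [← hgb, ← hgx, ← hgA, ← Finset.image_insert, ← Finset.image_insert] at h
    obtain ⟨w, hw, hwe⟩ := Finset.mem_image.1 h
    exact (smul_left_cancel g hwe : w = e) ▸ hw
  have hcP : c ∈ P a :=
    Finset.mem_filter.2 ⟨Finset.mem_univ _, by simp [hcA, hac.symm, hxc.symm], hfix⟩
  have hP1 : (P a).card ≤ 1 := by
    have h1 : (S.biUnion P).card = S.card * (P a).card := by
      rw [Finset.card_biUnion hPd,
        Finset.sum_const_nat fun b hb => le_antisymm (hPle b hb a haS) (hPle a haS b hb)]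
    have h2 : (S.biUnion P).card ≤ k - 1 := by
      rw [← hXc, ← Finset.card_erase_of_mem hxX]
      exact Finset.card_le_card (Finset.biUnion_subset.2 hPX)
    by_contra h
    have : S.card * 2 ≤ S.card * (P a).card := Nat.mul_le_mul_left _ (by omega)
    omega
  exact ⟨c, Finset.mem_of_mem_erase (hCX a haS hcC), hxc.symm, hns, hfix, fun e he1 he2 =>
    Finset.card_le_one.1 hP1 e (Finset.mem_filter.2 ⟨Finset.mem_univ _, he1, he2⟩) c hcP⟩

/-- The pairing defined by `t + 1` points outside `X`. -/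
theorem exists_partner {B : Finset α} (hB : B.card = t + 1) (hBX : Disjoint B X) {x : α}
    (hxX : x ∈ X) :
    ∃ c, c ∈ X ∧ c ≠ x ∧ (∀ a ∈ B, NoSingle G X (B.erase a) a x c) ∧
      FixedBy' G (insert x B) c ∧ ∀ e, e ∉ insert x B → FixedBy' G (insert x B) e → e = c := by
  classical
  have hAX : ∀ a ∈ B, Disjoint (B.erase a) X := fun a _ =>
    hBX.mono_left (Finset.erase_subset _ _)
  have hAc : ∀ a ∈ B, (B.erase a).card = t := fun a ha => by
    rw [Finset.card_erase_of_mem ha, hB]; omega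
  have hins : ∀ a ∈ B, insert a (insert x (B.erase a)) = insert x B := fun a ha => by
    rw [Finset.insert_comm, Finset.insert_erase ha]
  obtain ⟨a, ha⟩ : B.Nonempty := Finset.card_pos.1 (by omega)
  obtain ⟨c, hcX, hcx, -, hfix, huniq⟩ := exists_unique_partner hn hXc hk ht hG hJ hT (hAc a ha)
    (hAX a ha) (Finset.notMem_erase a B) (Finset.disjoint_left.1 hBX ha) hxX
  rw [hins a ha] at hfix huniq
  refine ⟨c, hcX, hcx, fun b hb => ?_, hfix, huniq⟩
  obtain ⟨c', hcX', hcx', hns, hfix', -⟩ := exists_unique_partner hn hXc hk ht hG hJ hT (hAc b hb)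
    (hAX b hb) (Finset.notMem_erase b B) (Finset.disjoint_left.1 hBX hb) hxX
  rw [hins b hb] at hfix'
  obtain rfl : c' = c := huniq c' (fun h => by
    rcases Finset.mem_insert.1 h with h | h
    · exact hcx' h
    · exact Finset.disjoint_left.1 hBX h hcX') hfix'
  exact hns

/-- Different extensions of `t` points give different partners. -/
theorem partner_injective {A : Finset α} (hA : A.card = t) (hAX : Disjoint A X) {a b x c : α}
    (ha : a ∉ A) (haX : a ∉ X) (hb : b ∉ A) (hbX : b ∉ X) (hab : a ≠ b) (hxX : x ∈ X)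
    (hca : NoSingle G X A a x c) : ¬ NoSingle G X A b x c := by
  intro hcb
  have hxA : x ∉ A := fun h => Finset.disjoint_left.1 hAX h hxX
  have hsub : ((avoid G X A).filter fun Y => b ∈ Y ∧ a ∉ Y) ⊆
      (avoid G X A).filter fun Y => x ∈ Y ∧ a ∉ Y := by
    intro Y hY
    obtain ⟨hY, hbY, haY⟩ := Finset.mem_filter.1 hY
    refine Finset.mem_filter.2 ⟨hY, ?_, haY⟩
    rcases (hcb Y hY).2.2 hbY with h1 | h1
    · exact h1
    · exact ((hca Y hY).2.1 h1).resolve_left haY
  have heq := Finset.eq_of_subset_of_card_le hsub (card_split_eq hG le_rfl (by omega) hA hxA ha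
    (fun e => haX (e ▸ hxX)) hb ha hab.symm).le
  have hX : X ∈ (avoid G X A).filter fun Y => x ∈ Y ∧ a ∉ Y :=
    Finset.mem_filter.2 ⟨self_mem_avoid hAX, hxX, haX⟩
  rw [← heq] at hX
  exact hbX (Finset.mem_filter.1 hX).2.1

/-- The pairings commute with the Jordan group: a permutation of `α` supported on `X`. -/
theorem exists_pairing {B : Finset α} (hB : B.card = t + 1) (hBX : Disjoint B X) :
    ∃ σ : Equiv.Perm α, (∀ z, z ∉ X → σ z = z) ∧
      (∀ x ∈ X, σ x ∈ X ∧ σ x ≠ x ∧ ∀ a ∈ B, NoSingle G X (B.erase a) a x (σ x)) ∧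
      ∀ j : G, (∀ z, z ∉ X → j • z = z) → ∀ z, j • σ z = σ (j • z) := by
  classical
  have htn : t + 2 ≤ Fintype.card α := by omega
  choose f hfX hfne hfns hffix hfuniq using fun x (hx : x ∈ X) =>
    exists_partner hn hXc hk ht hG hJ hT hB hBX hx
  have hnotin : ∀ y ∈ X, ∀ x ∈ X, y ≠ x → y ∉ insert x B := fun y hy x _ hyx h =>
    (Finset.mem_insert.1 h).elim hyx fun h => Finset.disjoint_left.1 hBX h hy
  have hinv : ∀ x hx, f (f x hx) (hfX x hx) = x := by
    intro x hx
    obtain ⟨a, ha⟩ : B.Nonempty := Finset.card_pos.1 (by omega)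
    have haX : a ∉ X := Finset.disjoint_left.1 hBX ha
    have hA : (B.erase a).card = t := by rw [Finset.card_erase_of_mem ha, hB]; omega
    have hXA : ∀ y ∈ X, y ∉ B.erase a := fun y hy h =>
      Finset.disjoint_left.1 hBX (Finset.mem_of_mem_erase h) hy
    have e : ∀ y, insert a (insert y (B.erase a)) = insert y B := fun y => by
      rw [Finset.insert_comm, Finset.insert_erase ha]
    have h := (e x ▸ hffix x hx).exchange hG le_rfl htn hA (Finset.notMem_erase a B) (hXA x hx)
      (hXA _ (hfX x hx)) (fun h => haX (h ▸ hx)) (fun h => haX (h ▸ hfX x hx))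
    rw [e] at h
    exact (hfuniq _ (hfX x hx) x (hnotin x hx _ (hfX x hx) (hfne x hx).symm) h).symm
  let F : α → α := fun z => if hz : z ∈ X then f z hz else z
  have hF : Function.Involutive F := fun z => by
    by_cases hz : z ∈ X
    · simp only [F, dif_pos hz, dif_pos (hfX z hz), hinv z hz]
    · simp only [F, dif_neg hz]
  refine ⟨hF.toPerm F, fun z hz => dif_neg hz, fun x hx => ?_, fun j hj z => ?_⟩
  · change F x ∈ X ∧ F x ≠ x ∧ _
    simp only [F, dif_pos hx]
    exact ⟨hfX x hx, hfne x hx, fun a ha => by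
      simpa [F, dif_pos hx] using hfns x hx a ha⟩
  · change j • F z = F (j • z)
    have hjX : ∀ z, j • z ∈ X ↔ z ∈ X := fun z => by
      refine ⟨fun h => by_contra fun hc => hc (by rwa [hj z hc] at h), fun h => by_contra fun hc => ?_⟩
      have := smul_left_cancel j ((hj _ hc) : j • (j • z) = j • z)
      rw [this] at hc
      exact hc h
    by_cases hz : z ∈ X
    · simp only [F, dif_pos hz, dif_pos ((hjX z).2 hz)]
      refine hfuniq _ _ _ (hnotin _ ((hjX _).2 (hfX z hz)) _ ((hjX z).2 hz)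
        fun h => hfne z hz (smul_left_cancel j h)) ?_
      have := (hffix z hz).image j
      rwa [Finset.image_insert, Finset.image_congr (s := B) (f := (j • ·)) (g := id)
        (fun b hb => hj b (Finset.disjoint_left.1 hBX hb)), Finset.image_id] at this
    · simp only [F, dif_neg hz, dif_neg (fun h => hz ((hjX z).1 h))]

/-- The upper bound: distinct translates meet in at most `k / 2` points. -/
theorem two_mul_card_inter_le {Y : Finset α} (hY : IsTranslate G X Y) (hYX : Y ≠ X) :
    2 * (X ∩ Y).card ≤ k := by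
  classical
  by_contra hi
  rw [not_le] at hi
  set U := (X ∪ Y)ᶜ with hU
  have hYc : Y.card = k := hY.card_eq.trans hXc
  have hUc : U.card = (X ∩ Y).card + 1 := by
    have h1 := Finset.card_union_add_card_inter X Y
    rw [hXc, hYc] at h1
    rw [hU, Finset.card_compl, hn]
    omega
  have hik : (X ∩ Y).card < k := by
    by_contra h
    have h1 : X ∩ Y = X := Finset.eq_of_subset_of_card_le Finset.inter_subset_left (by omega)
    exact hYX (Finset.eq_of_subset_of_card_le (Finset.inter_eq_left.1 h1) (by omega)).symm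
  have hUX : ∀ {B : Finset α}, B ⊆ U → Disjoint B X := fun hB => by
    rw [Finset.disjoint_left]
    intro z hz hzX
    exact Finset.mem_compl.1 (hB hz) (Finset.mem_union_left _ hzX)
  choose σ hσout hσin hσJ using fun (B : Finset α) (hB : B ⊆ U) (hc : B.card = t + 1) =>
    exists_pairing hn hXc hk ht hG hJ hT hc (hUX hB)
  -- the group of permutations commuting with the Jordan group and preserving `X \ Y`
  let R : Subgroup (Equiv.Perm α) :=
    { carrier := {τ | (∀ z, z ∉ X → τ z = z) ∧ (∀ z, τ z ∈ X \ Y ↔ z ∈ X \ Y) ∧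
        ∀ j : G, (∀ z, z ∉ X → j • z = z) → ∀ z, j • τ z = τ (j • z)}
      one_mem' := ⟨fun z _ => rfl, fun z => Iff.rfl, fun j _ z => rfl⟩
      mul_mem' := by
        rintro τ τ' ⟨h1, h2, h3⟩ ⟨h1', h2', h3'⟩
        refine ⟨fun z hz => by rw [Equiv.Perm.mul_apply, h1' z hz, h1 z hz],
          fun z => by rw [Equiv.Perm.mul_apply, h2, h2'], fun j hj z => ?_⟩
        rw [Equiv.Perm.mul_apply, Equiv.Perm.mul_apply, h3 j hj, h3' j hj]
      inv_mem' := by
        rintro τ ⟨h1, h2, h3⟩
        refine ⟨fun z hz => by rw [Equiv.Perm.inv_eq_iff_eq, h1 z hz],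
          fun z => by rw [← h2, apply_inv'], fun j hj z => ?_⟩
        rw [eq_comm, Equiv.Perm.inv_eq_iff_eq, ← h3 j hj, apply_inv'] }
  have hR : ∀ B hB hc, σ B hB hc ∈ R := by
    intro B hB hc
    refine ⟨hσout B hB hc, ?_, hσJ B hB hc⟩
    have hfw : ∀ z, z ∈ X \ Y → σ B hB hc z ∈ X \ Y := by
      intro z hz
      rw [Finset.mem_sdiff] at hz ⊢
      obtain ⟨hcX, -, hns⟩ := hσin B hB hc z hz.1
      refine ⟨hcX, fun hcY => ?_⟩
      obtain ⟨a, ha⟩ : B.Nonempty := Finset.card_pos.1 (by omega)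
      have hBY : ∀ b ∈ B, b ∉ Y := fun b hb h =>
        Finset.mem_compl.1 (hB hb) (Finset.mem_union_right _ h)
      have hmem : Y ∈ avoid G X (B.erase a) := mem_avoid.2 ⟨hY, Finset.disjoint_left.2
        fun b hb => hBY b (Finset.mem_of_mem_erase hb)⟩
      exact ((hns a ha Y hmem).2.1 hcY).elim (hBY a ha) hz.2
    intro z
    refine ⟨fun h => ?_, hfw z⟩
    have himg : (X \ Y).image (σ B hB hc) = X \ Y :=
      Finset.eq_of_subset_of_card_le (Finset.image_subset_iff.2 hfw)
        (Finset.card_image_of_injective _ (σ B hB hc).injective).ge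
    rw [← himg, Finset.mem_image] at h
    obtain ⟨w, hw, hwz⟩ := h
    rwa [← (σ B hB hc).injective hwz]
  -- semiregularity
  have hsemi : ∀ τ ∈ R, ∀ z ∈ X, τ z = z → τ = 1 := by
    rintro τ ⟨h1, -, h3⟩ z hz hτ
    refine Equiv.ext fun w => ?_
    by_cases hw : w ∈ X
    · obtain ⟨j, hj, rfl⟩ := hJ z hz w hw
      rw [← h3 j hj, hτ]
      rfl
    · exact h1 w hw
  have hdvd : ∀ P : Finset α, P ⊆ X → (∀ τ ∈ R, ∀ z ∈ P, τ z ∈ P) → Nat.card R ∣ P.card := by
    intro P hP hinv
    let O : SubMulAction R α := ⟨(P : Set α), fun τ z hz => hinv τ.1 τ.2 z hz⟩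
    have hfree : ∀ a : O, stabilizer (⊤ : Subgroup R) a = ⊥ := fun a => by
      refine (Subgroup.eq_bot_iff_forall _).2 fun τ hτ => Subtype.ext (Subtype.ext ?_)
      exact hsemi τ.1.1 τ.1.2 a (hP a.2) (congrArg Subtype.val hτ)
    have := card_dvd_of_semiregular (G := R) (α := O) hfree
    rwa [Subgroup.card_top, show Nat.card O = P.card from Nat.card_eq_finsetCard P] at this
  have hRk : Nat.card R ∣ k := hXc ▸ hdvd X subset_rfl fun τ hτ z hz => by
    by_contra h
    have := τ.injective (hτ.1 _ h)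
    rw [this] at h
    exact h hz
  have hRd : Nat.card R ∣ (X \ Y).card :=
    hdvd _ Finset.sdiff_subset fun τ hτ z hz => (hτ.2.1 z).2 hz
  have hd : (X \ Y).card + (X ∩ Y).card = k := by rw [Finset.card_sdiff_add_card_inter, hXc]
  -- injective colourings
  obtain ⟨x, hx⟩ := Finset.card_pos.1 (show 0 < X.card by omega)
  have hone : ∀ B hB hc, σ B hB hc ≠ 1 := fun B hB hc h => (hσin B hB hc x hx).2.1 (by rw [h]; rfl)
  have hneq : ∀ A a b (ha : insert a A ⊆ U) (hb : insert b A ⊆ U) (hac : (insert a A).card = t + 1)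
      (hbc : (insert b A).card = t + 1), A.card = t → a ≠ b →
      σ _ ha hac ≠ σ _ hb hbc := by
    intro A a b ha hb hac hbc hA hab he
    have haA : a ∉ A := fun h => by rw [Finset.insert_eq_of_mem h] at hac; omega
    have hbA : b ∉ A := fun h => by rw [Finset.insert_eq_of_mem h] at hbc; omega
    have h1 := (hσin _ ha hac x hx).2.2 a (Finset.mem_insert_self a A)
    have h2 := (hσin _ hb hbc x hx).2.2 b (Finset.mem_insert_self b A)
    rw [Finset.erase_insert haA] at h1
    rw [Finset.erase_insert hbA, ← he] at h2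
    exact partner_injective hn hXc hk ht hG hJ hT hA (hUX ((Finset.subset_insert a A).trans ha))
      haA (Finset.disjoint_left.1 (hUX ha) (Finset.mem_insert_self a A)) hbA
      (Finset.disjoint_left.1 (hUX hb) (Finset.mem_insert_self b A)) hab hx h1 h2
  have hcount : ∀ (S : Finset α) (c : α → Finset α), (∀ a ∈ S, c a ⊆ U ∧ (c a).card = t + 1) →
      (∀ a ∈ S, ∀ b ∈ S, a ≠ b → ∀ ha hb hac hbc, σ (c a) ha hac ≠ σ (c b) hb hbc) →
      S.card + 1 ≤ Nat.card R := by
    intro S c hc hne
    let col : S → {τ : R // τ ≠ 1} := fun a =>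
      ⟨⟨σ (c a) (hc a a.2).1 (hc a a.2).2, hR _ _ _⟩, fun h => hone _ _ _ (congrArg Subtype.val h)⟩
    have hinj : Function.Injective col := fun a b h => by
      by_contra hab
      exact hne a a.2 b b.2 (fun e => hab (Subtype.ext e)) _ _ _ _
        (congrArg (fun z : {τ : R // τ ≠ 1} => (z.1 : Equiv.Perm α)) h)
    have := Nat.card_le_card_of_injective col hinj
    rw [Nat.card_eq_finsetCard] at this
    haveI hfR := Fintype.ofFinite R
    rw [Nat.card_eq_fintype_card, Fintype.card_subtype_compl, Fintype.card_subtype_eq,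
      ← Nat.card_eq_fintype_card] at this
    have : 0 < Nat.card R := Nat.card_pos
    omega
  have hc1 : U.card - t + 1 ≤ Nat.card R := by
    obtain ⟨A, hAU, hA⟩ := Finset.exists_subset_card_eq (s := U) (n := t) (by omega)
    have := hcount (U \ A) (fun a => insert a A) (fun a ha => ⟨Finset.insert_subset
      (Finset.mem_sdiff.1 ha).1 hAU, by
        rw [Finset.card_insert_of_notMem (Finset.mem_sdiff.1 ha).2, hA]⟩)
      (fun a _ b _ hab ha hb hac hbc => hneq A a b ha hb hac hbc hA hab)
    rwa [Finset.card_sdiff_of_subset hAU, hA] at this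
  have hc2 : t + 3 ≤ Nat.card R := by
    obtain ⟨B, hBU, hB⟩ := Finset.exists_subset_card_eq (s := U) (n := t + 2) (by omega)
    have := hcount B (fun b => B.erase b) (fun b hb => ⟨(Finset.erase_subset _ _).trans hBU, by
        rw [Finset.card_erase_of_mem hb, hB]; omega⟩) (fun a ha b hb hab h1 h2 hac hbc => by
      have e1 : B.erase a = insert b ((B.erase a).erase b) :=
        (Finset.insert_erase (Finset.mem_erase.2 ⟨hab.symm, hb⟩)).symm
      have e2 : B.erase b = insert a ((B.erase a).erase b) := by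
        rw [Finset.erase_right_comm]
        exact (Finset.insert_erase (Finset.mem_erase.2 ⟨hab, ha⟩)).symm
      have hA : ((B.erase a).erase b).card = t := by
        rw [Finset.card_erase_of_mem (Finset.mem_erase.2 ⟨hab.symm, hb⟩), hac]; omega
      have := hneq ((B.erase a).erase b) b a (e1 ▸ h1) (e2 ▸ h2) (e1 ▸ hac) (e2 ▸ hbc) hA hab.symm
      convert this)
    rwa [hB] at this
  -- divisibility
  obtain ⟨u, hu⟩ := hRd
  obtain ⟨v, hv⟩ := hRk
  set N := Nat.card R
  rcases Nat.lt_or_ge u 2 with hu2 | hu2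
  · interval_cases u
    · omega
    · rcases Nat.lt_or_ge v 3 with hv3 | hv3
      · interval_cases v <;> omega
      · have : N * 3 ≤ N * v := Nat.mul_le_mul_left N hv3
        omega
  · have : N * 2 ≤ N * u := Nat.mul_le_mul_left N hu2
    omega

/-- The lower bound: translates avoiding a common `t`-set outside `X` meet in at least `k / 2`
points. -/
theorem card_le_two_mul_inter {A Y : Finset α} (hA : A.card = t) (hAX : Disjoint A X)
    (hY : Y ∈ avoid G X A) (hYX : Y ≠ X) : k ≤ 2 * (X ∩ Y).card := by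
  classical
  obtain ⟨hYt, hYA⟩ := mem_avoid.1 hY
  have hYc : Y.card = k := hYt.card_eq.trans hXc
  obtain ⟨x, hx⟩ : (X \ Y).Nonempty := by
    rw [Finset.sdiff_nonempty]
    exact fun h => hYX (Finset.eq_of_subset_of_card_le h (by omega)).symm
  rw [Finset.mem_sdiff] at hx
  have hmem : ∀ a ∈ Y \ X, a ∉ A ∧ a ∉ X ∧ a ∈ Y := fun a ha => by
    rw [Finset.mem_sdiff] at ha
    exact ⟨fun h => Finset.disjoint_left.1 hYA h ha.1, ha.2, ha.1⟩
  choose c hcX hcx hns hfix huniq using fun a (ha : a ∈ Y \ X) =>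
    exists_unique_partner hn hXc hk ht hG hJ hT hA hAX (hmem a ha).1 (hmem a ha).2.1 hx.1
  have hcY : ∀ a ha, c a ha ∈ Y := fun a ha =>
    ((hns a ha Y hY).2.2 (hmem a ha).2.2).resolve_left hx.2
  have := Finset.card_le_card_of_injective (s := Y \ X) (t := X ∩ Y)
    (f := fun a => ⟨c a.1 a.2, Finset.mem_inter.2 ⟨hcX _ a.2, hcY _ a.2⟩⟩) fun a b h => by
      by_contra hab
      have h' : c a.1 a.2 = c b.1 b.2 := congrArg Subtype.val h
      exact partner_injective hn hXc hk ht hG hJ hT hA hAX (hmem _ a.2).1 (hmem _ a.2).2.1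
        (hmem _ b.2).1 (hmem _ b.2).2.1 (fun e => hab (Subtype.ext e)) hx.1 (hns _ a.2)
        (h' ▸ hns _ b.2)
  have h1 := Finset.card_sdiff_add_card_inter Y X
  rw [Finset.inter_comm] at h1
  omega

omit hn hXc hk ht hG hJ hT in
/-- Summing intersections over translates avoiding a set. -/
theorem sum_card_inter (A : Finset α) (r : ℕ)
    (hr : ∀ x ∈ X, ((avoid G X A).filter fun Y => x ∈ Y).card = r) :
    ∑ Y ∈ avoid G X A, (X ∩ Y).card = X.card * r := by
  have h := Finset.sum_card_bipartiteAbove_eq_sum_card_bipartiteBelow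
    (fun (Y : Finset α) (z : α) => z ∈ Y) (s := avoid G X A) (t := X)
  rw [Finset.sum_const_nat (m := r) (s := X) (fun x hx => by
    rw [← hr x hx]; rfl)] at h
  rw [← h]
  exact Finset.sum_congr rfl fun Y _ => by
    rw [Finset.bipartiteAbove]
    congr 1

omit hJ hT ht in
/-- Translates avoiding an `s`-set through each point: a constant number, and the point count. -/
theorem exists_replication {A : Finset α} {s : ℕ} (hst : s ≤ t) (htn : t + 2 ≤ Fintype.card α)
    (hA : A.card = s) :
    ∃ r, (∀ p, p ∉ A → ((avoid G X A).filter fun Y => p ∈ Y).card = r) ∧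
      (avoid G X A).card * k = (2 * k + 1 - s) * r := by
  classical
  have key : ∀ p q, p ∉ A → q ∉ A → ((avoid G X A).filter fun Y => p ∈ Y).card ≤
      ((avoid G X A).filter fun Y => q ∈ Y).card := by
    intro p q hp hq
    obtain ⟨w, hw⟩ : ∃ w, w ∉ A ∧ w ≠ p ∧ w ≠ q := by
      have h1 : (insert p (insert q A)).card ≤ s + 2 := by
        refine (Finset.card_insert_le _ _).trans ?_
        have := Finset.card_insert_le q A
        omega
      obtain ⟨w, hw⟩ := Finset.card_pos.1 (show 0 < (insert p (insert q A))ᶜ.card by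
        rw [Finset.card_compl]; omega)
      rw [Finset.mem_compl] at hw
      simp only [Finset.mem_insert, not_or] at hw
      exact ⟨w, hw.2.2, hw.1, hw.2.1⟩
    obtain ⟨g, hgA, hgp, -⟩ := exists_move hG hst htn hA hA hp hw.1 hw.2.1.symm hq hw.1 hw.2.2.symm
    refine Finset.card_le_card_of_injOn (fun Y => Y.image (g • ·)) (fun Y hY => ?_)
      fun Y _ Z _ h => Finset.image_injective (MulAction.injective g) h
    obtain ⟨hY, hpY⟩ := Finset.mem_filter.1 hY
    exact Finset.mem_filter.2 ⟨hgA ▸ image_mem_avoid g hY, hgp ▸ Finset.mem_image_of_mem _ hpY⟩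
  obtain ⟨p₀, hp₀⟩ := Finset.card_pos.1 (show 0 < Aᶜ.card by rw [Finset.card_compl]; omega)
  rw [Finset.mem_compl] at hp₀
  set r := ((avoid G X A).filter fun Y => p₀ ∈ Y).card with hrdef
  have hr : ∀ p, p ∉ A → ((avoid G X A).filter fun Y => p ∈ Y).card = r := fun p hp =>
    le_antisymm (key p p₀ hp hp₀) (key p₀ p hp₀ hp)
  refine ⟨r, hr, ?_⟩
  have h := Finset.sum_card_bipartiteAbove_eq_sum_card_bipartiteBelow
    (fun (Y : Finset α) (z : α) => z ∈ Y) (s := avoid G X A) (t := Aᶜ)
  rw [Finset.sum_const_nat (m := k) (s := avoid G X A) (fun Y hY => ?_),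
    Finset.sum_const_nat (m := r) (s := Aᶜ) (fun x hx => ?_), Finset.card_compl, hA, hn] at h
  · exact h
  · rw [← hr x (Finset.mem_compl.1 hx)]; rfl
  · rw [Finset.bipartiteAbove, ← hXc, ← (mem_avoid.1 hY).1.card_eq]
    congr 1
    ext z
    simp only [Finset.mem_filter, Finset.mem_compl]
    exact ⟨fun h => h.2, fun h => ⟨fun hz => Finset.disjoint_left.1 (mem_avoid.1 hY).2 hz h, h⟩⟩

/-- The design equations in the stabiliser of `t` points force `t = 2`. -/
theorem t_eq_two : t = 2 := by
  classical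
  have htn : t + 2 ≤ Fintype.card α := by omega
  obtain ⟨A, hAc, hA⟩ := Finset.exists_subset_card_eq (s := Xᶜ) (n := t)
    (by rw [Finset.card_compl, hn, hXc]; omega)
  have hAX : Disjoint A X := Finset.disjoint_left.2 fun a ha => Finset.mem_compl.1 (hAc ha)
  set 𝓕 := avoid G X A
  have hXF : X ∈ 𝓕 := self_mem_avoid hAX
  have hXA : ∀ y ∈ X, y ∉ A := fun y hy h => Finset.disjoint_left.1 hAX h hy
  obtain ⟨r, hr, hbr⟩ := exists_replication hn hXc hk hG le_rfl htn hA
  have hlam : ∀ p q p' q', p ∉ A → q ∉ A → p ≠ q → p' ∉ A → q' ∉ A → p' ≠ q' →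
      (𝓕.filter fun Y => p ∈ Y ∧ q ∈ Y).card = (𝓕.filter fun Y => p' ∈ Y ∧ q' ∈ Y).card := by
    intro p q p' q' hp hq hpq hp' hq' hpq'
    have e : ∀ p q, p ∉ A → (𝓕.filter fun Y => p ∈ Y ∧ q ∈ Y).card +
        (𝓕.filter fun Y => p ∈ Y ∧ q ∉ Y).card = r := fun p q hp => by
      rw [← hr p hp, ← Finset.filter_filter, ← Finset.filter_filter,
        Finset.card_filter_add_card_filter_not]
    have e1 := e p q hp
    have e2 := e p' q' hp'
    have e3 : (𝓕.filter fun Y => p ∈ Y ∧ q ∉ Y).card = (𝓕.filter fun Y => p' ∈ Y ∧ q' ∉ Y).card :=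
      card_split_eq hG le_rfl htn hA hp hq hpq hp' hq' hpq'
    omega
  obtain ⟨x₀, hx₀, x₁, hx₁, hx01⟩ := Finset.one_lt_card.1 (show 1 < X.card by omega)
  set l := (𝓕.filter fun Y => x₀ ∈ Y ∧ x₁ ∈ Y).card with hldef
  have hl : ∀ p q, p ∉ A → q ∉ A → p ≠ q → (𝓕.filter fun Y => p ∈ Y ∧ q ∈ Y).card = l :=
    fun p q hp hq hpq => hlam p q x₀ x₁ hp hq hpq (hXA _ hx₀) (hXA _ hx₁) hx01
  -- pairs through a point
  have hpair : r * (k - 1) = (2 * k - t) * l := by
    have h := Finset.sum_card_bipartiteAbove_eq_sum_card_bipartiteBelow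
      (fun (Y : Finset α) (z : α) => z ∈ Y) (s := 𝓕.filter fun Y => x₀ ∈ Y) (t := (insert x₀ A)ᶜ)
    rw [Finset.sum_const_nat (m := k - 1) (fun Y hY => ?_),
      Finset.sum_const_nat (m := l) (fun z hz => ?_), Finset.card_compl, hn,
      Finset.card_insert_of_notMem (hXA _ hx₀), hA, hr _ (hXA _ hx₀)] at h
    · rw [h]; congr 1; omega
    · rw [Finset.mem_compl, Finset.mem_insert, not_or] at hz
      rw [← hl x₀ z (hXA _ hx₀) hz.2 (Ne.symm hz.1), ← Finset.filter_filter]
      rfl
    · obtain ⟨hY, hx₀Y⟩ := Finset.mem_filter.1 hY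
      obtain ⟨hYt, hYA⟩ := mem_avoid.1 hY
      rw [← hXc, ← hYt.card_eq, ← Finset.card_erase_of_mem hx₀Y, Finset.bipartiteAbove]
      congr 1
      ext z
      simp only [Finset.mem_filter, Finset.mem_compl, Finset.mem_insert, not_or, Finset.mem_erase]
      exact ⟨fun h => ⟨h.1.1, h.2⟩,
        fun h => ⟨⟨h.1, fun hz => Finset.disjoint_left.1 hYA hz h.2⟩, h.2⟩⟩
  -- all other translates meet `X` in `k / 2` points
  have hhalf : ∀ Y ∈ 𝓕, Y ≠ X → 2 * (X ∩ Y).card = k := fun Y hY hne =>
    le_antisymm (two_mul_card_inter_le hn hXc hk ht hG hJ hT (mem_avoid.1 hY).1 hne)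
      (card_le_two_mul_inter hn hXc hk ht hG hJ hT hA hAX hY hne)
  have hsum1 : 2 * k + (𝓕.card - 1) * k = 2 * (k * r) := by
    have h := sum_card_inter A r (fun x hx => hr x (hXA x hx))
    rw [hXc] at h
    rw [← h, Finset.mul_sum, ← Finset.add_sum_erase _ _ hXF, Finset.inter_self, hXc,
      Finset.sum_const_nat (m := k) (fun Y hY =>
        hhalf Y (Finset.mem_of_mem_erase hY) (Finset.ne_of_mem_erase hY)),
      Finset.card_erase_of_mem hXF]
  have hsum2 : 4 * (k * (k - 1)) + (𝓕.card - 1) * (k * (k - 2)) = 4 * ((k * (k - 1)) * l) := by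
    have h := Finset.sum_card_bipartiteAbove_eq_sum_card_bipartiteBelow
      (fun (Y : Finset α) (q : α × α) => q.1 ∈ Y ∧ q.2 ∈ Y) (s := 𝓕) (t := X.offDiag)
    have hL : ∀ Y : Finset α, (Finset.bipartiteAbove
        (fun (Y : Finset α) (q : α × α) => q.1 ∈ Y ∧ q.2 ∈ Y) X.offDiag Y).card =
        (X ∩ Y).card * ((X ∩ Y).card - 1) := fun Y => by
      rw [show Finset.bipartiteAbove (fun (Y : Finset α) (q : α × α) => q.1 ∈ Y ∧ q.2 ∈ Y)
        X.offDiag Y = (X ∩ Y).offDiag by
          ext q; simp [Finset.bipartiteAbove]; tauto, Finset.offDiag_card, Nat.mul_sub_one]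
    simp only [hL] at h
    rw [Finset.sum_const_nat (m := l) (s := X.offDiag) (fun q hq => ?_), Finset.offDiag_card, hXc,
      ← Nat.mul_sub_one] at h
    · rw [← h, Finset.mul_sum, ← Finset.add_sum_erase _ _ hXF, Finset.inter_self, hXc,
        Finset.sum_const_nat (m := k * (k - 2)) (fun Y hY => ?_), Finset.card_erase_of_mem hXF]
      have hk2 := hhalf Y (Finset.mem_of_mem_erase hY) (Finset.ne_of_mem_erase hY)
      set i := (X ∩ Y).card
      rw [← hk2, show 2 * i - 2 = 2 * (i - 1) by omega]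
      ring
    · obtain ⟨h1, h2, h3⟩ := Finset.mem_offDiag.1 hq
      rw [← hl q.1 q.2 (hXA _ h1) (hXA _ h2) h3]
      rfl
  obtain ⟨N, hN⟩ : ∃ N, 𝓕.card = N + 1 :=
    ⟨𝓕.card - 1, by have := Finset.card_pos.2 ⟨X, hXF⟩; omega⟩
  rw [hN, Nat.add_sub_cancel] at hsum1 hsum2
  rw [hN] at hbr
  obtain ⟨k', hk'⟩ : ∃ k', k = t + k' := ⟨k - t, by omega⟩
  have c1 : ((2 * k - t : ℕ) : ℤ) = 2 * k - t := by rw [Nat.cast_sub (by omega)]; push_cast; ring
  have c2 : ((k - 1 : ℕ) : ℤ) = k - 1 := by rw [Nat.cast_sub (by omega)]; simp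
  have c3 : ((k - 2 : ℕ) : ℤ) = k - 2 := by rw [Nat.cast_sub (by omega)]; simp
  have c4 : ((2 * k + 1 - t : ℕ) : ℤ) = 2 * k + 1 - t := by
    rw [Nat.cast_sub (by omega)]; push_cast; ring
  have e2 := congrArg (fun n : ℕ => (n : ℤ)) hpair
  have e1 := congrArg (fun n : ℕ => (n : ℤ)) hsum1
  have e3 := congrArg (fun n : ℕ => (n : ℤ)) hsum2
  have e4 := congrArg (fun n : ℕ => (n : ℤ)) hbr
  simp only [Nat.cast_mul, Nat.cast_add, Nat.cast_ofNat, Nat.cast_one, c1, c2, c3, c4] at e1 e2 e3 e4
  have hk0 : (k : ℤ) ≠ 0 := by omega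
  have hN' : (N : ℤ) = 2 * r - 2 := mul_right_cancel₀ hk0 (by linear_combination e1)
  have E1 : (r : ℤ) * (t - 1) = k := by rw [hN'] at e4; linear_combination e4
  have E3 : 2 * ((k : ℤ) - 1) + (r - 1) * (k - 2) = 2 * (k - 1) * l := by
    rw [hN'] at e3
    refine mul_right_cancel₀ (mul_ne_zero two_ne_zero hk0) ?_
    linear_combination e3
  have hz : (k : ℤ) * (((t : ℤ) - 2) * (k - t + 1)) = 0 := by
    linear_combination ((t : ℤ) - 1) * (2 * k - t) * E3
      - ((2 * (k : ℤ) - t) * (k - 2) - 2 * (k - 1) ^ 2) * E1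
      - 2 * ((k : ℤ) - 1) * (t - 1) * e2
  rcases mul_eq_zero.1 hz with h | h
  · exact absurd h hk0
  · rcases mul_eq_zero.1 h with h | h <;> omega

/-- No such configuration. -/
theorem false_of_triples : False := by
  classical
  obtain rfl : t = 2 := t_eq_two hn hXc hk ht hG hJ hT
  have key : ∀ b, b ∉ X → IsTranslate G X (Xᶜ.erase b) := by
    intro b hb
    set 𝓕 := avoid G X {b}
    have hbX : Disjoint {b} X := Finset.disjoint_singleton_left.2 hb
    have hXF : X ∈ 𝓕 := self_mem_avoid hbX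
    by_cases h : ∃ Y ∈ 𝓕, Disjoint X Y
    · obtain ⟨Y, hY, hd⟩ := h
      obtain ⟨hYt, hYb⟩ := mem_avoid.1 hY
      have : Y = Xᶜ.erase b := Finset.eq_of_subset_of_card_le (fun y hy => Finset.mem_erase.2
        ⟨fun e => Finset.disjoint_singleton_left.1 hYb (e ▸ hy),
          Finset.mem_compl.2 fun h => Finset.disjoint_left.1 hd h hy⟩)
        (by rw [Finset.card_erase_of_mem (Finset.mem_compl.2 hb), Finset.card_compl, hn, hXc,
              hYt.card_eq, hXc]
            omega)
      exact this ▸ hYt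
    exfalso
    simp only [not_exists, not_and] at h
    obtain ⟨r, hr, hbr⟩ := exists_replication hn hXc hk hG (s := 1) (by omega) (by omega)
      (Finset.card_singleton b)
    have hhalf : ∀ Y ∈ 𝓕, Y ≠ X → 2 * (X ∩ Y).card = k := by
      intro Y hY hne
      obtain ⟨hYt, hYb⟩ := mem_avoid.1 hY
      have hi : 0 < (X ∩ Y).card := Finset.card_pos.2 (Finset.not_disjoint_iff_nonempty_inter.1 (h Y hY))
      obtain ⟨b', hb'⟩ := Finset.card_pos.1 (show 0 < ((X ∪ Y)ᶜ.erase b).card by
        have h1 := Finset.card_union_add_card_inter X Y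
        rw [hXc, hYt.card_eq, hXc] at h1
        rw [Finset.card_erase_of_mem (Finset.mem_compl.2 (fun hm =>
          (Finset.mem_union.1 hm).elim hb (Finset.disjoint_singleton_left.1 hYb))),
          Finset.card_compl, hn]
        omega)
      simp only [Finset.mem_erase, Finset.mem_compl, Finset.mem_union, not_or] at hb'
      refine le_antisymm (two_mul_card_inter_le hn hXc hk ht hG hJ hT hYt hne)
        (card_le_two_mul_inter hn hXc hk ht hG hJ hT (A := {b, b'})
          (Finset.card_pair hb'.1.symm) ?_ (mem_avoid.2 ⟨hYt, ?_⟩) hne)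
      · simp [hb, hb'.2.1]
      · simp [Finset.disjoint_singleton_left.1 hYb, hb'.2.2]
    have hsum : 2 * k + (𝓕.card - 1) * k = 2 * (k * r) := by
      have h := sum_card_inter {b} r (fun x hx => hr x (by
        rw [Finset.mem_singleton]; exact fun e => hb (e ▸ hx)))
      rw [hXc] at h
      rw [← h, Finset.mul_sum, ← Finset.add_sum_erase _ _ hXF, Finset.inter_self, hXc,
        Finset.sum_const_nat (m := k) (fun Y hY =>
          hhalf Y (Finset.mem_of_mem_erase hY) (Finset.ne_of_mem_erase hY)),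
        Finset.card_erase_of_mem hXF]
    have hpos : 0 < 𝓕.card := Finset.card_pos.2 ⟨X, hXF⟩
    obtain ⟨N, hN⟩ : ∃ N, 𝓕.card = N + 1 := ⟨𝓕.card - 1, by omega⟩
    rw [hN, Nat.add_sub_cancel] at hsum
    change 𝓕.card * k = _ at hbr
    rw [hN, Nat.add_sub_cancel] at hbr
    nlinarith
  obtain ⟨b, hb, b', hb', hbb⟩ := Finset.one_lt_card.1
    (show 1 < Xᶜ.card by rw [Finset.card_compl, hn, hXc]; omega)
  rw [Finset.mem_compl] at hb hb'
  obtain ⟨g, hg⟩ := key b hb
  obtain ⟨g', hg'⟩ := key b' hb'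
  set Z := X.image ((g⁻¹ * g') • ·)
  have hne : Z ≠ X := by
    intro he
    have : X.image (g' • ·) = X.image (g • ·) := by
      conv_rhs => rw [← he]
      rw [Finset.image_image]
      exact Finset.image_congr fun z _ => by
        change g' • z = g • (g⁻¹ * g') • z
        rw [mul_smul, smul_inv_smul]
    rw [hg, hg'] at this
    have hm : b' ∈ Xᶜ.erase b := Finset.mem_erase.2 ⟨hbb.symm, Finset.mem_compl.2 hb'⟩
    rw [← this] at hm
    exact (Finset.mem_erase.1 hm).1 rfl
  have h := two_mul_card_inter_le hn hXc hk ht hG hJ hT ⟨_, rfl⟩ hne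
  have hc : (X ∩ Z).card = (Xᶜ.erase b ∩ Xᶜ.erase b').card := by
    rw [← hg, ← hg', ← Finset.card_image_of_injective _ (MulAction.injective g)]
    rw [Finset.image_inter _ _ (MulAction.injective g), Finset.image_image]
    congr 2
    exact Finset.image_congr fun z _ => by
      change g • (g⁻¹ * g') • z = g' • z
      rw [mul_smul, smul_inv_smul]
  rw [hc] at h
  have : Xᶜ.erase b ∩ Xᶜ.erase b' = (Xᶜ.erase b).erase b' := by ext z; simp; tauto
  rw [this, Finset.card_erase_of_mem (Finset.mem_erase.2 ⟨hbb.symm, Finset.mem_compl.2 hb'⟩),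
    Finset.card_erase_of_mem (Finset.mem_compl.2 hb), Finset.card_compl, hn, hXc] at h
  omega

end Step

/-- The case of degree `2k + 1`. -/
theorem alternatingGroup_le_critical {k : ℕ} (hn : Fintype.card α = 2 * k + 1) (hXc : X.card = k)
    (hk : 2 ≤ k) (hJ : IsJordan G X) (t : ℕ) (ht : 2 ≤ t) (htn : t + 2 ≤ Fintype.card α)
    (hG : IsMultiplyPretransitive G α (t + 2)) : alternatingGroup α ≤ G := by
  classical
  obtain ⟨d, hd⟩ : ∃ d, d = k - 2 * t := ⟨_, rfl⟩
  induction d using Nat.strong_induction_on generalizing t with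
  | _ d ih =>
  obtain ⟨x, hx, y, hy, hxy⟩ := Finset.one_lt_card.1 (show 1 < X.card by omega)
  by_cases hkt : k ≤ 2 * t + 1
  · obtain ⟨g, hg, hgxy⟩ := hJ x hx y hy
    refine (alternatingGroup_le_of_small_support G (k := t + 2) (by omega) htn hG g.2 ?_ ?_).2
    · intro h
      apply hxy
      rw [← hgxy]
      change x = (g : Equiv.Perm α) x
      rw [h]; rfl
    · have : (g : Equiv.Perm α).support ⊆ X := fun z hz => by_contra fun hzX =>
        Equiv.Perm.mem_support.1 hz (hg z hzX)
      have := Finset.card_le_card this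
      omega
  rw [not_le] at hkt
  obtain ⟨s, hsX, hs⟩ := Finset.exists_subset_card_eq (s := Xᶜ) (n := t + 1)
    (by rw [Finset.card_compl, hn, hXc]; omega)
  obtain ⟨a, ha⟩ := Finset.card_pos.1 (show 0 < s.card by omega)
  have hA : (s.erase a).card = t := by rw [Finset.card_erase_of_mem ha, hs]; omega
  have hins : insert a (s.erase a) = s := Finset.insert_erase ha
  by_cases hprim : IsPreprimitive (fixingSubgroup G (s : Set α))
      (SubMulAction.ofFixingSubgroup G (s : Set α))
  · set H := fixingSubgroup G (s : Set α)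
    set O := SubMulAction.ofFixingSubgroup G (s : Set α)
    have hO : Nat.card O = 2 * k - t := by
      rw [show Nat.card O = Nat.card {y : α // y ∉ s} from
        Nat.card_congr (Equiv.subtypeEquivRight fun y => SubMulAction.mem_ofFixingSubgroup_iff G),
        Nat.card_eq_fintype_card, Fintype.card_subtype_compl, Fintype.card_coe, hs, hn]
      omega
    let Δ : Set O := {z | (z : α) ∈ X}
    have hΔ : Δ.ncard = k := by
      rw [← Set.ncard_image_of_injective Δ Subtype.val_injective, ← hXc, ← Set.ncard_coe_finset]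
      congr 1
      ext z
      refine ⟨?_, fun hz => ⟨⟨z, (SubMulAction.mem_ofFixingSubgroup_iff G).2 fun h =>
        Finset.mem_compl.1 (hsX h) hz⟩, hz, rfl⟩⟩
      rintro ⟨w, hw, rfl⟩
      exact hw
    have hΔc : Δᶜ.ncard = (k - t - 1) + 1 := by
      have := Set.ncard_add_ncard_compl Δ
      omega
    have htr : IsPretransitive (fixingSubgroup H Δᶜ) (SubMulAction.ofFixingSubgroup H Δᶜ) := by
      refine ⟨fun u v => ?_⟩
      have hu : ((u : O) : α) ∈ X := not_not.1 ((SubMulAction.mem_ofFixingSubgroup_iff H).1 u.2)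
      have hv : ((v : O) : α) ∈ X := not_not.1 ((SubMulAction.mem_ofFixingSubgroup_iff H).1 v.2)
      obtain ⟨g, hg, hguv⟩ := hJ _ hu _ hv
      refine ⟨⟨⟨g, (mem_fixingSubgroup_iff G).2 fun z hz => hg z (Finset.mem_compl.1 (hsX hz))⟩,
        (mem_fixingSubgroup_iff H).2 fun z hz => Subtype.ext (hg z hz)⟩,
        Subtype.ext (Subtype.ext hguv)⟩
    have h2 : IsMultiplyPretransitive H O 2 :=
      hprim.is_two_pretransitive hΔc (by omega) htr
    haveI := hG
    have hprimG : IsPreprimitive G α := isPreprimitive_of_is_two_pretransitive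
      (isMultiplyPretransitive_of_le (n := t + 2) (by omega)
        (by rw [Nat.card_eq_fintype_card]; omega))
    have h3 := isMultiplyPretransitive_of_fixing_two_transitive G hprimG (s : Set α) (m := t + 1)
      (by rw [Set.ncard_coe_finset, hs]) (by omega) h2
    exact ih (k - 2 * (t + 1)) (by omega) (t + 1) (by omega) (by omega) h3 rfl
  · exfalso
    rw [← hins] at hprim
    obtain ⟨x, c, hxA, hcA, hax, hac, hxc, hns⟩ := exists_noSingle hn hXc (by omega) ht hG hJ hA
      (Finset.notMem_erase a s) hprim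
    refine false_of_triples hn hXc (by omega) ht hG hJ fun A' hA' a' x' ha' hx' hax' => ?_
    obtain ⟨g, hgA, hga, hgx⟩ := exists_move hG le_rfl htn hA hA' (Finset.notMem_erase a s) hxA
      hax ha' hx' hax'
    refine ⟨g • c, fun h => hcA ?_, fun h => hac ?_, fun h => hxc ?_, ?_⟩
    · rw [← hgA] at h
      obtain ⟨w, hw, hwc⟩ := Finset.mem_image.1 h
      exact (smul_left_cancel g hwc : w = c) ▸ hw
    · exact smul_left_cancel g (hga.trans h)
    · exact smul_left_cancel g (hgx.trans h)
    · have := hns.image g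
      rwa [hgA, hga, hgx] at this

end Cfsg.Agent.Perm.SmallJordan

namespace Cfsg.Agent.Perm

open MulAction

universe v

/-- Marggraf: a primitive group of degree `n` with a Jordan set of size `k`, `1 < k < n / 2`,
contains the alternating group. -/
theorem alternatingGroup_le_of_small_jordan_set : ∀ (n : ℕ) {α : Type v} [Fintype α] [DecidableEq α]
    (G : Subgroup (Equiv.Perm α)) (X : Finset α), Fintype.card α = n → IsPreprimitive G α →
    1 < X.card → 2 * X.card < n → SmallJordan.IsJordan G X → alternatingGroup α ≤ G := by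
  intro n
  induction n using Nat.strong_induction_on with
  | _ n ih =>
  intro α _ _ G X hn hprim h1 h2 hJ
  classical
  have htr : ∀ x ∈ (X : Set α), ∀ y ∈ (X : Set α),
      ∃ g : G, (∀ z ∉ (X : Set α), g • z = z) ∧ g • x = y :=
    fun x hx y hy => hJ x hx y hy
  have hnc : (X : Set α).ncard = X.card := Set.ncard_coe_finset X
  have h3 : IsMultiplyPretransitive G α 3 := S3707.result hprim (X : Set α) (by omega)
    (by rw [hnc, Nat.card_eq_fintype_card]; omega) htr
  haveI := h3
  have h2' : IsMultiplyPretransitive G α 2 :=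
    isMultiplyPretransitive_of_le (n := 3) (by omega) (by rw [Nat.card_eq_fintype_card]; omega)
  haveI : IsPretransitive G α := isPretransitive_of_is_two_pretransitive
  obtain ⟨a, ha⟩ := Finset.card_pos.1 (show 0 < Xᶜ.card by rw [Finset.card_compl]; omega)
  rw [Finset.mem_compl] at ha
  set β := SubMulAction.ofStabilizer G a
  have hpa : IsPreprimitive (stabilizer G a) β :=
    S3707.stabilizer_primitive h2' (X : Set α) (by omega)
      (by rw [hnc, Nat.card_eq_fintype_card]; omega) htr a
  haveI : Fintype β := Fintype.ofFinite β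
  have hβ : Fintype.card β + 1 = n := by
    rw [← Nat.card_eq_fintype_card, SubMulAction.nat_card_ofStabilizer_add_one_eq,
      Nat.card_eq_fintype_card, hn]
  let X' : Finset β := X.subtype (fun z => z ∈ β)
  have hX'c : X'.card = X.card := by
    rw [Finset.card_subtype, Finset.filter_true_of_mem]
    intro z hz
    exact (SubMulAction.mem_ofStabilizer_iff G a).2 fun e => ha (e ▸ hz)
  let L := (toPermHom (stabilizer G a) β).range
  have hLJ : SmallJordan.IsJordan L X' := by
    intro x hx y hy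
    obtain ⟨g, hg, hgxy⟩ := hJ x (Finset.mem_subtype.1 hx) y (Finset.mem_subtype.1 hy)
    exact ⟨⟨_, ⟨g, hg a ha⟩, rfl⟩, fun z hz => Subtype.ext (hg z fun h => hz (Finset.mem_subtype.2 h)),
      Subtype.ext hgxy⟩
  rcases Nat.lt_or_ge (2 * X.card) (n - 1) with hlt | hge
  · -- induction
    have hLp : IsPreprimitive L β := by
      haveI := hpa
      exact isPreprimitive_congr (φ := (toPermHom (stabilizer G a) β).rangeRestrict)
        (f := { toFun := id, map_smul' := fun _ _ => rfl })
        (MonoidHom.rangeRestrict_surjective _) Function.bijective_id |>.1 hpa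
    have hA := ih (n - 1) (by omega) L X' (by omega) hLp (by omega) (by omega) hLJ
    obtain ⟨u, -, v, -, w, -, huv, huw, hvw⟩ :=
      Finset.two_lt_card.1 (show 2 < (Finset.univ : Finset β).card by rw [Finset.card_univ]; omega)
    have h3c : Equiv.Perm.IsThreeCycle (Equiv.swap u v * Equiv.swap u w) :=
      Equiv.Perm.isThreeCycle_swap_mul_swap_same huv huw hvw
    obtain ⟨g, hg⟩ := hA h3c.mem_alternatingGroup
    refine alternatingGroup_le_of_support_le_three G hprim (g := ((g : G) : Equiv.Perm α)) (g : G).2 ?_ ?_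
    · intro h
      have : g = 1 := Subtype.ext (Subtype.ext h)
      rw [this, map_one] at hg
      exact h3c.ne_one hg.symm
    · rw [← h3c.card_support, ← Finset.card_map (Function.Embedding.subtype (fun z => z ∈ β))]
      refine Finset.card_le_card fun z hz => ?_
      have hza : z ≠ a := fun e => Equiv.Perm.mem_support.1 hz (e ▸ g.2)
      refine Finset.mem_map.2 ⟨⟨z, (SubMulAction.mem_ofStabilizer_iff G a).2 hza⟩, ?_, rfl⟩
      rw [Equiv.Perm.mem_support, ← hg]
      exact fun h => Equiv.Perm.mem_support.1 hz (congrArg Subtype.val h)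
  · -- degree `2k + 1`
    have hn' : Fintype.card α = 2 * X.card + 1 := by omega
    have ha3 : IsMultiplyPretransitive (stabilizer G a) β 3 := by
      haveI := faithfulSMul_ofStabilizer (G := G) a
      refine S3707.result hpa (X' : Set β) (by rw [Set.ncard_coe_finset]; omega)
        (by rw [Set.ncard_coe_finset, Nat.card_eq_fintype_card]; omega) fun x hx y hy => ?_
      obtain ⟨g, hg, hgxy⟩ := hJ x (Finset.mem_subtype.1 hx) y (Finset.mem_subtype.1 hy)
      exact ⟨⟨g, hg a ha⟩, fun z hz => Subtype.ext (hg z fun h => hz (Finset.mem_subtype.2 h)),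
        Subtype.ext hgxy⟩
    have h4 : IsMultiplyPretransitive G α 4 :=
      (SubMulAction.ofStabilizer.isMultiplyPretransitive (a := a)).2 ha3
    exact SmallJordan.alternatingGroup_le_critical hn' rfl (by omega) hJ 2 le_rfl (by omega) h4

end Cfsg.Agent.Perm
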