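import Cfsg.Agent.Lib.Perm.Subdirect
import Cfsg.Agent.Lib.Perm.MinimalNormal
import Cfsg.Agent.Lib.Socle.Primitive
import Cfsg.Agent.Lib.Socle.DerangementClasses

/-!
# The socle of a primitive group and the shape of a point stabiliser in it
-/

namespace Cfsg.Agent.Perm

open MulAction
open scoped Pointwise

universe u v

variable {G : Type u} {α : Type v} [Group G] [MulAction G α]

/-- All simple factors are copies of one group in `Type`. -/
theorem exists_common_factor [Finite G] {N : Subgroup G} {𝒯 : Set (Subgroup G)}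
    (hF : Socle.IsFactors N 𝒯) :
    ∃ (T : Type) (_ : Group T), IsSimpleGroup T ∧ ¬ IsMulCommutative T ∧
      ∀ S : 𝒯, Nonempty ((S : Subgroup G) ≃* T) := by
  obtain ⟨T₀, hT₀⟩ := hF.nonempty
  let f₀ : T₀ ≃* Shrink.{0} T₀ := Shrink.mulEquiv.symm
  have := hF.simple T₀ hT₀
  have : Nontrivial (Shrink.{0} T₀) := f₀.symm.toEquiv.nontrivial
  refine ⟨Shrink.{0} T₀, inferInstance, ⟨fun K hK => ?_⟩, fun hc => hF.nonabelian T₀ hT₀
    ⟨⟨fun x y => f₀.injective (by rw [map_mul, map_mul, mul_comm'])⟩⟩, fun S => ?_⟩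
  · rcases (hK.comap f₀.toMonoidHom).eq_bot_or_eq_top with h | h
    · exact Or.inl ((Subgroup.map_comap_eq_self_of_surjective f₀.surjective K).symm.trans
        ((congrArg (Subgroup.map f₀.toMonoidHom) h).trans (Subgroup.map_bot _)))
    · exact Or.inr ((Subgroup.map_comap_eq_self_of_surjective f₀.surjective K).symm.trans
        ((congrArg (Subgroup.map f₀.toMonoidHom) h).trans
          (Subgroup.map_top_of_surjective _ f₀.surjective)))
  · obtain ⟨S, hS⟩ := S
    obtain ⟨g, rfl⟩ := hF.exists_conj T₀ hT₀ S hS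
    exact ⟨((T₀.equivMapOfInjective (MulAut.conj g).toMonoidHom (MulAut.conj g).injective).symm.trans
      f₀)⟩

/-- Coordinates make a minimal normal subgroup a power of a simple group. -/
theorem coords_bijective [Finite G] {N : Subgroup G} [N.Normal] {𝒯 : Set (Subgroup G)}
    (hF : Socle.IsFactors N 𝒯) {T : Type} [Group T] {ι : Type} (τ : ι ≃ 𝒯)
    (ψ : ∀ S : 𝒯, (S : Subgroup G) ≃* T) :
    Function.Bijective fun (n : N) (i : ι) =>
      ψ (τ i) ⟨hF.coord (τ i).2 n, hF.coord_mem (τ i).2 n⟩ := by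
  refine ⟨fun m n h => hF.coord_ext fun S hS => ?_, fun f => ?_⟩
  · have := congrFun h (τ.symm ⟨S, hS⟩)
    have h2 : hF.coord (τ (τ.symm ⟨S, hS⟩)).2 m = hF.coord (τ (τ.symm ⟨S, hS⟩)).2 n :=
      congrArg Subtype.val ((ψ _).injective this)
    have e : τ (τ.symm ⟨S, hS⟩) = ⟨S, hS⟩ := τ.apply_symm_apply _
    rwa [hF.coord_congr _ hS (congrArg Subtype.val e) m,
      hF.coord_congr _ hS (congrArg Subtype.val e) n] at h2
  · classical
    obtain ⟨n, hn⟩ := Socle.exists_coord_eq hF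
      (fun S hS => (((ψ ⟨S, hS⟩).symm (f (τ.symm ⟨S, hS⟩))) : S))
      (fun S hS => ((ψ ⟨S, hS⟩).symm (f (τ.symm ⟨S, hS⟩))).2)
    refine ⟨n, funext fun i => ?_⟩
    have hx : (⟨hF.coord (τ i).2 n, hF.coord_mem (τ i).2 n⟩ : (τ i : Subgroup G)) =
        (ψ (τ i)).symm (f (τ.symm (τ i))) := Subtype.ext (hn _ (τ i).2)
    simp only [hx, MulEquiv.apply_symm_apply, Equiv.symm_apply_apply]

/-- O'Nan–Scott: the point stabiliser in a non-abelian minimal normal subgroup of a primitive group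
is a product of proper subgroups of the factors, or a product of diagonals over blocks of equal
size at least 2. -/
theorem stabilizer_shape [Finite G] [FaithfulSMul G α] [IsPreprimitive G α] [Nontrivial α]
    (N : Subgroup G) [hNn : N.Normal] (hN : N ≠ ⊥)
    (hmin : ∀ M : Subgroup G, M.Normal → M ≤ N → M = ⊥ ∨ M = N) (hnab : ¬ IsMulCommutative N)
    (a : α) :
    ∃ (T : Type) (_ : Group T) (m : ℕ) (e : N ≃* (Fin m → T)), IsSimpleGroup T ∧
      ¬ IsMulCommutative T ∧ 0 < m ∧
      ((∃ K : Fin m → Subgroup T, (∀ i, K i ≠ ⊤) ∧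
          ∀ n : N, (n : G) • a = a ↔ ∀ i, e n i ∈ K i) ∨
        (∃ (k : ℕ) (c : Fin m → Fin m), 2 ≤ k ∧
          (∀ j : Fin m, Nat.card {i : Fin m // c i = j} = k ∨ Nat.card {i : Fin m // c i = j} = 0) ∧
          ∀ n : N, (n : G) • a = a ↔ ∀ i j : Fin m, c i = c j → e n i = e n j)) := by
  have : Nonempty α := ⟨a⟩
  obtain ⟨𝒯, hF⟩ := Socle.exists_factors N hN hmin hnab
  obtain ⟨T, hTg, hTs, hTna, hψ⟩ := exists_common_factor hF
  obtain ⟨T₀, hT₀⟩ := hF.nonempty
  have : Nonempty 𝒯 := ⟨⟨T₀, hT₀⟩⟩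
  set m := Nat.card 𝒯
  let τ : Fin m ≃ 𝒯 := (Finite.equivFin 𝒯).symm
  let ψ : ∀ S : 𝒯, (S : Subgroup G) ≃* T := fun S => (hψ S).some
  -- the coordinate homomorphisms
  let φ : Fin m → N →* T := fun i =>
    (ψ (τ i)).toMonoidHom.comp (MonoidHom.mk' (fun n => (⟨hF.coord (τ i).2 n, hF.coord_mem (τ i).2 n⟩ :
      (τ i : Subgroup G))) fun x y => Subtype.ext (map_mul _ x y))
  have hbij : Function.Bijective fun (n : N) (i : Fin m) => φ i n := coords_bijective hF τ ψ
  refine ⟨T, hTg, m, ?_⟩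
  have hm : 0 < m := Nat.card_pos
  by_cases hfull : ∀ S (hS : S ∈ 𝒯), Socle.projStab hF a hS = S
  · -- diagonal case
    rcases Socle.dichotomy (α := α) hF with hder | ⟨hr, hfix⟩
    swap
    · exfalso
      obtain ⟨⟨t, ht, htd⟩, -⟩ := hr T₀ hT₀
      rw [← hfull T₀ hT₀] at ht
      obtain ⟨n, hn, rfl⟩ := (Socle.mem_projStab hF hT₀).1 ht
      exact htd a (hfix n T₀ hT₀ a hn)
    let D : Subgroup N := (stabilizer G a).subgroupOf N
    have hsurj : ∀ i, Function.Surjective ((φ i).comp D.subtype) := by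
      intro i t
      have hx : ((ψ (τ i)).symm t : G) ∈ Socle.projStab hF a (τ i).2 :=
        (hfull _ (τ i).2).ge ((ψ (τ i)).symm t).2
      obtain ⟨n, hn, hnx⟩ := (Socle.mem_projStab hF (τ i).2).1 hx
      refine ⟨⟨n, hn⟩, ?_⟩
      change ψ (τ i) ⟨hF.coord (τ i).2 n, hF.coord_mem (τ i).2 n⟩ = t
      rw [show (⟨hF.coord (τ i).2 n, hF.coord_mem (τ i).2 n⟩ : (τ i : Subgroup G)) =
        (ψ (τ i)).symm t from Subtype.ext hnx, MulEquiv.apply_symm_apply]
    haveI := hTs
    obtain ⟨c, χ, hciff, hcc, hχ, hrep⟩ :=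
      exists_diagonal_structure hTna (fun i => (φ i).comp D.subtype) hsurj
    let e : N ≃* (Fin m → T) := MulEquiv.ofBijective
      (MonoidHom.mk' (fun n i => (χ i).symm (φ i n)) fun x y => funext fun i => by simp)
      ⟨fun x y h => hbij.1 (funext fun i => (χ i).symm.injective (congrFun h i)), fun f => by
        obtain ⟨n, hn⟩ := hbij.2 fun i => χ i (f i)
        refine ⟨n, funext fun i => ?_⟩
        change (χ i).symm (φ i n) = f i
        have h1 : φ i n = χ i (f i) := congrFun hn i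
        rw [h1, MulEquiv.symm_apply_apply]⟩
    have heD : ∀ d : D, ∀ i, e d.1 i = φ (c i) d.1 := fun d i => by
      change (χ i).symm (φ i d.1) = _
      rw [MulEquiv.symm_apply_eq]
      exact hχ i d
    have hiff : ∀ n : N, (n : G) • a = a ↔ ∀ i j : Fin m, c i = c j → e n i = e n j := by
      intro n
      constructor
      · intro hn i j hij
        rw [heD ⟨n, hn⟩, heD ⟨n, hn⟩, hij]
      · intro hn
        obtain ⟨d, hd⟩ := hrep (e n)
        have : d.1 = n := e.injective (funext fun i =>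
          (heD d i).trans ((hd i).trans (hn (c i) i (hcc i))))
        exact this ▸ d.2
    -- the stabiliser permutes the classes transitively
    have hσ : ∀ h : G, h • a = a → ∃ σ : Fin m → Fin m, Function.Injective σ ∧
        (∀ i, (τ (σ i) : Subgroup G) = Socle.conjSub h (τ i)) ∧
        ∀ i j, c i = c j → c (σ i) = c (σ j) := by
      intro h ha
      refine ⟨fun i => τ.symm ⟨_, hF.conj_mem _ (τ i).2 h⟩, fun i j hij => ?_, fun i => by simp,
        fun i j hij => ?_⟩
      · have h2 := congrArg (fun k : Fin m => (τ k : Subgroup G)) hij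
        simp only [Equiv.apply_symm_apply] at h2
        have h3 := congrArg (Socle.conjSub h⁻¹) h2
        simp only [Socle.conjSub_mul, inv_mul_cancel, Socle.conjSub_one] at h3
        exact τ.injective (Subtype.ext h3)
      · rw [hciff] at hij ⊢
        have key : ∀ i : Fin m, ∀ d : D, φ (τ.symm ⟨_, hF.conj_mem _ (τ i).2 h⟩) d.1 = 1 ↔
            φ i ⟨h⁻¹ * d.1 * h, hNn.conj_mem' _ d.1.2 h⟩ = 1 := by
          intro i d
          have h1 : ∀ k n, φ k n = 1 ↔ hF.coord (τ k).2 n = 1 := fun k n => by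
            change ψ (τ k) _ = 1 ↔ _
            rw [map_eq_one_iff _ (ψ (τ k)).injective, Subtype.ext_iff]
            rfl
          rw [h1, h1]
          have e1 : d.1 = (⟨h * (h⁻¹ * d.1 * h) * h⁻¹,
              hNn.conj_mem _ (hNn.conj_mem' _ d.1.2 h) h⟩ : N) := Subtype.ext (by group)
          have h2 := hF.coord_conj (τ i).2 h ⟨h⁻¹ * d.1 * h, hNn.conj_mem' _ d.1.2 h⟩
          rw [← e1] at h2
          rw [hF.coord_congr _ (hF.conj_mem _ (τ i).2 h)
            (show (τ (τ.symm ⟨_, hF.conj_mem _ (τ i).2 h⟩) : Subgroup G) = _ by simp) d.1, h2]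
          simp
        ext d
        simp only [MonoidHom.mem_ker, MonoidHom.comp_apply, Subgroup.coe_subtype]
        rw [key i d, key j d]
        have hd' : (h⁻¹ * (d.1 : G) * h) • a = a := by
          have hd : (d.1 : G) • a = a := d.2
          rw [mul_smul, mul_smul, ha, hd, inv_smul_eq_iff, ha]
        exact SetLike.ext_iff.1 hij (⟨⟨h⁻¹ * d.1 * h, hNn.conj_mem' _ d.1.2 h⟩, hd'⟩ : D)
    have hle : ∀ i j, Nat.card {l // c l = c i} ≤ Nat.card {l // c l = c j} := by
      intro i j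
      obtain ⟨h, ha, hh⟩ := Socle.exists_stabilizer_conj (α := α) hF a (τ i).2 (τ j).2
      obtain ⟨σ, hσi, hστ, hσc⟩ := hσ h ha
      have hij : σ i = j := τ.injective (Subtype.ext ((hστ i).trans hh))
      exact Nat.card_le_card_of_injective
        (fun l => (⟨σ l.1, hij ▸ hσc l.1 i l.2⟩ : {l // c l = c j}))
        fun l l' h => Subtype.ext (hσi (congrArg Subtype.val h))
    let i₀ : Fin m := ⟨0, hm⟩
    refine ⟨e, hTs, hTna, hm, Or.inr ⟨Nat.card {l // c l = c i₀}, c, ?_, fun j => ?_, hiff⟩⟩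
    · by_contra hk
      have hpos : 0 < Nat.card {l // c l = c i₀} := by
        haveI : Nonempty {l // c l = c i₀} := ⟨⟨i₀, rfl⟩⟩
        exact Nat.card_pos
      obtain ⟨hsub, -⟩ := Nat.card_eq_one_iff_unique.1
        (show Nat.card {l // c l = c i₀} = 1 by omega)
      have hci : c i₀ = i₀ :=
        congrArg Subtype.val (Subsingleton.elim (⟨c i₀, hcc i₀⟩ : {l // c l = c i₀}) ⟨i₀, rfl⟩)
      -- an element of the factor `τ i₀` would fix `a`
      obtain ⟨⟨t, htT⟩, ht1⟩ := Subgroup.ne_bot_iff_exists_ne_one.mp (hF.ne_bot (τ i₀).2)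
      refine hder _ (τ i₀).2 t htT (fun h => ht1 (Subtype.ext h)) a ?_
      refine (hiff ⟨t, hF.le _ (τ i₀).2 htT⟩).2 fun i j hij => ?_
      rcases eq_or_ne i i₀ with rfl | hi
      · have hj : (⟨j, hij.symm⟩ : {l // c l = c i₀}) = ⟨i₀, rfl⟩ := Subsingleton.elim _ _
        rw [show j = i₀ from congrArg Subtype.val hj]
      · rcases eq_or_ne j i₀ with rfl | hj
        · exact absurd (congrArg Subtype.val
            (Subsingleton.elim (⟨i, hij⟩ : {l // c l = c i₀}) ⟨i₀, rfl⟩)) hi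
        · have h1 : ∀ l, l ≠ i₀ → φ l ⟨t, hF.le _ (τ i₀).2 htT⟩ = 1 := fun l hl => by
            change ψ (τ l) _ = 1
            rw [map_eq_one_iff _ (ψ (τ l)).injective, Subtype.ext_iff]
            exact hF.coord_of_ne (τ l).2 (τ i₀).2
              (fun h => hl (τ.injective (Subtype.ext h))) htT
          change (χ i).symm _ = (χ j).symm _
          rw [h1 i hi, h1 j hj, map_one, map_one]
    · by_cases hj : ∃ i, c i = j
      · obtain ⟨i, rfl⟩ := hj
        exact Or.inl (le_antisymm (hle i i₀) (hle i₀ i))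
      · right
        haveI : IsEmpty {i : Fin m // c i = j} := ⟨fun x => hj ⟨x.1, x.2⟩⟩
        exact Nat.card_of_isEmpty
  · -- product case
    let e : N ≃* (Fin m → T) := MulEquiv.ofBijective
      (MonoidHom.mk' (fun n i => φ i n) fun x y => funext fun i => map_mul (φ i) x y) hbij
    have hprop : ∀ S (hS : S ∈ 𝒯), Socle.projStab hF a hS ≠ S := by
      intro S hS hSe
      refine hfull fun R hR => le_antisymm (Socle.projStab_le hF a hR) ?_
      obtain ⟨h, ha, he⟩ := Socle.exists_stabilizer_conj (α := α) hF a hS hR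
      calc R = Socle.conjSub h (Socle.projStab hF a hS) := by rw [hSe, he]
        _ ≤ _ := Socle.conjSub_projStab_le hF a hS hR ha he
    let K : Fin m → Subgroup T := fun i =>
      ((Socle.projStab hF a (τ i).2).subgroupOf (τ i : Subgroup G)).map (ψ (τ i)).toMonoidHom
    have hmemK : ∀ (n : N) i, φ i n ∈ K i ↔ hF.coord (τ i).2 n ∈ Socle.projStab hF a (τ i).2 := by
      intro n i
      change ψ (τ i) ⟨hF.coord (τ i).2 n, hF.coord_mem (τ i).2 n⟩ ∈ K i ↔ _
      constructor
      · rintro ⟨x, hx, hxe⟩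
        have hx' : (x : G) ∈ Socle.projStab hF a (τ i).2 := hx
        rw [congrArg Subtype.val ((ψ (τ i)).injective hxe)] at hx'
        exact hx'
      · exact fun h => ⟨⟨_, hF.coord_mem (τ i).2 n⟩, h, rfl⟩
    refine ⟨e, hTs, hTna, hm, Or.inl ⟨K, fun i hi => hprop _ (τ i).2 ?_, fun n => ?_⟩⟩
    · refine le_antisymm (Socle.projStab_le hF a (τ i).2) fun x hx => ?_
      have := hi.ge (Subgroup.mem_top (ψ (τ i) ⟨x, hx⟩))
      obtain ⟨y, hy, hye⟩ := this
      rw [show x = (y : G) from congrArg Subtype.val ((ψ (τ i)).injective hye).symm]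
      exact hy
    let X : Subgroup G :=
      { carrier := {g | ∃ n : N, (∀ S (hS : S ∈ 𝒯), hF.coord hS n ∈ Socle.projStab hF a hS) ∧
          (n : G) = g}
        one_mem' := ⟨1, fun S hS => by rw [map_one]; exact Subgroup.one_mem _, rfl⟩
        mul_mem' := by
          rintro _ _ ⟨x, hx, rfl⟩ ⟨y, hy, rfl⟩
          exact ⟨x * y, fun S hS => by rw [map_mul]; exact mul_mem (hx S hS) (hy S hS), rfl⟩
        inv_mem' := by
          rintro _ ⟨x, hx, rfl⟩
          exact ⟨x⁻¹, fun S hS => by rw [map_inv]; exact inv_mem (hx S hS), rfl⟩ }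
    have hmemX : ∀ n : N, (n : G) ∈ X ↔
        ∀ S (hS : S ∈ 𝒯), hF.coord hS n ∈ Socle.projStab hF a hS := fun n =>
      ⟨fun ⟨x, hx, hxn⟩ => by rwa [← (Subtype.ext hxn : x = n)], fun h => ⟨n, h, rfl⟩⟩
    have hinv : stabilizer G a ≤ Subgroup.normalizer (X : Set G) := by
      have hsub : ∀ h : G, h • a = a → ∀ x ∈ X, h * x * h⁻¹ ∈ X := by
        rintro h ha _ ⟨x, hx, rfl⟩
        refine ⟨⟨h * x * h⁻¹, hNn.conj_mem _ x.2 h⟩, fun S hS => ?_, rfl⟩
        obtain ⟨R, hR, rfl⟩ : ∃ R ∈ 𝒯, Socle.conjSub h R = S :=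
          ⟨Socle.conjSub h⁻¹ S, hF.conj_mem S hS h⁻¹,
            by rw [Socle.conjSub_mul, mul_inv_cancel, Socle.conjSub_one]⟩
        rw [hF.coord_congr hS (hF.conj_mem R hR h) rfl, hF.coord_conj hR h x]
        exact Socle.conjSub_projStab_le hF a hR hS ha rfl (Socle.conj_mem_conjSub (hx R hR))
      intro h ha
      rw [Subgroup.mem_normalizer_iff]
      intro x
      refine ⟨hsub h ha x, fun hx => ?_⟩
      have := hsub h⁻¹ (inv_smul_eq_iff.2 (ha : h • a = a).symm) _ hx
      simpa [mul_assoc] using this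
    have hNt : IsPretransitive N α := isPretransitive_of_normal hN
    have hco := IsPreprimitive.isCoatom_stabilizer_of_isPreprimitive (G := G) a
    have hXN : X ≤ N := fun g ⟨x, _, hx⟩ => hx ▸ x.2
    have hX : ∀ x : G, x ∈ X → x • a = a := by
      intro x hx
      rcases hco.le_iff.1 (le_sup_left : stabilizer G a ≤ stabilizer G a ⊔ X) with h | h
      · exfalso
        refine hprop T₀ hT₀ (le_antisymm (Socle.projStab_le hF a hT₀) fun y hy => ?_)
        let n : N := ⟨y, hF.le T₀ hT₀ hy⟩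
        have hmem : y ∈ ((stabilizer G a : Set G) * (X : Set G)) := by
          rw [← Subgroup.coe_mul_of_left_le_normalizer_right _ _ hinv, h]
          trivial
        obtain ⟨u, hu, v, hv, huv⟩ := Set.mem_mul.1 hmem
        have huN : u ∈ N := by
          have := N.mul_mem (hF.le T₀ hT₀ hy) (N.inv_mem (hXN hv))
          rwa [← huv, mul_inv_cancel_right] at this
        have hy' : (n : G) ∈ X := by
          change y ∈ X
          rw [← huv]
          refine X.mul_mem ((hmemX ⟨u, huN⟩).2 fun S hS => ?_) hv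
          exact (Socle.mem_projStab hF hS).2 ⟨⟨u, huN⟩, hu, rfl⟩
        have := (hmemX n).1 hy' T₀ hT₀
        rwa [hF.coord_self hT₀ (n := n) hy] at this
      · exact h.le (Subgroup.mem_sup_right hx)
    constructor
    · exact fun hn i => (hmemK n i).2 ((Socle.mem_projStab hF (τ i).2).2 ⟨n, hn, rfl⟩)
    · intro hn
      refine hX _ ((hmemX n).2 fun S hS => ?_)
      have h1 := (hmemK n (τ.symm ⟨S, hS⟩)).1 (hn _)
      have he : (τ (τ.symm ⟨S, hS⟩) : Subgroup G) = S :=
        congrArg Subtype.val (τ.apply_symm_apply _)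
      rw [hF.coord_congr _ hS he] at h1
      have hpc : ∀ {R R' : Subgroup G} (hR : R ∈ 𝒯) (hR' : R' ∈ 𝒯), R = R' →
          Socle.projStab hF a hR = Socle.projStab hF a hR' := by
        intro R R' hR hR' h; subst h; rfl
      rwa [hpc _ hS he] at h1

/-- Disjoint commuting subgroups generate their direct product. -/
theorem nonempty_prod_mulEquiv_sup {A B : Subgroup G} [A.Normal] [B.Normal] (h : A ⊓ B = ⊥) :
    Nonempty (A × B ≃* (A ⊔ B : Subgroup G)) := by
  have hcomm : ∀ (x : A) (y : B), (x : G) * y = y * x := fun x y =>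
    (Subgroup.commute_of_normal_of_disjoint A B ‹_› ‹_› (disjoint_iff.2 h) x y x.2 y.2).eq
  let φ : A × B →* (A ⊔ B : Subgroup G) :=
    MonoidHom.mk' (fun q => ⟨(q.1 : G) * q.2, Subgroup.mul_mem_sup q.1.2 q.2.2⟩) fun q r => by
      refine Subtype.ext ?_
      change ((q.1 : G) * r.1) * ((q.2 : G) * r.2) = (q.1 : G) * q.2 * ((r.1 : G) * r.2)
      rw [mul_assoc (q.1 : G), ← mul_assoc (r.1 : G), hcomm r.1 q.2]
      group
  refine ⟨MulEquiv.ofBijective φ ⟨(injective_iff_map_eq_one φ).2 ?_, ?_⟩⟩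
  · rintro ⟨x, y⟩ hxy
    have h1 : (x : G) * y = 1 := congrArg Subtype.val hxy
    have hx : (x : G) ∈ A ⊓ B := ⟨x.2, by
      rw [eq_inv_of_mul_eq_one_left h1]; exact B.inv_mem y.2⟩
    rw [h, Subgroup.mem_bot] at hx
    rw [hx, one_mul] at h1
    exact Prod.ext (Subtype.ext hx) (Subtype.ext h1)
  · rintro ⟨g, hg⟩
    obtain ⟨x, hx, y, hy, rfl⟩ := Subgroup.mem_sup_of_normal_left.1 hg
    exact ⟨(⟨x, hx⟩, ⟨y, hy⟩), rfl⟩

/-- The socle of a finite primitive group is regular elementary abelian or a power of a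
non-abelian simple group. -/
theorem socle_structure [Finite G] [FaithfulSMul G α] [IsPreprimitive G α] :
    (∃ p : ℕ, p.Prime ∧
      IsMulCommutative ↥(sSup {V : Subgroup G | V.Normal ∧ V ≠ ⊥ ∧
        ∀ M : Subgroup G, M.Normal → M ≤ V → M = ⊥ ∨ M = V}) ∧
      (∀ x : ↥(sSup {V : Subgroup G | V.Normal ∧ V ≠ ⊥ ∧
        ∀ M : Subgroup G, M.Normal → M ≤ V → M = ⊥ ∨ M = V}), x ^ p = 1) ∧
      IsPretransitive ↥(sSup {V : Subgroup G | V.Normal ∧ V ≠ ⊥ ∧
        ∀ M : Subgroup G, M.Normal → M ≤ V → M = ⊥ ∨ M = V}) α ∧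
      ∀ ω : α, stabilizer ↥(sSup {V : Subgroup G | V.Normal ∧ V ≠ ⊥ ∧
        ∀ M : Subgroup G, M.Normal → M ≤ V → M = ⊥ ∨ M = V}) ω = ⊥) ∨
    (∃ (T : Type) (_ : Group T) (m : ℕ), 1 ≤ m ∧ IsSimpleGroup T ∧ ¬ IsMulCommutative T ∧
      Nonempty (↥(sSup {V : Subgroup G | V.Normal ∧ V ≠ ⊥ ∧
        ∀ M : Subgroup G, M.Normal → M ≤ V → M = ⊥ ∨ M = V}) ≃* (Fin m → T))) := by
  set 𝒮 : Set (Subgroup G) := {V : Subgroup G | V.Normal ∧ V ≠ ⊥ ∧
    ∀ M : Subgroup G, M.Normal → M ≤ V → M = ⊥ ∨ M = V} with h𝒮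
  rcases subsingleton_or_nontrivial G with hG | hG
  · refine Or.inl ⟨2, Nat.prime_two, ⟨⟨fun x y => Subsingleton.elim _ _⟩⟩,
      fun x => Subsingleton.elim _ _, ⟨fun x y => ?_⟩, fun ω => Subsingleton.elim _ _⟩
    obtain ⟨g, hg⟩ := exists_smul_eq G x y
    exact ⟨1, by rw [← hg, Subsingleton.elim g 1, one_smul, one_smul]⟩
  have hαne : Nonempty α := by
    by_contra h
    rw [not_nonempty_iff] at h
    obtain ⟨g, hg⟩ := exists_ne (1 : G)
    exact hg (eq_one_of_forall_smul_eq (α := α) fun x => isEmptyElim x)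
  obtain ⟨M, hMn, hM0, hMmin⟩ := Socle.exists_minimal_normal (G := G)
  have hM : M ∈ 𝒮 := ⟨hMn, hM0, hMmin⟩
  by_cases habel : ∃ L ∈ 𝒮, IsMulCommutative L
  · obtain ⟨L, ⟨hLn, hL0, hLmin⟩, hLc⟩ := habel
    obtain ⟨ht, hreg, hcent⟩ := regular_of_abelian_normal (α := α) hL0
    have heq : sSup 𝒮 = L := by
      refine le_antisymm (sSup_le ?_) (le_sSup ⟨hLn, hL0, hLmin⟩)
      rintro V ⟨hVn, hV0, hVmin⟩
      by_contra hV
      have hle := le_centralizer_of_minimal hVmin hLmin (fun e => hV e.le)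
      exact hV (hle.trans hcent.le)
    obtain ⟨p, hp, hexp⟩ := exists_prime_exponent_of_abelian_minimal L hL0 hLmin
    rw [heq]
    exact Or.inl ⟨p, hp, hLc, fun x => Subtype.ext (hexp x x.2), ht, hreg⟩
  simp only [not_exists, not_and] at habel
  right
  obtain ⟨T, hTg, m, hTs, hm, ⟨e⟩⟩ := exists_simple_power M hM0 hMmin
  have hTna : ¬ IsMulCommutative T := fun hc => habel M hM
    ⟨⟨fun x y => e.injective (funext fun i => by rw [map_mul, map_mul]; exact mul_comm' _ _)⟩⟩
  by_cases huniq : ∀ V ∈ 𝒮, V = M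
  · rw [show sSup 𝒮 = M from le_antisymm (sSup_le fun V hV => (huniq V hV).le) (le_sSup hM)]
    exact ⟨T, hTg, m, hm, hTs, hTna, ⟨e⟩⟩
  simp only [not_forall] at huniq
  obtain ⟨M', hM', hne⟩ := huniq
  obtain ⟨hM'n, hM'0, hM'min⟩ := hM'
  have hcm : M ≤ Subgroup.centralizer (M' : Set G) := le_centralizer_of_minimal hMmin hM'min (Ne.symm hne)
  have hcm' := Subgroup.le_centralizer_iff.1 hcm
  obtain ⟨hMt, hMs⟩ := regular_of_commuting_normal (α := α) hM0 hM'0 hcm
  obtain ⟨hM't, hM's⟩ := regular_of_commuting_normal (α := α) hM'0 hM0 hcm'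
  have hcent : Subgroup.centralizer (M : Set G) = M' := by
    haveI := hMt
    exact (eq_of_transitive_le_semiregular hcm' hM't fun a => semiregular_centralizer a).symm
  have heq : sSup 𝒮 = M ⊔ M' := by
    refine le_antisymm (sSup_le ?_) (sup_le (le_sSup hM) (le_sSup ⟨hM'n, hM'0, hM'min⟩))
    rintro V ⟨hVn, hV0, hVmin⟩
    rcases eq_or_ne V M with rfl | hV
    · exact le_sup_left
    · exact ((le_centralizer_of_minimal hVmin hMmin hV).trans hcent.le).trans le_sup_right
  obtain ⟨a⟩ := hαne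
  haveI := hMt
  haveI := hM't
  choose w hw using fun x : M => exists_smul_eq M' a (x⁻¹ • a)
  have hinj := bijective_smul_of_regular (hM's a)
  let f : M →* M' := MonoidHom.mk' w fun x y => hinj.1 (by
    change w (x * y) • a = (w x * w y) • a
    rw [mul_smul, hw, hw y, mul_inv_rev, mul_smul, ← hw x]
    change (((y⁻¹ : M) : G) • ((w x : G) • a)) = (w x : G) • (((y⁻¹ : M) : G) • a)
    rw [← mul_smul, ← mul_smul, Subgroup.mem_centralizer_iff.1 (hcm (y⁻¹).2) _ (w x).2])
  have hf : Function.Bijective f := by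
    refine ⟨fun x y h => ?_, fun n => ?_⟩
    · have h1 := hw x
      rw [show w x = w y from h, hw y] at h1
      simpa using ((bijective_smul_of_regular (hMs a)).1 h1).symm
    · obtain ⟨x, hx⟩ := exists_smul_eq M a (n • a)
      refine ⟨x⁻¹, hinj.1 ?_⟩
      change w x⁻¹ • a = n • a
      rw [hw, inv_inv, hx]
  have hinf : M ⊓ M' = ⊥ := by
    rcases hMmin (M ⊓ M') inferInstance inf_le_left with h | h
    · exact h
    · rcases hM'min (M ⊓ M') inferInstance inf_le_right with h' | h'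
      · exact h'
      · exact absurd (h'.symm.trans h) hne
  obtain ⟨E⟩ := nonempty_prod_mulEquiv_sup hinf
  rw [heq]
  refine ⟨T, hTg, m + m, by omega, hTs, hTna, ⟨E.symm.trans
    ((MulEquiv.prodCongr e ((MulEquiv.ofBijective f hf).symm.trans e)).trans ?_)⟩⟩
  exact
    { toFun := fun q => Fin.addCases q.1 q.2
      invFun := fun g => (fun i => g (Fin.castAdd m i), fun i => g (Fin.natAdd m i))
      left_inv := fun q => by
        ext i <;> simp only [Fin.addCases_left, Fin.addCases_right]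
      right_inv := fun g => funext fun i => by
        refine Fin.addCases ?_ ?_ i <;> intro j <;>
          simp only [Fin.addCases_left, Fin.addCases_right]
      map_mul' := fun q r => funext fun i => by
        refine Fin.addCases ?_ ?_ i <;> intro j <;>
          simp only [Pi.mul_apply, Prod.fst_mul, Prod.snd_mul, Fin.addCases_left,
            Fin.addCases_right] }

end Cfsg.Agent.Perm
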