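import Mathlib

/-!
# Families of surjections onto a non-abelian simple group

A group mapping onto a non-abelian simple group by several homomorphisms maps onto the product
over the distinct kernels; so a subdirect subgroup of a power of such a group is a product of
diagonals.
-/

namespace Cfsg.Agent.Perm

variable {D T ι : Type*} [Group D] [Group T] [IsSimpleGroup T]

/-- The image of the intersection of kernels different from `ker (φ q)` is everything. -/
theorem map_kernels_eq_top (hna : ¬ IsMulCommutative T) (φ : ι → D →* T)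
    (hsurj : ∀ i, Function.Surjective (φ i)) (q : ι) (s : Finset ι)
    (hs : ∀ i ∈ s, (φ i).ker ≠ (φ q).ker) :
    ∀ t : T, ∃ d : D, (∀ i ∈ s, φ i d = 1) ∧ φ q d = t := by
  classical
  induction s using Finset.induction_on with
  | empty => intro t; obtain ⟨d, hd⟩ := hsurj q t; exact ⟨d, by simp, hd⟩
  | @insert j s hj ih =>
    have ih' := ih fun i hi => hs i (Finset.mem_insert_of_mem hi)
    -- the image of `ker (φ j)` is everything
    have hj' : Subgroup.map (φ q) (φ j).ker = ⊤ := by
      rcases ((φ j).normal_ker.map (φ q) (hsurj q)).eq_bot_or_eq_top with h | h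
      · exfalso
        apply hs j (Finset.mem_insert_self j s)
        have hle : (φ j).ker ≤ (φ q).ker := (Subgroup.map_eq_bot_iff _).1 h
        refine le_antisymm hle fun d hd => ?_
        -- otherwise `ker (φ q)` maps onto `T` by `φ j`
        rcases ((φ q).normal_ker.map (φ j) (hsurj j)).eq_bot_or_eq_top with h' | h'
        · exact (Subgroup.map_eq_bot_iff _).1 h' hd
        · exfalso
          apply hna
          refine ⟨⟨fun u v => ?_⟩⟩
          obtain ⟨x, rfl⟩ := hsurj q u
          obtain ⟨y, rfl⟩ := hsurj q v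
          obtain ⟨x', hx', hxx⟩ := h'.ge (Subgroup.mem_top (φ j x))
          have hq : φ q (x * x'⁻¹) = 1 := hle (by
            rw [MonoidHom.mem_ker, map_mul, map_inv, hxx, mul_inv_cancel])
          rw [map_mul, map_inv, (MonoidHom.mem_ker.1 hx' : φ q x' = 1), inv_one, mul_one] at hq
          rw [hq, one_mul, mul_one]
      · exact h
    let S : Subgroup T :=
      { carrier := {t | ∃ d : D, (∀ i ∈ insert j s, φ i d = 1) ∧ φ q d = t}
        one_mem' := ⟨1, fun i _ => map_one _, map_one _⟩
        mul_mem' := by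
          rintro _ _ ⟨d, hd, rfl⟩ ⟨e, he, rfl⟩
          exact ⟨d * e, fun i hi => by rw [map_mul, hd i hi, he i hi, one_mul], map_mul _ _ _⟩
        inv_mem' := by
          rintro _ ⟨d, hd, rfl⟩
          exact ⟨d⁻¹, fun i hi => by rw [map_inv, hd i hi, inv_one], map_inv _ _⟩ }
    have hSn : S.Normal := ⟨by
      rintro _ ⟨d, hd, rfl⟩ t
      obtain ⟨e, rfl⟩ := hsurj q t
      exact ⟨e * d * e⁻¹, fun i hi => by simp [hd i hi], by simp⟩⟩
    rcases hSn.eq_bot_or_eq_top with h | h
    · exfalso
      apply hna
      refine ⟨⟨fun u v => ?_⟩⟩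
      obtain ⟨d, hd, rfl⟩ := ih' u
      obtain ⟨e, he, rfl⟩ := hj'.ge (Subgroup.mem_top v)
      have he' : φ j e = 1 := he
      have hm : φ q (d * e * d⁻¹ * e⁻¹) ∈ S := by
        refine ⟨_, fun i hi => ?_, rfl⟩
        rcases Finset.mem_insert.1 hi with rfl | hi
        · simp [he']
        · simp [hd i hi]
      rw [h, Subgroup.mem_bot, map_mul, map_mul, map_mul, map_inv, map_inv,
        mul_inv_eq_one, mul_inv_eq_iff_eq_mul] at hm
      exact hm
    · exact fun t => h.ge (Subgroup.mem_top t)

/-- Product of diagonals: representatives `c`, twists `ψ`, and independence of representatives. -/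
theorem exists_diagonal_structure [Finite ι] (hna : ¬ IsMulCommutative T) (φ : ι → D →* T)
    (hsurj : ∀ i, Function.Surjective (φ i)) :
    ∃ (c : ι → ι) (ψ : ι → T ≃* T),
      (∀ i j, c i = c j ↔ (φ i).ker = (φ j).ker) ∧ (∀ i, c (c i) = c i) ∧
      (∀ i d, φ i d = ψ i (φ (c i) d)) ∧
      ∀ f : ι → T, ∃ d : D, ∀ i, φ (c i) d = f (c i) := by
  classical
  rcases isEmpty_or_nonempty ι with hι | hι
  · exact ⟨id, fun _ => MulEquiv.refl T, fun i => isEmptyElim i, fun i => rfl,
      fun i => isEmptyElim i, fun f => ⟨1, fun i => isEmptyElim i⟩⟩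
  have := Fintype.ofFinite ι
  let c : ι → ι := fun i => Function.invFun (fun j => (φ j).ker) (φ i).ker
  have hc : ∀ i, (φ (c i)).ker = (φ i).ker := fun i =>
    Function.invFun_eq (f := fun j => (φ j).ker) ⟨i, rfl⟩
  have hciff : ∀ i j, c i = c j ↔ (φ i).ker = (φ j).ker := fun i j =>
    ⟨fun h => by rw [← hc i, h, hc j], fun h => by simp only [c, h]⟩
  have hcc : ∀ i, c (c i) = c i := fun i => (hciff _ _).2 (hc i)
  let ψ : ι → T ≃* T := fun i =>
    (QuotientGroup.quotientKerEquivOfSurjective (φ (c i)) (hsurj _)).symm.trans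
      ((QuotientGroup.quotientMulEquivOfEq (hc i)).trans
        (QuotientGroup.quotientKerEquivOfSurjective (φ i) (hsurj _)))
  refine ⟨c, ψ, hciff, hcc, fun i d => ?_, fun f => ?_⟩
  · have h : (QuotientGroup.quotientKerEquivOfSurjective (φ (c i)) (hsurj _)).symm (φ (c i) d) =
        (QuotientGroup.mk d : D ⧸ (φ (c i)).ker) := by
      rw [MulEquiv.symm_apply_eq]; rfl
    simp only [ψ, MulEquiv.trans_apply, h]
    rfl
  · suffices H : ∀ s : Finset ι, ∃ d, ∀ i, φ (c i) d = if c i ∈ s then f (c i) else 1 by
      obtain ⟨d, hd⟩ := H Finset.univ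
      exact ⟨d, fun i => by simpa using hd i⟩
    intro s
    induction s using Finset.induction_on with
    | empty => exact ⟨1, fun i => by simp⟩
    | @insert q s hq ih =>
      by_cases hqr : c q = q
      · obtain ⟨d, hd⟩ := ih
        obtain ⟨e, he, heq⟩ := map_kernels_eq_top hna φ hsurj q
          (Finset.univ.filter fun i => c i = i ∧ i ≠ q)
          (fun i hi h => by
            simp only [Finset.mem_filter, Finset.mem_univ, true_and] at hi
            exact hi.2 (hi.1.symm.trans (((hciff i q).2 h).trans hqr))) (f q)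
        refine ⟨e * d, fun i => ?_⟩
        rw [map_mul, hd i]
        by_cases hiq : c i = q
        · rw [hiq, heq]; simp [hq]
        · rw [he (c i) (by simp [hcc i, hiq])]
          simp [hiq]
      · obtain ⟨d, hd⟩ := ih
        refine ⟨d, fun i => ?_⟩
        have hiq : c i ≠ q := fun e => hqr (e ▸ hcc i)
        rw [hd i]
        simp [hiq]

end Cfsg.Agent.Perm
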