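import Mathlib
import Cfsg.Prelude.Def_Classical
import Cfsg.Agent.Lib.Fusion.SympFourBasic
import Cfsg.Agent.Lib.Forms.Symp
import Cfsg.Agent.Lib.Forms.QuadOrder
import Cfsg.Agent.Lib.AutPSp.Card

/-!
Sylow 2-subgroups of `A₈` and `S₈` as seen in `PSp₄(3)` and `O₆⁻(2)`.

`(Q₈ × Q₈) ⋊ 2` maps to `Sp₄(3)` and, via `x ↦ a x α(b)⁻¹` and `x ↦ α(x)⁻¹`, to the even
permutations of `Q₈`. The group `2⁴ ⋊ S₄` maps to `S₈` and, via Eichler transvections and
permutations of four singular vectors of an `O₄⁻(2)`-space, to `O₆⁻(2)`.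
-/

set_option autoImplicit false
set_option linter.unusedSectionVars false
set_option linter.style.haveILetI false

namespace Cfsg.Agent.Perm.SylowTwoEight

theorem card_range {S G : Type*} [Group S] [Group G] [Finite S] [Finite G] {p : ℕ}
    (f : S →* G) (h : Nat.card S = Nat.card f.ker * p ^ (Nat.card G).factorization p) :
    Nat.card f.range = p ^ (Nat.card G).factorization p := by
  refine Nat.eq_of_mul_eq_mul_left (Nat.card_pos (α := f.ker)) ?_
  rw [← Subgroup.index_ker, Subgroup.card_mul_index, h]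

/-- Two homomorphisms with the same kernel whose images are Sylow subgroups. -/
theorem sylow_equiv {S G H : Type*} [Group S] [Group G] [Group H] [Finite S] [Finite G] [Finite H]
    {p : ℕ} [Fact p.Prime] (f : S →* G) (g : S →* H) (hk : f.ker = g.ker)
    (hG : Nat.card S = Nat.card f.ker * p ^ (Nat.card G).factorization p)
    (hH : Nat.card S = Nat.card g.ker * p ^ (Nat.card H).factorization p)
    (P : Sylow p G) (Q : Sylow p H) : Nonempty (↥(P : Subgroup G) ≃* ↥(Q : Subgroup H)) := by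
  refine ⟨((Sylow.equiv P (Sylow.ofCard f.range (card_range f hG))).trans ?_).trans
    (Sylow.equiv (Sylow.ofCard g.range (card_range g hH)) Q)⟩
  exact (QuotientGroup.quotientKerEquivRange f).symm.trans
    ((QuotientGroup.quotientMulEquivOfEq hk).trans (QuotientGroup.quotientKerEquivRange g))

/-! ### `A₈` and `PSp₄(3)` -/

section Symp

open Matrix
open scoped MatrixGroups
open Cfsg.Agent.Fusion.SympFour

/-- `Q₈`. -/
abbrev Q8 : Type := QuaternionGroup 2

/-- `i` in `SL₂(3)`. -/
def mI : SL(2, ZMod 3) := ⟨!![0, 2; 1, 0], by decide⟩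

/-- `j` in `SL₂(3)`. -/
def mJ : SL(2, ZMod 3) := ⟨!![1, 1; 1, 2], by decide⟩

/-- The underlying map of `qHom₀`. -/
def qFun : Q8 → SL(2, ZMod 3)
  | QuaternionGroup.a i => mI ^ i.val
  | QuaternionGroup.xa i => mJ * mI ^ i.val

/-- `Q₈ → SL₂(3)`. -/
def qHom₀ : Q8 →* SL(2, ZMod 3) where
  toFun := qFun
  map_one' := by decide +kernel
  map_mul' := by decide +kernel

theorem qHom₀_injective : Function.Injective qHom₀ := by decide +kernel

variable (F : Type*) [Field F] [CharP F 3]

/-- `Q₈ → SL₂(F)`. -/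
def qHom : Q8 →* SL(2, F) := (Matrix.SpecialLinearGroup.map (ZMod.castHom (dvd_refl 3) F)).comp qHom₀

theorem qHom_injective : Function.Injective (qHom F) := by
  intro a b h
  refine qHom₀_injective (Subtype.ext (Matrix.ext fun i j => ?_))
  exact (ZMod.castHom (dvd_refl 3) F).injective
    (congrFun (congrFun (congrArg Subtype.val h) i) j)

/-- The swap of the factors. -/
def swapAut : MulAut (Q8 × Q8) := MulEquiv.prodComm

/-- The action of `C₂` on `Q₈ × Q₈`. -/
def sAct : Multiplicative (ZMod 2) →* MulAut (Q8 × Q8) where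
  toFun e := if e = 1 then 1 else swapAut
  map_one' := if_pos rfl
  map_mul' a b := by
    refine MulEquiv.ext fun q => ?_
    fin_cases a <;> fin_cases b <;> rfl

/-- `(Q₈ × Q₈) ⋊ 2`. -/
abbrev W : Type := (Q8 × Q8) ⋊[sAct] Multiplicative (ZMod 2)

instance : Finite W := Finite.of_equiv _ SemidirectProduct.equivProd.symm

theorem card_W : Nat.card W = 128 := by
  rw [SemidirectProduct.card, Nat.card_prod, Nat.card_eq_fintype_card, QuaternionGroup.card,
    Nat.card_eq_fintype_card]
  rfl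

theorem c2_cases (e : Multiplicative (ZMod 2)) : e = 1 ∨ e = Multiplicative.ofAdd 1 := by
  fin_cases e
  · exact Or.inl rfl
  · exact Or.inr rfl

/-- The involution `sw`, as a homomorphism. -/
def swHom : Multiplicative (ZMod 2) →* Matrix.symplecticGroup (Fin 2) F where
  toFun e := if e = 1 then 1 else sw
  map_one' := if_pos rfl
  map_mul' a b := by
    rcases c2_cases a with rfl | rfl <;> rcases c2_cases b with rfl | rfl <;>
      simp [sw_sq, show (Multiplicative.ofAdd (1 : ZMod 2)) * Multiplicative.ofAdd 1 = 1 from rfl]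

/-- `(Q₈ × Q₈) ⋊ 2 → Sp₄(F)`. -/
def spHom : W →* Matrix.symplecticGroup (Fin 2) F :=
  SemidirectProduct.lift (dia.comp ((qHom F).prodMap (qHom F))) (swHom F) fun e => by
    refine MonoidHom.ext fun q => ?_
    rcases c2_cases e with rfl | rfl
    · simp [sAct]
    · show dia (qHom F q.2, qHom F q.1) =
        (swHom F (Multiplicative.ofAdd 1)) * dia (qHom F q.1, qHom F q.2) *
          (swHom F (Multiplicative.ofAdd 1))⁻¹
      rw [show swHom F (Multiplicative.ofAdd 1) = sw from rfl, sw_conj]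

theorem swHom_ofAdd : swHom F (Multiplicative.ofAdd 1) = sw := rfl

theorem spHom_injective : Function.Injective (spHom F) := by
  refine (injective_iff_map_eq_one _).2 fun d hd => ?_
  obtain ⟨⟨a, b⟩, e⟩ := d
  have h1 : dia (qHom F a, qHom F b) * swHom F e = 1 := hd
  rcases c2_cases e with rfl | rfl
  · rw [map_one, mul_one, ← map_one dia] at h1
    obtain ⟨ha, hb⟩ := Prod.mk.injEq _ _ _ _ ▸ (dia_injective h1)
    rw [(injective_iff_map_eq_one (qHom F)).1 (qHom_injective F) a ha,
      (injective_iff_map_eq_one (qHom F)).1 (qHom_injective F) b hb]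
    rfl
  · rw [swHom_ofAdd] at h1
    exact absurd ((dia.map_one).trans h1.symm) (dia_ne_mul_sw _ _ _ _)

/-- `(Q₈ × Q₈) ⋊ 2 → PSp₄(F)`. -/
def pspHom : W →* Cfsg.PSp 2 F := (QuotientGroup.mk' _).comp (spHom F)

/-- The element `(-1, -1)`. -/
def wz : W := ⟨(QuaternionGroup.a 2, QuaternionGroup.a 2), 1⟩

theorem q8_neg_one : qHom F (QuaternionGroup.a 2) = -1 := by
  have h : qHom₀ (QuaternionGroup.a 2) = -1 := by decide +kernel
  show Matrix.SpecialLinearGroup.map _ (qHom₀ (QuaternionGroup.a 2)) = -1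
  rw [h]
  refine Subtype.ext (Matrix.ext fun i j => ?_)
  simp only [Matrix.SpecialLinearGroup.map_apply_coe, Matrix.SpecialLinearGroup.coe_neg,
    Matrix.SpecialLinearGroup.coe_one, RingHom.mapMatrix_apply, Matrix.map_apply, Matrix.neg_apply,
    map_neg]
  fin_cases i <;> fin_cases j <;> simp

/-- The centre of `(Q₈ × Q₈) ⋊ 2`. -/
theorem central_W : ∀ (q : Q8 × Q8) (e : Multiplicative (ZMod 2)),
    (∀ g : W, (⟨q, e⟩ : W) * g = g * ⟨q, e⟩) → (⟨q, e⟩ : W) = 1 ∨ (⟨q, e⟩ : W) = wz := by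
  intro q e h
  have h1 := h ⟨(QuaternionGroup.a 1, 1), 1⟩
  have h2 := h ⟨(QuaternionGroup.xa 0, 1), 1⟩
  have h3 := h ⟨1, Multiplicative.ofAdd 1⟩
  clear h
  revert q e
  decide +kernel

theorem mem_ker_pspHom {d : W} : d ∈ (pspHom F).ker ↔ d = 1 ∨ d = wz := by
  have h0 : d ∈ (pspHom F).ker ↔ spHom F d ∈ Subgroup.center (Matrix.symplecticGroup (Fin 2) F) := by
    rw [MonoidHom.mem_ker]
    exact QuotientGroup.eq_one_iff _
  rw [h0]
  constructor
  · intro hd
    exact central_W d.left d.right fun g => spHom_injective F (by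
      rw [map_mul, map_mul]
      exact (Subgroup.mem_center_iff.1 hd (spHom F g)).symm)
  · rintro (rfl | rfl)
    · rw [map_one]
      exact one_mem _
    · refine Subgroup.mem_center_iff.2 fun g => ?_
      have hz : spHom F wz = z0 := by
        show dia (qHom F (QuaternionGroup.a 2), qHom F (QuaternionGroup.a 2)) * swHom F 1 = z0
        rw [map_one, mul_one, q8_neg_one, z0]
      rw [hz, z0_comm]

/-- The automorphism of `Q₈` swapping `i` and `j`, as a function. -/
def alphaFun : Q8 → Q8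
  | QuaternionGroup.a i => if i = 0 then .a 0 else if i = 1 then .xa 0 else if i = 2 then .a 2 else .xa 2
  | QuaternionGroup.xa i => if i = 0 then .a 1 else if i = 1 then .xa 3 else if i = 2 then .a 3 else .xa 1

/-- The automorphism of `Q₈` swapping `i` and `j`. -/
def alpha : Q8 →* Q8 where
  toFun := alphaFun
  map_one' := by decide +kernel
  map_mul' := by decide +kernel

theorem alpha_alpha : ∀ x : Q8, alpha (alpha x) = x := by decide +kernel

/-- `x ↦ a x α(b)⁻¹`. -/
def rho : Q8 × Q8 →* Equiv.Perm Q8 where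
  toFun q := (Equiv.mulLeft q.1).trans (Equiv.mulRight (alpha q.2)⁻¹)
  map_one' := Equiv.ext fun x => by simp
  map_mul' q r := Equiv.ext fun x => by simp [map_mul, mul_assoc]

/-- `x ↦ α(x)⁻¹`. -/
def tau : Equiv.Perm Q8 where
  toFun x := (alpha x)⁻¹
  invFun x := (alpha x)⁻¹
  left_inv x := by simp [map_inv, alpha_alpha]
  right_inv x := by simp [map_inv, alpha_alpha]

/-- `tau` as a homomorphism. -/
def tauHom : Multiplicative (ZMod 2) →* Equiv.Perm Q8 where
  toFun e := if e = 1 then 1 else tau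
  map_one' := if_pos rfl
  map_mul' a b := by
    refine Equiv.ext fun x => ?_
    rcases c2_cases a with rfl | rfl <;> rcases c2_cases b with rfl | rfl <;>
      simp [show (Multiplicative.ofAdd (1 : ZMod 2)) * Multiplicative.ofAdd 1 = 1 from rfl, tau,
        map_inv, alpha_alpha]

/-- `(Q₈ × Q₈) ⋊ 2 → Sym(Q₈)`. -/
def permHom : W →* Equiv.Perm Q8 :=
  SemidirectProduct.lift rho tauHom fun e => by
    refine MonoidHom.ext fun q => Equiv.ext fun x => ?_
    rcases c2_cases e with rfl | rfl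
    · simp [sAct]
    · show q.2 * x * (alpha q.1)⁻¹ =
        (tauHom (Multiplicative.ofAdd 1)) ((rho q) ((tauHom (Multiplicative.ofAdd 1))⁻¹ x))
      rw [show tauHom (Multiplicative.ofAdd 1) = tau from rfl]
      show _ = (alpha (q.1 * (alpha x)⁻¹ * (alpha q.2)⁻¹))⁻¹
      simp [map_inv, alpha_alpha, mul_assoc]

theorem sign_permHom : ∀ (q : Q8 × Q8) (e : Multiplicative (ZMod 2)),
    Equiv.Perm.sign (permHom ⟨q, e⟩) = 1 := by
  intro q e
  have hsign : ∀ a b : Q8, Equiv.Perm.sign (rho (a, b)) = 1 := by decide +kernel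
  have htau : Equiv.Perm.sign tau = 1 := by decide +kernel
  show Equiv.Perm.sign (rho q * tauHom e) = 1
  rw [map_mul, hsign q.1 q.2, one_mul]
  rcases c2_cases e with rfl | rfl
  · simp
  · rw [show tauHom (Multiplicative.ofAdd 1) = tau from rfl, htau]

/-- `(Q₈ × Q₈) ⋊ 2 → A₈`. -/
noncomputable def altHom : W →* alternatingGroup (Fin 8) :=
  (((Equiv.altCongrHom (Fintype.equivFinOfCardEq (α := Q8) (n := 8) rfl)).toMonoidHom)).comp
    (permHom.codRestrict (alternatingGroup Q8) fun d => sign_permHom d.left d.right)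

theorem perm_ker : ∀ (q : Q8 × Q8) (e : Multiplicative (ZMod 2)),
    (∀ x, permHom ⟨q, e⟩ x = x) ↔ ((⟨q, e⟩ : W) = 1 ∨ (⟨q, e⟩ : W) = wz) := by
  decide +kernel

theorem mem_ker_altHom {d : W} : d ∈ altHom.ker ↔ d = 1 ∨ d = wz := by
  rw [← perm_ker d.left d.right, MonoidHom.mem_ker, altHom, MonoidHom.comp_apply,
    MulEquiv.coe_toMonoidHom, EmbeddingLike.map_eq_one_iff, Subtype.ext_iff]
  exact Equiv.ext_iff

theorem card_ker_altHom : Nat.card altHom.ker = 2 := by
  have e : (altHom.ker : Set W) = {1, wz} := Set.ext fun d => mem_ker_altHom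
  show Nat.card (altHom.ker : Set W) = 2
  rw [e]
  rw [Nat.card_coe_set_eq, Set.ncard_pair]
  intro h
  exact absurd (congrArg SemidirectProduct.left h) (by decide)

end Symp

/-- The Sylow 2-subgroups of `A₈` and `PSp₄(3)` are isomorphic. -/
theorem alt_eight {F : Type} [Field F] [Fintype F] (hF : Fintype.card F = 3)
    (P : Sylow 2 ↥(alternatingGroup (Fin 8))) (Q : Sylow 2 (Cfsg.PSp 2 F)) :
    Nonempty (↥(P : Subgroup ↥(alternatingGroup (Fin 8))) ≃* ↥(Q : Subgroup (Cfsg.PSp 2 F))) := by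
  haveI : Fact (Nat.Prime 3) := ⟨Nat.prime_three⟩
  haveI : CharP F 3 := charP_of_card_eq_prime hF
  haveI : Fact (Nat.Prime 2) := ⟨Nat.prime_two⟩
  have hk : altHom.ker = (pspHom F).ker := by
    ext d
    rw [mem_ker_altHom, mem_ker_pspHom]
  have hf : (25920 : ℕ).factorization 2 = 6 := by
    rw [Nat.factorization_def _ Nat.prime_two, show (25920 : ℕ) = 2 ^ 6 * 405 by norm_num,
      padicValNat.mul (by norm_num) (by norm_num), padicValNat.prime_pow,
      padicValNat.eq_zero_of_not_dvd (by norm_num)]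
  have hf' : (20160 : ℕ).factorization 2 = 6 := by
    rw [Nat.factorization_def _ Nat.prime_two, show (20160 : ℕ) = 2 ^ 6 * 315 by norm_num,
      padicValNat.mul (by norm_num) (by norm_num), padicValNat.prime_pow,
      padicValNat.eq_zero_of_not_dvd (by norm_num)]
  have hA : Nat.card (alternatingGroup (Fin 8)) = 20160 := by
    rw [nat_card_alternatingGroup]
    simp [Nat.factorial]
  have hS : Nat.card (Cfsg.PSp 2 F) = 25920 := by
    have h := Subgroup.card_mul_index (Subgroup.center (Matrix.symplecticGroup (Fin 2) F))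
    rw [Cfsg.Agent.AutPSp.card_center le_rfl, Cfsg.Agent.Forms.card_symplecticGroup, hF,
      Subgroup.index_eq_card] at h
    norm_num [Finset.prod_range_succ] at h
    show Nat.card (Matrix.symplecticGroup (Fin 2) F ⧸ Subgroup.center (Matrix.symplecticGroup (Fin 2) F)) = 25920
    omega
  refine sylow_equiv altHom (pspHom F) hk ?_ ?_ P Q
  · rw [card_W, card_ker_altHom, hA, hf']
    norm_num
  · rw [card_W, ← hk, card_ker_altHom, hS, hf]
    norm_num

/-! ### `S₈` and `O₆⁻(2)` -/

section Orth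

/-- The field of two elements. -/
abbrev K2 : Type := ZMod 2

/-- The quadratic form on the four singular vectors. -/
def qf (u : Fin 4 → K2) : K2 :=
  u 0 * u 1 + u 0 * u 2 + u 0 * u 3 + u 1 * u 2 + u 1 * u 3 + u 2 * u 3

/-- Its polar form. -/
def qb (u w : Fin 4 → K2) : K2 := (∑ i, u i) * (∑ i, w i) + ∑ i, u i * w i

theorem qf_add : ∀ u w : Fin 4 → K2, qf (u + w) = qf u + qf w + qb u w := by decide +kernel

theorem qb_self : ∀ u : Fin 4 → K2, qb u u = 0 := by decide +kernel

theorem qb_add_left (u u' w : Fin 4 → K2) : qb (u + u') w = qb u w + qb u' w := by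
  simp only [qb, Pi.add_apply, Finset.sum_add_distrib, add_mul]
  ring

theorem qb_add_right (u w w' : Fin 4 → K2) : qb u (w + w') = qb u w + qb u w' := by
  simp only [qb, Pi.add_apply, Finset.sum_add_distrib, mul_add]
  ring

theorem qb_smul (c : K2) (u w : Fin 4 → K2) : qb (c • u) w = c * qb u w := by
  simp only [qb, Pi.smul_apply, smul_eq_mul, ← Finset.mul_sum, mul_assoc]
  ring

theorem qf_smul : ∀ (c : K2) (u : Fin 4 → K2), qf (c • u) = c * qf u := by decide +kernel

theorem qf_perm : ∀ (σ : Equiv.Perm (Fin 4)) (u : Fin 4 → K2), qf (u ∘ σ) = qf u := by decide +kernel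

theorem qb_perm (σ : Equiv.Perm (Fin 4)) (u w : Fin 4 → K2) : qb (u ∘ σ) (w ∘ σ) = qb u w := by
  simp only [qb, Function.comp_apply]
  rw [Equiv.sum_comp σ u, Equiv.sum_comp σ w, Equiv.sum_comp σ fun i => u i * w i]

/-- Coordinates: a hyperbolic pair and four singular vectors. -/
abbrev Co : Type := K2 × K2 × (Fin 4 → K2)

/-- The form in these coordinates. -/
def qco (v : Co) : K2 := v.1 * v.2.1 + qf v.2.2

/-- Eichler transvection. -/
def eich (w : Fin 4 → K2) : Module.End K2 Co where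
  toFun v := (v.1 + qb v.2.2 w + qf w * v.2.1, v.2.1, v.2.2 + v.2.1 • w)
  map_add' u v := by
    refine Prod.ext ?_ (Prod.ext rfl ?_)
    · simp only [Prod.fst_add, Prod.snd_add, qb_add_left]
      ring
    · simp only [Prod.snd_add, Prod.fst_add, add_smul]
      abel
  map_smul' c v := by
    refine Prod.ext ?_ (Prod.ext rfl ?_)
    · simp only [Prod.smul_fst, Prod.smul_snd, qb_smul, smul_eq_mul, RingHom.id_apply]
      ring
    · simp only [Prod.smul_fst, Prod.smul_snd, smul_add, smul_smul, smul_eq_mul, RingHom.id_apply]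

/-- Eichler transvections form a group. -/
def eichHom : Multiplicative (Fin 4 → K2) →* Module.End K2 Co where
  toFun w := eich w.toAdd
  map_one' := LinearMap.ext fun v => by
    show (v.1 + qb v.2.2 0 + qf 0 * v.2.1, v.2.1, v.2.2 + v.2.1 • (0 : Fin 4 → K2)) = v
    simp [qb, qf]
  map_mul' w w' := LinearMap.ext fun v => by
    show (_, _, _) = eich w.toAdd (eich w'.toAdd v)
    simp only [eich, LinearMap.coe_mk, AddHom.coe_mk, toAdd_mul, qb_add_left, qb_add_right, qf_add,
      qb_smul, smul_add, Prod.mk.injEq]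
    refine ⟨?_, trivial, by abel⟩
    have h : qb w'.toAdd w.toAdd = qb w.toAdd w'.toAdd := by
      simp only [qb, mul_comm]
    rw [h]
    ring

/-- Permutations of the four singular vectors. -/
def permCo : Equiv.Perm (Fin 4) →* Module.End K2 Co where
  toFun σ :=
    { toFun := fun v => (v.1, v.2.1, v.2.2 ∘ ⇑σ⁻¹)
      map_add' := fun _ _ => rfl
      map_smul' := fun _ _ => rfl }
  map_one' := rfl
  map_mul' _ _ := LinearMap.ext fun v => by
    show (_, _, _) = (_, _, _)
    simp [Function.comp_assoc]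

/-- The permutation action on `2⁴`. -/
def pAct : Equiv.Perm (Fin 4) →* MulAut (Multiplicative (Fin 4 → K2)) where
  toFun σ :=
    { toFun := fun w => Multiplicative.ofAdd (w.toAdd ∘ ⇑σ⁻¹)
      invFun := fun w => Multiplicative.ofAdd (w.toAdd ∘ ⇑σ)
      left_inv := fun w => by simp [Function.comp_assoc]
      right_inv := fun w => by simp [Function.comp_assoc]
      map_mul' := fun _ _ => rfl }
  map_one' := rfl
  map_mul' _ _ := MulEquiv.ext fun w => by
    simp [Function.comp_assoc]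

/-- `2⁴ ⋊ S₄`. -/
abbrev T : Type := Multiplicative (Fin 4 → K2) ⋊[pAct] Equiv.Perm (Fin 4)

instance : Finite T := Finite.of_equiv _ SemidirectProduct.equivProd.symm

theorem card_T : Nat.card T = 384 := by
  rw [SemidirectProduct.card, Nat.card_eq_fintype_card, Nat.card_eq_fintype_card, Fintype.card_perm]
  simp [Nat.factorial]

theorem conj_eich (σ : Equiv.Perm (Fin 4)) (w : Fin 4 → K2) :
    permCo σ * eich w = eich (w ∘ ⇑σ⁻¹) * permCo σ := by
  refine LinearMap.ext fun v => ?_
  show (_, _, _) = (_, _, _)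
  simp only [Prod.mk.injEq]
  refine ⟨?_, rfl, ?_⟩
  · show v.1 + qb v.2.2 w + qf w * v.2.1 =
      v.1 + qb (v.2.2 ∘ ⇑σ⁻¹) (w ∘ ⇑σ⁻¹) + qf (w ∘ ⇑σ⁻¹) * v.2.1
    rw [qb_perm, qf_perm]
  · rfl

/-- `2⁴ ⋊ S₄ → GL(Co)`. -/
def coHom : T →* (Module.End K2 Co)ˣ :=
  SemidirectProduct.lift eichHom.toHomUnits permCo.toHomUnits fun σ => by
    refine MonoidHom.ext fun w => eq_mul_inv_of_mul_eq (Units.ext ?_)
    exact (conj_eich σ w.toAdd).symm

theorem coHom_apply (d : T) (v : Co) :
    ((coHom d : (Module.End K2 Co)ˣ) : Module.End K2 Co) v =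
      eich d.left.toAdd (permCo d.right v) := rfl

theorem coHom_injective : Function.Injective coHom := by
  refine (injective_iff_map_eq_one _).2 fun d hd => ?_
  have h : ∀ v, eich d.left.toAdd (permCo d.right v) = v := fun v => by
    rw [← coHom_apply, hd]
    rfl
  have hw : d.left.toAdd = 0 := by
    have := congrArg (fun v : Co => v.2.2) (h (0, 1, 0))
    simpa [eich, permCo] using this
  have hσ : d.right = 1 := Equiv.ext fun i => by
    have h1 := congrArg (fun v : Co => v.2.2 (d.right i)) (h (0, 0, Pi.single i 1))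
    simp [eich, permCo, hw, Pi.single_apply] at h1
    simpa [eq_comm] using h1
  refine SemidirectProduct.ext ?_ hσ
  exact hw

theorem qco_coHom (d : T) (v : Co) :
    qco (((coHom d : (Module.End K2 Co)ˣ) : Module.End K2 Co) v) = qco v := by
  have hP : ∀ (σ : Equiv.Perm (Fin 4)) (u : Co), qco (permCo σ u) = qco u := fun σ u => by
    show u.1 * u.2.1 + qf (u.2.2 ∘ ⇑σ⁻¹) = _
    rw [qf_perm]
    rfl
  rw [coHom_apply, ← hP d.right v]
  generalize permCo d.right v = u
  generalize d.left.toAdd = w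
  show (u.1 + qb u.2.2 w + qf w * u.2.1) * u.2.1 + qf (u.2.2 + u.2.1 • w) = u.1 * u.2.1 + qf u.2.2
  rw [qf_add, qf_smul]
  have hb : qb u.2.2 (u.2.1 • w) = u.2.1 * qb u.2.2 w := by
    have hc : ∀ a b : Fin 4 → K2, qb a b = qb b a := fun a b => by simp only [qb, mul_comm]
    rw [hc, qb_smul, hc]
  rw [hb]
  have key : ∀ a b c d e : K2, (a + b + c * d) * d + (e + d * c + d * b) = a * d + e := by decide
  exact key _ _ _ _ _

/-- The coordinates on the standard space of `O₆⁻(2)`. -/
def coEquiv : (((Fin 2 ⊕ Fin 2) ⊕ Fin 2) → K2) ≃ₗ[K2] Co where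
  toFun v := (v (.inl (.inl 0)), v (.inl (.inr 0)),
    ![v (.inl (.inl 1)) + v (.inr 0) + v (.inr 1), v (.inl (.inr 1)) + v (.inr 0) + v (.inr 1),
      v (.inr 0), v (.inr 1)])
  map_add' u v := by
    refine Prod.ext rfl (Prod.ext rfl (funext fun i => ?_))
    fin_cases i <;> simp <;> ring
  map_smul' c v := by
    refine Prod.ext rfl (Prod.ext rfl (funext fun i => ?_))
    fin_cases i <;> simp <;> ring
  invFun u := Sum.elim (Sum.elim ![u.1, u.2.2 0 + u.2.2 2 + u.2.2 3] ![u.2.1, u.2.2 1 + u.2.2 2 + u.2.2 3])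
    ![u.2.2 2, u.2.2 3]
  left_inv v := by
    have key : ∀ a b c : K2, a + b + c + b + c = a := by decide
    funext i
    rcases i with (i | i) | i <;> fin_cases i <;> simp [key]
  right_inv u := by
    have key : ∀ a b c : K2, a + b + c + b + c = a := by decide
    refine Prod.ext rfl (Prod.ext rfl (funext fun i => ?_))
    fin_cases i <;> simp [key]

theorem qco_coEquiv (v : ((Fin 2 ⊕ Fin 2) ⊕ Fin 2) → K2) :
    qco (coEquiv v) = Cfsg.quadFormMinus 2 K2 1 1 v := by
  have key : ∀ a b c d x y : K2, a * b + qf ![c + x + y, d + x + y, x, y] =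
      a * b + c * d + (x ^ 2 + 1 * x * y + 1 * y ^ 2) := by decide +kernel
  rw [Cfsg.quadFormMinus, Fin.sum_univ_two]
  exact key _ _ _ _ _ _

/-- `2⁴ ⋊ S₄ → GL₆(2)`. -/
def glHom : T →* GL ((Fin 2 ⊕ Fin 2) ⊕ Fin 2) K2 :=
  (Units.map ((LinearMap.toMatrixAlgEquiv' : Module.End K2 (((Fin 2 ⊕ Fin 2) ⊕ Fin 2) → K2) ≃ₐ[K2] _) :
      Module.End K2 (((Fin 2 ⊕ Fin 2) ⊕ Fin 2) → K2) →*
        Matrix ((Fin 2 ⊕ Fin 2) ⊕ Fin 2) ((Fin 2 ⊕ Fin 2) ⊕ Fin 2) K2)).comp
    ((Units.map ((LinearEquiv.conjAlgEquiv K2 coEquiv.symm : Module.End K2 Co ≃ₐ[K2] _) :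
      Module.End K2 Co →* Module.End K2 (((Fin 2 ⊕ Fin 2) ⊕ Fin 2) → K2))).comp coHom)

theorem glHom_mulVec (d : T) (v : ((Fin 2 ⊕ Fin 2) ⊕ Fin 2) → K2) :
    (glHom d : Matrix _ _ K2).mulVec v =
      coEquiv.symm (((coHom d : (Module.End K2 Co)ˣ) : Module.End K2 Co) (coEquiv v)) := by
  show (LinearMap.toMatrix' _).mulVec v = _
  rw [LinearMap.toMatrix'_mulVec]
  rfl

theorem glHom_injective : Function.Injective glHom := by
  refine (injective_iff_map_eq_one _).2 fun d hd => coHom_injective ?_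
  rw [map_one]
  refine Units.ext (LinearMap.ext fun u => ?_)
  have h := glHom_mulVec d (coEquiv.symm u)
  rw [hd, Units.val_one, Matrix.one_mulVec, LinearEquiv.apply_symm_apply] at h
  exact (coEquiv.symm.injective h).symm

variable (K : Type) [Field K] [CharP K 2]

/-- `2⁴ ⋊ S₄ → O₆⁻(K)`. -/
noncomputable def orthHom (hsurj : Function.Surjective (ZMod.castHom (dvd_refl 2) K)) :
    T →* Cfsg.isometryGroup K (Cfsg.quadFormMinus 2 K 1 1) :=
  ((Matrix.GeneralLinearGroup.map (ZMod.castHom (dvd_refl 2) K)).comp glHom).codRestrict _ fun d => by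
    intro u v
    obtain ⟨u₀, rfl⟩ : ∃ u₀ : _ → K2, ⇑(ZMod.castHom (dvd_refl 2) K) ∘ u₀ = u :=
      ⟨fun i => (hsurj (u i)).choose, funext fun i => (hsurj (u i)).choose_spec⟩
    set c := ZMod.castHom (dvd_refl 2) K with hc
    have hq : ∀ w : _ → K2,
        Cfsg.quadFormMinus 2 K 1 1 (⇑c ∘ w) = c (Cfsg.quadFormMinus 2 K2 1 1 w) := fun w => by
      simp only [Cfsg.quadFormMinus, Fin.sum_univ_two, map_add, map_mul, map_pow, map_one, Function.comp_apply]
    show Cfsg.quadFormMinus 2 K 1 1 (Matrix.mulVec ((glHom d).val.map c) (⇑c ∘ u₀)) = _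
    have hm : Matrix.mulVec ((glHom d).val.map c) (⇑c ∘ u₀) =
        ⇑c ∘ Matrix.mulVec (glHom d).val u₀ :=
      funext fun i => (RingHom.map_mulVec c _ u₀ i).symm
    show _ = Cfsg.quadFormMinus 2 K 1 1 (⇑c ∘ u₀)
    rw [hm, hq, hq, ← qco_coEquiv, ← qco_coEquiv, glHom_mulVec, LinearEquiv.apply_symm_apply,
      qco_coHom]

theorem orthHom_injective (hsurj : Function.Surjective (ZMod.castHom (dvd_refl 2) K)) :
    Function.Injective (orthHom K hsurj) := by
  intro d d' h
  refine glHom_injective (Units.ext (Matrix.ext fun i j => ?_))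
  have h' := congrArg (fun z : Cfsg.isometryGroup K (Cfsg.quadFormMinus 2 K 1 1) =>
    ((z : GL ((Fin 2 ⊕ Fin 2) ⊕ Fin 2) K).val : Matrix _ _ K) i j) h
  exact (ZMod.castHom (dvd_refl 2) K).injective h'

/-- Translations of the pairs. -/
def flipHom : Multiplicative (Fin 4 → K2) →* Equiv.Perm (Fin 4 × K2) where
  toFun w :=
    { toFun := fun x => (x.1, x.2 + w.toAdd x.1)
      invFun := fun x => (x.1, x.2 - w.toAdd x.1)
      left_inv := fun x => by simp
      right_inv := fun x => by simp }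
  map_one' := Equiv.ext fun x => by simp
  map_mul' w w' := Equiv.ext fun x => by
    show (x.1, x.2 + (w.toAdd + w'.toAdd) x.1) = (x.1, x.2 + w'.toAdd x.1 + w.toAdd x.1)
    simp only [Pi.add_apply, Prod.mk.injEq]
    exact ⟨trivial, by abel⟩

/-- Permutations of the pairs. -/
def pairHom : Equiv.Perm (Fin 4) →* Equiv.Perm (Fin 4 × K2) where
  toFun σ := σ.prodCongr (Equiv.refl _)
  map_one' := rfl
  map_mul' _ _ := rfl

/-- `2⁴ ⋊ S₄ → S₈`. -/
noncomputable def symHom : T →* Equiv.Perm (Fin 8) :=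
  ((Fintype.equivFinOfCardEq (α := Fin 4 × K2) (n := 8) rfl).permCongrHom.toMonoidHom).comp
    (SemidirectProduct.lift flipHom pairHom fun σ => by
      refine MonoidHom.ext fun w => eq_mul_inv_of_mul_eq (Equiv.ext fun x => ?_)
      show (σ x.1, x.2 + w.toAdd (σ.symm (σ x.1))) = (σ x.1, x.2 + w.toAdd x.1)
      rw [Equiv.symm_apply_apply])

theorem symHom_injective : Function.Injective symHom := by
  refine ((Fintype.equivFinOfCardEq (α := Fin 4 × K2) (n := 8) rfl).permCongrHom.injective).comp ?_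
  refine (injective_iff_map_eq_one _).2 fun d hd => ?_
  have h : ∀ x, flipHom d.left (pairHom d.right x) = x := fun x => Equiv.ext_iff.1 hd x
  have hσ : d.right = 1 := Equiv.ext fun i => congrArg Prod.fst (h (i, 0))
  refine SemidirectProduct.ext ?_ hσ
  refine Multiplicative.toAdd.injective (funext fun i => ?_)
  have h1 := congrArg Prod.snd (h (i, 0))
  simpa [flipHom, pairHom, hσ] using h1

end Orth

/-- The Sylow 2-subgroups of `S₈` and `O₆⁻(2)` are isomorphic. -/
theorem sym_eight {K : Type} [Field K] [Fintype K] (hK : Fintype.card K = 2) (a b : K)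
    (hab : ∀ z₁ z₂ : K, z₁ ^ 2 + a * z₁ * z₂ + b * z₂ ^ 2 = 0 → z₁ = 0 ∧ z₂ = 0)
    (P : Sylow 2 (Equiv.Perm (Fin 8)))
    (Q : Sylow 2 ↥(Cfsg.isometryGroup K (Cfsg.quadFormMinus 2 K a b))) :
    Nonempty (↥(P : Subgroup (Equiv.Perm (Fin 8))) ≃*
      ↥(Q : Subgroup ↥(Cfsg.isometryGroup K (Cfsg.quadFormMinus 2 K a b)))) := by
  haveI : Fact (Nat.Prime 2) := ⟨Nat.prime_two⟩
  haveI : CharP K 2 := charP_of_card_eq_prime hK
  have hsurj : Function.Surjective (ZMod.castHom (dvd_refl 2) K) :=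
    ((Fintype.bijective_iff_injective_and_card _).2
      ⟨(ZMod.castHom (dvd_refl 2) K).injective, by rw [ZMod.card, hK]⟩).2
  have h01 : ∀ x : K, x = 0 ∨ x = 1 := fun x => by
    obtain ⟨c, rfl⟩ := hsurj x
    fin_cases c
    · exact Or.inl (map_zero _)
    · exact Or.inr (map_one _)
  have hb : b = 1 := (h01 b).resolve_left fun h =>
    one_ne_zero ((hab 0 1 (by rw [h]; ring)).2)
  have ha : a = 1 := (h01 a).resolve_left fun h => one_ne_zero ((hab 1 1 (by
    rw [h, hb]
    linear_combination (CharTwo.two_eq_zero : (2 : K) = 0))).1)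
  subst ha hb
  obtain ⟨S⟩ := (inferInstance : Nonempty (Sylow 2 T))
  have hS : Nat.card S = 128 := by
    rw [S.card_eq_multiplicity, card_T, Nat.factorization_def _ Nat.prime_two,
      show (384 : ℕ) = 2 ^ 7 * 3 by norm_num, padicValNat.mul (by norm_num) (by norm_num),
      padicValNat.prime_pow, padicValNat.eq_zero_of_not_dvd (by norm_num)]
    norm_num
  have h1 : ((symHom.comp (S : Subgroup T).subtype)).ker = ⊥ :=
    (MonoidHom.ker_eq_bot_iff _).2 (symHom_injective.comp Subtype.val_injective)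
  have h2 : ((orthHom K hsurj).comp (S : Subgroup T).subtype).ker = ⊥ :=
    (MonoidHom.ker_eq_bot_iff _).2 ((orthHom_injective K hsurj).comp Subtype.val_injective)
  refine sylow_equiv _ _ (h1.trans h2.symm) ?_ ?_ P Q
  · rw [h1, hS, Subgroup.card_bot, one_mul, Nat.card_eq_fintype_card, Fintype.card_perm,
      Fintype.card_fin, show Nat.factorial 8 = 2 ^ 7 * 315 by rfl, Nat.factorization_def _ Nat.prime_two,
      padicValNat.mul (by norm_num) (by norm_num), padicValNat.prime_pow,
      padicValNat.eq_zero_of_not_dvd (by norm_num)]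
    norm_num
  · rw [h2, hS, Subgroup.card_bot, one_mul,
      Cfsg.Agent.Forms.card_isometryGroup _ Cfsg.Agent.Forms.quadMinus_apply,
      Cfsg.Agent.Forms.card_isomQ_quadMinus 2 hab, hK]
    norm_num [Finset.prod_range_succ]
    rw [Nat.factorization_def _ Nat.prime_two, show (51840 : ℕ) = 2 ^ 7 * 405 by norm_num,
      padicValNat.mul (by norm_num) (by norm_num), padicValNat.prime_pow,
      padicValNat.eq_zero_of_not_dvd (by norm_num)]
    norm_num

end Cfsg.Agent.Perm.SylowTwoEight
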