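import Mathlib

/-!
# A matching inside a Sylow 2-subgroup of an alternating group

Every Sylow 2-subgroup of `A n` contains all double transpositions built from two pairs of some
matching that leaves at most one point unmatched.
-/

set_option autoImplicit false

namespace Cfsg.Agent.Perm.SylowTwoMatching

open Equiv Equiv.Perm Finset

variable {α : Type*} [Fintype α] [DecidableEq α]

/-- The product of the transpositions at `u` and at `v` of an involution. -/
def dbl (τ : Perm α) (u v : α) : Perm α := swap u (τ u) * swap v (τ v)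

theorem dbl_mem_alternating {τ : Perm α} {u v : α} (hu : τ u ≠ u) (hv : τ v ≠ v) :
    dbl τ u v ∈ alternatingGroup α := by
  rw [mem_alternatingGroup, dbl, map_mul, sign_swap hu.symm, sign_swap hv.symm]; rfl

theorem dbl_mem_pairs {τ : Perm α} (hinv : ∀ x, τ (τ x) = x) {u v : α}
    (hvu : v ≠ u) (hvu' : v ≠ τ u) :
    (∀ x, dbl τ u v x = x ∨ dbl τ u v x = τ x) ∧ ∀ x, dbl τ u v (τ x) = τ (dbl τ u v x) := by
  have d3 : τ v ≠ u := fun h => hvu' (by rw [← h, hinv])
  have d4 : τ v ≠ τ u := fun h => hvu (τ.injective h)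
  constructor
  · intro x
    simp only [dbl, Perm.mul_apply]
    rcases eq_or_ne x v with rfl | x1
    · right; rw [swap_apply_left, swap_apply_of_ne_of_ne d3 d4]
    rcases eq_or_ne x (τ v) with rfl | x2
    · right; rw [swap_apply_right, swap_apply_of_ne_of_ne hvu hvu', hinv]
    rw [swap_apply_of_ne_of_ne x1 x2]
    rcases eq_or_ne x u with rfl | x3
    · right; rw [swap_apply_left]
    rcases eq_or_ne x (τ u) with rfl | x4
    · right; rw [swap_apply_right, hinv]
    left; rw [swap_apply_of_ne_of_ne x3 x4]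
  · intro x
    have hc : ∀ w, τ * swap w (τ w) * τ⁻¹ = swap w (τ w) := fun w => by
      rw [← swap_apply_apply, hinv, swap_comm]
    have : τ * dbl τ u v = dbl τ u v * τ := by
      calc τ * dbl τ u v = τ * swap u (τ u) * τ⁻¹ * (τ * swap v (τ v) * τ⁻¹) * τ := by
            rw [dbl]; group
        _ = _ := by rw [hc, hc, dbl]
    exact (Equiv.congr_fun this x).symm

/-- Every Sylow 2-subgroup of the alternating group contains the double transpositions of a
matching with at most one point left out. -/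
theorem exists_matching (P : Sylow 2 ↥(alternatingGroup α)) :
    ∃ τ : Perm α, (∀ x, τ (τ x) = x) ∧ (univ.filter fun x => τ x = x).card ≤ 1 ∧
      ∀ u v, τ u ≠ u → τ v ≠ v → v ≠ u → v ≠ τ u →
        dbl τ u v ∈ (P : Subgroup ↥(alternatingGroup α)).map (alternatingGroup α).subtype := by
  classical
  obtain ⟨τ, hτ⟩ := (exists_with_cycleType_iff α
    (m := Multiset.replicate (Fintype.card α / 2) 2)).mpr
    ⟨by simp; omega, fun _ hh => (Multiset.eq_of_mem_replicate hh).ge⟩
  have hcard : τ.support.card = 2 * (Fintype.card α / 2) := by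
    rw [← sum_cycleType, hτ]; simp; omega
  have hsq : ∀ x, τ (τ x) = x := fun x => by
    have h : τ ^ 2 = 1 := by
      rw [← orderOf_dvd_iff_pow_eq_one, ← lcm_cycleType, hτ]
      exact Multiset.lcm_dvd.mpr fun b hb => (Multiset.eq_of_mem_replicate hb).dvd
    rw [← Perm.mul_apply, ← pow_two, h, one_apply]
  let K : Subgroup ↥(alternatingGroup α) :=
    { carrier := {g | (∀ x, g.1 x = x ∨ g.1 x = τ x) ∧ ∀ x, g.1 (τ x) = τ (g.1 x)}
      one_mem' := ⟨fun x => Or.inl rfl, fun x => rfl⟩
      mul_mem' := by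
        rintro g h ⟨g1, g2⟩ ⟨h1, h2⟩
        refine ⟨fun x => ?_, fun x => by
          simp only [Subgroup.coe_mul, Perm.mul_apply]; rw [h2, g2]⟩
        simp only [Subgroup.coe_mul, Perm.mul_apply]
        rcases h1 x with e | e
        · rw [e]; exact g1 x
        · rw [e, g2]
          rcases g1 x with e' | e' <;> rw [e']
          · exact Or.inr rfl
          · exact Or.inl (hsq x)
      inv_mem' := by
        rintro g ⟨g1, g2⟩
        have hgg : ∀ x, g.1 (g.1 x) = x := fun x => by
          rcases g1 x with e | e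
          · rw [e, e]
          · rw [e, g2, e, hsq]
        have hi : ∀ x, g.1⁻¹ x = g.1 x := fun x => by
          conv_lhs => rw [← hgg x]
          exact g.1.symm_apply_apply _
        refine ⟨fun x => ?_, fun x => ?_⟩
        · simp only [Subgroup.coe_inv, hi]; exact g1 x
        · simp only [Subgroup.coe_inv, hi]; exact g2 x }
  have hK : IsPGroup 2 K := by
    rintro ⟨g, g1, g2⟩
    refine ⟨1, Subtype.ext (Subtype.ext (Equiv.ext fun x => ?_))⟩
    rw [pow_one, pow_two]
    change g.1 (g.1 x) = x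
    rcases g1 x with e | e
    · rw [e, e]
    · rw [e, g2, e, hsq]
  obtain ⟨Q, hQ⟩ := hK.exists_le_sylow
  obtain ⟨h, hh⟩ := MulAction.exists_smul_eq ↥(alternatingGroup α) Q P
  set τ' : Perm α := h.1 * τ * h.1⁻¹ with hτ'
  have e : ∀ z, τ' (h.1 z) = h.1 (τ z) := fun z => by simp [hτ']
  refine ⟨τ', fun x => ?_, ?_, fun u v hu hv hvu hvu' => ?_⟩
  · obtain ⟨y, rfl⟩ := h.1.surjective x
    rw [e, e, hsq]
  · have hsupp : τ'.support.card = 2 * (Fintype.card α / 2) := by
      rw [← sum_cycleType, hτ', cycleType_conj, sum_cycleType, hcard]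
    have : (univ.filter fun x => τ' x = x) = τ'.supportᶜ := by
      ext x; simp [mem_support]
    rw [this, card_compl, hsupp]
    omega
  · obtain ⟨u₀, rfl⟩ := h.1.surjective u
    obtain ⟨v₀, rfl⟩ := h.1.surjective v
    rw [e] at hu hv hvu'
    have hu0 : τ u₀ ≠ u₀ := fun h' => hu (by rw [h'])
    have hv0 : τ v₀ ≠ v₀ := fun h' => hv (by rw [h'])
    have d1 : v₀ ≠ u₀ := fun h' => hvu (by rw [h'])
    have d2 : v₀ ≠ τ u₀ := fun h' => hvu' (by rw [h'])
    have hzK : (⟨dbl τ u₀ v₀, dbl_mem_alternating hu0 hv0⟩ : ↥(alternatingGroup α)) ∈ K :=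
      dbl_mem_pairs hsq d1 d2
    refine ⟨h * ⟨dbl τ u₀ v₀, dbl_mem_alternating hu0 hv0⟩ * h⁻¹, ?_, ?_⟩
    · rw [← hh, Sylow.coe_subgroup_smul]
      exact ⟨_, hQ hzK, by simp⟩
    · simp only [Subgroup.subtype_apply, Subgroup.coe_mul, Subgroup.coe_inv, dbl]
      rw [e, e, swap_apply_apply, swap_apply_apply]
      group

end Cfsg.Agent.Perm.SylowTwoMatching
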