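import Cfsg.Agent.Lib.Perm.ThreeMinimal
import Cfsg.Agent.Lib.Perm.SylowTwoMatching
import Cfsg.Agent.Lib.Components.Quasisimple
import Cfsg.Agent.Lib.A8Sub.Tools

/-!
# Quasisimple normal subgroups of permutation groups with all matching double transpositions

If `H` contains the double transpositions of an almost perfect matching of `n ≥ 8` points and has
a self-centralising quasisimple normal subgroup `E`, then `E` is the alternating group of a set of
at least `n - 3` points.
-/

set_option autoImplicit false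

namespace Cfsg.Agent.Perm.SylowTwoQuasisimple

open Equiv Equiv.Perm Finset Cfsg.Agent.Perm.HallSym Cfsg.Agent.Perm.SylowTwoMatching
open Cfsg.Agent.Perm.ThreeMinimal (commute_swap isThreeCycle_cyc cyc_mem_alternating)

variable {α : Type*} [Fintype α] [DecidableEq α]

/-- `τ` is an almost perfect matching whose double transpositions lie in `H`. -/
structure Match (H : Subgroup (Perm α)) (τ : Perm α) : Prop where
  inv : ∀ x, τ (τ x) = x
  fix : (univ.filter fun x => τ x = x).card ≤ 1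
  mem : ∀ u v, τ u ≠ u → τ v ≠ v → v ≠ u → v ≠ τ u → dbl τ u v ∈ H

/-- Standing hypotheses. -/
structure Setup (H E : Subgroup (Perm α)) : Prop where
  le : E ≤ H
  conj : ∀ h ∈ H, ∀ e ∈ E, h * e * h⁻¹ ∈ E
  qs : Cfsg.IsQuasisimple E
  cent : ∀ g ∈ H, (∀ e ∈ E, g * e = e * g) → g ∈ E

variable {H E : Subgroup (Perm α)}

theorem Match.conjugate {τ : Perm α} (hτ : Match H τ) {g : Perm α} (hg : g ∈ H) :
    Match H (g * τ * g⁻¹) := by
  have e : ∀ z, (g * τ * g⁻¹) (g z) = g (τ z) := fun z => by simp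
  refine ⟨fun x => ?_, le_of_eq_of_le ?_ hτ.fix, fun u v hu hv hvu hvu' => ?_⟩
  · obtain ⟨y, rfl⟩ := g.surjective x
    rw [e, e, hτ.inv]
  · refine (card_bij (fun x _ => g x) (fun x hx => ?_) (fun a _ b _ h => g.injective h)
      fun y hy => ?_).symm
    · simp only [mem_filter, mem_univ, true_and] at hx ⊢
      rw [e, hx]
    · obtain ⟨x, rfl⟩ := g.surjective y
      simp only [mem_filter, mem_univ, true_and, e] at hy
      exact ⟨x, mem_filter.2 ⟨mem_univ x, g.injective hy⟩, rfl⟩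
  · obtain ⟨u₀, rfl⟩ := g.surjective u
    obtain ⟨v₀, rfl⟩ := g.surjective v
    rw [e] at hu hv hvu'
    have := hτ.mem u₀ v₀ (fun h => hu (by rw [h])) (fun h => hv (by rw [h]))
      (fun h => hvu (by rw [h])) (fun h => hvu' (by rw [h]))
    have h' : dbl (g * τ * g⁻¹) (g u₀) (g v₀) = g * dbl τ u₀ v₀ * g⁻¹ := by
      simp only [dbl, e, swap_apply_apply]; group
    rw [h']
    exact mul_mem (mul_mem hg this) (inv_mem hg)

theorem Match.exists_notMem {τ : Perm α} (hτ : Match H τ) (S : Finset α)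
    (hS : S.card + 1 < Fintype.card α) : ∃ v, v ∉ S ∧ τ v ≠ v := by
  have h : (S ∪ univ.filter fun x => τ x = x).card < (univ : Finset α).card := by
    rw [card_univ]
    exact lt_of_le_of_lt ((card_union_le _ _).trans (Nat.add_le_add_left hτ.fix _)) hS
  obtain ⟨v, -, hv⟩ := exists_mem_notMem_of_card_lt_card h
  simp only [mem_union, mem_filter, mem_univ, true_and, not_or] at hv
  exact ⟨v, hv⟩

/-- Two suitable double transpositions give a 3-cycle. -/
theorem threeCycle_of_pair {τ τ' : Perm α} (hτ : Match H τ) (hτ' : Match H τ') {p r : α}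
    (hp : τ p ≠ p) (hp' : τ' p ≠ p) (hr' : τ' r ≠ r) (hrp : r ≠ p) (hrq : r ≠ τ' p)
    (h1 : τ p ≠ τ' p) (h2 : τ p ≠ r) (h3 : τ p ≠ τ' r)
    (hv : ∃ v, τ v ≠ v ∧ v ∉ ({p, τ' p, r, τ' r} : Finset α) ∧
      τ v ∉ ({p, τ' p, r, τ' r} : Finset α)) :
    ∃ s ∈ H, IsThreeCycle s := by
  obtain ⟨v, hv, hv1, hv2⟩ := hv
  simp only [mem_insert, mem_singleton, not_or] at hv1 hv2
  obtain ⟨v1, v2, v3, v4⟩ := hv1
  obtain ⟨w1, w2, w3, w4⟩ := hv2
  have vτp : v ≠ τ p := fun h => w1 (by rw [h, hτ.inv])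
  have wτp : τ v ≠ τ p := fun h => v1 (τ.injective h)
  have sp : τ' r ≠ p := fun h => hrq (by rw [← h, hτ'.inv])
  have sq : τ' r ≠ τ' p := fun h => hrp (τ'.injective h)
  have ht : dbl τ p v ∈ H := hτ.mem p v hp hv v1 vτp
  have hs : dbl τ' p r ∈ H := hτ'.mem p r hp' hr' hrp hrq
  set A := swap p (τ p) with hA
  set A' := swap p (τ' p) with hA'
  set B := swap v (τ v) with hB
  set B' := swap r (τ' r) with hB'
  have cBA' : B * A' = A' * B := (commute_swap v1 v2 w1 w2).symm
  have cAB : A * B = B * A := commute_swap v1 vτp w1 wτp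
  have cA'B' : A' * B' = B' * A' := commute_swap hrp hrq sp sq
  have cAB' : A * B' = B' * A := commute_swap hrp h2.symm sp h3.symm
  have cBB' : B * B' = B' * B := commute_swap (Ne.symm v3) (Ne.symm w3) (Ne.symm v4) (Ne.symm w4)
  have e : A * B * (A' * B') = (A * A') * (B * B') := by
    rw [mul_assoc, ← mul_assoc B, cBA', mul_assoc A' B, ← mul_assoc A]
  have c1 : Commute (A * A') (B * B') :=
    (Commute.mul_right (show Commute A B from cAB) (show Commute A B' from cAB')).mul_left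
      (Commute.mul_right (show Commute A' B from cBA'.symm) (show Commute A' B' from cA'B'))
  have hBB : (B * B') ^ 2 = 1 := by
    rw [(show Commute B B' from cBB').mul_pow, pow_two, pow_two, hB, hB', swap_mul_self,
      swap_mul_self, one_mul]
  refine ⟨(dbl τ p v * dbl τ' p r) ^ 2, pow_mem (mul_mem ht hs) 2, ?_⟩
  show IsThreeCycle ((A * B * (A' * B')) ^ 2)
  rw [e, c1.mul_pow, hBB, mul_one]
  have h3c : IsThreeCycle (A * A') := isThreeCycle_swap_mul_swap_same hp.symm hp'.symm h1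
  rw [show (A * A') ^ 2 = (A * A')⁻¹ from
    (inv_eq_of_mul_eq_one_left (by
      have h := pow_orderOf_eq_one (A * A')
      rw [h3c.orderOf] at h
      rwa [← pow_succ])).symm]
  exact h3c.inv

/-- From ten points on, two matchings coincide unless there is a 3-cycle. -/
theorem match_eq {τ τ' : Perm α} (hτ : Match H τ) (hτ' : Match H τ')
    (hn : 10 ≤ Fintype.card α) (hno : ∀ s ∈ H, ¬ IsThreeCycle s) : τ' = τ := by
  by_contra hne
  obtain ⟨x, hx⟩ : ∃ x, τ' x ≠ τ x := by
    by_contra h; push Not at h; exact hne (Equiv.ext h)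
  have hf1 := card_le_one.1 hτ.fix
  have hf1' := card_le_one.1 hτ'.fix
  obtain ⟨p, hp, hp', hpq⟩ : ∃ p, τ p ≠ p ∧ τ' p ≠ p ∧ τ p ≠ τ' p := by
    by_cases a : τ x = x
    · rw [a] at hx
      refine ⟨τ' x, fun h => hx (hf1 _ (by simp [h]) _ (by simp [a])), ?_, ?_⟩
      · rw [hτ'.inv]; exact hx.symm
      · rw [hτ'.inv]
        intro h
        exact hx (by rw [← hτ.inv (τ' x), h, a])
    · by_cases b : τ' x = x
      · refine ⟨τ x, ?_, fun h => a (hf1' _ (by simp [h]) _ (by simp [b])), ?_⟩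
        · rw [hτ.inv]; exact Ne.symm a
        · rw [hτ.inv]
          intro h
          exact a (by rw [← hτ'.inv (τ x), ← h, b])
      · exact ⟨x, a, b, hx.symm⟩
  obtain ⟨r, hr, hr'⟩ := hτ'.exists_notMem {p, τ' p, τ p, τ' (τ p)}
    (lt_of_le_of_lt (Nat.add_le_add_right card_le_four 1) (by omega))
  simp only [mem_insert, mem_singleton, not_or] at hr
  obtain ⟨r1, r2, r3, r4⟩ := hr
  obtain ⟨v, hv, hv'⟩ := hτ.exists_notMem
    ({p, τ' p, r, τ' r} ∪ ({p, τ' p, r, τ' r} : Finset α).image τ)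
    (by
      refine lt_of_le_of_lt (Nat.add_le_add_right ((card_union_le _ _).trans
        (Nat.add_le_add card_le_four (card_image_le.trans card_le_four))) 1) (by omega))
  rw [mem_union, not_or] at hv
  obtain ⟨s, hs, hs3⟩ := threeCycle_of_pair hτ hτ' hp hp' hr' r1 r2 hpq (Ne.symm r3)
    (fun h => r4 (by rw [h, hτ'.inv])) ⟨v, hv', hv.1, fun h => hv.2 (mem_image.2 ⟨τ v, h, hτ.inv v⟩)⟩
  exact hno s hs hs3

/-- For eight or nine points two matchings have the same fixed points. -/
theorem fix_imp {τ τ' : Perm α} (hτ : Match H τ) (hτ' : Match H τ')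
    (hn : 8 ≤ Fintype.card α) (hno : ∀ s ∈ H, ¬ IsThreeCycle s) {q : α} (hq : τ q = q) :
    τ' q = q := by
  by_contra hq'
  set p := τ' q with hpd
  have hp : τ p ≠ p := fun h => hq' (card_le_one.1 hτ.fix _ (by simp [h]) _ (by simp [hq]))
  have hp'q : τ' p = q := hτ'.inv q
  have hp' : τ' p ≠ p := by rw [hp'q]; exact Ne.symm hq'
  have hpq : τ p ≠ τ' p := by
    rw [hp'q]
    intro h
    exact hq' (by rw [← hτ.inv p, h, hq])
  obtain ⟨r, hr, hr'⟩ := hτ'.exists_notMem {p, τ' p, τ p, τ' (τ p)}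
    (lt_of_le_of_lt (Nat.add_le_add_right card_le_four 1) (by omega))
  simp only [mem_insert, mem_singleton, not_or] at hr
  obtain ⟨r1, r2, r3, r4⟩ := hr
  obtain ⟨v, hv, hv'⟩ := hτ.exists_notMem ({p, τ p, r, τ r, τ' r, τ (τ' r)} : Finset α)
    (lt_of_le_of_lt (Nat.add_le_add_right card_le_six 1) (by omega))
  simp only [mem_insert, mem_singleton, not_or] at hv
  obtain ⟨v1, v2, v3, v4, v5, v6⟩ := hv
  have hvq : v ≠ q := fun h => hv' (h ▸ hq)
  obtain ⟨s, hs, hs3⟩ := threeCycle_of_pair hτ hτ' hp hp' hr' r1 r2 hpq (Ne.symm r3)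
    (fun h => r4 (by rw [h, hτ'.inv])) ⟨v, hv',
      by rw [hp'q]; simp [v1, v3, v5, hvq],
      by
        rw [hp'q]
        simp only [mem_insert, mem_singleton, not_or]
        exact ⟨fun h => v2 (by rw [← h, hτ.inv]),
          fun h => hvq (by rw [← hτ.inv v, h, hq]), fun h => v4 (by rw [← h, hτ.inv]),
          fun h => v6 (by rw [← h, hτ.inv])⟩⟩
  exact hno s hs hs3

/-- For eight or nine points two matchings commute. -/
theorem match_commute {τ τ' : Perm α} (hτ : Match H τ) (hτ' : Match H τ')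
    (hn : 8 ≤ Fintype.card α) (hno : ∀ s ∈ H, ¬ IsThreeCycle s) : τ' * τ = τ * τ' := by
  have hf : ∀ q, τ q = q ↔ τ' q = q := fun q =>
    ⟨fix_imp hτ hτ' hn hno, fix_imp hτ' hτ hn hno⟩
  refine Equiv.ext fun p => ?_
  simp only [Perm.mul_apply]
  by_cases hp : τ p = p
  · rw [hp, (hf p).1 hp, hp]
  have hp' : τ' p ≠ p := fun h => hp ((hf p).2 h)
  set q := τ' p with hqd
  have hq : τ q ≠ q := fun h => hp' (by
    have := (hf q).1 h
    rw [hqd, hτ'.inv] at this
    exact this.symm)
  by_cases hpq : τ p = q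
  · rw [hpq, hqd, hτ'.inv, ← hqd, ← hpq, hτ.inv]
  by_contra hne
  set r := τ q with hrd
  have hr : τ r ≠ r := by rw [hrd, hτ.inv]; exact Ne.symm hq
  have hr' : τ' r ≠ r := fun h => hr ((hf r).2 h)
  have r1 : r ≠ p := fun h => hpq (by rw [← h, hrd, hτ.inv])
  have r3 : τ p ≠ r := fun h => hp' (τ.injective h).symm
  have r4 : τ p ≠ τ' r := fun h => hne (by rw [h, hτ'.inv])
  obtain ⟨v, hv, hv'⟩ := hτ.exists_notMem ({p, τ p, q, τ q, τ' r, τ (τ' r)} : Finset α)
    (lt_of_le_of_lt (Nat.add_le_add_right card_le_six 1) (by omega))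
  simp only [mem_insert, mem_singleton, not_or] at hv
  obtain ⟨v1, v2, v3, v4, v5, v6⟩ := hv
  obtain ⟨s, hs, hs3⟩ := threeCycle_of_pair hτ hτ' hp hp' hr' r1 hq hpq r3 r4 ⟨v, hv',
    by rw [← hqd]; simp only [mem_insert, mem_singleton, not_or]; exact ⟨v1, v3, v4, v5⟩,
    by
      rw [← hqd]
      simp only [mem_insert, mem_singleton, not_or]
      exact ⟨fun h => v2 (by rw [← h, hτ.inv]), fun h => v4 (by rw [← h, hτ.inv]),
        fun h => v3 (τ.injective (h.trans hrd)), fun h => v6 (by rw [← h, hτ.inv])⟩⟩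
  exact hno s hs hs3

/-- With at most nine points the matching itself lies in `H`. -/
theorem Match.mem_self {τ : Perm α} (hτ : Match H τ) (hn : 8 ≤ Fintype.card α)
    (hn' : Fintype.card α ≤ 9) : τ ∈ H := by
  have step : ∀ (S : Finset α), (∀ x ∈ S, τ x ∈ S) → ∀ z, z ∉ S → τ z ≠ z →
      (∀ x ∈ S ∪ {z, τ z}, τ x ∈ S ∪ {z, τ z}) ∧ (S ∪ {z, τ z}).card = S.card + 2 := by
    intro S hS z hz hzm
    have hz' : τ z ∉ S := fun h => hz (by have := hS _ h; rwa [hτ.inv] at this)
    refine ⟨fun x hx => ?_, ?_⟩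
    · simp only [mem_union, mem_insert, mem_singleton] at hx ⊢
      rcases hx with hx | rfl | rfl
      · exact Or.inl (hS x hx)
      · exact Or.inr (Or.inr rfl)
      · exact Or.inr (Or.inl (hτ.inv z))
    · rw [card_union_of_disjoint, card_pair hzm.symm]
      simp only [disjoint_insert_right, disjoint_singleton_right]
      exact ⟨hz, hz'⟩
  obtain ⟨u, hu0, hu⟩ := hτ.exists_notMem ∅ (by simp; omega)
  obtain ⟨s1, c1⟩ := step ∅ (by simp) u hu0 hu
  obtain ⟨v, hv0, hv⟩ := hτ.exists_notMem _ (show (∅ ∪ {u, τ u} : Finset α).card + 1 < _ by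
    rw [c1]; simp; omega)
  obtain ⟨s2, c2⟩ := step _ s1 v hv0 hv
  rw [c1, card_empty] at c2
  obtain ⟨w, hw0, hw⟩ := hτ.exists_notMem ((∅ ∪ {u, τ u}) ∪ {v, τ v}) (by rw [c2]; omega)
  obtain ⟨s3, c3⟩ := step _ s2 w hw0 hw
  rw [c2] at c3
  obtain ⟨x, hx0, hx⟩ := hτ.exists_notMem (((∅ ∪ {u, τ u}) ∪ {v, τ v}) ∪ {w, τ w})
    (by rw [c3]; omega)
  obtain ⟨s4, c4⟩ := step _ s3 x hx0 hx
  rw [c3] at c4
  simp only [empty_union, mem_union, mem_insert, mem_singleton, not_or] at hv0 hw0 hx0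
  obtain ⟨⟨wu, wu'⟩, wv, wv'⟩ := hw0
  obtain ⟨⟨⟨xu, xu'⟩, xv, xv'⟩, xw, xw'⟩ := hx0
  have m1 := hτ.mem u v hu hv hv0.1 hv0.2
  have m2 := hτ.mem w x hw hx xw xw'
  suffices h : τ = dbl τ u v * dbl τ w x from h ▸ mul_mem m1 m2
  refine Equiv.ext fun y => ?_
  have nτ : ∀ {a b : α}, a ≠ b → a ≠ τ b → τ a ≠ τ b ∧ τ a ≠ b := fun h h' =>
    ⟨fun e => h (τ.injective e), fun e => h' (by rw [← e, hτ.inv])⟩
  obtain ⟨a1, a2⟩ := nτ hv0.1 hv0.2
  obtain ⟨b1, b2⟩ := nτ wu wu'
  obtain ⟨d1, d2⟩ := nτ wv wv'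
  obtain ⟨e1, e2⟩ := nτ xu xu'
  obtain ⟨f1, f2⟩ := nτ xv xv'
  obtain ⟨g1, g2⟩ := nτ xw xw'
  by_cases hy : y ∈ ((((∅ : Finset α) ∪ {u, τ u}) ∪ {v, τ v}) ∪ {w, τ w}) ∪ {x, τ x}
  · simp only [empty_union, mem_union, mem_insert, mem_singleton] at hy
    simp only [dbl, Perm.mul_apply]
    rcases hy with ((((rfl | rfl) | rfl | rfl) | rfl | rfl) | rfl | rfl) <;>
      simp [swap_apply_of_ne_of_ne, hτ.inv, hu, hv, hw, hx, hu.symm, hv.symm, hw.symm, hx.symm,
        hv0.1, hv0.2, wu, wu', wv, wv', xu, xu', xv, xv', xw, xw', a1, a2, b1, b2, d1, d2, e1, e2,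
        f1, f2, g1, g2, Ne.symm hv0.1, Ne.symm hv0.2, Ne.symm wu, Ne.symm wu', Ne.symm wv, Ne.symm wv', Ne.symm xu,
        Ne.symm xu', Ne.symm xv, Ne.symm xv', Ne.symm xw, Ne.symm xw', a1.symm, a2.symm, b1.symm,
        b2.symm, d1.symm, d2.symm, e1.symm, e2.symm, f1.symm, f2.symm, g1.symm, g2.symm]
  · have hfix : τ y = y := by
      by_contra h
      obtain ⟨-, c5⟩ := step _ s4 y hy h
      have := card_le_univ (((((∅ : Finset α) ∪ {u, τ u}) ∪ {v, τ v}) ∪ {w, τ w}) ∪ {x, τ x}
        ∪ {y, τ y})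
      omega
    simp only [empty_union, mem_union, mem_insert, mem_singleton, not_or] at hy
    obtain ⟨⟨⟨⟨yu, yu'⟩, yv, yv'⟩, yw, yw'⟩, yx, yx'⟩ := hy
    simp [dbl, swap_apply_of_ne_of_ne, yu, yu', yv, yv', yw, yw', yx, yx', hfix]

theorem hom_eq_one (hS : Setup H E) {M : Type*} [Group M] (hM : Group.IsSolvable M)
    (f : E →* M) (g : E) : f g = 1 := by
  have := hS.qs.1
  obtain ⟨n, hn⟩ := (Group.isSolvable_def M).1 hM
  have htop : ∀ m, derivedSeries E m = ⊤ := by
    intro m
    induction m with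
    | zero => exact derivedSeries_zero E
    | succ m ih => rw [derivedSeries_succ, ih]; exact Group.IsPerfect.commutator_eq_top
  have := map_derivedSeries_le_derivedSeries f n ⟨g, (htop n).symm ▸ Subgroup.mem_top g, rfl⟩
  rwa [hn, Subgroup.mem_bot] at this

theorem not_commutative (hS : Setup H E) : ¬ ∀ a ∈ E, ∀ b ∈ E, a * b = b * a := fun h =>
  Components.IsQuasisimple.not_isMulCommutative hS.qs
    ⟨⟨fun a b => Subtype.ext (h a a.2 b b.2)⟩⟩

/-- A subgroup normalised by `E` contains `E` or centralises it. -/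
theorem dichotomy (hS : Setup H E) {N : Subgroup (Perm α)} (hN : N ≤ H)
    (hnorm : ∀ e ∈ E, ∀ n ∈ N, e * n * e⁻¹ ∈ N) :
    E ≤ N ∨ ∀ n ∈ N, ∀ e ∈ E, n * e = e * n := by
  have hn : (N.subgroupOf E).Normal := ⟨fun n hn g => hnorm g g.2 n hn⟩
  rcases Components.IsQuasisimple.normal_eq_top_or_le_center hS.qs (N.subgroupOf E) with h | h
  · exact Or.inl (Subgroup.subgroupOf_eq_top.1 h)
  right
  intro n hnN
  have hmem : ∀ e : E, n * e.1 * n⁻¹ * e.1⁻¹ ∈ E := fun e =>
    mul_mem (hS.conj n (hN hnN) e e.2) (inv_mem e.2)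
  have hz : ∀ e : E, (⟨_, hmem e⟩ : E) ∈ Subgroup.center E := fun e => h (by
    show n * e.1 * n⁻¹ * e.1⁻¹ ∈ N
    rw [show n * e.1 * n⁻¹ * e.1⁻¹ = n * (e.1 * n⁻¹ * e.1⁻¹) by group]
    exact mul_mem hnN (hnorm e e.2 _ (inv_mem hnN)))
  let f : E →* Subgroup.center E := MonoidHom.mk' (fun e => ⟨⟨_, hmem e⟩, hz e⟩) fun a b => by
    apply Subtype.ext
    apply Subtype.ext
    show n * (a.1 * b.1) * n⁻¹ * (a.1 * b.1)⁻¹
      = (n * a.1 * n⁻¹ * a.1⁻¹) * (n * b.1 * n⁻¹ * b.1⁻¹)
    have hc := congrArg Subtype.val (Subgroup.mem_center_iff.1 (hz b) a)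
    simp only [Subgroup.coe_mul] at hc
    calc n * (a.1 * b.1) * n⁻¹ * (a.1 * b.1)⁻¹
        = (n * a.1 * n⁻¹) * ((n * b.1 * n⁻¹ * b.1⁻¹) * a.1⁻¹) := by group
      _ = _ := by
          rw [show (n * b.1 * n⁻¹ * b.1⁻¹) * a.1⁻¹ = a.1⁻¹ * (n * b.1 * n⁻¹ * b.1⁻¹) from by
            rw [eq_inv_mul_iff_mul_eq, ← mul_assoc, hc, mul_inv_cancel_right]]
          group
  intro e he
  have h1 := congrArg (fun z : Subgroup.center E => ((z : E) : Perm α))
    (hom_eq_one hS (Group.isSolvable_of_comm fun a b => mul_comm' a b) f ⟨e, he⟩)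
  have h2 : n * e * n⁻¹ * e⁻¹ = 1 := h1
  rwa [mul_inv_eq_one, mul_inv_eq_iff_eq_mul] at h2

/-- No nontrivial element of `H` moves only points fixed by `E`. -/
theorem eq_one_of_support_fixed (hS : Setup H E) {g : Perm α} (hg : g ∈ H)
    (h : ∀ e ∈ E, ∀ x ∈ g.support, e x = x) : g = 1 := by
  have hgE : g ∈ E := hS.cent g hg fun e he => by
    refine Disjoint.commute fun x => ?_
    by_cases hx : x ∈ g.support
    · exact Or.inr (h e he x hx)
    · exact Or.inl (notMem_support.1 hx)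
  refine Equiv.ext fun x => ?_
  by_contra hx
  exact hx (h g hgE x (mem_support.2 hx))

theorem eq_of_dbl_apply {τ : Perm α} {u v y : α} (h : dbl τ u v y ≠ y) :
    y = u ∨ y = τ u ∨ y = v ∨ y = τ v := by
  by_contra hy
  push Not at hy
  exact h (by simp [dbl, swap_apply_of_ne_of_ne, hy.1, hy.2.1, hy.2.2.1, hy.2.2.2])

/-- `H` contains a 3-cycle. -/
theorem exists_threeCycle (hS : Setup H E) {τ : Perm α} (hτ : Match H τ)
    (hn : 8 ≤ Fintype.card α) : ∃ s ∈ H, IsThreeCycle s := by
  by_contra hno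
  push Not at hno
  have hcomm : ∀ e ∈ E, e * τ = τ * e := by
    by_cases h10 : 10 ≤ Fintype.card α
    · intro e he
      exact mul_inv_eq_iff_eq_mul.1 (match_eq hτ (hτ.conjugate (hS.le he)) h10 hno)
    have hτH := hτ.mem_self hn (by omega)
    let N : Subgroup (Perm α) := Subgroup.closure {s | ∃ g ∈ H, g * τ * g⁻¹ = s}
    have hNH : N ≤ H := (Subgroup.closure_le _).2 fun s ⟨g, hg, e⟩ =>
      e ▸ mul_mem (mul_mem hg hτH) (inv_mem hg)
    have hNn : ∀ e ∈ E, ∀ n ∈ N, e * n * e⁻¹ ∈ N := by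
      intro e he n hn'
      induction hn' using Subgroup.closure_induction with
      | mem s hs =>
        obtain ⟨g, hg, rfl⟩ := hs
        exact Subgroup.subset_closure ⟨e * g, mul_mem (hS.le he) hg, by group⟩
      | one => simp [one_mem]
      | mul a b _ _ ha hb =>
        rw [show e * (a * b) * e⁻¹ = (e * a * e⁻¹) * (e * b * e⁻¹) by group]
        exact mul_mem ha hb
      | inv a _ ha =>
        rw [show e * a⁻¹ * e⁻¹ = (e * a * e⁻¹)⁻¹ by group]
        exact inv_mem ha
    rcases dichotomy hS hNH hNn with h | h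
    · refine absurd (fun a ha b hb => ?_) (not_commutative hS)
      have hc : IsMulCommutative N := Subgroup.isMulCommutative_closure fun a ⟨g, hg, ea⟩ b ⟨k, hk, eb⟩ => by
        rw [← ea, ← eb]
        exact match_commute (hτ.conjugate hk) (hτ.conjugate hg) hn hno
      exact congrArg Subtype.val (hc.is_comm.comm (⟨a, h ha⟩ : N) ⟨b, h hb⟩)
    · intro e he
      exact (h τ (Subgroup.subset_closure ⟨1, one_mem H, by simp⟩) e he).symm
  have hcx : ∀ e ∈ E, ∀ x, e (τ x) = τ (e x) := fun e he x =>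
    DFunLike.congr_fun (hcomm e he) x
  let K : Subgroup (Perm α) :=
    { carrier := {g | g ∈ H ∧ (∀ x, g x = x ∨ g x = τ x) ∧ ∀ x, g (τ x) = τ (g x)}
      one_mem' := ⟨one_mem H, fun x => Or.inl rfl, fun x => rfl⟩
      mul_mem' := by
        rintro g h ⟨g0, g1, g2⟩ ⟨h0, h1, h2⟩
        refine ⟨mul_mem g0 h0, fun x => ?_, fun x => by
          simp only [Perm.mul_apply]; rw [h2, g2]⟩
        simp only [Perm.mul_apply]
        rcases h1 x with e | e
        · rw [e]; exact g1 x
        · rw [e, g2]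
          rcases g1 x with e' | e' <;> rw [e']
          · exact Or.inr rfl
          · exact Or.inl (hτ.inv x)
      inv_mem' := by
        rintro g ⟨g0, g1, g2⟩
        have hgg : ∀ x, g (g x) = x := fun x => by
          rcases g1 x with e | e
          · rw [e, e]
          · rw [e, g2, e, hτ.inv]
        have hi : ∀ x, g⁻¹ x = g x := fun x => by
          conv_lhs => rw [← hgg x]
          exact g.symm_apply_apply _
        exact ⟨inv_mem g0, fun x => by rw [hi]; exact g1 x, fun x => by rw [hi, hi]; exact g2 x⟩ }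
  have hKH : K ≤ H := fun g hg => hg.1
  have hKn : ∀ e ∈ E, ∀ n ∈ K, e * n * e⁻¹ ∈ K := by
    rintro e he n ⟨n0, n1, n2⟩
    refine ⟨mul_mem (mul_mem (hS.le he) n0) (inv_mem (hS.le he)), fun x => ?_, fun x => ?_⟩
    · obtain ⟨y, rfl⟩ := e.surjective x
      simp only [Perm.mul_apply, show e⁻¹ (e y) = y from e.symm_apply_apply y]
      rcases n1 y with h | h <;> rw [h]
      · exact Or.inl rfl
      · exact Or.inr (hcx e he y)
    · obtain ⟨y, rfl⟩ := e.surjective x
      rw [← hcx e he]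
      simp only [Perm.mul_apply, show ∀ z, e⁻¹ (e z) = z from e.symm_apply_apply]
      rw [n2, hcx e he]
  have hEK : E ≤ K := by
    rcases dichotomy hS hKH hKn with h | h
    · exact h
    intro e he
    refine ⟨hS.le he, fun x => ?_, hcx e he⟩
    by_cases hx : τ x = x
    · exact Or.inl (card_le_one.1 hτ.fix _ (by simp [← hcx e he, hx]) _ (by simp [hx]))
    obtain ⟨v, hv0, hv⟩ := hτ.exists_notMem {x, τ x}
      (lt_of_le_of_lt (Nat.add_le_add_right card_le_two 1) (by omega))
    simp only [mem_insert, mem_singleton, not_or] at hv0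
    obtain ⟨w, hw0, hw⟩ := hτ.exists_notMem {x, τ x, v, τ v}
      (lt_of_le_of_lt (Nat.add_le_add_right card_le_four 1) (by omega))
    simp only [mem_insert, mem_singleton, not_or] at hw0
    have key : ∀ w, τ w ≠ w → w ≠ x → w ≠ τ x →
        e x = x ∨ e x = τ x ∨ e x = w ∨ e x = τ w := by
      intro w hw h1 h2
      have hd : dbl τ x w ∈ K := ⟨hτ.mem x w hx hw h1 h2, dbl_mem_pairs hτ.inv h1 h2⟩
      refine eq_of_dbl_apply (fun hfix => hx (e.injective ?_))
      have h3 := DFunLike.congr_fun (h _ hd e he) x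
      simp only [Perm.mul_apply] at h3
      rw [hfix] at h3
      have h4 : dbl τ x w x = τ x := by
        simp only [dbl, Perm.mul_apply]
        rw [swap_apply_of_ne_of_ne h1.symm (fun h => h2 (by rw [h, hτ.inv])), swap_apply_left]
      rw [h4] at h3
      exact h3.symm
    rcases key v hv hv0.1 hv0.2 with h | h | h | h
    · exact Or.inl h
    · exact Or.inr h
    all_goals
      exfalso
      rcases key w hw hw0.1 hw0.2.1 with h' | h' | h' | h'
    · exact hv0.1 (h.symm.trans h')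
    · exact hv0.2 (h.symm.trans h')
    · exact hw0.2.2.1 (h'.symm.trans h)
    · exact hw0.2.2.2 (by rw [← h, h', hτ.inv])
    · exact hv0.2 (by rw [← h', h, hτ.inv])
    · exact hv0.1 (τ.injective (h.symm.trans h'))
    · exact hw0.2.2.2 (h'.symm.trans h)
    · exact hw0.2.2.1 (τ.injective (h'.symm.trans h))
  refine not_commutative hS fun a ha b hb => Equiv.ext fun x => ?_
  obtain ⟨-, a1, a2⟩ := hEK ha
  obtain ⟨-, b1, b2⟩ := hEK hb
  simp only [Perm.mul_apply]
  rcases a1 x with h | h <;> rcases b1 x with h' | h' <;> simp [h, h', a2, b2, hτ.inv]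

/-- The 3-cycles of a class. -/
def classGroup (H : Subgroup (Perm α)) (x : α) : Subgroup (Perm α) :=
  Subgroup.closure {s | ∃ a b d, a ≠ b ∧ a ≠ d ∧ b ≠ d ∧ a ∈ cls H x ∧ b ∈ cls H x ∧ d ∈ cls H x ∧
    cyc a b d = s}

theorem classGroup_le (x : α) : classGroup H x ≤ H := by
  rw [classGroup, Subgroup.closure_le]
  rintro _ ⟨a, b, d, hab, had, hbd, ha, hb, hd, rfl⟩
  rw [mem_cls] at ha hb hd
  exact cyc_mem hab had hbd (ha.symm.trans hb) (hb.symm.trans hd)

theorem classGroup_eq_map (x : α) : classGroup H x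
    = (alternatingGroup {y // y ∈ cls H x}).map Equiv.Perm.ofSubtype := by
  rw [← closure_three_cycles_eq_alternating, MonoidHom.map_closure, classGroup]
  refine congrArg _ (Set.ext fun s => ⟨?_, ?_⟩)
  · rintro ⟨a, b, d, hab, had, hbd, ha, hb, hd, rfl⟩
    refine ⟨cyc (⟨a, ha⟩ : {y // y ∈ cls H x}) ⟨b, hb⟩ ⟨d, hd⟩,
      isThreeCycle_cyc (fun h => hab (congrArg Subtype.val h))
        (fun h => had (congrArg Subtype.val h)) (fun h => hbd (congrArg Subtype.val h)), ?_⟩
    simp [cyc, map_mul]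
  · rintro ⟨σ, (hσ : IsThreeCycle σ), rfl⟩
    obtain ⟨u, hu⟩ := hσ.isCycle.nonempty_support
    have hn := hσ.nodup_iff_mem_support.2 hu
    simp only [List.nodup_cons, List.mem_cons, List.not_mem_nil, or_false, not_or,
      List.nodup_nil, and_true, not_false_eq_true] at hn
    refine ⟨u, σ u, σ (σ u), Subtype.coe_ne_coe.2 hn.1.1, Subtype.coe_ne_coe.2 hn.1.2,
      Subtype.coe_ne_coe.2 hn.2, u.2, (σ u).2, (σ (σ u)).2, ?_⟩
    conv_rhs => rw [hσ.eq_swap_mul_swap_iff_mem_support.2 hu]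
    simp [cyc, map_mul]

/-- `E` fixes every point of a small set it preserves. -/
theorem fixed_of_small (hS : Setup H E) {B : Finset α} (hB : B.card ≤ 4)
    (hinv : ∀ e ∈ E, ∀ y, y ∈ B → e y ∈ B) : ∀ e ∈ E, ∀ y ∈ B, e y = y := by
  have hiff : ∀ e : E, ∀ y, (e.1 y ∈ B ↔ y ∈ B) := fun e y => ⟨fun h => by
    have := hinv e.1⁻¹ (inv_mem e.2) _ h
    rwa [show e.1⁻¹ (e.1 y) = y from e.1.symm_apply_apply y] at this, hinv e e.2 y⟩
  let f : E →* Perm {y // y ∈ B} :=
    MonoidHom.mk' (fun e => e.1.subtypePerm (hiff e)) fun a b => by ext y; rfl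
  have hsol : Group.IsSolvable (Perm {y // y ∈ B}) := by
    have : Nat.card (Perm {y // y ∈ B}) ≤ 24 := by
      rw [Nat.card_perm, Nat.card_eq_fintype_card, Fintype.card_coe]
      exact (Nat.factorial_le hB).trans (by decide)
    exact A8Sub.isSolvable_of_card_le_hundred _ (by omega) (by omega)
  intro e he y hy
  have h := hom_eq_one hS hsol f ⟨e, he⟩
  exact congrArg Subtype.val (DFunLike.congr_fun h ⟨y, hy⟩)

/-- The main theorem. -/
theorem exists_alternating (hS : Setup H E) {τ : Perm α} (hτ : Match H τ)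
    (hn : 8 ≤ Fintype.card α) :
    ∃ B : Finset α, Fintype.card α ≤ B.card + 3 ∧ B.card ≤ Fintype.card α ∧
      Nonempty (E ≃* alternatingGroup {y // y ∈ B}) := by
  obtain ⟨c, hc, hc3⟩ := exists_threeCycle hS hτ hn
  have hconj : ∀ h ∈ H, ∀ {x y}, Rel H x y → Rel H (h x) (h y) := fun h hh {x y} hxy =>
    hxy.conj fun m hm => mul_mem (mul_mem hh hm) (inv_mem hh)
  let N : Subgroup (Perm α) := Subgroup.closure {s | s ∈ H ∧ IsThreeCycle s}
  have hNH : N ≤ H := (Subgroup.closure_le _).2 fun s hs => hs.1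
  have hNn : ∀ e ∈ E, ∀ n ∈ N, e * n * e⁻¹ ∈ N := by
    intro e he n hn'
    induction hn' using Subgroup.closure_induction with
    | mem s hs =>
      exact Subgroup.subset_closure ⟨mul_mem (mul_mem (hS.le he) hs.1) (inv_mem (hS.le he)), by
        show (e * s * e⁻¹).cycleType = {3}
        rw [cycleType_conj]; exact hs.2⟩
    | one => simp [one_mem]
    | mul a b _ _ ha hb =>
      rw [show e * (a * b) * e⁻¹ = (e * a * e⁻¹) * (e * b * e⁻¹) by group]
      exact mul_mem ha hb
    | inv a _ ha =>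
      rw [show e * a⁻¹ * e⁻¹ = (e * a * e⁻¹)⁻¹ by group]
      exact inv_mem ha
  have hEN : E ≤ N := by
    refine (dichotomy hS hNH hNn).resolve_right fun h => ?_
    have hinv : ∀ e ∈ E, ∀ y, y ∈ c.support → e y ∈ c.support := by
      intro e he y hy
      have h1 := DFunLike.congr_fun (h c (Subgroup.subset_closure ⟨hc, hc3⟩) e he) y
      simp only [Perm.mul_apply] at h1
      rw [mem_support, h1]
      exact fun h' => mem_support.1 hy (e.injective h')
    exact hc3.isCycle.ne_one (eq_one_of_support_fixed hS hc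
      (fixed_of_small hS (by rw [hc3.card_support]; norm_num) hinv))
  have hrel : ∀ e ∈ E, ∀ y, Rel H y (e y) := by
    intro e he
    have key := hEN he
    clear he
    induction key using Subgroup.closure_induction with
    | mem s hs => exact fun y => Or.inr ⟨s, hs.1, hs.2, rfl⟩
    | one => exact fun y => Or.inl rfl
    | mul a b _ _ ha hb => exact fun y => (hb y).trans (ha (b y))
    | inv a _ ha =>
      intro y
      have := ha (a⁻¹ y)
      rw [show a (a⁻¹ y) = y from a.apply_symm_apply y] at this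
      exact this.symm
  have hinv : ∀ x, ∀ e ∈ E, ∀ y, y ∈ cls H x → e y ∈ cls H x := fun x e he y hy =>
    mem_cls.2 ((mem_cls.1 hy).trans (hrel e he y))
  have hEcls : ∀ x, 1 < (cls H x).card → 5 ≤ (cls H x).card ∧ E ≤ classGroup H x := by
    intro x hx
    have h3 : 3 ≤ (cls H x).card := (card_cls x).resolve_left (by omega)
    obtain ⟨a, b, d, ha, hb, hd, hab, had, hbd⟩ :=
      two_lt_card_iff.1 (show 2 < (cls H x).card by omega)
    have hcyc : cyc a b d ∈ classGroup H x :=
      Subgroup.subset_closure ⟨a, b, d, hab, had, hbd, ha, hb, hd, rfl⟩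
    have hsupp : ∀ y ∈ (cyc a b d).support, y ∈ cls H x := by
      intro y hy
      by_contra hyx
      exact mem_support.1 hy (cyc_apply_of_ne (fun h => hyx (h ▸ ha)) (fun h => hyx (h ▸ hb))
        (fun h => hyx (h ▸ hd)))
    have hfix : ¬ ∀ e ∈ E, ∀ y ∈ cls H x, e y = y := fun h =>
      (isThreeCycle_cyc hab had hbd).isCycle.ne_one
        (eq_one_of_support_fixed hS (classGroup_le x hcyc) fun e he y hy => h e he y (hsupp y hy))
    have h5 : 5 ≤ (cls H x).card := by
      by_contra h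
      exact hfix (fixed_of_small hS (by omega) (hinv x))
    refine ⟨h5, (dichotomy hS (classGroup_le x) ?_).resolve_right fun h => hfix ?_⟩
    · intro e he n hn'
      induction hn' using Subgroup.closure_induction with
      | mem s hs =>
        obtain ⟨a, b, d, h1, h2, h3, ha, hb, hd, rfl⟩ := hs
        rw [cyc_conj]
        exact Subgroup.subset_closure ⟨e a, e b, e d, fun h => h1 (e.injective h),
          fun h => h2 (e.injective h), fun h => h3 (e.injective h), hinv x e he a ha,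
          hinv x e he b hb, hinv x e he d hd, rfl⟩
      | one => simp [one_mem]
      | mul a b _ _ ha hb =>
        rw [show e * (a * b) * e⁻¹ = (e * a * e⁻¹) * (e * b * e⁻¹) by group]
        exact mul_mem ha hb
      | inv a _ ha =>
        rw [show e * a⁻¹ * e⁻¹ = (e * a * e⁻¹)⁻¹ by group]
        exact inv_mem ha
    · intro e he y hy
      have key : ∀ p q, p ∈ cls H x → q ∈ cls H x → p ≠ y → q ≠ y → p ≠ q →
          e y = y ∨ e y = p ∨ e y = q := by
        intro p q hp hq h1 h2 h3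
        by_contra hne
        push Not at hne
        have h4 := DFunLike.congr_fun (h (cyc y p q) (Subgroup.subset_closure
          ⟨y, p, q, h1.symm, h2.symm, h3, hy, hp, hq, rfl⟩) e he) y
        simp only [Perm.mul_apply] at h4
        rw [cyc_apply_of_ne hne.1 hne.2.1 hne.2.2, cyc_apply_fst h1.symm h2.symm] at h4
        exact h1 (e.injective h4).symm
      obtain ⟨p, hp, hp'⟩ := exists_mem_notMem_of_card_lt_card
        (show ({y} : Finset α).card < (cls H x).card by rw [card_singleton]; omega)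
      obtain ⟨q, hq, hq'⟩ := exists_mem_notMem_of_card_lt_card
        (show ({y, p} : Finset α).card < (cls H x).card from lt_of_le_of_lt card_le_two (by omega))
      obtain ⟨r, hr, hr'⟩ := exists_mem_notMem_of_card_lt_card
        (show ({y, p, q} : Finset α).card < (cls H x).card from
          lt_of_le_of_lt card_le_three (by omega))
      obtain ⟨s, hs, hs'⟩ := exists_mem_notMem_of_card_lt_card
        (show ({y, p, q, r} : Finset α).card < (cls H x).card from
          lt_of_le_of_lt card_le_four (by omega))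
      simp only [mem_insert, mem_singleton, not_or] at hp' hq' hr' hs'
      rcases key p q hp hq hp' hq'.1 (Ne.symm hq'.2) with h1 | h1 | h1
      · exact h1
      all_goals
        rcases key r s hr hs hr'.1 hs'.1 (Ne.symm hs'.2.2.2) with h2 | h2 | h2
      · exact h2
      · exact absurd (h2.symm.trans h1) hr'.2.1
      · exact absurd (h2.symm.trans h1) hs'.2.1
      · exact h2
      · exact absurd (h2.symm.trans h1) hr'.2.2
      · exact absurd (h2.symm.trans h1) hs'.2.2.1
  obtain ⟨x, hx⟩ := hc3.isCycle.nonempty_support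
  have hx1 : 1 < (cls H x).card := by
    refine lt_of_lt_of_le (show 1 < c.support.card by rw [hc3.card_support]; norm_num) ?_
    exact card_le_card fun z hz => mem_cls.2 (rel_of_mem_support hc hc3 hx hz)
  obtain ⟨h5, hEx⟩ := hEcls x hx1
  set B := cls H x with hBd
  have hout : ∀ g ∈ classGroup H x, ∀ y, y ∉ B → g y = y := by
    intro g hg y hy
    rw [classGroup_eq_map] at hg
    obtain ⟨σ, -, rfl⟩ := hg
    exact ofSubtype_apply_of_not_mem σ hy
  have huniq : ∀ y, 1 < (cls H y).card → cls H y = B := by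
    intro y hy
    by_contra hne
    obtain ⟨-, hEy⟩ := hEcls y hy
    refine not_commutative hS fun a ha b hb => ?_
    have h1 : ∀ g ∈ E, g = 1 := by
      intro g hg
      refine Equiv.ext fun z => ?_
      by_cases hz : z ∈ B
      · have hzy : z ∉ cls H y := fun h => hne ((cls_eq (mem_cls.1 h)).trans
          (cls_eq (mem_cls.1 hz)).symm)
        have := hEy hg
        rw [classGroup_eq_map] at this
        obtain ⟨σ, -, rfl⟩ := this
        exact ofSubtype_apply_of_not_mem σ hzy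
      · exact hout g (hEx hg) z hz
    rw [h1 a ha, h1 b hb]
  have : IsSimpleGroup (alternatingGroup {y // y ∈ B}) :=
    alternatingGroup.isSimpleGroup (by rw [Nat.card_eq_fintype_card, Fintype.card_coe]; exact h5)
  have hEeq : E = classGroup H x := by
    have hmap := classGroup_eq_map (H := H) x
    have hn2 : ((E.comap (Equiv.Perm.ofSubtype : Perm {y // y ∈ B} →* Perm α)).subgroupOf
        (alternatingGroup {y // y ∈ B})).Normal := by
      refine ⟨fun n hn g => ?_⟩
      rw [Subgroup.mem_subgroupOf, Subgroup.mem_comap] at hn ⊢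
      simp only [Subgroup.coe_mul, Subgroup.coe_inv, map_mul, map_inv]
      exact hS.conj _ (classGroup_le x (hmap ▸ ⟨g.1, g.2, rfl⟩)) _ hn
    rcases hn2.eq_bot_or_eq_top with h | h
    · exfalso
      refine not_commutative hS fun a ha b hb => ?_
      have h1 : ∀ g ∈ E, g = 1 := by
        intro g hg
        have := hEx hg
        rw [hmap] at this
        obtain ⟨σ, hσ, rfl⟩ := this
        have : (⟨σ, hσ⟩ : alternatingGroup {y // y ∈ B}) = 1 := by
          rw [← Subgroup.mem_bot, ← h]; exact hg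
        rw [show σ = 1 from congrArg Subtype.val this, map_one]
      rw [h1 a ha, h1 b hb]
    · refine le_antisymm hEx (hmap ▸ Subgroup.map_le_iff_le_comap.2 ?_)
      exact Subgroup.subgroupOf_eq_top.1 h
  refine ⟨B, ?_, card_le_univ B, ?_⟩
  · by_contra hsmall
    have hfixB : ∀ h ∈ H, ∀ y ∈ B, h y ∈ B := by
      intro h hh y hy
      obtain ⟨y', hy', hne⟩ := exists_mem_ne (show 1 < B.card by omega) y
      have hyy : Rel H y y' := (mem_cls.1 hy).symm.trans (mem_cls.1 hy')
      have h1 : 1 < (cls H (h y)).card := one_lt_card.2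
        ⟨h y, mem_cls_self _, h y', mem_cls.2 (hconj h hh hyy), fun e => hne (h.injective e).symm⟩
      exact huniq (h y) h1 ▸ mem_cls_self (h y)
    have hpair : ∀ u, τ u ≠ u → u ∈ B → τ u ∈ B := by
      intro u hu huB
      obtain ⟨v, hv0, hv⟩ := hτ.exists_notMem {u, τ u}
        (lt_of_le_of_lt (Nat.add_le_add_right card_le_two 1) (by omega))
      simp only [mem_insert, mem_singleton, not_or] at hv0
      have h := hfixB _ (hτ.mem u v hu hv hv0.1 hv0.2) u huB
      have e : dbl τ u v u = τ u := by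
        simp only [dbl, Perm.mul_apply]
        rw [swap_apply_of_ne_of_ne (Ne.symm hv0.1) (fun h => hv0.2 (by rw [h, hτ.inv])),
          swap_apply_left]
      rwa [e] at h
    have hC : 4 ≤ Bᶜ.card := by rw [card_compl]; omega
    have hsplit : ∀ S : Finset α, S.card + 1 < Bᶜ.card → ∃ u, u ∉ B ∧ u ∉ S ∧ τ u ≠ u := by
      intro S hS'
      have h : (S ∪ univ.filter fun x => τ x = x).card < Bᶜ.card :=
        lt_of_le_of_lt ((card_union_le _ _).trans (Nat.add_le_add_left hτ.fix _)) hS'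
      obtain ⟨u, hu, hu'⟩ := exists_mem_notMem_of_card_lt_card h
      simp only [mem_union, mem_filter, mem_univ, true_and, not_or] at hu'
      exact ⟨u, mem_compl.1 hu, hu'⟩
    obtain ⟨u, huB, -, hu⟩ := hsplit ∅ (by rw [card_empty]; omega)
    obtain ⟨v, hvB, hv0, hv⟩ := hsplit {u, τ u}
      (lt_of_le_of_lt (Nat.add_le_add_right card_le_two 1) (by omega))
    simp only [mem_insert, mem_singleton, not_or] at hv0
    have hτout : ∀ w, τ w ≠ w → w ∉ B → τ w ∉ B := fun w hw hwB h => hwB (by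
      have := hpair (τ w) (by rw [hτ.inv]; exact hw.symm) h
      rwa [hτ.inv] at this)
    have h1 : dbl τ u v = 1 := eq_one_of_support_fixed hS (hτ.mem u v hu hv hv0.1 hv0.2)
      fun e he y hy => by
        refine hout e (hEx he) y ?_
        rcases eq_of_dbl_apply (mem_support.1 hy) with rfl | rfl | rfl | rfl
        exacts [huB, hτout u hu huB, hvB, hτout v hv hvB]
    have h2 := DFunLike.congr_fun h1 u
    simp only [dbl, Perm.mul_apply, Perm.one_apply] at h2
    rw [swap_apply_of_ne_of_ne (Ne.symm hv0.1) (fun h => hv0.2 (by rw [h, hτ.inv])),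
      swap_apply_left] at h2
    exact hu h2
  · exact ⟨(MulEquiv.subgroupCongr (hEeq.trans (classGroup_eq_map x))).trans
      ((alternatingGroup {y // y ∈ B}).equivMapOfInjective _ Equiv.Perm.ofSubtype_injective).symm⟩

end Cfsg.Agent.Perm.SylowTwoQuasisimple
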