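import Cfsg.Agent.Lib.Perm.HallSymMain

/-!
# Two proper overgroups of a 3-subgroup generating an alternating group

If `n ≥ 5` is not `6`, `9` or `3 ^ a + 1`, every 3-subgroup of `A n` lies in two proper
subgroups that generate `A n`; so such a group is not 3-minimal.
-/

set_option autoImplicit false

namespace Cfsg.Agent.Perm.ThreeMinimal

open Equiv Equiv.Perm Finset Cfsg.Agent.Perm.HallSym

variable {α : Type*} [Fintype α] [DecidableEq α]

theorem mem_pres {r : α → α → Prop} {g : Perm α} :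
    g ∈ pres r ↔ ∀ x y, r (g x) (g y) ↔ r x y := Iff.rfl

theorem mem_pres_of_rel {r : α → α → Prop} (hr : Equivalence r) {g : Perm α}
    (h : ∀ a, r (g a) a) : g ∈ pres r := fun x y =>
  ⟨fun h' => hr.trans (hr.symm (h x)) (hr.trans h' (h y)),
    fun h' => hr.trans (h x) (hr.trans h' (hr.symm (h y)))⟩

theorem swap_mem_pres {r : α → α → Prop} (hr : Equivalence r) {a b : α} (h : r a b) :
    swap a b ∈ pres r := by
  refine mem_pres_of_rel hr fun c => ?_
  by_cases h1 : c = a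
  · subst h1; rw [swap_apply_left]; exact hr.symm h
  by_cases h2 : c = b
  · subst h2; rw [swap_apply_right]; exact h
  rw [swap_apply_of_ne_of_ne h1 h2]; exact hr.refl c

theorem isThreeCycle_cyc {a b d : α} (hab : a ≠ b) (had : a ≠ d) (hbd : b ≠ d) :
    IsThreeCycle (cyc a b d) := by
  rw [cyc, swap_comm a b]
  exact isThreeCycle_swap_mul_swap_same hab.symm hbd had

theorem cyc_mem_alternating {a b d : α} (hab : a ≠ b) (had : a ≠ d) (hbd : b ≠ d) :
    cyc a b d ∈ alternatingGroup α :=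
  mem_alternatingGroup.2 (isThreeCycle_cyc hab had hbd).sign

/-- In a class with at least three points, any two are related. -/
theorem rel_of_class {r : α → α → Prop} (hr : Equivalence r) {x y : α} (hxy : r x y)
    (hc : ∀ a, ∃ b c, r a b ∧ r a c ∧ b ≠ a ∧ c ≠ a ∧ b ≠ c) :
    Rel (pres r ⊓ alternatingGroup α) x y := by
  by_cases he : x = y
  · exact Or.inl he
  obtain ⟨b, c, hb, hc, hbx, hcx, hbc⟩ := hc x
  obtain ⟨w, hw, hwx, hwy⟩ : ∃ w, r x w ∧ w ≠ x ∧ w ≠ y := by
    by_cases hby : b = y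
    · exact ⟨c, hc, hcx, fun h => hbc (hby.trans h.symm)⟩
    · exact ⟨b, hb, hbx, hby⟩
  refine Or.inr ⟨cyc x y w, Subgroup.mem_inf.2 ⟨?_, cyc_mem_alternating he hwx.symm hwy.symm⟩,
    isThreeCycle_cyc he hwx.symm hwy.symm, cyc_apply_fst he hwx.symm⟩
  exact mul_mem (swap_mem_pres hr hxy) (swap_mem_pres hr (hr.trans (hr.symm hxy) hw))

theorem not_le_pres {r : α → α → Prop} (hr : Equivalence r) {x x' y : α} (hx : x ≠ x')
    (h1 : r x x') (h2 : ¬ r x y) : ¬ alternatingGroup α ≤ pres r := by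
  intro h
  have hxy : x ≠ y := fun e => h2 (e ▸ hr.refl x)
  have hxy' : x' ≠ y := fun e => h2 (e ▸ h1)
  have h3 := (mem_pres.1 (h (cyc_mem_alternating hx hxy hxy')) x x').2 h1
  rw [cyc_apply_fst hx hxy, cyc_apply_snd hxy hxy'] at h3
  exact h2 (hr.trans h1 h3)

theorem alternating_le {M : Subgroup (Perm α)} (h : ∀ x y, Rel M x y) :
    alternatingGroup α ≤ M := by
  rw [← closure_three_cycles_eq_alternating, Subgroup.closure_le]
  intro σ (hσ : IsThreeCycle σ)
  obtain ⟨u, hu⟩ := hσ.isCycle.nonempty_support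
  have hn := hσ.nodup_iff_mem_support.2 hu
  simp only [List.nodup_cons, List.mem_cons, List.not_mem_nil, or_false, not_or,
    List.nodup_nil, and_true, not_false_eq_true] at hn
  rw [SetLike.mem_coe, hσ.eq_swap_mul_swap_iff_mem_support.2 hu]
  exact cyc_mem hn.1.1 hn.1.2 hn.2 (h _ _) (h _ _)

theorem Rel.mono {M N : Subgroup (Perm α)} (hMN : M ≤ N) {x y : α} (h : Rel M x y) :
    Rel N x y :=
  h.imp id fun ⟨s, hs, h3, he⟩ => ⟨s, hMN hs, h3, he⟩

theorem sign_four {a b c d e f g h : α} (h1 : a ≠ b) (h2 : c ≠ d) (h3 : e ≠ f) (h4 : g ≠ h) :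
    swap a b * swap c d * swap e f * swap g h ∈ alternatingGroup α := by
  rw [mem_alternatingGroup]
  simp [map_mul, sign_swap h1, sign_swap h2, sign_swap h3, sign_swap h4]

theorem commute_swap {a b c d : α} (h1 : c ≠ a) (h2 : c ≠ b) (h3 : d ≠ a) (h4 : d ≠ b) :
    swap a b * swap c d = swap c d * swap a b := by
  have h := swap_apply_apply (swap a b) c d
  rw [swap_apply_of_ne_of_ne h1 h2, swap_apply_of_ne_of_ne h3 h4] at h
  exact (mul_inv_eq_iff_eq_mul.1 h.symm)

variable (P : Subgroup (Perm α))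

open Classical in
/-- The orbit of a point. -/
noncomputable def orb (x : α) : Finset α := univ.filter fun y => ∃ g ∈ P, g x = y

variable {P}

theorem mem_orb {x y : α} : y ∈ orb P x ↔ ∃ g ∈ P, g x = y := by
  simp [orb]

theorem mem_orb_self (x : α) : x ∈ orb P x := mem_orb.2 ⟨1, one_mem P, rfl⟩

theorem orb_eq {x y : α} (h : y ∈ orb P x) : orb P y = orb P x := by
  obtain ⟨g, hg, rfl⟩ := mem_orb.1 h
  ext w
  simp only [mem_orb]
  exact ⟨fun ⟨k, hk, e⟩ => ⟨k * g, mul_mem hk hg, e⟩,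
    fun ⟨k, hk, e⟩ => ⟨k * g⁻¹, mul_mem hk (inv_mem hg), by
      rw [Perm.mul_apply, show g⁻¹ (g x) = x from g.symm_apply_apply x, e]⟩⟩

theorem orb_apply {g : Perm α} (hg : g ∈ P) (x : α) : orb P (g x) = orb P x :=
  orb_eq (mem_orb.2 ⟨g, hg, rfl⟩)

theorem coe_orb (x : α) : (orb P x : Set α) = MulAction.orbit P x := by
  ext y
  rw [mem_coe, mem_orb, MulAction.mem_orbit_iff]
  exact ⟨fun ⟨g, hg, e⟩ => ⟨⟨g, hg⟩, e⟩, fun ⟨g, e⟩ => ⟨g, g.2, e⟩⟩

theorem card_orb (h3 : IsPGroup 3 P) (x : α) : ∃ k : ℕ, (orb P x).card = 3 ^ k := by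
  have : Fact (Nat.Prime 3) := ⟨Nat.prime_three⟩
  obtain ⟨k, hk⟩ := h3.card_orbit (α := α) x
  refine ⟨k, ?_⟩
  rw [← hk, ← coe_orb, Nat.card_coe_set_eq, Set.ncard_coe_finset]

theorem three_le_of_one_lt (h3 : IsPGroup 3 P) (x : α) (h : (orb P x).card ≠ 1) :
    3 ≤ (orb P x).card := by
  obtain ⟨k, hk⟩ := card_orb h3 x
  rcases k with _ | k
  · exact absurd hk h
  · rw [hk, pow_succ]
    exact Nat.le_mul_of_pos_left 3 (pow_pos (by norm_num) k)

/-- On each nontrivial orbit some element of the group acts as a central element of order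
three. -/
theorem exists_central_on_orbit (h3 : IsPGroup 3 P) (x : α) (hx : (orb P x).card ≠ 1) :
    ∃ c ∈ P, (∀ g ∈ P, ∀ u ∈ orb P x, g (c u) = c (g u)) ∧ (∀ u ∈ orb P x, c (c (c u)) = u) ∧
      ∀ u ∈ orb P x, c u ≠ u := by
  classical
  have : Fact (Nat.Prime 3) := ⟨Nat.prime_three⟩
  let φ := MulAction.toPermHom P (MulAction.orbit P x)
  have hφ : ∀ (g : P) (u : MulAction.orbit P x), ((φ g u : MulAction.orbit P x) : α) = g.1 u.1 :=
    fun g u => rfl
  obtain ⟨y, hy, hyx⟩ : ∃ y ∈ orb P x, y ≠ x :=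
    exists_mem_ne (lt_of_le_of_ne (card_pos.2 ⟨x, mem_orb_self x⟩) (Ne.symm hx)) x
  obtain ⟨g, hg, hgy⟩ := mem_orb.1 hy
  have hne : Nontrivial φ.range := by
    refine ⟨⟨⟨φ ⟨g, hg⟩, ⟨_, rfl⟩⟩, 1, fun e => hyx ?_⟩⟩
    have := congrArg (fun σ : φ.range => ((σ.1 ⟨x, MulAction.mem_orbit_self x⟩ :
      MulAction.orbit P x) : α)) e
    simpa [hφ, hgy] using this
  have hR : IsPGroup 3 φ.range := h3.of_surjective φ.rangeRestrict φ.rangeRestrict_surjective
  have hC := hR.center_nontrivial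
  obtain ⟨k, hk⟩ := IsPGroup.iff_card.1 (hR.to_subgroup (Subgroup.center φ.range))
  have h3d : 3 ∣ Nat.card (Subgroup.center φ.range) := by
    rcases k with _ | k
    · rw [pow_zero] at hk
      have := Finite.one_lt_card (α := Subgroup.center φ.range)
      omega
    · exact hk ▸ dvd_pow_self 3 (by omega)
  obtain ⟨⟨⟨c', c, rfl⟩, hc⟩, hco⟩ :=
    exists_prime_orderOf_dvd_card' (G := Subgroup.center φ.range) 3 h3d
  rw [← orderOf_submonoid, ← orderOf_submonoid] at hco
  simp only at hco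
  have hcomm : ∀ g ∈ P, ∀ u ∈ orb P x, g (c.1 u) = c.1 (g u) := fun g hg u hu => by
    have h := congrArg Subtype.val (Subgroup.mem_center_iff.1 hc ⟨φ ⟨g, hg⟩, ⟨_, rfl⟩⟩)
    have hu' : u ∈ MulAction.orbit P x := by rw [← coe_orb]; exact hu
    exact congrArg Subtype.val (DFunLike.congr_fun h ⟨u, hu'⟩)
  refine ⟨c.1, c.2, hcomm, fun u hu => ?_, fun u hu hfix => ?_⟩
  · have hu' : u ∈ MulAction.orbit P x := by rw [← coe_orb]; exact hu
    have h := pow_orderOf_eq_one (φ c)
    rw [hco, pow_succ, pow_succ, pow_one] at h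
    exact congrArg Subtype.val (DFunLike.congr_fun h ⟨u, hu'⟩)
  · have h1 : φ c = 1 := by
      ext ⟨v, hv⟩
      have hv' : v ∈ orb P u := by
        rw [orb_eq hu, ← mem_coe, coe_orb]; exact hv
      obtain ⟨g, hg, rfl⟩ := mem_orb.1 hv'
      show c.1 (g u) = g u
      rw [← hcomm g hg u hu, hfix]
    rw [h1, orderOf_one] at hco
    omega

/-- A fixed-point-free element of order three commuting with the group. -/
theorem exists_fpf (h3 : IsPGroup 3 P) (h1 : ∀ x, (orb P x).card ≠ 1) :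
    ∃ z : Perm α, (∀ g ∈ P, ∀ u, g (z u) = z (g u)) ∧ (∀ u, z (z (z u)) = u) ∧ ∀ u, z u ≠ u := by
  classical
  have : ∀ U : Finset α, ∃ c : Perm α, ∀ x, orb P x = U → c ∈ P ∧
      (∀ g ∈ P, ∀ u ∈ orb P x, g (c u) = c (g u)) ∧ (∀ u ∈ orb P x, c (c (c u)) = u) ∧
      ∀ u ∈ orb P x, c u ≠ u := by
    intro U
    by_cases h : ∃ x, orb P x = U
    · obtain ⟨x, rfl⟩ := h
      obtain ⟨c, hc, h⟩ := exists_central_on_orbit h3 x (h1 x)
      exact ⟨c, fun y hy => ⟨hc, by rw [hy]; exact h⟩⟩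
    · exact ⟨1, fun y hy => absurd ⟨y, hy⟩ h⟩
  choose C hC using this
  let f : α → α := fun u => C (orb P u) u
  have hin : ∀ u, orb P (f u) = orb P u := fun u => orb_apply (hC _ u rfl).1 u
  have hf3 : ∀ u, f (f (f u)) = u := fun u => by
    show C (orb P (f (f u))) (C (orb P (f u)) (C (orb P u) u)) = u
    rw [hin, hin]
    exact (hC _ u rfl).2.2.1 u (mem_orb_self u)
  refine ⟨⟨f, fun u => f (f u), hf3, hf3⟩, fun g hg u => ?_, hf3,
    fun u => (hC _ u rfl).2.2.2 u (mem_orb_self u)⟩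
  show g (f u) = f (g u)
  simp only [f, orb_apply hg u]
  exact (hC _ u rfl).2.1 g hg u (mem_orb_self u)

/-- The criterion for at most two orbits. -/
theorem two_of_fun {ι : Type*} [DecidableEq ι] (hn : 5 ≤ Fintype.card α)
    (hP : P ≤ alternatingGroup α) (z : Perm α) (hz : ∀ g ∈ P, ∀ u, g (z u) = z (g u))
    (hz3 : ∀ u, z (z (z u)) = u) (hz1 : ∀ u, z u ≠ u) (f : α → ι)
    (hf : ∀ g ∈ P, ∀ a b, f (g a) = f (g b) ↔ f a = f b)
    (hf3 : ∀ a, 3 ≤ (univ.filter fun b => f b = f a).card)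
    (hf7 : ∀ a b, f a ≠ f b → 7 ≤ (univ.filter fun c => f c = f a).card ∨
      7 ≤ (univ.filter fun c => f c = f b).card)
    (hf2 : ∃ a b, f a ≠ f b) :
    ∃ L1 L2 : Subgroup (Perm α), P ≤ L1 ∧ P ≤ L2 ∧ L1 < alternatingGroup α ∧
      L2 < alternatingGroup α ∧ alternatingGroup α ≤ L1 ⊔ L2 := by
  classical
  set r1 : α → α → Prop := fun a b => b = a ∨ b = z a ∨ b = z (z a) with hr1d
  have hr1 : Equivalence r1 := by
    refine ⟨fun a => Or.inl rfl, fun {a b} h => ?_, fun {a b c} h h' => ?_⟩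
    · rcases h with rfl | rfl | rfl
      · exact Or.inl rfl
      · exact Or.inr (Or.inr (hz3 a).symm)
      · exact Or.inr (Or.inl (hz3 a).symm)
    · rcases h with rfl | rfl | rfl <;> rcases h' with rfl | rfl | rfl <;>
        simp [r1, hz3]
  set r2 : α → α → Prop := fun a b => f a = f b with hr2d
  have hr2 : Equivalence r2 := ⟨fun a => rfl, fun h => h.symm, fun h h' => h.trans h'⟩
  have hcomm : ∀ {g : Perm α}, (∀ u, g (z u) = z (g u)) → g ∈ pres r1 := by
    intro g hg a b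
    simp only [r1, ← hg, g.injective.eq_iff]
  have hz2 : ∀ u, z (z u) ≠ u := fun u h => hz1 u (by
    conv_rhs => rw [← hz3 u, h])
  have hc1 : ∀ a, ∃ b c, r1 a b ∧ r1 a c ∧ b ≠ a ∧ c ≠ a ∧ b ≠ c := fun a =>
    ⟨z a, z (z a), Or.inr (Or.inl rfl), Or.inr (Or.inr rfl), hz1 a, hz2 a,
      fun h => hz1 a (z.injective h).symm⟩
  have hc2 : ∀ a, ∃ b c, r2 a b ∧ r2 a c ∧ b ≠ a ∧ c ≠ a ∧ b ≠ c := fun a => by
    have h : 2 ≤ ((univ.filter fun b => f b = f a).erase a).card := by
      rw [card_erase_of_mem (by simp)]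
      have := hf3 a
      omega
    obtain ⟨b, hb, c, hc, hbc⟩ := one_lt_card.1 h
    simp only [mem_erase, mem_filter, mem_univ, true_and] at hb hc
    exact ⟨b, c, hb.2.symm, hc.2.symm, hb.1, hc.1, hbc⟩
  refine ⟨pres r1 ⊓ alternatingGroup α, pres r2 ⊓ alternatingGroup α,
    le_inf (fun g hg => hcomm (hz g hg)) hP, le_inf (fun g hg => hf g hg) hP, ?_, ?_, ?_⟩
  · obtain ⟨a, -, -⟩ := hf2
    obtain ⟨b, hb⟩ : ∃ b, ¬ r1 a b := by
      by_contra hall
      push Not at hall
      have : (univ : Finset α) ⊆ {a, z a, z (z a)} := fun b _ => by simpa [r1] using hall b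
      have := (card_le_card this).trans card_le_three
      rw [card_univ] at this
      omega
    exact lt_of_le_of_ne inf_le_right fun h =>
      not_le_pres hr1 (hz1 a).symm (Or.inr (Or.inl rfl)) hb (inf_eq_right.1 h)
  · obtain ⟨a, b, hab⟩ := hf2
    obtain ⟨c, -, hc, -, hca, -⟩ := hc2 a
    exact lt_of_le_of_ne inf_le_right fun h =>
      not_le_pres hr2 hca.symm hc hab (inf_eq_right.1 h)
  apply alternating_le
  set M := (pres r1 ⊓ alternatingGroup α) ⊔ (pres r2 ⊓ alternatingGroup α) with hM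
  intro x y
  by_cases h2 : f x = f y
  · exact Rel.mono le_sup_right (rel_of_class hr2 h2 hc2)
  by_cases h1 : r1 x y
  · exact Rel.mono le_sup_left (rel_of_class hr1 h1 hc1)
  have hd : ∀ a b, r1 x a → r1 y b → a ≠ b := fun a b ha hb e =>
    h1 (hr1.trans (e ▸ ha) (hr1.symm hb))
  have x0 : r1 x x := Or.inl rfl
  have y0 : r1 y y := Or.inl rfl
  have x1 : r1 x (z x) := Or.inr (Or.inl rfl)
  have y1 : r1 y (z y) := Or.inr (Or.inl rfl)
  have x2 : r1 x (z (z x)) := Or.inr (Or.inr rfl)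
  have y2 : r1 y (z (z y)) := Or.inr (Or.inr rfl)
  have zx12 : z x ≠ z (z x) := fun h => hz1 x (z.injective h).symm
  have zy12 : z y ≠ z (z y) := fun h => hz1 y (z.injective h).symm
  set A := swap x y with hA
  set B := swap (z x) (z y) with hB
  set C := swap (z (z x)) (z (z y)) with hC
  have hAB : A * B = B * A :=
    commute_swap (hz1 x) (hd _ _ x1 y0) (hd _ _ x0 y1).symm (hz1 y)
  have hAC : A * C = C * A :=
    commute_swap (hz2 x) (hd _ _ x2 y0) (hd _ _ x0 y2).symm (hz2 y)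
  have hg0 : ∀ u, (A * B * C) (z u) = z ((A * B * C) u) := by
    have hconj : z * (A * B * C) * z⁻¹ = A * B * C := by
      have e : z * (A * B * C) * z⁻¹ = (z * A * z⁻¹) * (z * B * z⁻¹) * (z * C * z⁻¹) := by group
      rw [e, hA, hB, hC, ← swap_apply_apply, ← swap_apply_apply, ← swap_apply_apply, hz3, hz3,
        ← hA, ← hB, ← hC, mul_assoc B C A, ← hAC, ← mul_assoc, ← hAB]
    intro u
    have h := DFunLike.congr_fun (mul_inv_eq_iff_eq_mul.1 hconj) u
    exact h.symm
  set K := swap (z y) (z (z y)) with hK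
  set h := A * B * C * K with hh
  have hhM : h ∈ M := Subgroup.mem_sup_left (Subgroup.mem_inf.2
    ⟨mul_mem (hcomm hg0) (swap_mem_pres hr1 (hr1.trans (hr1.symm y1) y2)),
      sign_four (hd _ _ x0 y0) (hd _ _ x1 y1) (hd _ _ x2 y2) zy12⟩)
  have hhx : h x = y := by
    simp only [hh, Perm.mul_apply, hK]
    rw [swap_apply_of_ne_of_ne (hd _ _ x0 y1) (hd _ _ x0 y2), hC,
      swap_apply_of_ne_of_ne (hz2 x).symm (hd _ _ x0 y2), hB,
      swap_apply_of_ne_of_ne (hz1 x).symm (hd _ _ x0 y1), hA, swap_apply_left]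
  have hhy : h y = x := by
    simp only [hh, Perm.mul_apply, hK]
    rw [swap_apply_of_ne_of_ne (hz1 y).symm (hz2 y).symm, hC,
      swap_apply_of_ne_of_ne (hd _ _ x2 y0).symm (hz2 y).symm, hB,
      swap_apply_of_ne_of_ne (hd _ _ x1 y0).symm (hz1 y).symm, hA, swap_apply_right]
  have hfix : ∀ w, w ∉ ({x, z x, z (z x), y, z y, z (z y)} : Finset α) → h w = w := by
    intro w hw
    simp only [mem_insert, mem_singleton, not_or] at hw
    obtain ⟨w1, w2, w3, w4, w5, w6⟩ := hw
    simp [hh, Perm.mul_apply, hA, hB, hC, hK, swap_apply_of_ne_of_ne, w1, w2, w3, w4, w5, w6]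
  have hex : ∀ u, 7 ≤ (univ.filter fun c => f c = f u).card →
      ∃ w, f u = f w ∧ h w = w := by
    intro u hu
    have hlt : ({x, z x, z (z x), y, z y, z (z y)} : Finset α).card <
        (univ.filter fun c => f c = f u).card := by
      refine lt_of_le_of_lt ?_ (lt_of_lt_of_le (show 6 < 7 by norm_num) hu)
      exact card_le_six
    obtain ⟨w, hw, hw'⟩ := exists_mem_notMem_of_card_lt_card hlt
    exact ⟨w, ((mem_filter.1 hw).2).symm, hfix w hw'⟩
  have hnorm : ∀ m ∈ M, h * m * h⁻¹ ∈ M := fun m hm => mul_mem (mul_mem hhM hm) (inv_mem hhM)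
  rcases hf7 x y h2 with h7 | h7
  · obtain ⟨w, hw, hwh⟩ := hex x h7
    have hxw : Rel M x w := Rel.mono le_sup_right (rel_of_class hr2 hw hc2)
    have := hxw.conj hnorm
    rw [hhx, hwh] at this
    exact hxw.trans this.symm
  · obtain ⟨w, hw, hwh⟩ := hex y h7
    have hyw : Rel M y w := Rel.mono le_sup_right (rel_of_class hr2 hw hc2)
    have := hyw.conj hnorm
    rw [hhy, hwh] at this
    exact this.trans hyw.symm

/-- The criterion for three or more orbits. -/
theorem two_of_three_orbits (hn : 5 ≤ Fintype.card α) (hP : P ≤ alternatingGroup α)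
    (h : 3 ≤ (univ.image (orb P)).card) :
    ∃ L1 L2 : Subgroup (Perm α), P ≤ L1 ∧ P ≤ L2 ∧ L1 < alternatingGroup α ∧
      L2 < alternatingGroup α ∧ alternatingGroup α ≤ L1 ⊔ L2 := by
  classical
  set Os := univ.image (orb P) with hOs
  obtain ⟨U1, hU1, hmin1⟩ := exists_min_image Os card (card_pos.1 (by omega))
  obtain ⟨U2, hU2, hmin2⟩ := exists_min_image (Os.erase U1) card
    (card_pos.1 (by rw [card_erase_of_mem hU1]; omega))
  obtain ⟨hU21, hU2'⟩ := mem_erase.1 hU2
  obtain ⟨U3, hU3⟩ := card_pos.1 (show 0 < ((Os.erase U1).erase U2).card by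
    rw [card_erase_of_mem hU2, card_erase_of_mem hU1]; omega)
  obtain ⟨hU32, hU3e⟩ := mem_erase.1 hU3
  obtain ⟨hU31, hU3'⟩ := mem_erase.1 hU3e
  have hmem : ∀ {U : Finset α}, U ∈ Os → ∀ {x}, x ∈ U ↔ orb P x = U := by
    intro U hU x
    obtain ⟨u, -, rfl⟩ := mem_image.1 hU
    exact ⟨orb_eq, fun h => h ▸ mem_orb_self x⟩
  have hne : ∀ {U : Finset α}, U ∈ Os → U.Nonempty := by
    intro U hU
    obtain ⟨u, -, rfl⟩ := mem_image.1 hU
    exact ⟨u, mem_orb_self u⟩
  have hdis : ∀ {U V : Finset α}, U ∈ Os → V ∈ Os → U ≠ V → Disjoint U V := by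
    intro U V hU hV huv
    exact disjoint_left.2 fun {x} h1 h2 => huv (((hmem hU).1 h1).symm.trans ((hmem hV).1 h2))
  have hd3 : Disjoint (U1 ∪ U2) U3 :=
    disjoint_union_left.2 ⟨hdis hU1 hU3' hU31.symm, hdis hU2' hU3' hU32.symm⟩
  have hsum := card_le_univ ((U1 ∪ U2) ∪ U3)
  rw [card_union_of_disjoint hd3, card_union_of_disjoint (hdis hU1 hU2' hU21.symm)] at hsum
  have h12 := hmin1 U2 hU2'
  have h23 := hmin2 U3 hU3e
  have h1pos := (hne hU1).card_pos
  obtain ⟨w, hw⟩ := hne hU3'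
  have hw1 : w ∉ U1 := fun h => hU31 (((hmem hU3').1 hw).symm.trans ((hmem hU1).1 h))
  have hw2 : w ∉ U2 := fun h => hU32 (((hmem hU3').1 hw).symm.trans ((hmem hU2').1 h))
  let r : Finset α → α → α → Prop := fun U a b => (a ∈ U ↔ b ∈ U)
  have hr : ∀ U, Equivalence (r U) := fun U => ⟨fun a => Iff.rfl, Iff.symm, Iff.trans⟩
  have hPr : ∀ U ∈ Os, P ≤ pres (r U) := fun U hU g hg a b => by
    simp only [r, hmem hU, orb_apply hg]
  have hrel : ∀ U, 3 ≤ Fintype.card α - U.card → ∀ x y, x ∉ U → y ∉ U →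
      Rel (pres (r U) ⊓ alternatingGroup α) x y := by
    intro U hU x y hx hy
    by_cases he : x = y
    · exact Or.inl he
    obtain ⟨v, hv, hv'⟩ := exists_mem_notMem_of_card_lt_card (s := {x, y}) (t := Uᶜ) (by
      rw [card_compl]; exact lt_of_le_of_lt card_le_two hU)
    simp only [mem_compl, mem_insert, mem_singleton, not_or] at hv hv'
    refine Or.inr ⟨cyc x y v, Subgroup.mem_inf.2 ⟨?_, cyc_mem_alternating he (Ne.symm hv'.1)
      (Ne.symm hv'.2)⟩, isThreeCycle_cyc he (Ne.symm hv'.1) (Ne.symm hv'.2),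
      cyc_apply_fst he (Ne.symm hv'.1)⟩
    exact mul_mem (swap_mem_pres (hr U) (iff_of_false hx hy))
      (swap_mem_pres (hr U) (iff_of_false hy hv))
  have hlt : ∀ U ∈ Os, 3 ≤ Fintype.card α - U.card →
      pres (r U) ⊓ alternatingGroup α < alternatingGroup α := by
    intro U hU hc
    obtain ⟨u, hu⟩ := hne hU
    obtain ⟨a, ha, b, hb, hab⟩ := one_lt_card.1 (show 1 < Uᶜ.card by rw [card_compl]; omega)
    rw [mem_compl] at ha hb
    exact lt_of_le_of_ne inf_le_right fun h => not_le_pres (hr U) hab (iff_of_false ha hb)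
      (fun h' => ha (h'.2 hu)) (inf_eq_right.1 h)
  have c1 : 3 ≤ Fintype.card α - U1.card := by omega
  have c2 : 3 ≤ Fintype.card α - U2.card := by omega
  refine ⟨_, _, le_inf (hPr U1 hU1) hP, le_inf (hPr U2 hU2') hP, hlt U1 hU1 c1,
    hlt U2 hU2' c2, alternating_le fun x y => ?_⟩
  have key : ∀ x, Rel ((pres (r U1) ⊓ alternatingGroup α) ⊔ (pres (r U2) ⊓ alternatingGroup α))
      x w := by
    intro x
    by_cases hx : x ∈ U1
    · have hx2 : x ∉ U2 := fun h => hU21 (((hmem hU2').1 h).symm.trans ((hmem hU1).1 hx))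
      exact Rel.mono le_sup_right (hrel U2 c2 x w hx2 hw2)
    · exact Rel.mono le_sup_left (hrel U1 c1 x w hx hw1)
  exact (key x).trans (key y).symm

/-- A transitive 3-group of degree `n` permutes three blocks of size `n / 3`. -/
theorem exists_three_blocks (h3 : IsPGroup 3 P) (x0 : α) (ht : ∀ y, y ∈ orb P x0)
    (hn : 27 ≤ Fintype.card α) :
    ∃ R : Subgroup P, ∃ f : α → P ⧸ R, (∀ g ∈ P, ∀ a b, f (g a) = f (g b) ↔ f a = f b) ∧
      (∀ a, 9 ≤ Nat.card {b // f b = f a}) ∧ ∃ a b, f a ≠ f b := by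
  classical
  have : Fact (Nat.Prime 3) := ⟨Nat.prime_three⟩
  obtain ⟨m, hm⟩ := IsPGroup.iff_card.1 (h3.to_subgroup (MulAction.stabilizer P x0))
  obtain ⟨b, hb⟩ := IsPGroup.iff_card.1 h3
  have ho : MulAction.orbit P x0 = Set.univ := Set.eq_univ_of_forall fun y => by
    rw [← coe_orb]; exact ht y
  have hcard := Nat.card_congr (MulAction.orbitProdStabilizerEquivGroup P x0)
  rw [Nat.card_prod, ho, Nat.card_univ, Nat.card_eq_fintype_card (α := α), hm, hb] at hcard
  have hmb : m + 1 ≤ b := by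
    by_contra hlt
    have h : 3 ^ b ≤ 3 ^ m := Nat.pow_le_pow_right (by norm_num) (by omega)
    have h' : 27 * 3 ^ m ≤ Fintype.card α * 3 ^ m := Nat.mul_le_mul_right _ hn
    have : 0 < 3 ^ m := pow_pos (by norm_num) m
    omega
  obtain ⟨R, hR, hle⟩ := Sylow.exists_subgroup_card_pow_prime_le 3 (m := b - 1)
    (hb ▸ pow_dvd_pow 3 (Nat.sub_le b 1)) (MulAction.stabilizer P x0) hm (by omega)
  have hidx : R.index = 3 := by
    have h := R.index_mul_card
    rw [hR, hb] at h
    conv_rhs at h => rw [show b = (b - 1) + 1 by omega, pow_succ']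
    exact Nat.eq_of_mul_eq_mul_right (pow_pos (by norm_num) _) h
  have hex : ∀ y, ∃ g : P, g • x0 = y := fun y => by
    obtain ⟨g, hg, e⟩ := mem_orb.1 (ht y)
    exact ⟨⟨g, hg⟩, e⟩
  choose s hs using hex
  let f : α → P ⧸ R := fun y => (s y : P ⧸ R)
  have hfg : ∀ g : P, f (g • x0) = g := fun g => by
    refine QuotientGroup.eq.2 (hle ?_)
    rw [MulAction.mem_stabilizer_iff, mul_smul, inv_smul_eq_iff, hs]
  have hequiv : ∀ (g : P) a, f (g • a) = g • f a := fun g a => by
    conv_lhs => rw [← hs a, ← mul_smul, hfg]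
    rfl
  refine ⟨R, f, fun g hg a c => ?_, fun a => ?_, ?_⟩
  · show f ((⟨g, hg⟩ : P) • a) = f ((⟨g, hg⟩ : P) • c) ↔ _
    rw [hequiv, hequiv, smul_left_cancel_iff]
  · have hq : Nat.card (P ⧸ R) = 3 := hidx
    have hsame : ∀ q, Nat.card {c // f c = q} = Nat.card {c // f c = f a} := by
      intro q
      obtain ⟨k, rfl⟩ := QuotientGroup.mk_surjective q
      obtain ⟨j, hj⟩ := QuotientGroup.mk_surjective (f a)
      refine Nat.card_congr ((MulAction.toPerm (j * k⁻¹)).subtypeEquiv fun c => ?_)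
      show _ ↔ f ((j * k⁻¹) • c) = f a
      rw [hequiv, ← hj]
      constructor
      · intro h; rw [h]; show ((j * k⁻¹ * k : P) : P ⧸ R) = _; rw [inv_mul_cancel_right]
      · intro h
        apply MulAction.injective (j * k⁻¹)
        show (j * k⁻¹) • f c = (j * k⁻¹) • ((k : P) : P ⧸ R)
        rw [h]; show _ = ((j * k⁻¹ * k : P) : P ⧸ R); rw [inv_mul_cancel_right]
    have h := Nat.card_congr (Equiv.sigmaFiberEquiv f)
    have : Fintype (P ⧸ R) := Fintype.ofFinite _
    rw [Nat.card_sigma, Finset.sum_congr rfl (fun q _ => hsame q), Finset.sum_const,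
      Finset.card_univ, ← Nat.card_eq_fintype_card, hq, smul_eq_mul,
      Nat.card_eq_fintype_card (α := α)] at h
    omega
  · have : Nontrivial (P ⧸ R) := by
      rw [← Finite.one_lt_card_iff_nontrivial]
      exact lt_of_lt_of_eq (by norm_num) hidx.symm
    obtain ⟨p, q, hpq⟩ := exists_pair_ne (P ⧸ R)
    obtain ⟨k, rfl⟩ := QuotientGroup.mk_surjective p
    obtain ⟨j, rfl⟩ := QuotientGroup.mk_surjective q
    exact ⟨k • x0, j • x0, by rwa [hfg, hfg]⟩

/-- Away from the exceptional degrees, a 3-subgroup lies in two proper subgroups generating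
the alternating group. -/
theorem exists_two (hn : 5 ≤ Fintype.card α) (hP : P ≤ alternatingGroup α) (h3 : IsPGroup 3 P)
    (h6 : Fintype.card α ≠ 6) (h9 : Fintype.card α ≠ 9)
    (hpow : ∀ a : ℕ, 2 ≤ a → Fintype.card α ≠ 3 ^ a + 1) :
    ∃ L1 L2 : Subgroup (Perm α), P ≤ L1 ∧ P ≤ L2 ∧ L1 < alternatingGroup α ∧
      L2 < alternatingGroup α ∧ alternatingGroup α ≤ L1 ⊔ L2 := by
  classical
  by_cases h : 3 ≤ (univ.image (orb P)).card
  · exact two_of_three_orbits hn hP h
  obtain ⟨x0⟩ : Nonempty α := Fintype.card_pos_iff.1 (by omega)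
  have hfil : ∀ x, (univ.filter fun y => orb P y = orb P x) = orb P x := fun x => by
    ext y
    simp only [mem_filter, mem_univ, true_and]
    exact ⟨fun h => h ▸ mem_orb_self y, orb_eq⟩
  by_cases ht : ∀ y, y ∈ orb P x0
  · have hu : orb P x0 = univ := eq_univ_of_forall ht
    obtain ⟨a, ha⟩ := card_orb h3 x0
    rw [hu, card_univ] at ha
    have ha3 : 3 ≤ a := by
      by_contra hlt
      have : a = 0 ∨ a = 1 ∨ a = 2 := by omega
      rcases this with rfl | rfl | rfl <;> omega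
    have h27 : 27 ≤ Fintype.card α :=
      ha ▸ le_trans (by norm_num) (Nat.pow_le_pow_right (show 0 < 3 by norm_num) ha3)
    obtain ⟨z, hz, hz3, hz1⟩ := exists_fpf h3 fun x => by
      rw [orb_eq (ht x), hu, card_univ]; omega
    obtain ⟨R, f, hf, h9', hf2⟩ := exists_three_blocks h3 x0 ht h27
    have hc : ∀ a, Nat.card {b // f b = f a} = (univ.filter fun b => f b = f a).card :=
      fun a => by rw [Nat.card_eq_fintype_card, Fintype.card_subtype]
    exact two_of_fun hn hP z hz hz3 hz1 f hf (fun a => by have := h9' a; rw [hc] at this; omega)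
      (fun a b _ => Or.inl (by have := h9' a; rw [hc] at this; omega)) hf2
  push Not at ht
  obtain ⟨y0, hy0⟩ := ht
  have hne : orb P x0 ≠ orb P y0 := fun e => hy0 (e ▸ mem_orb_self y0)
  have htwo : ∀ u, orb P u = orb P x0 ∨ orb P u = orb P y0 := by
    intro u
    by_contra hu
    push Not at hu
    refine h ?_
    have : ({orb P x0, orb P y0, orb P u} : Finset (Finset α)) ⊆ univ.image (orb P) := by
      intro V hV
      simp only [mem_insert, mem_singleton] at hV
      rcases hV with rfl | rfl | rfl <;> exact mem_image_of_mem _ (mem_univ _)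
    refine le_trans ?_ (card_le_card this)
    rw [card_insert_of_notMem (by simp [hne, hu.1.symm]),
      card_insert_of_notMem (by simp [hu.2.symm]), card_singleton]
  have hsum : (orb P x0).card + (orb P y0).card = Fintype.card α := by
    have hd : Disjoint (orb P x0) (orb P y0) := disjoint_left.2 fun {u} h1 h2 =>
      hne ((orb_eq h1).symm.trans (orb_eq h2))
    rw [← card_union_of_disjoint hd, ← card_univ]
    congr 1
    refine eq_univ_of_forall fun u => mem_union.2 ?_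
    rcases htwo u with e | e
    · exact Or.inl (e ▸ mem_orb_self u)
    · exact Or.inr (e ▸ mem_orb_self u)
  have hne1 : ∀ {u v : α}, (orb P u).card + (orb P v).card = Fintype.card α →
      (orb P u).card ≠ 1 := by
    intro u v hs hu
    obtain ⟨k, hk⟩ := card_orb h3 v
    rw [hu, hk] at hs
    have : 2 ≤ k := by
      by_contra hlt
      have : k = 0 ∨ k = 1 := by omega
      rcases this with rfl | rfl <;> omega
    exact hpow k this (by omega)
  have hall : ∀ u, (orb P u).card ≠ 1 := fun u => by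
    rcases htwo u with e | e <;> rw [e]
    · exact hne1 hsum
    · exact hne1 (u := y0) (v := x0) (by omega)
  have hbig : 7 ≤ (orb P x0).card ∨ 7 ≤ (orb P y0).card := by
    obtain ⟨i, hi⟩ := card_orb h3 x0
    obtain ⟨j, hj⟩ := card_orb h3 y0
    by_contra hlt
    push Not at hlt
    have hk : ∀ {k : ℕ}, 3 ^ k < 7 → 3 ^ k = 1 ∨ 3 ^ k = 3 := by
      intro k hk
      rcases k with _ | _ | k
      · simp
      · simp
      · exfalso
        have : 9 ≤ 3 ^ (k + 1 + 1) :=
          le_trans (by norm_num) (Nat.pow_le_pow_right (show 0 < 3 by norm_num) (show 2 ≤ k + 1 + 1 by omega))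
        omega
    have a1 := hk (hi ▸ hlt.1)
    have a2 := hk (hj ▸ hlt.2)
    have := hall x0
    have := hall y0
    omega
  obtain ⟨z, hz, hz3, hz1⟩ := exists_fpf h3 hall
  refine two_of_fun hn hP z hz hz3 hz1 (orb P) (fun g hg a b => by
    rw [orb_apply hg, orb_apply hg]) (fun a => ?_) (fun a b hab => ?_) ⟨x0, y0, hne⟩
  · rw [hfil]; exact three_le_of_one_lt h3 a (hall a)
  · rw [hfil, hfil]
    rcases htwo a with e | e <;> rcases htwo b with e' | e'
    · exact absurd (e.trans e'.symm) hab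
    · rw [e, e']; exact hbig
    · rw [e, e']; exact hbig.symm
    · exact absurd (e.trans e'.symm) hab

end Cfsg.Agent.Perm.ThreeMinimal
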