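import Mathlib

/-!
The iterated wreath products of groups of order two acting on binary trees, and the Sylow 2-subgroups of
the symmetric and alternating groups as their products over the binary digits of the degree.
-/
set_option autoImplicit false

namespace Cfsg.Agent.Perm

open Equiv Equiv.Perm

/-- The leaves of the binary tree of height `k`. -/
def Leaf : ℕ → Type
  | 0 => Unit
  | k + 1 => Bool × Leaf k

instance fintypeLeaf : ∀ k, Fintype (Leaf k)
  | 0 => inferInstanceAs (Fintype Unit)
  | k + 1 => @instFintypeProd Bool (Leaf k) _ (fintypeLeaf k)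

instance decidableEqLeaf : ∀ k, DecidableEq (Leaf k)
  | 0 => inferInstanceAs (DecidableEq Unit)
  | k + 1 => @instDecidableEqProd Bool (Leaf k) _ (decidableEqLeaf k)

theorem card_leaf : ∀ k, Fintype.card (Leaf k) = 2 ^ k
  | 0 => rfl
  | k + 1 => by
    show Fintype.card (Bool × Leaf k) = _
    rw [Fintype.card_prod, card_leaf k, Fintype.card_bool, pow_succ']

/-- The swap of the two halves when `f` is true. -/
def boolShift (f : Bool) : Equiv.Perm Bool where
  toFun b := xor b f
  invFun b := xor b f
  left_inv b := by cases b <;> cases f <;> rfl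
  right_inv b := by cases b <;> cases f <;> rfl

/-- Apply `g b` inside the half `b`, then shift the halves by `f`. -/
def node {α : Type*} (f : Bool) (g : Bool → Equiv.Perm α) : Equiv.Perm (Bool × α) :=
  (Equiv.prodCongrRight g).trans (Equiv.prodCongrLeft fun _ => boolShift f)

theorem node_apply {α : Type*} (f : Bool) (g : Bool → Equiv.Perm α) (b : Bool) (x : α) :
    node f g (b, x) = (xor b f, g b x) := rfl

theorem node_mul {α : Type*} (f f' : Bool) (g g' : Bool → Equiv.Perm α) :
    node f g * node f' g' = node (xor f' f) (fun b => g (xor b f') * g' b) := by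
  refine Equiv.ext fun ⟨b, x⟩ => ?_
  show node f g (node f' g' (b, x)) = _
  simp only [node_apply, Bool.xor_assoc]
  rfl

theorem node_one {α : Type*} : node (α := α) false (fun _ => 1) = 1 := by
  refine Equiv.ext fun ⟨b, x⟩ => ?_
  simp [node_apply]

theorem node_inv {α : Type*} (f : Bool) (g : Bool → Equiv.Perm α) :
    (node f g)⁻¹ = node f (fun b => (g (xor b f))⁻¹) := by
  refine inv_eq_of_mul_eq_one_left ?_
  rw [node_mul, Bool.xor_self]
  refine Eq.trans (congrArg _ (funext fun b => ?_)) node_one
  cases b <;> cases f <;> simp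

theorem node_injective {α : Type*} [Nonempty α] {f f' : Bool} {g g' : Bool → Equiv.Perm α}
    (h : node f g = node f' g') : f = f' ∧ g = g' := by
  have h' : ∀ b x, (xor b f, g b x) = (xor b f', g' b x) := fun b x => by
    rw [← node_apply f, ← node_apply f', h]
  refine ⟨?_, funext fun b => Equiv.ext fun x => (Prod.ext_iff.1 (h' b x)).2⟩
  have := (Prod.ext_iff.1 (h' false (Classical.arbitrary α))).1
  simpa using this

instance nonemptyLeaf : ∀ k, Nonempty (Leaf k)
  | 0 => inferInstanceAs (Nonempty Unit)
  | k + 1 => @instNonemptyProd Bool (Leaf k) _ (nonemptyLeaf k)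

/-- `node` on leaves. -/
def tnode {k : ℕ} (f : Bool) (g : Bool → Equiv.Perm (Leaf k)) : Equiv.Perm (Leaf (k + 1)) := node f g

theorem tnode_mul {k : ℕ} (f f' : Bool) (g g' : Bool → Equiv.Perm (Leaf k)) :
    tnode f g * tnode f' g' = tnode (xor f' f) (fun b => g (xor b f') * g' b) := node_mul f f' g g'

theorem tnode_one {k : ℕ} : tnode (k := k) false (fun _ => 1) = 1 := node_one

theorem tnode_inv {k : ℕ} (f : Bool) (g : Bool → Equiv.Perm (Leaf k)) :
    (tnode f g)⁻¹ = tnode f (fun b => (g (xor b f))⁻¹) := node_inv f g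

theorem tnode_injective {k : ℕ} {f f' : Bool} {g g' : Bool → Equiv.Perm (Leaf k)}
    (h : tnode f g = tnode f' g') : f = f' ∧ g = g' := node_injective h

/-- The iterated wreath product of groups of order two on the leaves. -/
def tree : (k : ℕ) → Subgroup (Equiv.Perm (Leaf k))
  | 0 => ⊤
  | k + 1 =>
    { carrier := {σ | ∃ f g, (∀ b, g b ∈ tree k) ∧ σ = tnode f g}
      one_mem' := ⟨false, fun _ => 1, fun _ => one_mem _, tnode_one.symm⟩
      mul_mem' := by
        rintro _ _ ⟨f, g, hg, rfl⟩ ⟨f', g', hg', rfl⟩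
        exact ⟨_, _, fun b => mul_mem (hg _) (hg' b), tnode_mul f f' g g'⟩
      inv_mem' := by
        rintro _ ⟨f, g, hg, rfl⟩
        exact ⟨_, _, fun b => inv_mem (hg _), tnode_inv f g⟩ }

theorem mem_tree_succ {k : ℕ} {σ : Equiv.Perm (Leaf (k + 1))} :
    σ ∈ tree (k + 1) ↔ ∃ f g, (∀ b, g b ∈ tree k) ∧ σ = tnode f g := Iff.rfl

theorem tnode_mem_tree {k : ℕ} (f : Bool) {g : Bool → Equiv.Perm (Leaf k)} (hg : ∀ b, g b ∈ tree k) :
    tnode f g ∈ tree (k + 1) := ⟨f, g, hg, rfl⟩

theorem card_tree : ∀ k, Nat.card (tree k) = 2 ^ (2 ^ k - 1) := by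
  intro k
  induction k with
  | zero =>
    haveI : Subsingleton (Leaf 0) := inferInstanceAs (Subsingleton Unit)
    haveI : Subsingleton (Equiv.Perm (Leaf 0)) := ⟨fun a b => Equiv.ext fun x => Subsingleton.elim _ _⟩
    simp
  | succ k ih =>
    have e : Bool × (Bool → tree k) ≃ tree (k + 1) := Equiv.ofBijective
      (fun p => ⟨tnode p.1 (fun b => (p.2 b : Equiv.Perm (Leaf k))), tnode_mem_tree _ fun b => (p.2 b).2⟩)
      ⟨fun p p' h => by
        obtain ⟨h1, h2⟩ := tnode_injective (congrArg Subtype.val h)
        exact Prod.ext h1 (funext fun b => Subtype.ext (congrFun h2 b)), by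
        rintro ⟨σ, f, g, hg, rfl⟩
        exact ⟨(f, fun b => ⟨g b, hg b⟩), rfl⟩⟩
    rw [← Nat.card_congr e, Nat.card_prod, Nat.card_pi]
    simp only [ih, Finset.prod_const, Finset.card_univ, Nat.card_eq_fintype_card, Fintype.card_bool]
    rw [← pow_mul, ← pow_succ']
    congr 1
    have := Nat.one_le_two_pow (n := k)
    rw [pow_succ]
    omega

theorem sign_tnode {k : ℕ} (f : Bool) (g : Bool → Equiv.Perm (Leaf k)) :
    sign (tnode f g : Equiv.Perm (Leaf (k + 1))) =
      (if f then (-1) ^ (2 ^ k) else 1) * (sign (g false) * sign (g true)) := by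
  show sign ((Equiv.prodCongrRight g).trans (Equiv.prodCongrLeft fun _ => boolShift f)) = _
  rw [Equiv.Perm.sign_trans, sign_prodCongrLeft, sign_prodCongrRight, Fintype.prod_bool, mul_comm (sign (g true))]
  congr 1
  rw [Finset.prod_const, Finset.card_univ, card_leaf]
  cases f
  · rw [show boolShift false = 1 from Equiv.ext fun b => by cases b <;> rfl]; simp
  · rw [show boolShift true = swap false true from Equiv.ext fun b => by cases b <;> rfl, sign_swap (by simp)]
    simp

/-- The sign is surjective on trees of positive height. -/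
theorem exists_odd_involution (k : ℕ) :
    ∃ σ ∈ tree (k + 1), sign σ = -1 ∧ σ * σ = 1 := by
  induction k with
  | zero =>
    refine ⟨tnode true fun _ => 1, tnode_mem_tree _ fun _ => one_mem _, ?_, ?_⟩
    · simp [sign_tnode]
    · rw [tnode_mul]; simpa using tnode_one
  | succ k ih =>
    obtain ⟨σ, hσ, hs, h2⟩ := ih
    refine ⟨tnode false fun b => bif b then σ else 1, tnode_mem_tree _ fun b => by cases b <;> simp [hσ], ?_, ?_⟩
    · simp [sign_tnode, hs]
    · rw [tnode_mul]
      refine Eq.trans ?_ tnode_one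
      congr 1
      funext b; cases b <;> simp [h2]

/-- The central involution. -/
def treeCentre : (k : ℕ) → Equiv.Perm (Leaf k)
  | 0 => 1
  | 1 => tnode true fun _ => 1
  | k + 2 => tnode false fun _ => treeCentre (k + 1)

theorem treeCentre_mem : ∀ k, treeCentre k ∈ tree k
  | 0 => one_mem _
  | 1 => tnode_mem_tree _ fun _ => one_mem _
  | k + 2 => tnode_mem_tree _ fun _ => treeCentre_mem (k + 1)

theorem sign_treeCentre {k : ℕ} (hk : 2 ≤ k) : sign (treeCentre k) = 1 := by
  obtain ⟨j, rfl⟩ : ∃ j, k = j + 2 := ⟨k - 2, by omega⟩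
  rw [show treeCentre (j + 2) = tnode false fun _ => treeCentre (j + 1) from rfl, sign_tnode]
  simp [Int.units_mul_self]

/-- The central involution commutes with the tree. -/
theorem treeCentre_comm : ∀ k, ∀ σ ∈ tree k, treeCentre k * σ = σ * treeCentre k := by
  intro k
  induction k with
  | zero => intro σ _; simp [treeCentre]
  | succ k ih =>
    rintro σ ⟨f, g, hg, rfl⟩
    rcases Nat.eq_zero_or_pos k with rfl | hk
    · haveI : Subsingleton (Leaf 0) := inferInstanceAs (Subsingleton Unit)
      rw [show treeCentre 1 = tnode true fun _ => 1 from rfl, tnode_mul, tnode_mul]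
      exact congrArg₂ tnode (by cases f <;> rfl) (funext fun b => Equiv.ext fun x => Subsingleton.elim _ _)
    obtain ⟨j, rfl⟩ : ∃ j, k = j + 1 := ⟨k - 1, by omega⟩
    rw [show treeCentre (j + 1 + 1) = tnode false fun _ => treeCentre (j + 1) from rfl, tnode_mul, tnode_mul]
    refine congrArg₂ tnode (by cases f <;> rfl) (funext fun b => ?_)
    simp [ih _ (hg b)]

/-- An element fixing the halves that commutes with the diagonal and with the swap is diagonal central. -/
theorem diag_centralizer {k : ℕ}
    (ih : ∀ σ ∈ tree k, (∀ τ ∈ tree k, σ * τ = τ * σ) → σ = 1 ∨ σ = treeCentre k)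
    {g : Bool → Equiv.Perm (Leaf k)} (hg : ∀ b, g b ∈ tree k)
    (hd : ∀ τ ∈ tree k, tnode false g * tnode false (fun _ => τ) = tnode false (fun _ => τ) * tnode false g)
    (ht : tnode false g * tnode true (fun _ => 1) = tnode true (fun _ => 1) * tnode false g) :
    tnode false g = 1 ∨ tnode false g = tnode false (fun _ => treeCentre k) := by
  rw [tnode_mul, tnode_mul] at ht
  have hgg : g true = g false := by simpa using congrFun (tnode_injective ht).2 false
  have key : ∀ τ ∈ tree k, g false * τ = τ * g false := by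
    intro τ hτ
    have := hd τ hτ
    rw [tnode_mul, tnode_mul] at this
    simpa using congrFun (tnode_injective this).2 false
  rcases ih _ (hg false) key with h | h
  · left
    rw [show g = fun _ => (1 : Equiv.Perm (Leaf k)) from funext fun b => by cases b <;> simp [hgg, h], tnode_one]
  · right
    rw [show g = fun _ => treeCentre k from funext fun b => by cases b <;> simp [hgg, h]]

/-- The centre has order two. -/
theorem tree_centre : ∀ k, ∀ σ ∈ tree k, (∀ τ ∈ tree k, σ * τ = τ * σ) → σ = 1 ∨ σ = treeCentre k := by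
  intro k
  induction k with
  | zero =>
    intro σ _ _
    haveI : Subsingleton (Leaf 0) := inferInstanceAs (Subsingleton Unit)
    exact Or.inl (Equiv.ext fun x => Subsingleton.elim _ _)
  | succ k ih =>
    rintro σ ⟨f, g, hg, rfl⟩ hc
    rcases Nat.eq_zero_or_pos k with rfl | hk
    · haveI : Subsingleton (Leaf 0) := inferInstanceAs (Subsingleton Unit)
      have hg1 : g = fun _ => 1 := funext fun b => Equiv.ext fun x => Subsingleton.elim _ _
      subst hg1
      cases f
      · exact Or.inl tnode_one
      · exact Or.inr rfl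
    obtain ⟨j, rfl⟩ : ∃ j, k = j + 1 := ⟨k - 1, by omega⟩
    cases f
    · exact diag_centralizer ih hg (fun τ hτ => hc _ (tnode_mem_tree _ fun _ => hτ))
        (hc _ (tnode_mem_tree _ fun _ => one_mem _))
    · obtain ⟨σ, hσ, hs, -⟩ := exists_odd_involution j
      have := hc (tnode false fun b => bif b then σ else 1)
        (tnode_mem_tree _ fun b => by cases b <;> simp [hσ, one_mem])
      rw [tnode_mul, tnode_mul] at this
      have := congrFun (tnode_injective this).2 true
      simp at this
      rw [this, map_one] at hs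
      exact absurd hs (by decide)

/-- The central involution is a square in height at least two. -/
theorem exists_sq_centre {k : ℕ} (hk : 2 ≤ k) : ∃ y ∈ tree k, y * y = treeCentre k := by
  obtain ⟨j, rfl⟩ : ∃ j, k = j + 2 := ⟨k - 2, by omega⟩
  refine ⟨tnode true fun b => bif b then 1 else treeCentre (j + 1),
    tnode_mem_tree _ fun b => by cases b <;> simp [treeCentre_mem, one_mem], ?_⟩
  rw [tnode_mul]
  show _ = tnode false fun _ => treeCentre (j + 1)
  congr 1
  funext b; cases b <;> simp

/-- Trees of height at least two are not abelian. -/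
theorem tree_not_comm {k : ℕ} (hk : 2 ≤ k) : ∃ a ∈ tree k, ∃ b ∈ tree k, a * b ≠ b * a := by
  obtain ⟨j, rfl⟩ : ∃ j, k = j + 2 := ⟨k - 2, by omega⟩
  obtain ⟨σ, hσ, hs, -⟩ := exists_odd_involution j
  refine ⟨tnode true fun _ => 1, tnode_mem_tree _ fun _ => one_mem _,
    tnode false (fun b => bif b then σ else 1), tnode_mem_tree _ fun b => by cases b <;> simp [hσ, one_mem], ?_⟩
  intro h
  rw [tnode_mul, tnode_mul] at h
  have := congrFun (tnode_injective h).2 true
  simp at this
  rw [this, map_one] at hs
  exact absurd hs (by decide)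

/-- A normal set of elements fixing the halves that commute with a common element moving them is central. -/
theorem central_of_commute_flip {k : ℕ} {g₀ : Bool → Equiv.Perm (Leaf k)} (B : Subgroup (Equiv.Perm (Leaf (k + 1))))
    (hB : B ≤ tree (k + 1)) (hnorm : ∀ τ ∈ tree (k + 1), ∀ b ∈ B, τ * b * τ⁻¹ ∈ B)
    (hcx : ∀ b ∈ B, b * tnode true g₀ = tnode true g₀ * b)
    {g : Bool → Equiv.Perm (Leaf k)} (hb : tnode false g ∈ B) :
    tnode false g = 1 ∨ tnode false g = treeCentre (k + 1) := by
  rcases Nat.eq_zero_or_pos k with rfl | hk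
  · haveI : Subsingleton (Leaf 0) := inferInstanceAs (Subsingleton Unit)
    exact Or.inl (by
      rw [show g = fun _ => 1 from funext fun b => Equiv.ext fun x => Subsingleton.elim _ _, tnode_one])
  have hg : ∀ b, g b ∈ tree k := by
    obtain ⟨f, g', hg', e⟩ := hB hb
    obtain ⟨-, rfl⟩ := tnode_injective e
    exact hg'
  -- one component determines the other
  have hdet : ∀ {g : Bool → Equiv.Perm (Leaf k)}, tnode false g ∈ B →
      g true * g₀ false = g₀ false * g false ∧ g false * g₀ true = g₀ true * g true := by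
    intro g hb
    have := hcx _ hb
    rw [tnode_mul, tnode_mul] at this
    exact ⟨by simpa using congrFun (tnode_injective this).2 false,
      by simpa using congrFun (tnode_injective this).2 true⟩
  -- each component is central
  have hcen : ∀ (c : Bool) (τ : Equiv.Perm (Leaf k)), τ ∈ tree k → g c * τ = τ * g c := by
    intro c τ hτ
    let e : Bool → Equiv.Perm (Leaf k) := fun b => bif b == c then τ else 1
    have hbc := hnorm _ (tnode_mem_tree false (g := e) fun b => by
      simp only [e]; cases (b == c) <;> simp [hτ, one_mem]) _ hb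
    rw [tnode_inv, tnode_mul, tnode_mul, Bool.xor_self, Bool.xor_self] at hbc
    obtain ⟨h1, h2⟩ := hdet hbc
    obtain ⟨h3, h4⟩ := hdet hb
    cases c
    · -- the component at `true` is unchanged, hence so is the one at `false`
      simp [e] at h1
      rw [h3] at h1
      have := mul_left_cancel h1
      have h5 : τ * g false * τ⁻¹ = g false := this.symm
      exact (mul_inv_eq_iff_eq_mul.1 h5).symm
    · simp [e] at h2
      rw [h4] at h2
      have := mul_left_cancel h2
      have h5 : τ * g true * τ⁻¹ = g true := this.symm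
      exact (mul_inv_eq_iff_eq_mul.1 h5).symm
  have hz : ∀ c, g c = 1 ∨ g c = treeCentre k := fun c => tree_centre k _ (hg c) (hcen c)
  obtain ⟨h1, -⟩ := hdet hb
  have heq : g true = g false := by
    rcases hz false with h | h
    · rw [h] at h1 ⊢; exact mul_eq_right.1 (h1.trans (mul_one _))
    · rcases hz true with h' | h'
      · rw [h, h', one_mul] at h1
        rw [h, h', mul_eq_left.1 h1.symm]
      · rw [h, h']
  obtain ⟨j, rfl⟩ : ∃ j, k = j + 1 := ⟨k - 1, by omega⟩
  rcases hz false with h | h
  · exact Or.inl (by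
      rw [show g = fun _ => 1 from funext fun b => by cases b <;> simp [heq, h], tnode_one])
  · exact Or.inr (by
      rw [show g = fun _ => treeCentre (j + 1) from funext fun b => by cases b <;> simp [heq, h]]
      rfl)

/-- In height at least two, two commuting normal subgroups generating the tree have a central one. -/
theorem tree_central_product {k : ℕ} (hk : 2 ≤ k) {A B : Subgroup (Equiv.Perm (Leaf k))}
    (hgen : A ⊔ B = tree k) (hA : ∀ τ ∈ tree k, ∀ a ∈ A, τ * a * τ⁻¹ ∈ A)
    (hB : ∀ τ ∈ tree k, ∀ b ∈ B, τ * b * τ⁻¹ ∈ B) (hc : ∀ a ∈ A, ∀ b ∈ B, a * b = b * a) :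
    (∀ a ∈ A, a = 1 ∨ a = treeCentre k) ∨ (∀ b ∈ B, b = 1 ∨ b = treeCentre k) := by
  obtain ⟨j, rfl⟩ : ∃ j, k = j + 1 := ⟨k - 1, by omega⟩
  have hAt : A ≤ tree (j + 1) := hgen ▸ le_sup_left
  have hBt : B ≤ tree (j + 1) := hgen ▸ le_sup_right
  -- the subgroup fixing the halves
  let base : Subgroup (Equiv.Perm (Leaf (j + 1))) :=
    { carrier := {σ | ∃ g, σ = tnode false g}
      one_mem' := ⟨_, tnode_one.symm⟩
      mul_mem' := by rintro _ _ ⟨g, rfl⟩ ⟨g', rfl⟩; exact ⟨_, tnode_mul _ _ _ _⟩
      inv_mem' := by rintro _ ⟨g, rfl⟩; exact ⟨_, tnode_inv _ _⟩ }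
  have hsplit : ∀ σ ∈ tree (j + 1), σ ∈ base ∨ ∃ g, σ = tnode true g := by
    rintro σ ⟨f, g, -, rfl⟩
    cases f
    exacts [Or.inl ⟨g, rfl⟩, Or.inr ⟨g, rfl⟩]
  by_cases hAf : ∃ g, tnode true g ∈ A
  · obtain ⟨g₀, hg₀⟩ := hAf
    have hBb : ∀ b ∈ B, b ∈ base → b = 1 ∨ b = treeCentre (j + 1) := by
      rintro b hb ⟨g, rfl⟩
      exact central_of_commute_flip B hBt hB (fun b hb => (hc _ hg₀ b hb).symm) hb
    by_cases hBf : ∃ g, tnode true g ∈ B
    · obtain ⟨g₁, hg₁⟩ := hBf
      have hAb : ∀ a ∈ A, a ∈ base → a = 1 ∨ a = treeCentre (j + 1) := by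
        rintro a ha ⟨g, rfl⟩
        exact central_of_commute_flip A hAt hA (fun a ha => hc a ha _ hg₁) ha
      exfalso
      -- then both are abelian, hence so is the tree
      have hzc : ∀ σ ∈ tree (j + 1), treeCentre (j + 1) * σ = σ * treeCentre (j + 1) := treeCentre_comm _
      have habel : ∀ (C : Subgroup (Equiv.Perm (Leaf (j + 1)))), C ≤ tree (j + 1) →
          (∀ c ∈ C, c ∈ base → c = 1 ∨ c = treeCentre (j + 1)) → ∀ {g₀}, tnode true g₀ ∈ C →
          ∀ a ∈ C, ∀ b ∈ C, a * b = b * a := by
        intro C hC hCb g₀ hg₀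
        have h1 : ∀ a ∈ C, ∃ z, (z = 1 ∨ z = treeCentre (j + 1)) ∧ (a = z ∨ a = tnode true g₀ * z) := by
          intro a ha
          rcases hsplit a (hC ha) with h | ⟨g, rfl⟩
          · exact ⟨a, hCb a ha h, Or.inl rfl⟩
          · refine ⟨(tnode true g₀)⁻¹ * tnode true g, hCb _ (mul_mem (inv_mem hg₀) ha) ?_, Or.inr (by group)⟩
            rw [tnode_inv, tnode_mul]
            exact ⟨_, rfl⟩
        intro a ha b hb
        obtain ⟨z, hz, ha'⟩ := h1 a ha
        obtain ⟨z', hz', hb'⟩ := h1 b hb
        have hc0 : ∀ w : Equiv.Perm (Leaf (j + 1)), w = 1 ∨ w = treeCentre (j + 1) →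
            ∀ σ ∈ tree (j + 1), Commute w σ := by
          rintro w (rfl | rfl) σ hσ
          exacts [Commute.one_left σ, hzc σ hσ]
        rcases ha' with rfl | rfl
        · exact hc0 a hz b (hC hb)
        · rcases hb' with rfl | rfl
          · exact (hc0 b hz' _ (hC ha)).symm
          · have h2 : Commute (tnode true g₀ * z) (tnode true g₀) :=
              (Commute.refl _).mul_left (hc0 z hz _ (hC hg₀))
            exact h2.mul_right (hc0 z' hz' _ (hC ha)).symm
      obtain ⟨a, ha, b, hb, hab⟩ := tree_not_comm hk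
      apply hab
      have hle : A ⊔ B ≤ Subgroup.centralizer ((A : Set (Equiv.Perm (Leaf (j + 1)))) ∪ B) := by
        refine sup_le (fun x hx y hy => ?_) (fun x hx y hy => ?_)
        · rcases hy with hy | hy
          · exact habel A hAt hAb hg₀ y hy x hx
          · exact (hc x hx y hy).symm
        · rcases hy with hy | hy
          · exact hc y hy x hx
          · exact habel B hBt hBb hg₁ y hy x hx
      have hle2 : A ⊔ B ≤ Subgroup.centralizer ((A ⊔ B : Subgroup (Equiv.Perm (Leaf (j + 1)))) : Set _) := by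
        rw [Subgroup.le_centralizer_iff]
        refine sup_le ?_ ?_
        · exact fun x hx y hy => (hle hy x (Or.inl hx)).symm
        · exact fun x hx y hy => (hle hy x (Or.inr hx)).symm
      rw [hgen] at hle2
      exact (hle2 ha b hb).symm
    · push Not at hBf
      exact Or.inr fun b hb => (hsplit b (hBt hb)).elim (hBb b hb) fun ⟨g, e⟩ => absurd (e ▸ hb) (hBf g)
  · push Not at hAf
    have hBf : ∃ g, tnode true g ∈ B := by
      by_contra hBf
      push Not at hBf
      have hle : A ⊔ B ≤ base := sup_le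
        (fun a ha => (hsplit a (hAt ha)).elim id fun ⟨g, e⟩ => absurd (e ▸ ha) (hAf g))
        (fun b hb => (hsplit b (hBt hb)).elim id fun ⟨g, e⟩ => absurd (e ▸ hb) (hBf g))
      obtain ⟨g, e⟩ := hle (hgen ▸ tnode_mem_tree true (g := fun _ => 1) fun _ => one_mem _)
      exact absurd (tnode_injective e).1 (by decide)
    obtain ⟨g₁, hg₁⟩ := hBf
    left
    intro a ha
    rcases hsplit a (hAt ha) with ⟨g, rfl⟩ | ⟨g, e⟩
    · exact central_of_commute_flip A hAt hA (fun a ha => hc a ha _ hg₁) ha
    · exact absurd (e ▸ ha) (hAf g)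

end Cfsg.Agent.Perm
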