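import Mathlib.GroupTheory.GroupAction.MultipleTransitivity
import Mathlib.Data.Matrix.Mul
import Mathlib.LinearAlgebra.Matrix.Trace
import Mathlib.Algebra.Group.End
import Mathlib.Data.Fintype.Card
import Mathlib.Tactic

/-!
# Automorphisms of doubly transitive groups and classes of point stabilisers

Let `G` act doubly transitively on `Ω` with point stabiliser `H` and let `α` be an automorphism of `G`.
If an orbit of `α(H)` has length prime to `|Ω|`, then `(α * α)(H)` fixes a point
(`exists_fixed_sq_stabilizer`). The proof is linear algebra with the incidence matrices of the orbits: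
they intertwine the permutation module with its twist, and `k² = a·l + b·n`, `a²·m₂ = m²`.
-/

namespace Cfsg.Agent.Perm.TwoClasses

open MulAction Matrix

variable {G Ω : Type*} [Group G] [MulAction G Ω]

/-- The matrix is invariant for the action twisted by `β` on rows and the given one on columns. -/
def Inv (β : MulAut G) (M : Matrix Ω Ω ℤ) : Prop :=
  ∀ (g : G) (x y : Ω), M (β g • x) (g • y) = M x y

/-- The all-one matrix. -/
def ones : Matrix Ω Ω ℤ := Matrix.of fun _ _ => 1

theorem ones_apply (x y : Ω) : (ones : Matrix Ω Ω ℤ) x y = 1 := rfl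

theorem inv_ones (β : MulAut G) : Inv β (ones : Matrix Ω Ω ℤ) := fun _ _ _ => rfl

variable [Fintype Ω]

theorem inv_mul {β γ : MulAut G} {A B : Matrix Ω Ω ℤ} (hA : Inv β A) (hB : Inv γ B) :
    Inv (β * γ) (A * B) := by
  intro g x y
  simp only [Matrix.mul_apply, MulAut.mul_apply]
  rw [← Equiv.sum_comp (MulAction.toPerm (γ g) : Equiv.Perm Ω)
    (fun z => A (β (γ g) • x) z * B z (g • y))]
  exact Finset.sum_congr rfl fun z _ => by rw [MulAction.toPerm_apply, hA, hB]

theorem inv_transpose_mul {β : MulAut G} {A B : Matrix Ω Ω ℤ} (hA : Inv β A) (hB : Inv β B) :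
    Inv (1 : MulAut G) (Aᵀ * B) := by
  intro g x y
  simp only [Matrix.mul_apply, Matrix.transpose_apply, MulAut.one_apply]
  rw [← Equiv.sum_comp (MulAction.toPerm (β g) : Equiv.Perm Ω)
    (fun z => A z (g • x) * B z (g • y))]
  exact Finset.sum_congr rfl fun z _ => by rw [MulAction.toPerm_apply, hA, hB]

theorem colsum_eq [IsPretransitive G Ω] {β : MulAut G} {A : Matrix Ω Ω ℤ} (hA : Inv β A)
    (y y' : Ω) : ∑ x, A x y = ∑ x, A x y' := by
  obtain ⟨g, rfl⟩ := exists_smul_eq G y y'
  rw [← Equiv.sum_comp (MulAction.toPerm (β g) : Equiv.Perm Ω) (fun x => A x (g • y))]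
  exact (Finset.sum_congr rfl fun x _ => by rw [MulAction.toPerm_apply, hA]).symm

theorem rowsum_eq [IsPretransitive G Ω] {β : MulAut G} {A : Matrix Ω Ω ℤ} (hA : Inv β A)
    {k : ℤ} (hk : ∀ y, ∑ x, A x y = k) (x : Ω) : ∑ y, A x y = k := by
  have hconst : ∀ x' : Ω, ∑ y, A x' y = ∑ y, A x y := by
    intro x'
    obtain ⟨g, rfl⟩ := exists_smul_eq G x x'
    rw [← Equiv.sum_comp (MulAction.toPerm (β.symm g) : Equiv.Perm Ω) (fun y => A (g • x) y)]
    refine Finset.sum_congr rfl fun y _ => ?_
    rw [MulAction.toPerm_apply]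
    have := hA (β.symm g) x y
    rwa [MulEquiv.apply_symm_apply] at this
  have h : ∑ x', ∑ y, A x' y = ∑ _y : Ω, k :=
    (Finset.sum_comm (f := fun x' y => A x' y)).trans (Finset.sum_congr rfl fun y _ => hk y)
  rw [Finset.sum_congr rfl (fun x' _ => hconst x'), Finset.sum_const, Finset.sum_const,
    Finset.card_univ] at h
  exact smul_right_injective ℤ (Fintype.card_pos_iff.mpr ⟨x⟩).ne' h

theorem colsum_mul {A B : Matrix Ω Ω ℤ} {k l : ℤ} (hA : ∀ y, ∑ x, A x y = k)
    (hB : ∀ y, ∑ x, B x y = l) (y : Ω) : ∑ x, (A * B) x y = k * l := by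
  simp only [Matrix.mul_apply]
  rw [Finset.sum_comm]
  simp only [← Finset.sum_mul, hA, ← Finset.mul_sum, hB]

theorem ones_mul_eq [DecidableEq Ω] {B : Matrix Ω Ω ℤ} {l : ℤ} (hB : ∀ y, ∑ x, B x y = l) :
    (ones : Matrix Ω Ω ℤ) * B = l • ones := by
  ext x y
  simp [Matrix.mul_apply, ones, hB]

theorem mul_ones_eq [DecidableEq Ω] {B : Matrix Ω Ω ℤ} {l : ℤ} (hB : ∀ x, ∑ y, B x y = l) :
    B * (ones : Matrix Ω Ω ℤ) = l • ones := by
  ext x y
  simp [Matrix.mul_apply, ones, hB]

variable [DecidableEq Ω]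

/-- A matrix commuting with a doubly transitive group is `c·1 + d·J`. -/
theorem eq_of_inv_one (h2 : IsMultiplyPretransitive G Ω 2) {M : Matrix Ω Ω ℤ} (hM : Inv (1 : MulAut G) M)
    {i j : Ω} (hij : i ≠ j) :
    M = (M i i - M i j) • (1 : Matrix Ω Ω ℤ) + M i j • ones := by
  haveI : IsPretransitive G Ω := isPretransitive_of_is_two_pretransitive (G := G)
  ext x y
  rw [Matrix.add_apply, Matrix.smul_apply, Matrix.smul_apply, ones_apply, smul_eq_mul, smul_eq_mul,
    mul_one]
  rcases eq_or_ne x y with rfl | hxy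
  · obtain ⟨g, rfl⟩ := exists_smul_eq G i x
    have := hM g i i
    rw [MulAut.one_apply] at this
    rw [this, Matrix.one_apply_eq]
    ring
  · obtain ⟨g, rfl, rfl⟩ := (is_two_pretransitive_iff (G := G) (α := Ω)).mp h2 hij hxy
    have := hM g i j
    rw [MulAut.one_apply] at this
    rw [this, Matrix.one_apply_ne hxy]
    ring

/-- Orbit data: the indicator matrix of an orbit `O` of `β(H)`. -/
theorem exists_indicator [IsPretransitive G Ω] (β : MulAut G) (o : Ω) (O : Finset Ω)
    (hO : ∀ h ∈ stabilizer G o, ∀ x, β h • x ∈ O ↔ x ∈ O) :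
    ∃ N : Matrix Ω Ω ℤ, Inv β N ∧ (∀ y, ∑ x, N x y = O.card) ∧ (∀ x y, N x y = 0 ∨ N x y = 1) ∧
      ∀ x, N x o = if x ∈ O then 1 else 0 := by
  choose t ht using fun y : Ω => exists_smul_eq G o y
  let N : Matrix Ω Ω ℤ := Matrix.of fun x y => if (β (t y))⁻¹ • x ∈ O then 1 else 0
  have key : ∀ (g : G) (x : Ω), N x (g • o) = if (β g)⁻¹ • x ∈ O then 1 else 0 := by
    intro g x
    have hs : g⁻¹ * t (g • o) ∈ stabilizer G o := by
      rw [mem_stabilizer_iff, mul_smul, ht, inv_smul_smul]
    have h := hO _ hs ((β (t (g • o)))⁻¹ • x)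
    rw [map_mul, map_inv, mul_smul, smul_inv_smul] at h
    simp only [N, Matrix.of_apply, ← h]
  refine ⟨N, ?_, ?_, ?_, ?_⟩
  · intro g x y
    rw [← ht y, smul_smul, key, key, map_mul, _root_.mul_inv_rev, mul_smul, inv_smul_smul]
  · intro y
    rw [← ht y]
    simp only [key]
    rw [← Equiv.sum_comp (MulAction.toPerm (β (t y)) : Equiv.Perm Ω)]
    simp [MulAction.toPerm_apply]
  · intro x y
    simp only [N, Matrix.of_apply]
    split_ifs <;> simp
  · intro x
    have := key 1 x
    simpa using this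

/-- `NᵀN = m·1 + λ·J` with `k(n - k) = m(n - 1)`. -/
theorem gram {β : MulAut G} (h2 : IsMultiplyPretransitive G Ω 2) {N : Matrix Ω Ω ℤ} (hN : Inv β N)
    {k : ℤ} (hk : ∀ y, ∑ x, N x y = k) (h01 : ∀ x y, N x y = 0 ∨ N x y = 1)
    {i j : Ω} (hij : i ≠ j) :
    ∃ m lam : ℤ, Nᵀ * N = m • (1 : Matrix Ω Ω ℤ) + lam • ones ∧ m + lam = k ∧
      k * k = m + Fintype.card Ω * lam := by
  haveI : IsPretransitive G Ω := isPretransitive_of_is_two_pretransitive (G := G)
  have hM := eq_of_inv_one h2 (inv_transpose_mul hN hN) hij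
  set m := (Nᵀ * N) i i - (Nᵀ * N) i j
  set lam := (Nᵀ * N) i j
  refine ⟨m, lam, hM, ?_, ?_⟩
  · have h : (Nᵀ * N) i i = k := by
      rw [Matrix.mul_apply, ← hk i]
      refine Finset.sum_congr rfl fun x _ => ?_
      rw [Matrix.transpose_apply]
      rcases h01 x i with h | h <;> simp [h]
    omega
  · have h := congrArg (fun M : Matrix Ω Ω ℤ => ∑ x, M x i) hM
    simp only [Matrix.add_apply, Matrix.smul_apply, ones_apply, Matrix.one_apply, smul_eq_mul,
      mul_one, mul_ite, mul_zero, Finset.sum_add_distrib, Finset.sum_ite_eq', Finset.mem_univ,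
      if_true, Finset.sum_const, Finset.card_univ, nsmul_eq_mul] at h
    rw [colsum_mul (A := Nᵀ) (fun y => by
      simpa [Matrix.transpose_apply] using rowsum_eq hN hk y) hk] at h
    exact h

/-- The arithmetic conclusion. -/
theorem arith {n k m lam l m2 lam2 a b : ℤ} (hn : 2 ≤ n) (hk0 : 0 < k) (hkn : k < n)
    (hl0 : 0 < l) (hln : l < n)
    (hco : IsCoprime k n) (h1 : m + lam = k) (h2 : k * k = m + n * lam)
    (h3 : m2 + lam2 = l) (h4 : l * l = m2 + n * lam2)
    (h5 : k * k = a * l + b * n) (h6 : m * m = a * a * m2) : l = 1 ∨ l = n - 1 := by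
  have e1 : m * (n - 1) = k * (n - k) := by subst h1; linarith [h2, mul_comm n lam]
  have e2 : m2 * (n - 1) = l * (n - l) := by subst h3; linarith [h4, mul_comm n lam2]
  have hm : 0 < m := by
    by_contra hc
    nlinarith
  have hm2 : 0 < m2 := by
    by_contra hc
    nlinarith
  have hm2l : m2 ≤ l := by
    by_contra hc
    nlinarith
  have hm2n : m2 ≤ n - l := by
    by_contra hc
    nlinarith
  have ha : a ≠ 0 := by
    rintro rfl
    nlinarith
  have hdvd : a ∣ m := by
    have : a ^ 2 ∣ m ^ 2 := ⟨m2, by rw [pow_two, pow_two]; exact h6⟩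
    exact (Int.pow_dvd_pow_iff two_ne_zero).mp this
  obtain ⟨w, rfl⟩ := hdvd
  have hw : m2 = w * w := by
    have : a * a * m2 = a * a * (w * w) := by rw [← h6]; ring
    exact mul_left_cancel₀ (mul_ne_zero ha ha) this
  have hcl : IsCoprime n (a * l) := by
    have : IsCoprime n (k * k) := hco.symm.mul_right hco.symm
    rw [h5] at this
    exact this.of_add_mul_right_right
  have hd : n ∣ a * (l - w) := ⟨lam - b, by linear_combination h2 - h5⟩
  obtain ⟨c, hc⟩ := (hcl.of_mul_right_left).dvd_of_dvd_mul_left hd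
  have hwm : |w| ≤ m2 := by
    rw [hw]
    rcases abs_cases w with ⟨e, hs⟩ | ⟨e, hs⟩ <;> rw [e] <;> nlinarith
  have hw' := abs_le.mp hwm
  -- `l - w = n * c` is `0` or `n`
  have hc1 : c = 0 ∨ c = 1 := by
    have : 0 ≤ n * c := by linarith
    have : n * c ≤ n := by linarith
    have hc0 : 0 ≤ c := by nlinarith
    have : c ≤ 1 := by nlinarith
    omega
  rcases hc1 with rfl | rfl
  · left
    have hlw : l = w := by linarith [hc]
    subst hlw
    nlinarith
  · right
    have hlw : w = l - n := by linarith [hc]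
    subst hlw
    nlinarith

/-- **At most two classes.** If an orbit of `α(H)` has length prime to the degree, `(α * α)(H)` fixes a
point. -/
theorem exists_fixed_sq_stabilizer (h2 : IsMultiplyPretransitive G Ω 2) (o : Ω) (α : MulAut G) (ω : Ω)
    (hk : (Nat.card (orbit ((stabilizer G o).map α.toMonoidHom) ω)).Coprime (Fintype.card Ω)) :
    ∃ x : Ω, ∀ h ∈ stabilizer G o, (α * α) h • x = x := by
  classical
  haveI : IsPretransitive G Ω := isPretransitive_of_is_two_pretransitive (G := G)
  by_cases hn1 : Fintype.card Ω ≤ 1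
  · haveI := Fintype.card_le_one_iff_subsingleton.mp hn1
    exact ⟨o, fun h _ => Subsingleton.elim _ _⟩
  obtain ⟨j, hj⟩ : ∃ j : Ω, j ≠ o := Fintype.exists_ne_of_one_lt_card (by omega) o
  -- general orbit of a twisted stabiliser
  have horb : ∀ (β : MulAut G) (x : Ω), ∀ h ∈ stabilizer G o, ∀ y,
      (β h • y ∈ (orbit ((stabilizer G o).map β.toMonoidHom) x).toFinset ↔
        y ∈ (orbit ((stabilizer G o).map β.toMonoidHom) x).toFinset) := by
    intro β x h hh y
    simp only [Set.mem_toFinset]
    let u : (stabilizer G o).map β.toMonoidHom := ⟨β h, h, hh, rfl⟩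
    show u • y ∈ _ ↔ _
    constructor
    · intro hy
      have := mem_orbit_of_mem_orbit u⁻¹ hy
      rwa [inv_smul_smul] at this
    · exact fun hy => mem_orbit_of_mem_orbit u hy
  set O := (orbit ((stabilizer G o).map α.toMonoidHom) ω).toFinset with hOdef
  obtain ⟨N, hN, hNk, hN01, hNo⟩ := exists_indicator α o O (horb α ω)
  have hOc : Nat.card (orbit ((stabilizer G o).map α.toMonoidHom) ω) = O.card := by
    rw [hOdef, Nat.card_eq_fintype_card, Set.toFinset_card]
  rw [hOc] at hk
  have hk0 : 0 < O.card := Finset.card_pos.mpr ⟨ω, by rw [hOdef, Set.mem_toFinset]; exact mem_orbit_self ω⟩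
  have hkn : O.card < Fintype.card Ω := by
    refine lt_of_le_of_ne (Finset.card_le_univ O) fun h => ?_
    rw [h, Nat.coprime_self] at hk
    omega
  obtain ⟨m, lam, hgram, hm1, hm2⟩ := gram h2 hN hNk hN01 hj.symm
  -- `T = N * N`
  set T := N * N with hT
  have hTinv : Inv (α * α) T := inv_mul hN hN
  have hTk : ∀ y, ∑ x, T x y = (O.card : ℤ) * O.card := colsum_mul hNk hNk
  have hTT : Tᵀ * T = (m * m) • (1 : Matrix Ω Ω ℤ) + (m * lam + lam * (O.card * O.card)) • ones := by
    have hrow : ∀ x, ∑ y, Nᵀ x y = (O.card : ℤ) := fun x => by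
      simpa [Matrix.transpose_apply] using hNk x
    rw [hT, Matrix.transpose_mul, Matrix.mul_assoc, ← Matrix.mul_assoc Nᵀ N N, hgram,
      Matrix.add_mul, Matrix.smul_mul, Matrix.one_mul, Matrix.smul_mul, ones_mul_eq hNk,
      Matrix.mul_add, Matrix.mul_smul, Matrix.mul_smul, Matrix.mul_smul, mul_ones_eq hrow, hgram,
      smul_add, smul_smul, smul_smul, smul_smul, smul_smul, add_assoc, ← add_smul, mul_assoc]
  have hTentries : (Tᵀ * T) o o - (Tᵀ * T) o j = m * m := by
    rw [hTT]
    simp only [Matrix.add_apply, Matrix.smul_apply, Matrix.one_apply_eq, Matrix.one_apply_ne hj.symm,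
      ones_apply, smul_eq_mul]
    ring
  have hm0 : m ≠ 0 := by
    rintro rfl
    have hkk : (O.card : ℤ) * O.card = Fintype.card Ω * O.card := by
      have : lam = O.card := by linarith
      rw [hm2, this]; ring
    have : (O.card : ℤ) = Fintype.card Ω := mul_right_cancel₀ (by exact_mod_cast hk0.ne') hkk
    exact hkn.ne (by exact_mod_cast this)
  set O2 := (orbit ((stabilizer G o).map (α * α).toMonoidHom) o).toFinset with hO2def
  have hTconst : ∀ (z x : Ω), x ∈ orbit ((stabilizer G o).map (α * α).toMonoidHom) z →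
      T x o = T z o := by
    rintro z x ⟨⟨_, h, hh, rfl⟩, rfl⟩
    have := hTinv h z o
    rwa [mem_stabilizer_iff.mp hh] at this
  by_cases hfull : O2 = Finset.univ
  · exfalso
    -- `T` would be a multiple of `J`
    apply hm0
    have hcol : ∀ x y, T x y = T o o := by
      intro x y
      obtain ⟨g, rfl⟩ := exists_smul_eq G o y
      rw [← smul_inv_smul ((α * α) g) x, hTinv g]
      refine hTconst o _ ?_
      rw [← Set.mem_toFinset, ← hO2def, hfull]
      exact Finset.mem_univ _
    have : (Tᵀ * T) o o - (Tᵀ * T) o j = 0 := by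
      simp [Matrix.mul_apply, hcol]
    exact mul_self_eq_zero.mp (hTentries ▸ this)
  obtain ⟨N2, hN2, hN2k, hN201, hN2o⟩ := exists_indicator (α * α) o O2 (horb _ o)
  obtain ⟨z, hz⟩ : ∃ z, z ∉ O2 := by
    by_contra hc
    push Not at hc
    exact hfull (Finset.eq_univ_of_forall hc)
  obtain ⟨m2, lam2, hgram2, hl1, hl2⟩ := gram h2 hN2 hN2k hN201 hj.symm
  have hl0 : 0 < O2.card := Finset.card_pos.mpr ⟨o, by rw [hO2def, Set.mem_toFinset]; exact mem_orbit_self o⟩
  have hln : O2.card < Fintype.card Ω :=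
    lt_of_le_of_ne (Finset.card_le_univ _) fun h => hfull (Finset.eq_univ_of_card _ h)
  have hm20 : m2 ≠ 0 := by
    rintro rfl
    have hkk : (O2.card : ℤ) * O2.card = Fintype.card Ω * O2.card := by
      have : lam2 = O2.card := by linarith
      rw [hl2, this]; ring
    have : (O2.card : ℤ) = Fintype.card Ω := mul_right_cancel₀ (by exact_mod_cast hl0.ne') hkk
    exact hln.ne (by exact_mod_cast this)
  -- at most two orbits
  have htwo : ∀ x, x ∉ O2 → x ∈ orbit ((stabilizer G o).map (α * α).toMonoidHom) z := by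
    intro x hx
    by_contra hxz
    set O3 := (orbit ((stabilizer G o).map (α * α).toMonoidHom) z).toFinset with hO3def
    obtain ⟨M, hM, -, -, hMo⟩ := exists_indicator (α * α) o O3 (horb _ z)
    have hrow2 : ∀ x, ∑ y, N2 x y = (O2.card : ℤ) := rowsum_eq hN2 hN2k
    have hQ := eq_of_inv_one h2 (inv_transpose_mul hN2 hM) hj.symm
    set c := (N2ᵀ * M) o o - (N2ᵀ * M) o j
    set d := (N2ᵀ * M) o j
    -- `N2 * N2ᵀ = N2ᵀ * N2`
    have hNN : N2 * N2ᵀ = m2 • (1 : Matrix Ω Ω ℤ) + lam2 • ones := by
      have h1 : (N2 * N2ᵀ) * N2 = (m2 • (1 : Matrix Ω Ω ℤ) + lam2 • ones) * N2 := by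
        rw [Matrix.mul_assoc, hgram2, Matrix.add_mul, Matrix.mul_add, Matrix.smul_mul, Matrix.mul_smul,
          Matrix.mul_smul, Matrix.smul_mul, Matrix.mul_one, Matrix.one_mul, ones_mul_eq hN2k,
          mul_ones_eq hrow2]
      -- cancel `N2` using injectivity over `ℚ`
      have hdet : N2.det ≠ 0 := by
        intro h0
        have hd := congrArg Matrix.det hgram2
        rw [Matrix.det_mul, h0, mul_zero] at hd
        obtain ⟨v, hv, hv0⟩ := Matrix.exists_mulVec_eq_zero_iff.mpr hd.symm
        have hval : ∀ x, m2 * v x + lam2 * ∑ y, v y = 0 := by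
          intro x
          have := congrFun hv0 x
          simp only [Matrix.mulVec, dotProduct, Matrix.add_apply, Matrix.smul_apply, ones_apply,
            smul_eq_mul, Matrix.one_apply, Pi.zero_apply, add_mul, mul_ite, mul_one, mul_zero, ite_mul,
            zero_mul, Finset.sum_add_distrib, Finset.sum_ite_eq, Finset.mem_univ, if_true] at this
          rw [← Finset.mul_sum] at this
          exact this
        have hsum : ∑ x, v x = 0 := by
          have h := Finset.sum_congr rfl (fun x (_ : x ∈ Finset.univ) => hval x)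
          rw [Finset.sum_add_distrib, Finset.sum_const, Finset.sum_const_zero, ← Finset.mul_sum,
            Finset.card_univ, nsmul_eq_mul] at h
          have h' : (m2 + Fintype.card Ω * lam2) * ∑ x, v x = 0 := by rw [← h]; ring
          rcases mul_eq_zero.mp h' with h'' | h''
          · exfalso
            rw [← hl2] at h''
            exact hl0.ne' (by exact_mod_cast mul_self_eq_zero.mp h'')
          · exact h''
        exact hv (funext fun x => by
          have := hval x
          rw [hsum, mul_zero, add_zero] at this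
          exact (mul_eq_zero.mp this).resolve_left hm20)
      have h3 := congrArg (fun A => A * N2.adjugate) h1
      simp only [Matrix.mul_assoc _ N2 N2.adjugate, Matrix.mul_adjugate, Matrix.mul_smul,
        Matrix.mul_one] at h3
      exact smul_right_injective (Matrix Ω Ω ℤ) hdet h3
    have h4 := congrArg (fun A => N2 * A) hQ
    simp only [← Matrix.mul_assoc, hNN, Matrix.mul_add, Matrix.mul_smul, Matrix.mul_one,
      mul_ones_eq hrow2, Matrix.add_mul, Matrix.smul_mul, Matrix.one_mul] at h4
    rw [ones_mul_eq (colsum_eq hM · o)] at h4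
    have e : ∀ w, m2 * M w o + lam2 * ∑ x, M x o = c * N2 w o + d * O2.card := by
      intro w
      have := congrFun (congrFun h4 w) o
      simpa only [Matrix.add_apply, Matrix.smul_apply, ones_apply, smul_eq_mul, mul_one] using this
    have eo := e o
    have ez := e z
    have ex := e x
    have ho : o ∈ O2 := by rw [hO2def, Set.mem_toFinset]; exact mem_orbit_self o
    have hz3 : z ∈ O3 := by rw [hO3def, Set.mem_toFinset]; exact mem_orbit_self z
    have hx3 : x ∉ O3 := by rwa [hO3def, Set.mem_toFinset]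
    rw [hMo, hN2o, if_pos hz3, if_neg hz] at ez
    rw [hMo, hN2o, if_neg hx3, if_neg hx] at ex
    apply hm20
    linarith
  set a := T o o - T z o with ha
  set b := T z o with hb
  have hTeq : T = a • N2 + b • ones := by
    ext x y
    obtain ⟨g, rfl⟩ := exists_smul_eq G o y
    rw [Matrix.add_apply, Matrix.smul_apply, Matrix.smul_apply, ← smul_inv_smul ((α * α) g) x,
      hTinv g, hN2 g, hN2o, ones_apply, smul_eq_mul, smul_eq_mul, mul_one]
    set w := ((α * α) g)⁻¹ • x
    by_cases hw : w ∈ O2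
    · rw [if_pos hw, hTconst o w (by rwa [hO2def, Set.mem_toFinset] at hw), ha, hb]
      ring
    · rw [if_neg hw, hTconst z w (htwo w hw), hb]
      ring
  have h5 : (O.card : ℤ) * O.card = a * O2.card + b * Fintype.card Ω := by
    rw [← hTk o, hTeq]
    simp only [Matrix.add_apply, Matrix.smul_apply, ones_apply, smul_eq_mul, Finset.sum_add_distrib,
      ← Finset.mul_sum, hN2k, Finset.sum_const, Finset.card_univ, nsmul_eq_mul, mul_one]
    ring
  have h6 : m * m = a * a * m2 := by
    have hrow : ∀ x, ∑ y, N2ᵀ x y = (O2.card : ℤ) := fun x => by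
      simpa [Matrix.transpose_apply] using hN2k x
    rw [← hTentries, hTeq, Matrix.transpose_add, Matrix.transpose_smul, Matrix.transpose_smul,
      show (ones : Matrix Ω Ω ℤ)ᵀ = ones from rfl, Matrix.add_mul, Matrix.mul_add, Matrix.mul_add,
      Matrix.smul_mul, Matrix.smul_mul, Matrix.smul_mul, Matrix.smul_mul,
      Matrix.mul_smul, Matrix.mul_smul, Matrix.mul_smul, Matrix.mul_smul, hgram2,
      mul_ones_eq hrow, ones_mul_eq hN2k,
      mul_ones_eq (fun x => show ∑ y, (ones : Matrix Ω Ω ℤ) x y = Fintype.card Ω by simp [ones])]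
    simp only [Matrix.add_apply, Matrix.smul_apply, Matrix.one_apply_eq, Matrix.one_apply_ne hj.symm,
      ones_apply, smul_eq_mul]
    ring
  have hco : IsCoprime (O.card : ℤ) (Fintype.card Ω : ℤ) := Nat.isCoprime_iff_coprime.mpr hk
  rcases arith (n := (Fintype.card Ω : ℤ)) (by exact_mod_cast (by omega : 2 ≤ Fintype.card Ω))
    (by exact_mod_cast hk0) (by exact_mod_cast hkn) (by exact_mod_cast hl0) (by exact_mod_cast hln)
    hco hm1 hm2 hl1 hl2 h5 h6 with h | h
  · refine ⟨o, fun h' hh' => ?_⟩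
    obtain ⟨w, hw⟩ := Finset.card_eq_one.mp (by exact_mod_cast h : O2.card = 1)
    have h1 : (α * α) h' • o ∈ O2 := by
      rw [hO2def, Set.mem_toFinset]
      exact ⟨⟨_, h', hh', rfl⟩, rfl⟩
    have h2' : o ∈ O2 := by rw [hO2def, Set.mem_toFinset]; exact mem_orbit_self o
    rw [hw, Finset.mem_singleton] at h1 h2'
    rw [h1, h2']
  · refine ⟨z, fun h' hh' => ?_⟩
    obtain ⟨w, hw⟩ := Finset.card_eq_one.mp (show O2ᶜ.card = 1 by rw [Finset.card_compl]; omega)
    have h1 : (α * α) h' • z ∈ O2ᶜ := by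
      rw [Finset.mem_compl]
      intro hc
      exact hz ((horb (α * α) o h' hh' z).mp hc)
    have h2' : z ∈ O2ᶜ := Finset.mem_compl.mpr hz
    rw [hw, Finset.mem_singleton] at h1 h2'
    rw [h1, h2']

end Cfsg.Agent.Perm.TwoClasses
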